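import Mathlib

namespace Groth.Agent.Helper2.PBasis

open Finsupp

variable {ι : Type*}

/-- the monomial `∏ z_i ^ e_i` -/
noncomputable def mon {E : Type*} [CommMonoid E] (z : ι → E) (e : ι →₀ ℕ) : E :=
  e.prod fun i n => z i ^ n

theorem mon_zero {E : Type*} [CommMonoid E] (z : ι → E) : mon z 0 = 1 := by
  simp [mon]

theorem mon_add {E : Type*} [CommMonoid E] (z : ι → E) (e e' : ι →₀ ℕ) :
    mon z (e + e') = mon z e * mon z e' := by
  unfold mon
  exact Finsupp.prod_add_index' (fun _ => pow_zero _) (fun _ _ _ => pow_add _ _ _)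

theorem mon_single {E : Type*} [CommMonoid E] (z : ι → E) (i : ι) (n : ℕ) :
    mon z (Finsupp.single i n) = z i ^ n := by
  unfold mon
  exact Finsupp.prod_single_index (h := fun i n => z i ^ n) (pow_zero _)

theorem map_mon {E F G : Type*} [CommMonoid E] [CommMonoid F] [FunLike G E F]
    [MonoidHomClass G E F] (f : G) (z : ι → E)
    (e : ι →₀ ℕ) : f (mon z e) = mon (fun i => f (z i)) e := by
  unfold mon
  rw [map_finsuppProd]
  simp

/-- pointwise quotient by `p` -/
noncomputable def quo (p : ℕ) (e : ι →₀ ℕ) : ι →₀ ℕ := e.mapRange (· / p) (Nat.zero_div p)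

/-- pointwise remainder mod `p` -/
noncomputable def rem (p : ℕ) (e : ι →₀ ℕ) : ι →₀ ℕ := e.mapRange (· % p) (Nat.zero_mod p)

@[simp] theorem quo_apply (p : ℕ) (e : ι →₀ ℕ) (i : ι) : quo p e i = e i / p := by
  simp [quo]

@[simp] theorem rem_apply (p : ℕ) (e : ι →₀ ℕ) (i : ι) : rem p e i = e i % p := by
  simp [rem]

theorem rem_lt (p : ℕ) (hp : 0 < p) (e : ι →₀ ℕ) (i : ι) : rem p e i < p := by
  rw [rem_apply]; exact Nat.mod_lt _ hp

theorem eq_smul_quo_add_rem (p : ℕ) (e : ι →₀ ℕ) : e = p • quo p e + rem p e := by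
  ext i
  simp [Nat.div_add_mod]

theorem mon_nsmul {E : Type*} [CommMonoid E] (z : ι → E) (p : ℕ) (e : ι →₀ ℕ) :
    mon z (p • e) = mon (fun i => z i ^ p) e := by
  induction p with
  | zero =>
    simp only [zero_smul, mon_zero, pow_zero]
    unfold mon
    simp
  | succ n ih =>
    rw [succ_nsmul, mon_add, ih]
    unfold mon
    rw [← Finsupp.prod_mul]
    refine Finsupp.prod_congr fun i _ => ?_
    rw [← mul_pow, ← pow_succ]

/-- reduction of a monomial: `z^e = (z^p)^(e/p) * z^(e%p)` -/
theorem mon_eq_mul (p : ℕ) {E : Type*} [CommMonoid E] (z : ι → E) (e : ι →₀ ℕ) :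
    mon z e = mon (fun i => z i ^ p) (quo p e) * mon z (rem p e) := by
  conv_lhs => rw [eq_smul_quo_add_rem p e]
  rw [mon_add, mon_nsmul]

section Core

variable {C B : Type*} [CommRing C] [CommRing B] [Algebra C B]

/-- the reduced exponent vectors -/
abbrev Red (ι : Type*) (p : ℕ) := {e : ι →₀ ℕ // ∀ i, e i < p}

/-- the reduced monomials in `x` form a `C`-basis of `B` -/
structure IsRedBasis (C : Type*) {B : Type*} [CommRing C] [CommRing B] [Algebra C B]
    (p : ℕ) (x : ι → B) : Prop where
  li : LinearIndependent C (fun e : Red ι p => mon x e.1)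
  span : Submodule.span C (Set.range fun e : Red ι p => mon x e.1) = ⊤

variable {p : ℕ} {x : ι → B}

/-- the basis of reduced monomials -/
noncomputable def IsRedBasis.basis (h : IsRedBasis C p x) : Module.Basis (Red ι p) C B :=
  Module.Basis.mk h.li h.span.ge

@[simp] theorem IsRedBasis.basis_apply (h : IsRedBasis C p x) (e : Red ι p) :
    h.basis e = mon x e.1 := by
  simp [IsRedBasis.basis]

/-- in an algebra `E` with `z_i ^ p = c_i`, a monomial reduces -/
theorem mon_eq_smul (_hp : 0 < p) {E : Type*} [CommRing E] [Algebra C E] (c : ι → C) (z : ι → E)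
    (hz : ∀ i, z i ^ p = algebraMap C E (c i)) (e : ι →₀ ℕ) :
    mon z e = mon c (quo p e) • mon z (rem p e) := by
  rw [mon_eq_mul p z e, Algebra.smul_def]
  congr 1
  rw [show (fun i => z i ^ p) = fun i => (algebraMap C E) (c i) from funext hz]
  exact (map_mon (algebraMap C E) c _).symm

/-- the linear map sending reduced monomials in `x` to the reduced monomials in `z` -/
noncomputable def IsRedBasis.lin (h : IsRedBasis C p x) {E : Type*} [CommRing E] [Algebra C E]
    (z : ι → E) : B →ₗ[C] E :=
  h.basis.constr C fun e => mon z e.1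

theorem IsRedBasis.lin_mon (h : IsRedBasis C p x) (hp : 0 < p) {E : Type*} [CommRing E]
    [Algebra C E] (c : ι → C) (hc : ∀ i, x i ^ p = algebraMap C B (c i)) (z : ι → E)
    (hz : ∀ i, z i ^ p = algebraMap C E (c i)) (e : ι →₀ ℕ) :
    h.lin z (mon x e) = mon z e := by
  rw [mon_eq_smul hp c x hc e, mon_eq_smul hp c z hz e, map_smul]
  congr 1
  have := h.basis.constr_basis C (fun e : Red ι p => mon z e.1) ⟨rem p e, rem_lt p hp e⟩
  rw [h.basis_apply] at this
  exact this

/-- the algebra map sending `x_i` to `z_i` -/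
noncomputable def IsRedBasis.algHom (h : IsRedBasis C p x) (hp : 0 < p) {E : Type*} [CommRing E]
    [Algebra C E] (c : ι → C) (hc : ∀ i, x i ^ p = algebraMap C B (c i)) (z : ι → E)
    (hz : ∀ i, z i ^ p = algebraMap C E (c i)) : B →ₐ[C] E :=
  AlgHom.ofLinearMap (h.lin z)
    (by
      have := h.lin_mon hp c hc z hz 0
      rwa [mon_zero, mon_zero] at this)
    (by
      have key : (LinearMap.mul C B).compr₂ (h.lin z) =
          ((LinearMap.mul C E).comp (h.lin z)).compl₂ (h.lin z) := by
        refine h.basis.ext fun e => h.basis.ext fun e' => ?_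
        simp only [LinearMap.compr₂_apply, LinearMap.mul_apply', LinearMap.compl₂_apply,
          LinearMap.comp_apply, h.basis_apply]
        rw [← mon_add, h.lin_mon hp c hc z hz, h.lin_mon hp c hc z hz, h.lin_mon hp c hc z hz,
          mon_add]
      intro a b
      have := LinearMap.congr_fun (LinearMap.congr_fun key a) b
      simpa using this)

theorem IsRedBasis.algHom_mon (h : IsRedBasis C p x) (hp : 0 < p) {E : Type*} [CommRing E]
    [Algebra C E] (c : ι → C) (hc : ∀ i, x i ^ p = algebraMap C B (c i)) (z : ι → E)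
    (hz : ∀ i, z i ^ p = algebraMap C E (c i)) (e : ι →₀ ℕ) :
    h.algHom hp c hc z hz (mon x e) = mon z e :=
  h.lin_mon hp c hc z hz e

theorem IsRedBasis.algHom_apply (h : IsRedBasis C p x) (hp : 1 < p) {E : Type*} [CommRing E]
    [Algebra C E] (c : ι → C) (hc : ∀ i, x i ^ p = algebraMap C B (c i)) (z : ι → E)
    (hz : ∀ i, z i ^ p = algebraMap C E (c i)) (i : ι) :
    h.algHom (by omega) c hc z hz (x i) = z i := by
  have := h.algHom_mon (by omega) c hc z hz (Finsupp.single i 1)
  rwa [mon_single, mon_single, pow_one, pow_one] at this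

/-- two algebra maps agreeing on the `x_i` agree -/
theorem IsRedBasis.algHom_ext (h : IsRedBasis C p x) {E : Type*} [CommRing E]
    [Algebra C E] (v w : B →ₐ[C] E) (hvw : ∀ i, v (x i) = w (x i)) : v = w := by
  apply AlgHom.toLinearMap_injective
  refine h.basis.ext fun e => ?_
  simp only [h.basis_apply, AlgHom.toLinearMap_apply]
  rw [map_mon v, map_mon w]
  congr 1
  funext i
  exact hvw i

end Core

section Deriv

variable {C B : Type*} [CommRing C] [CommRing B] [Algebra C B]
variable {p : ℕ} {x : ι → B}

/-- the value of a derivation on a monomial lies in the span of its values on the `x_i` -/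
theorem derivation_mon_mem {R L : Type*} [CommRing R] [Algebra R B] [AddCommGroup L] [Module B L]
    [Module R L] [IsScalarTower R B L]
    (D : Derivation R B L) (x : ι → B) (e : ι →₀ ℕ) :
    D (mon x e) ∈ Submodule.span B (Set.range fun i => D (x i)) := by
  induction e using Finsupp.induction with
  | zero => rw [mon_zero, Derivation.map_one_eq_zero]; exact Submodule.zero_mem _
  | single_add i n e _ _ ih =>
    rw [mon_add, mon_single, Derivation.leibniz, Derivation.leibniz_pow]
    refine Submodule.add_mem _ (Submodule.smul_mem _ _ ih) (Submodule.smul_mem _ _ ?_)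
    rw [← Nat.cast_smul_eq_nsmul B]
    exact Submodule.smul_mem _ _ (Submodule.smul_mem _ _ (Submodule.subset_span ⟨i, rfl⟩))

/-- a derivation vanishing on the image of `C` and on the `x_i` vanishes -/
theorem IsRedBasis.derivation_eq_zero (h : IsRedBasis C p x) {L : Type*} [AddCommGroup L]
    [Module B L] (D : Derivation ℤ B L) (hC : ∀ a : C, D (algebraMap C B a) = 0)
    (hx : ∀ i, D (x i) = 0) : D = 0 := by
  have hmon : ∀ e : ι →₀ ℕ, D (mon x e) = 0 := by
    intro e
    have := derivation_mon_mem D x e
    have h0 : (Set.range fun i => D (x i)) ⊆ {0} := by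
      rintro _ ⟨i, rfl⟩; exact hx i
    have := Submodule.span_mono (R := B) h0 this
    simpa using this
  ext b
  have hb : b ∈ Submodule.span C (Set.range fun e : Red ι p => mon x e.1) := by
    rw [h.span]; trivial
  induction hb using Submodule.span_induction with
  | mem b hb =>
    obtain ⟨e, rfl⟩ := hb
    exact hmon _
  | zero => simp
  | add a b _ _ ha hb => simp [ha, hb]
  | smul a b _ hb =>
    rw [Algebra.smul_def, Derivation.leibniz, hb, hC]
    simp

/-- **Extension of derivations along a `p`-basis.** -/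
theorem IsRedBasis.existsUnique_derivation (h : IsRedBasis C p x) (hp : p.Prime) [CharP B p]
    (c : ι → C) (hc : ∀ i, x i ^ p = algebraMap C B (c i))
    {L : Type*} [AddCommGroup L] [Module B L] [Module C L] [IsScalarTower C B L]
    (D₀ : Derivation ℤ C L) (hD : ∀ i, D₀ (c i) = 0) (y : ι → L) :
    ∃! D' : Derivation ℤ B L, (∀ a, D' (algebraMap C B a) = D₀ a) ∧ ∀ i, D' (x i) = y i := by
  letI : Module Bᵐᵒᵖ L := Module.compHom L ((RingHom.id B).fromOpposite fun a b => mul_comm a b)
  haveI : IsCentralScalar B L := ⟨fun r m => rfl⟩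
  let g : C →+* TrivSqZeroExt B L :=
    { toFun := fun a => TrivSqZeroExt.inl (algebraMap C B a) + TrivSqZeroExt.inr (D₀ a)
      map_one' := by
        apply TrivSqZeroExt.ext <;> simp
      map_mul' := by
        intro a b
        apply TrivSqZeroExt.ext
        · simp
        · simp only [TrivSqZeroExt.snd_add, TrivSqZeroExt.snd_inl, TrivSqZeroExt.snd_inr,
            zero_add, TrivSqZeroExt.snd_mul, TrivSqZeroExt.fst_add, TrivSqZeroExt.fst_inl,
            TrivSqZeroExt.fst_inr, add_zero, Derivation.leibniz, op_smul_eq_smul,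
            algebraMap_smul]
      map_zero' := by
        apply TrivSqZeroExt.ext <;> simp
      map_add' := by
        intro a b
        apply TrivSqZeroExt.ext
        · simp
        · simp only [TrivSqZeroExt.snd_add, TrivSqZeroExt.snd_inl, TrivSqZeroExt.snd_inr,
            zero_add, map_add] }
  letI : Algebra C (TrivSqZeroExt B L) := g.toAlgebra
  have hgalg : ∀ a : C, algebraMap C (TrivSqZeroExt B L) a =
      TrivSqZeroExt.inl (algebraMap C B a) + TrivSqZeroExt.inr (D₀ a) := fun a => rfl
  have hpL : ∀ m : L, p • m = 0 := by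
    intro m
    rw [← Nat.cast_smul_eq_nsmul B, CharP.cast_eq_zero B p, zero_smul]
  let z : ι → TrivSqZeroExt B L := fun i => TrivSqZeroExt.inl (x i) + TrivSqZeroExt.inr (y i)
  have hz : ∀ i, z i ^ p = algebraMap C (TrivSqZeroExt B L) (c i) := by
    intro i
    rw [hgalg, hD, ← hc]
    apply TrivSqZeroExt.ext
    · simp [z]
    · rw [TrivSqZeroExt.snd_pow, hpL]
      simp
  let v : B →ₐ[C] TrivSqZeroExt B L := h.algHom hp.pos c hc z hz
  have hvx : ∀ i, v (x i) = z i := h.algHom_apply hp.one_lt c hc z hz
  have hvC : ∀ a : C, v (algebraMap C B a) = TrivSqZeroExt.inl (algebraMap C B a) +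
      TrivSqZeroExt.inr (D₀ a) := fun a => (v.commutes a).trans (hgalg a)
  -- the first component of `v` is the identity
  let fstR : TrivSqZeroExt B L →+* B :=
    { toFun := TrivSqZeroExt.fst
      map_one' := TrivSqZeroExt.fst_one
      map_mul' := TrivSqZeroExt.fst_mul
      map_zero' := TrivSqZeroExt.fst_zero
      map_add' := TrivSqZeroExt.fst_add }
  let w : B →ₐ[C] B :=
    { toRingHom := fstR.comp v.toRingHom
      commutes' := by
        intro a
        change TrivSqZeroExt.fst (v (algebraMap C B a)) = _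
        rw [hvC]; simp }
  have hw : w = AlgHom.id C B := by
    apply h.algHom_ext
    intro i
    change TrivSqZeroExt.fst (v (x i)) = _
    rw [hvx]; simp [z]
  have hfst : ∀ b : B, (v b).fst = b := fun b => by
    have := AlgHom.congr_fun hw b
    exact this
  let D' : Derivation ℤ B L := Derivation.mk'
    (AddMonoidHom.mk' (fun b => (v b).snd) (by intro a b; simp)).toIntLinearMap
    (by
      intro a b
      change (v (a * b)).snd = a • (v b).snd + b • (v a).snd
      rw [map_mul, TrivSqZeroExt.snd_mul, hfst, hfst, op_smul_eq_smul])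
  have hD'1 : ∀ a, D' (algebraMap C B a) = D₀ a := by
    intro a
    change (v (algebraMap C B a)).snd = _
    rw [hvC]; simp
  have hD'2 : ∀ i, D' (x i) = y i := by
    intro i
    change (v (x i)).snd = _
    rw [hvx]; simp [z]
  refine ⟨D', ⟨hD'1, hD'2⟩, ?_⟩
  rintro D'' ⟨h1, h2⟩
  have : D'' - D' = 0 := by
    apply h.derivation_eq_zero
    · intro a; simp [h1, hD'1]
    · intro i; simp [h2, hD'2]
  exact sub_eq_zero.mp this

end Deriv

end Groth.Agent.Helper2.PBasis
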