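import Mathlib
import Groth.Prelude.Def_EGA41
import Groth.Agent.Lib.Helper2.PBasis

universe u

namespace Groth.Agent.Helper2.PBasis

open EGA41

variable (p : ℕ) {A B : Type u} [CommRing A] [CommRing B] [Algebra A B]

theorem isRedBasis_of_isPBasis {ι : Type u} {x : ι → B} (hx : IsPBasis p A x) :
    IsRedBasis (pPowerSubalgebra p A B) p x :=
  ⟨hx.1, hx.2⟩

theorem isPBasis_of_isRedBasis {ι : Type u} {x : ι → B}
    (hx : IsRedBasis (pPowerSubalgebra p A B) p x) : IsPBasis p A x :=
  ⟨hx.1, hx.2⟩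

theorem pow_mem_pPowerSubalgebra (b : B) : b ^ p ∈ pPowerSubalgebra p A B :=
  Algebra.subset_adjoin ⟨b, rfl⟩

/-- `A`-derivations kill `A[B^p]` in characteristic `p` -/
theorem derivation_eq_zero_of_mem [Fact p.Prime] [CharP B p] {L : Type*} [AddCommGroup L] [Module B L]
    [Module A L] [IsScalarTower A B L] (D : Derivation A B L) {c : B}
    (hc : c ∈ pPowerSubalgebra p A B) : D c = 0 := by
  induction hc using Algebra.adjoin_induction with
  | mem c hc =>
    obtain ⟨b, rfl⟩ := hc
    rw [Derivation.leibniz_pow, ← Nat.cast_smul_eq_nsmul B, CharP.cast_eq_zero B p, zero_smul]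
  | algebraMap a => exact D.map_algebraMap a
  | add a b _ _ ha hb => rw [map_add, ha, hb, add_zero]
  | mul a b _ _ ha hb => rw [Derivation.leibniz, ha, hb, smul_zero, smul_zero, add_zero]

end Groth.Agent.Helper2.PBasis
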