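import Mathlib
import Groth.Prelude.Def_EGA41
import Groth.Agent.Lib.Helper2.PBasis2

universe u

namespace Groth.Agent.Helper2.PBasis

open EGA41

variable (p : ℕ) [Fact p.Prime] {A B : Type u} [CommRing A] [CommRing B] [Algebra A B] [CharP B p]

/-- a `ℤ`-derivation of `B` killing `A[B^p]` is an `A`-derivation -/
noncomputable def toDerivationA {L : Type*} [AddCommGroup L] [Module B L] [Module A L]
    [IsScalarTower A B L] (D : Derivation ℤ B L)
    (hD : ∀ a : A, D (algebraMap A B a) = 0) : Derivation A B L :=
  Derivation.mk'
    { toFun := fun b => D b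
      map_add' := by intro a b; simp
      map_smul' := by
        intro a b
        simp only [RingHom.id_apply]
        rw [Algebra.smul_def, Derivation.leibniz, hD, smul_zero, add_zero, algebraMap_smul] }
    (by intro a b; exact Derivation.leibniz _ a b)

@[simp] theorem toDerivationA_apply {L : Type*} [AddCommGroup L] [Module B L] [Module A L]
    [IsScalarTower A B L] (D : Derivation ℤ B L)
    (hD : ∀ a : A, D (algebraMap A B a) = 0) (b : B) : toDerivationA D hD b = D b := rfl

/-- partial derivatives with respect to a `p`-basis -/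
theorem exists_partial {ι : Type u} [DecidableEq ι] {x : ι → B} (hx : IsPBasis p A x) (β : ι) :
    ∃ D : Derivation A B B, ∀ i, D (x i) = if i = β then 1 else 0 := by
  have hp : p.Prime := Fact.out
  have h := isRedBasis_of_isPBasis p hx
  obtain ⟨D, ⟨hD1, hD2⟩, -⟩ := h.existsUnique_derivation hp
    (fun i => (⟨x i ^ p, pow_mem_pPowerSubalgebra p (x i)⟩ : pPowerSubalgebra p A B))
    (fun i => rfl) (L := B) (0 : Derivation ℤ (pPowerSubalgebra p A B) B) (fun i => rfl)
    (fun i => if i = β then 1 else 0)
  refine ⟨toDerivationA D ?_, fun i => ?_⟩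
  · intro a
    have := hD1 (algebraMap A (pPowerSubalgebra p A B) a)
    simpa using this
  · exact hD2 i

theorem linearIndependent_D_of_isPBasis {ι : Type u} {x : ι → B} (hx : IsPBasis p A x) :
    LinearIndependent B (fun i => KaehlerDifferential.D A B (x i)) := by
  classical
  rw [linearIndependent_iff']
  intro s g hg β hβ
  obtain ⟨D, hD⟩ := exists_partial p hx β
  have := congrArg D.liftKaehlerDifferential hg
  rw [map_sum, map_zero] at this
  simp only [map_smul, Derivation.liftKaehlerDifferential_comp_D, hD, smul_eq_mul, mul_ite,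
    mul_one, mul_zero, Finset.sum_ite_eq', hβ, if_true] at this
  exact this

theorem span_D_eq_top_of_isPGenerating {ι : Type u} {x : ι → B} (hx : IsPGenerating p A x) :
    Submodule.span B (Set.range fun i => KaehlerDifferential.D A B (x i)) = ⊤ := by
  rw [eq_top_iff, ← KaehlerDifferential.span_range_derivation, Submodule.span_le]
  rintro _ ⟨b, rfl⟩
  have hb : b ∈ Submodule.span (pPowerSubalgebra p A B)
      (Set.range fun e : {e : ι →₀ ℕ // ∀ i, e i < p} => pMonomial x e.1) := by
    rw [show Submodule.span (pPowerSubalgebra p A B)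
      (Set.range fun e : {e : ι →₀ ℕ // ∀ i, e i < p} => pMonomial x e.1) = ⊤ from hx]
    trivial
  induction hb using Submodule.span_induction with
  | mem b hb =>
    obtain ⟨e, rfl⟩ := hb
    exact derivation_mon_mem (KaehlerDifferential.D A B) x e.1
  | zero => simp
  | add a b _ _ ha hb => rw [map_add]; exact Submodule.add_mem _ ha hb
  | smul a b _ hb =>
    rw [Algebra.smul_def, Derivation.leibniz]
    refine Submodule.add_mem _ (Submodule.smul_mem _ _ hb) ?_
    have : KaehlerDifferential.D A B (algebraMap (pPowerSubalgebra p A B) B a) = 0 :=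
      derivation_eq_zero_of_mem p (KaehlerDifferential.D A B) a.2
    rw [this, smul_zero]
    exact Submodule.zero_mem _

/-- **EGA 0_IV 21.2.5**: the differentials of a `p`-basis form a basis of `Ω_{B/A}`. -/
theorem exists_basis_D_of_isPBasis {ι : Type u} {x : ι → B} (hx : IsPBasis p A x) :
    ∃ b : Module.Basis ι B (Ω[B⁄A]), ∀ i, b i = KaehlerDifferential.D A B (x i) := by
  refine ⟨Module.Basis.mk (linearIndependent_D_of_isPBasis p hx)
    (span_D_eq_top_of_isPGenerating p hx.2).ge, fun i => ?_⟩
  simp

end Groth.Agent.Helper2.PBasis
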