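import Mathlib
import Groth.Prelude.Def_EGA41
import Groth.Agent.Lib.Helper2.PBasis3

universe u

namespace Groth.Agent.Helper2.PBasis

open EGA41

variable (p : ℕ) {A B : Type u} [CommRing A] [CommRing B] [Algebra A B]

/-- if `B^p` lies in the image of `A`, then `A[B^p]` is the image of `A` -/
theorem mem_range_of_mem_pPowerSubalgebra
    (hpow : ∀ b : B, b ^ p ∈ Set.range (algebraMap A B)) {c : B}
    (hc : c ∈ pPowerSubalgebra p A B) : c ∈ Set.range (algebraMap A B) := by
  induction hc using Algebra.adjoin_induction with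
  | mem c hc => obtain ⟨b, rfl⟩ := hc; exact hpow b
  | algebraMap a => exact ⟨a, rfl⟩
  | add a b _ _ ha hb =>
    obtain ⟨a, rfl⟩ := ha; obtain ⟨b, rfl⟩ := hb; exact ⟨a + b, map_add _ _ _⟩
  | mul a b _ _ ha hb =>
    obtain ⟨a, rfl⟩ := ha; obtain ⟨b, rfl⟩ := hb; exact ⟨a * b, map_mul _ _ _⟩

theorem algebraMap_pPowerSubalgebra_surjective
    (hpow : ∀ b : B, b ^ p ∈ Set.range (algebraMap A B)) :
    Function.Surjective (algebraMap A (pPowerSubalgebra p A B)) := by
  intro c
  obtain ⟨a, ha⟩ := mem_range_of_mem_pPowerSubalgebra p hpow c.2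
  exact ⟨a, Subtype.ext ha⟩

/-- a `p`-basis over `A` when `B^p ⊆ A ⊆ B` -/
theorem isRedBasis_base {ι : Type u} {x : ι → B} (hx : IsPBasis p A x)
    (hinj : Function.Injective (algebraMap A B))
    (hpow : ∀ b : B, b ^ p ∈ Set.range (algebraMap A B)) : IsRedBasis A p x := by
  have h := isRedBasis_of_isPBasis p hx
  constructor
  · refine LinearIndependent.restrict_scalars (R := A) (K := pPowerSubalgebra p A B) ?_ h.li
    intro a b hab
    apply hinj
    have := congrArg (fun c : pPowerSubalgebra p A B => (c : B)) hab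
    simpa [Algebra.smul_def] using this
  · have := Submodule.restrictScalars_span A (pPowerSubalgebra p A B)
      (algebraMap_pPowerSubalgebra_surjective p hpow)
      (Set.range fun e : Red ι p => mon x e.1)
    rw [← this, h.span]
    rfl

end Groth.Agent.Helper2.PBasis
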