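import Mathlib
import Groth.Prelude.Def_EGA41
import Groth.Agent.Lib.Helper2.PBasis4

universe u

namespace Groth.Agent.Helper2.PBasis

open EGA41

section General

variable {ι : Type*} {C B : Type*} [CommRing C] [CommRing B] [Algebra C B] {p : ℕ} {x : ι → B}

/-- the span of the reduced monomials -/
noncomputable def redSpan (C : Type*) {B : Type*} [CommRing C] [CommRing B] [Algebra C B]
    (p : ℕ) (x : ι → B) : Submodule C B :=
  Submodule.span C (Set.range fun e : Red ι p => mon x e.1)

theorem mon_mem_redSpan (hp : 0 < p) (c : ι → C) (hc : ∀ i, x i ^ p = algebraMap C B (c i))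
    (e : ι →₀ ℕ) : mon x e ∈ redSpan C p x := by
  rw [mon_eq_smul hp c x hc e]
  exact Submodule.smul_mem _ _ (Submodule.subset_span ⟨⟨rem p e, rem_lt p hp e⟩, rfl⟩)

theorem one_mem_redSpan (hp : 0 < p) : (1 : B) ∈ redSpan C p x := by
  refine Submodule.subset_span ⟨⟨0, fun i => by simpa using hp⟩, ?_⟩
  simp [mon_zero]

theorem mul_mem_redSpan (hp : 0 < p) (c : ι → C) (hc : ∀ i, x i ^ p = algebraMap C B (c i))
    {a b : B} (ha : a ∈ redSpan C p x) (hb : b ∈ redSpan C p x) : a * b ∈ redSpan C p x := by
  have h1 : a * b ∈ redSpan C p x * redSpan C p x := Submodule.mul_mem_mul ha hb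
  have h2 : redSpan C p x * redSpan C p x ≤ redSpan C p x := by
    unfold redSpan
    rw [Submodule.span_mul_span, Submodule.span_le]
    rintro _ ⟨_, ⟨e, rfl⟩, _, ⟨e', rfl⟩, rfl⟩
    change mon x e.1 * mon x e'.1 ∈ _
    rw [← mon_add]
    exact mon_mem_redSpan hp c hc _
  exact h2 h1

/-- the span of the reduced monomials as a subalgebra -/
noncomputable def redSubalgebra (hp : 0 < p) (c : ι → C)
    (hc : ∀ i, x i ^ p = algebraMap C B (c i)) : Subalgebra C B :=
  (redSpan C p x).toSubalgebra (one_mem_redSpan hp) fun _ _ ha hb => mul_mem_redSpan hp c hc ha hb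

theorem redSubalgebra_eq_adjoin (hp : 1 < p) (c : ι → C)
    (hc : ∀ i, x i ^ p = algebraMap C B (c i)) :
    redSubalgebra (by omega) c hc = Algebra.adjoin C (Set.range x) := by
  apply le_antisymm
  · intro b hb
    change b ∈ redSpan C p x at hb
    unfold redSpan at hb
    induction hb using Submodule.span_induction with
    | mem b hb =>
      obtain ⟨e, rfl⟩ := hb
      unfold mon
      refine Subalgebra.prod_mem _ fun i _ => ?_
      exact Subalgebra.pow_mem _ (Algebra.subset_adjoin (Set.mem_range_self i)) _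
    | zero => exact Subalgebra.zero_mem _
    | add a b _ _ ha hb => exact Subalgebra.add_mem _ ha hb
    | smul a b _ hb => exact Subalgebra.smul_mem _ hb a
  · rw [Algebra.adjoin_le_iff]
    rintro _ ⟨i, rfl⟩
    change x i ∈ redSpan C p x
    have := mon_mem_redSpan (by omega : 0 < p) c hc (Finsupp.single i 1)
    rwa [mon_single, pow_one] at this

theorem redSpan_eq_top_iff (hp : 1 < p) (c : ι → C)
    (hc : ∀ i, x i ^ p = algebraMap C B (c i)) :
    redSpan C p x = ⊤ ↔ Algebra.adjoin C (Set.range x) = ⊤ := by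
  rw [← redSubalgebra_eq_adjoin hp c hc]
  constructor
  · intro h
    rw [eq_top_iff]
    intro b _
    change b ∈ redSpan C p x
    rw [h]; trivial
  · intro h
    rw [eq_top_iff]
    intro b _
    have : b ∈ redSubalgebra (by omega) c hc := by rw [h]; trivial
    exact this

end General

end Groth.Agent.Helper2.PBasis
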