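import Mathlib
import Groth.Agent.Lib.Helper2.PBasis5

namespace Groth.Agent.Helper2.PBasis

open Function

section Reindex

variable {ι κ : Type*} {F K : Type*} [CommRing F] [CommRing K] [Algebra F K] {p : ℕ}

/-- `p`-independence over an arbitrary base ring `F` -/
def PInd (F : Type*) {K : Type*} [CommRing F] [CommRing K] [Algebra F K] (p : ℕ)
    (x : ι → K) : Prop :=
  LinearIndependent F (fun e : Red ι p => mon x e.1)

theorem mon_mapDomain {E : Type*} [CommMonoid E] (x : ι → E) (f : κ → ι) (e : κ →₀ ℕ) :
    mon x (e.mapDomain f) = mon (x ∘ f) e := by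
  unfold mon
  rw [Finsupp.prod_mapDomain_index (by simp) (by intro a m n; exact pow_add _ _ _)]
  rfl

/-- push a reduced exponent vector along an injective map -/
noncomputable def Red.map (hp : 0 < p) (f : κ → ι) (hf : Injective f) (e : Red κ p) : Red ι p :=
  ⟨e.1.mapDomain f, fun i => by
    by_cases hi : i ∈ Set.range f
    · obtain ⟨j, rfl⟩ := hi
      rw [Finsupp.mapDomain_apply hf]; exact e.2 j
    · rw [Finsupp.mapDomain_of_notMem_range _ _ hi]; exact hp⟩

theorem Red.map_injective (hp : 0 < p) (f : κ → ι) (hf : Injective f) :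
    Injective (Red.map (p := p) hp f hf) := by
  intro e e' h
  apply Subtype.ext
  exact Finsupp.mapDomain_injective hf (congrArg Subtype.val h)

theorem PInd.comp (hp : 0 < p) {x : ι → K} (h : PInd F p x) (f : κ → ι) (hf : Injective f) :
    PInd F p (x ∘ f) := by
  unfold PInd at h ⊢
  have := h.comp (Red.map hp f hf) (Red.map_injective hp f hf)
  convert this using 1
  funext e
  simp only [Function.comp_apply, Red.map]
  exact (mon_mapDomain x f e.1).symm

theorem pInd_equiv (hp : 0 < p) {x : ι → K} (f : κ ≃ ι) : PInd F p (x ∘ f) ↔ PInd F p x := by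
  constructor
  · intro h
    have := h.comp hp f.symm f.symm.injective
    convert this using 1
    funext i
    simp
  · intro h
    exact h.comp hp f f.injective

theorem mon_subtypeDomain {E : Type*} [CommMonoid E] (x : ι → E) (P : ι → Prop) [DecidablePred P]
    (e : ι →₀ ℕ) (he : ∀ i ∈ e.support, P i) :
    mon (fun j : Subtype P => x j) (e.subtypeDomain P) = mon x e := by
  unfold mon
  exact Finsupp.prod_subtypeDomain_index (h := fun i n => x i ^ n) he

theorem pInd_iff_finset (hp : 0 < p) {x : ι → K} :
    PInd F p x ↔ ∀ J : Finset ι, PInd F p (fun j : J => x j) := by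
  classical
  constructor
  · intro h J
    exact h.comp hp (Subtype.val : J → ι) Subtype.val_injective
  · intro h
    unfold PInd
    rw [linearIndependent_iff_finset_linearIndependent]
    intro s
    let J : Finset ι := s.biUnion fun e => e.1.support
    have hJ : ∀ e ∈ s, ∀ i ∈ e.1.support, i ∈ J := fun e he i hi =>
      Finset.mem_biUnion.mpr ⟨e, he, hi⟩
    let g : s → Red J p := fun e =>
      ⟨e.1.1.subtypeDomain (· ∈ J), fun j => by
        rw [Finsupp.subtypeDomain_apply]; exact e.1.2 j⟩
    have hg : Injective g := by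
      intro e e' hee'
      apply Subtype.ext
      apply Subtype.ext
      have h1 := congrArg Subtype.val hee'
      simp only [g] at h1
      ext i
      by_cases hi : i ∈ J
      · have := DFunLike.congr_fun h1 ⟨i, hi⟩
        simpa using this
      · have h2 : i ∉ e.1.1.support := fun hh => hi (hJ e.1 e.2 i hh)
        have h3 : i ∉ e'.1.1.support := fun hh => hi (hJ e'.1 e'.2 i hh)
        rw [Finsupp.notMem_support_iff.mp h2, Finsupp.notMem_support_iff.mp h3]
    have := LinearIndependent.comp (h J) g hg
    convert this using 1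
    funext e
    simp only [Function.comp_apply, g]
    exact (mon_subtypeDomain x (· ∈ J) e.1.1 (hJ e.1 e.2)).symm

end Reindex

section FieldCase

variable {ι : Type*} {F K : Type*} [Field F] [Field K] [Algebra F K] {p : ℕ} [hp : Fact p.Prime]
  [CharP K p]

theorem isAlgebraic_of_pow_mem (hpow : ∀ b : K, b ^ p ∈ Set.range (algebraMap F K)) :
    Algebra.IsAlgebraic F K := by
  refine ⟨fun b => ?_⟩
  obtain ⟨a, ha⟩ := hpow b
  refine ⟨Polynomial.X ^ p - Polynomial.C a, Polynomial.X_pow_sub_C_ne_zero hp.out.pos a, ?_⟩
  simp [ha]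

/-- the field generated by a family, as the span of reduced monomials -/
noncomputable def redField (hpow : ∀ b : K, b ^ p ∈ Set.range (algebraMap F K)) (x : ι → K) :
    IntermediateField F K :=
  haveI := isAlgebraic_of_pow_mem hpow
  (redSubalgebra (C := F) (x := x) hp.out.pos (fun i => Classical.choose (hpow (x i)))
    (fun i => (Classical.choose_spec (hpow (x i))).symm)).toIntermediateField'
    (Subalgebra.isField_of_algebraic _)

theorem mem_redField (hpow : ∀ b : K, b ^ p ∈ Set.range (algebraMap F K)) (x : ι → K) (b : K) :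
    b ∈ redField hpow x ↔ b ∈ redSpan F p x := Iff.rfl

theorem mon_mem_redField (hpow : ∀ b : K, b ^ p ∈ Set.range (algebraMap F K)) (x : ι → K)
    (e : ι →₀ ℕ) : mon x e ∈ redField hpow x :=
  mon_mem_redSpan hp.out.pos (fun i => Classical.choose (hpow (x i)))
    (fun i => (Classical.choose_spec (hpow (x i))).symm) e

theorem mon_option {E : Type*} [CommMonoid E] (x : ι → E) (y : E) (e : Option ι →₀ ℕ) :
    mon (fun o : Option ι => o.elim y x) e = y ^ e none * mon x e.some := by
  unfold mon
  rw [Finsupp.prod_option_index _ _ (fun _ => pow_zero _) (fun _ _ _ => pow_add _ _ _)]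
  rfl

/-- **Adjoining a new element to a `p`-independent family.** -/
theorem PInd.option (hpow : ∀ b : K, b ^ p ∈ Set.range (algebraMap F K)) {x : ι → K}
    (h : PInd F p x) {y : K} (hy : y ∉ redSpan F p x) :
    PInd F p (fun o : Option ι => o.elim y x) := by
  set F' := redField hpow x with hF'
  have hyF' : y ∉ F' := hy
  obtain ⟨a, ha⟩ := hpow y
  let a' : F' := ⟨y ^ p, by rw [← ha]; exact F'.algebraMap_mem a⟩
  have hirr : Irreducible (Polynomial.X ^ p - Polynomial.C a' : Polynomial F') := by
    apply X_pow_sub_C_irreducible_of_prime hp.out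
    intro b hb
    have h1 : (b : K) ^ p = y ^ p := congrArg Subtype.val hb
    have h2 : (b : K) = y := frobenius_inj K p h1
    exact hyF' (h2 ▸ b.2)
  have hmin : minpoly F' y = Polynomial.X ^ p - Polynomial.C a' := by
    refine (minpoly.eq_of_irreducible_of_monic hirr ?_
      (Polynomial.monic_X_pow_sub_C a' hp.out.ne_zero)).symm
    simp [a']
  have hdeg : (minpoly F' y).natDegree = p := by
    rw [hmin, Polynomial.natDegree_X_pow_sub_C]
  have hc : LinearIndependent F' (fun j : Fin p => y ^ (j : ℕ)) := by
    have := (linearIndependent_pow (K := F') y).comp (Fin.cast hdeg.symm) (Fin.cast_injective _)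
    exact this
  have hb : LinearIndependent F (fun e : Red ι p => (⟨mon x e.1, mon_mem_redField hpow x e.1⟩ : F')) := by
    apply LinearIndependent.of_comp F'.val.toLinearMap
    exact h
  have hbc := linearIndependent_smul hb hc
  let g : Red (Option ι) p → Red ι p × Fin p := fun e =>
    (⟨e.1.some, fun i => by rw [Finsupp.some_apply]; exact e.2 (some i)⟩, ⟨e.1 none, e.2 none⟩)
  have hg : Injective g := by
    intro e e' hee'
    apply Subtype.ext
    have h1 : e.1.some = e'.1.some := congrArg (fun q => q.1.1) hee'
    have h2 : e.1 none = e'.1 none := congrArg (fun q => (q.2 : ℕ)) hee'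
    ext o
    cases o with
    | none => exact h2
    | some i =>
      have := DFunLike.congr_fun h1 i
      simpa using this
  have := hbc.comp g hg
  have hfun : (fun e : Red (Option ι) p => mon (fun o : Option ι => o.elim y x) e.1) =
      ((fun q : Red ι p × Fin p =>
        (⟨mon x q.1.1, mon_mem_redField hpow x q.1.1⟩ : F') • y ^ (q.2 : ℕ)) ∘ g) := by
    funext e
    simp only [Function.comp_apply, g]
    rw [mon_option, mul_comm]
    rfl
  unfold PInd
  rw [hfun]
  exact this

end FieldCase

section Zorn

variable {ι : Type*} {F K : Type*} [Field F] [Field K] [Algebra F K] {p : ℕ} [hp : Fact p.Prime]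
  [CharP K p]

theorem mem_redSpan_self (hpow : ∀ b : K, b ^ p ∈ Set.range (algebraMap F K)) (x : ι → K) (i : ι) :
    x i ∈ redSpan F p x := by
  have := mon_mem_redSpan (C := F) (x := x) hp.out.pos (fun i => Classical.choose (hpow (x i)))
    (fun i => (Classical.choose_spec (hpow (x i))).symm) (Finsupp.single i 1)
  rwa [mon_single, pow_one] at this

/-- **Maximal `p`-independent subfamilies.** -/
theorem exists_maximal_pInd (hpow : ∀ b : K, b ^ p ∈ Set.range (algebraMap F K)) (x : ι → K)
    (T₀ : Set ι) (hT₀ : PInd F p (fun t : T₀ => x t)) :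
    ∃ T : Set ι, T₀ ⊆ T ∧ PInd F p (fun t : T => x t) ∧
      ∀ a, x a ∈ redSpan F p (fun t : T => x t) := by
  classical
  obtain ⟨T, hT₀T, hmax⟩ := zorn_subset_nonempty {T : Set ι | PInd F p (fun t : T => x t)}
    (by
      intro c hcS hc hne
      refine ⟨⋃₀ c, ?_, fun s hs => Set.subset_sUnion_of_mem hs⟩
      change PInd F p (fun t : (⋃₀ c : Set ι) => x t)
      rw [pInd_iff_finset hp.out.pos]
      intro J
      have hfin : ((J.image Subtype.val : Finset ι) : Set ι).Finite := Finset.finite_toSet _
      have hsub : ((J.image Subtype.val : Finset ι) : Set ι) ⊆ ⋃₀ c := by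
        intro i hi
        simp only [Finset.coe_image, Set.mem_image, Finset.mem_coe] at hi
        obtain ⟨j, _, rfl⟩ := hi
        exact j.2
      obtain ⟨T, hTc, hJT⟩ := hc.directedOn.exists_mem_subset_of_finite_of_subset_sUnion hne hfin hsub
      have hT : PInd F p (fun t : T => x t) := hcS hTc
      let f : J → T := fun j => ⟨j.1.1, hJT (by
        simp only [Finset.coe_image, Set.mem_image, Finset.mem_coe]
        exact ⟨j.1, j.2, rfl⟩)⟩
      have hf : Injective f := by
        intro j j' hjj'
        apply Subtype.ext
        apply Subtype.ext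
        exact congrArg (fun t : T => (t : ι)) hjj'
      exact hT.comp hp.out.pos f hf)
    T₀ hT₀
  refine ⟨T, hT₀T, hmax.prop, fun a => ?_⟩
  by_cases haT : a ∈ T
  · exact mem_redSpan_self hpow (fun t : T => x t) ⟨a, haT⟩
  · by_contra hxa
    have hopt := PInd.option hpow hmax.prop hxa
    let e' : ↥(insert a T : Set ι) → Option ↥T := fun b =>
      if h : (b : ι) ∈ T then some ⟨b, h⟩ else none
    have he' : Injective e' := by
      intro b b' hbb'
      simp only [e'] at hbb'
      apply Subtype.ext
      by_cases hb : (b : ι) ∈ T <;> by_cases hb' : (b' : ι) ∈ T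
      · rw [dif_pos hb, dif_pos hb'] at hbb'
        exact congrArg (fun t : T => (t : ι)) (Option.some.inj hbb')
      · rw [dif_pos hb, dif_neg hb'] at hbb'; exact absurd hbb' (by simp)
      · rw [dif_neg hb, dif_pos hb'] at hbb'; exact absurd hbb' (by simp)
      · have h1 : (b : ι) = a := (Set.mem_insert_iff.mp b.2).resolve_right hb
        have h2 : (b' : ι) = a := (Set.mem_insert_iff.mp b'.2).resolve_right hb'
        rw [h1, h2]
    have hins : PInd F p (fun t : ↥(insert a T : Set ι) => x t) := by
      have := hopt.comp hp.out.pos e' he'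
      convert this using 1
      funext b
      simp only [Function.comp_apply, e']
      by_cases hb : (b : ι) ∈ T
      · rw [dif_pos hb]; rfl
      · rw [dif_neg hb]
        have h1 : (b : ι) = a := (Set.mem_insert_iff.mp b.2).resolve_right hb
        simp [h1]
    have := hmax.le_of_ge hins (Set.subset_insert a T)
    exact haT (this (Set.mem_insert a T))

end Zorn

end Groth.Agent.Helper2.PBasis
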