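import Mathlib
import Groth.Prelude.Def_EGA41
import Groth.Agent.Lib.Helper2.PBasis3
import Groth.Agent.Lib.Helper2.PBasisField

universe u

namespace Groth.Agent.Helper2.PBasis

open EGA41 Function

section Bridge

variable (p : ℕ) [hp : Fact p.Prime] {k K : Type u} [Field k] [Field K] [Algebra k K] [CharP K p]

include hp in
theorem inv_mem_pPowerSubalgebra {c : K} (hc : c ∈ pPowerSubalgebra p k K) :
    c⁻¹ ∈ pPowerSubalgebra p k K := by
  by_cases h0 : c = 0
  · rw [h0, inv_zero]; exact Subalgebra.zero_mem _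
  · have h1 : c⁻¹ = c ^ (p - 1) * (c⁻¹) ^ p := by
      have hp1 : (p - 1) + 1 = p := Nat.sub_add_cancel hp.out.one_le
      rw [inv_pow, ← hp1, pow_succ c (p - 1), mul_inv, ← mul_assoc, hp1,
        mul_inv_cancel₀ (pow_ne_zero _ h0), one_mul]
    rw [h1]
    exact Subalgebra.mul_mem _ (Subalgebra.pow_mem _ hc _) (pow_mem_pPowerSubalgebra p _)

/-- `k(K^p)` as an intermediate field -/
noncomputable def Cf : IntermediateField k K :=
  (pPowerSubalgebra p k K).toIntermediateField fun _ hc => inv_mem_pPowerSubalgebra p hc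

theorem pow_mem_range_Cf (b : K) : b ^ p ∈ Set.range (algebraMap (Cf p (k := k) (K := K)) K) :=
  ⟨⟨b ^ p, pow_mem_pPowerSubalgebra p b⟩, rfl⟩

theorem isPIndependent_iff {ι : Type u} (x : ι → K) :
    IsPIndependent p k x ↔ PInd (Cf p (k := k) (K := K)) p x := Iff.rfl

theorem isPGenerating_iff {ι : Type u} (x : ι → K) :
    IsPGenerating p k x ↔ redSpan (Cf p (k := k) (K := K)) p x = ⊤ := Iff.rfl

theorem isPGenerating_iff' {ι : Type u} (x : ι → K) :
    IsPGenerating p k x ↔ redSpan (pPowerSubalgebra p k K) p x = ⊤ := Iff.rfl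

end Bridge

end Groth.Agent.Helper2.PBasis
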