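import Mathlib
import Groth.Prelude.Def_EGA41
import Groth.Agent.Lib.Helper2.PBasisField2

universe u

namespace Groth.Agent.Helper2.PBasis

open EGA41 Function

section L1

variable (p : ℕ) [Fact p.Prime] {A B : Type u} [CommRing A] [CommRing B] [Algebra A B] [CharP B p]

theorem D_mem_span_of_mem_redSpan {κ : Type*} (y : κ → B) {b : B}
    (hb : b ∈ redSpan (pPowerSubalgebra p A B) p y) :
    KaehlerDifferential.D A B b ∈
      Submodule.span B (Set.range fun j => KaehlerDifferential.D A B (y j)) := by
  unfold redSpan at hb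
  induction hb using Submodule.span_induction with
  | mem b hb =>
    obtain ⟨e, rfl⟩ := hb
    exact derivation_mon_mem (KaehlerDifferential.D A B) y e.1
  | zero => simp
  | add a b _ _ ha hb => rw [map_add]; exact Submodule.add_mem _ ha hb
  | smul a b _ hb =>
    rw [Algebra.smul_def, Derivation.leibniz]
    refine Submodule.add_mem _ (Submodule.smul_mem _ _ hb) ?_
    have : KaehlerDifferential.D A B (algebraMap (pPowerSubalgebra p A B) B a) = 0 :=
      derivation_eq_zero_of_mem p (KaehlerDifferential.D A B) a.2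
    rw [this, smul_zero]
    exact Submodule.zero_mem _

end L1

section L2

variable (p : ℕ) [hp : Fact p.Prime] {k K : Type u} [Field k] [Field K] [Algebra k K] [CharP K p]

theorem pInd_of_isEmpty {ι : Type*} [IsEmpty ι] {F : Type*} [Field F] [Algebra F K] (x : ι → K) :
    PInd F p x := by
  unfold PInd
  haveI : Unique (Red ι p) :=
    { default := ⟨0, fun i => isEmptyElim i⟩
      uniq := fun e => Subtype.ext (Subsingleton.elim _ _) }
  rw [linearIndependent_unique_iff]
  have : ((default : Red ι p) : ι →₀ ℕ) = 0 := Subsingleton.elim _ _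
  rw [this, mon_zero]
  exact one_ne_zero

/-- every `p`-independent family extends to a `p`-basis -/
theorem exists_isPBasis_extension {ι : Type u} (x : ι → K) (hx : IsPIndependent p k x) :
    ∃ (κ : Type u) (X : κ → K) (f : ι → κ), Injective f ∧ (∀ i, X (f i) = x i) ∧
      IsPBasis p k X := by
  have hpow := pow_mem_range_Cf (k := k) (K := K) p
  let X₀ : ι ⊕ K → K := Sum.elim x id
  let T₀ : Set (ι ⊕ K) := Set.range Sum.inl
  have hT₀ : PInd (Cf p (k := k) (K := K)) p (fun t : T₀ => X₀ t) := by
    have h1 := (isPIndependent_iff p x).mp hx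
    let g : T₀ → ι := fun t => Classical.choose t.2
    have hg : ∀ t : T₀, Sum.inl (g t) = (t : ι ⊕ K) := fun t => Classical.choose_spec t.2
    have hginj : Injective g := by
      intro t t' htt'
      apply Subtype.ext
      rw [← hg t, ← hg t', htt']
    have := h1.comp hp.out.pos g hginj
    convert this using 1
    funext t
    simp only [Function.comp_apply]
    rw [← hg t]
    rfl
  obtain ⟨T, hT₀T, hTind, hTgen⟩ := exists_maximal_pInd hpow X₀ T₀ hT₀
  refine ⟨T, fun t => X₀ t, fun i => ⟨Sum.inl i, hT₀T ⟨i, rfl⟩⟩, ?_, fun i => rfl, ?_, ?_⟩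
  · intro i j hij
    exact Sum.inl_injective (congrArg (fun t : T => (t : ι ⊕ K)) hij)
  · exact (isPIndependent_iff p _).mpr hTind
  · rw [isPGenerating_iff, eq_top_iff]
    intro y _
    exact hTgen (Sum.inr y)

end L2

section Main

variable (p : ℕ) [hp : Fact p.Prime] {k K : Type u} [Field k] [Field K] [Algebra k K] [CharP K p]

/-- a maximal `p`-independent subfamily -/
theorem exists_maximal_sub {ι : Type u} (x : ι → K) :
    ∃ T : Set ι, PInd (Cf p (k := k) (K := K)) p (fun t : T => x t) ∧
      ∀ a, x a ∈ redSpan (pPowerSubalgebra p k K) p (fun t : T => x t) := by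
  have hpow := pow_mem_range_Cf (k := k) (K := K) p
  have h0 : PInd (Cf p (k := k) (K := K)) p (fun t : (∅ : Set ι) => x t) := pInd_of_isEmpty p _
  obtain ⟨T, -, hT, hgen⟩ := exists_maximal_pInd hpow x ∅ h0
  exact ⟨T, hT, hgen⟩

theorem linearIndependent_D_of_isPIndependent {ι : Type u} (x : ι → K)
    (hx : IsPIndependent p k x) :
    LinearIndependent K (fun i => KaehlerDifferential.D k K (x i)) := by
  obtain ⟨κ, X, f, hf, hXf, hX⟩ := exists_isPBasis_extension p x hx
  have := (linearIndependent_D_of_isPBasis p hX).comp f hf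
  have hfun : (fun i => KaehlerDifferential.D k K (x i)) =
      (fun i => KaehlerDifferential.D k K (X i)) ∘ f := by
    funext i
    simp only [Function.comp_apply, hXf]
  rw [hfun]
  exact this

theorem isPIndependent_of_linearIndependent_D {ι : Type u} (x : ι → K)
    (hx : LinearIndependent K (fun i => KaehlerDifferential.D k K (x i))) :
    IsPIndependent p k x := by
  obtain ⟨T, hT, hgen⟩ := exists_maximal_sub (k := k) p x
  have hTuniv : ∀ a, a ∈ T := by
    intro a
    by_contra haT
    have h1 := D_mem_span_of_mem_redSpan (A := k) p (fun t : T => x t) (hgen a)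
    have h2 : (Set.range fun t : T => KaehlerDifferential.D k K (x t)) =
        (fun i => KaehlerDifferential.D k K (x i)) '' T := by
      ext w
      constructor
      · rintro ⟨t, rfl⟩; exact ⟨t, t.2, rfl⟩
      · rintro ⟨t, ht, rfl⟩; exact ⟨⟨t, ht⟩, rfl⟩
    rw [h2] at h1
    exact hx.notMem_span_image haT h1
  rw [isPIndependent_iff]
  have := hT.comp hp.out.pos (fun i => (⟨i, hTuniv i⟩ : T)) (fun i j hij => congrArg (fun t : T => (t : ι)) hij)
  exact this

theorem redSpan_mono_sub {ι : Type u} (x : ι → K) (T : Set ι) :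
    redSpan (pPowerSubalgebra p k K) p (fun t : T => x t) ≤ redSpan (pPowerSubalgebra p k K) p x := by
  unfold redSpan
  rw [Submodule.span_le]
  rintro _ ⟨e, rfl⟩
  have h1 : mon (fun t : T => x t) e.1 = mon x (e.1.mapDomain Subtype.val) :=
    (mon_mapDomain x (Subtype.val : T → ι) e.1).symm
  change mon (fun t : T => x t) e.1 ∈ _
  rw [h1]
  exact Submodule.subset_span ⟨Red.map hp.out.pos Subtype.val Subtype.val_injective e, rfl⟩

theorem isPGenerating_of_span_D_eq_top {ι : Type u} (x : ι → K)
    (hx : Submodule.span K (Set.range fun i => KaehlerDifferential.D k K (x i)) = ⊤) :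
    IsPGenerating p k x := by
  have hpow := pow_mem_range_Cf (k := k) (K := K) p
  obtain ⟨T, hT, hgen⟩ := exists_maximal_sub (k := k) p x
  rw [isPGenerating_iff', eq_top_iff]
  refine le_trans ?_ (redSpan_mono_sub p x T)
  intro y _
  by_contra hy
  -- extend `x|_T ∪ {y}` to a `p`-basis
  have hopt : PInd (Cf p (k := k) (K := K)) p (fun o : Option T => o.elim y fun t => x t) :=
    PInd.option hpow hT hy
  obtain ⟨κ, X, f, hf, hXf, hX⟩ := exists_isPBasis_extension p _
    ((isPIndependent_iff p _).mpr hopt)
  have hLI := linearIndependent_D_of_isPBasis p hX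
  have hnot : f none ∉ f '' (Set.range some) := by
    rintro ⟨o, ⟨t, rfl⟩, ho⟩
    exact absurd (hf ho) (by simp)
  have h1 := hLI.notMem_span_image hnot
  apply h1
  have hy' : KaehlerDifferential.D k K (X (f none)) ∈
      Submodule.span K (Set.range fun i => KaehlerDifferential.D k K (x i)) := by
    rw [hx]; trivial
  refine (Submodule.span_le.mpr ?_) hy'
  rintro _ ⟨a, rfl⟩
  have h2 := D_mem_span_of_mem_redSpan (A := k) p (fun t : T => x t) (hgen a)
  refine (Submodule.span_mono ?_) h2
  rintro _ ⟨t, rfl⟩
  refine ⟨f (some t), ⟨some t, ⟨t, rfl⟩, rfl⟩, ?_⟩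
  change KaehlerDifferential.D k K (X (f (some t))) = KaehlerDifferential.D k K (x t)
  rw [hXf]
  rfl

end Main

end Groth.Agent.Helper2.PBasis
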