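import Mathlib
import Groth.Agent.Lib.Helper2.PBasis

namespace Groth.Agent.Helper2.PBasis

variable {ι : Type*} {C B : Type*} [CommRing C] [CommRing B] [Algebra C B] {p : ℕ} {x : ι → B}

/-- ring-hom form of the universal property of a `p`-basis: existence -/
theorem IsRedBasis.exists_ringHom (h : IsRedBasis C p x) (hp : 1 < p) (c : ι → C)
    (hc : ∀ i, x i ^ p = algebraMap C B (c i)) {E : Type*} [CommRing E] (g : C →+* E)
    (z : ι → E) (hz : ∀ i, z i ^ p = g (c i)) :
    ∃ v : B →+* E, (∀ a, v (algebraMap C B a) = g a) ∧ ∀ i, v (x i) = z i := by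
  letI : Algebra C E := g.toAlgebra
  refine ⟨(h.algHom (by omega) c hc z hz : B →ₐ[C] E).toRingHom, fun a => ?_, fun i => ?_⟩
  · exact (h.algHom (by omega) c hc z hz).commutes a
  · exact h.algHom_apply hp c hc z hz i

/-- ring-hom form of the universal property of a `p`-basis: uniqueness -/
theorem IsRedBasis.ringHom_ext (h : IsRedBasis C p x) {E : Type*} [CommRing E]
    (v v' : B →+* E) (hC : ∀ a, v (algebraMap C B a) = v' (algebraMap C B a))
    (hx : ∀ i, v (x i) = v' (x i)) : v = v' := by
  letI : Algebra C E := (v.comp (algebraMap C B)).toAlgebra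
  let w : B →ₐ[C] E := { v with commutes' := fun a => rfl }
  let w' : B →ₐ[C] E := { v' with commutes' := fun a => (hC a).symm }
  have : w = w' := h.algHom_ext w w' hx
  ext b
  exact AlgHom.congr_fun this b

end Groth.Agent.Helper2.PBasis
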