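import Mathlib

namespace Groth.Agent.Helper2.PBasis

open TensorProduct

theorem sub_pow_prime_of_cast_eq_zero {T : Type*} [CommRing T] {p : ℕ} (hp : p.Prime)
    (hpT : (p : T) = 0) (a b : T) : (a - b) ^ p = a ^ p - b ^ p := by
  obtain ⟨q, hq⟩ := exists_add_pow_prime_eq hp a (-b)
  have hneg : (-1 : T) ^ p = -1 := by
    rcases hp.eq_two_or_odd' with h2 | hodd
    · subst h2
      have h2 : (2 : T) = 0 := by exact_mod_cast hpT
      linear_combination h2
    · exact hodd.neg_one_pow
  rw [sub_eq_add_neg, hq, hpT, neg_eq_neg_one_mul b, mul_pow, hneg]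
  ring

/-- a radicial (height one) unramified algebra of finite type is a quotient -/
theorem surjective_algebraMap_of_pow_mem_of_subsingleton_kaehler
    {R S : Type*} [CommRing R] [CommRing S] [Algebra R S] (p : ℕ) [hp : Fact p.Prime] [CharP S p]
    [Algebra.FiniteType R S] (hpow : ∀ s : S, s ^ p ∈ Set.range (algebraMap R S))
    [Subsingleton (Ω[S⁄R])] : Function.Surjective (algebraMap R S) := by
  have hint : Algebra.IsIntegral R S := by
    refine ⟨fun s => ?_⟩
    obtain ⟨r, hr⟩ := hpow s
    refine ⟨Polynomial.X ^ p - Polynomial.C r, Polynomial.monic_X_pow_sub_C r hp.out.ne_zero, ?_⟩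
    simp [hr]
  have hfin : Module.Finite R S := Algebra.finite_iff_isIntegral_and_finiteType.mpr ⟨hint, inferInstance⟩
  have hunr : Algebra.FormallyUnramified R S := by
    rw [Algebra.formallyUnramified_iff]; infer_instance
  obtain ⟨t, ht1, ht2⟩ := Algebra.FormallyUnramified.iff_exists_tensorProduct.mp hunr
  -- generators of the diagonal ideal are nilpotent
  have hpT : (p : S ⊗[R] S) = 0 := by
    rw [← map_natCast (algebraMap S (S ⊗[R] S)), CharP.cast_eq_zero, map_zero]
  have hnil : ∀ s : S, ((1 : S) ⊗ₜ[R] s - s ⊗ₜ[R] (1 : S)) ^ p = 0 := by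
    intro s
    obtain ⟨r, hr⟩ := hpow s
    rw [sub_pow_prime_of_cast_eq_zero hp.out hpT, Algebra.TensorProduct.tmul_pow,
      Algebra.TensorProduct.tmul_pow, one_pow, ← hr, Algebra.algebraMap_eq_smul_one,
      ← smul_tmul, sub_self]
  have hker : 1 - t ∈ KaehlerDifferential.ideal R S := by
    simp only [KaehlerDifferential.ideal, RingHom.mem_ker, map_sub, map_one, ht2, sub_self]
  have hnilt : IsNilpotent (1 - t) := by
    rw [← mem_nilradical]
    rw [← KaehlerDifferential.span_range_eq_ideal] at hker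
    refine (Ideal.span_le.mpr ?_) hker
    rintro _ ⟨s, rfl⟩
    exact (mem_nilradical).mpr ⟨p, hnil s⟩
  have hunit : IsUnit t := by
    have := hnilt.isUnit_one_sub
    simpa using this
  rw [← Algebra.isEpi_iff_surjective_algebraMap_of_finite, Algebra.isEpi_iff_forall_one_tmul_eq]
  intro s
  have := ht1 s
  rw [hunit.mul_left_eq_zero] at this
  exact sub_eq_zero.mp this

end Groth.Agent.Helper2.PBasis
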