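import Mathlib
import Groth.Prelude.Def_EGA41
import Groth.Agent.Lib.Helper2.PBasis4
import Groth.Agent.Lib.Helper2.PBasis6
import Groth.Agent.Lib.Helper2.RadicialUnram

universe u

namespace Groth.Agent.Helper2.PBasis

open EGA41

section Perfect

variable (p : ℕ) [hp : Fact p.Prime] {A B : Type u} [CommRing A] [CharP A p] [PerfectRing A p]
  [CommRing B] [Algebra A B] [CharP B p]

/-- over a perfect ring, `A[B^p] = B^p` -/
theorem exists_pow_eq_of_mem_pPowerSubalgebra {c : B} (hc : c ∈ pPowerSubalgebra p A B) :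
    ∃ b : B, b ^ p = c := by
  induction hc using Algebra.adjoin_induction with
  | mem c hc => obtain ⟨b, rfl⟩ := hc; exact ⟨b, rfl⟩
  | algebraMap a =>
    obtain ⟨a', rfl⟩ := surjective_frobenius A p a
    exact ⟨algebraMap A B a', by rw [frobenius_def, map_pow]⟩
  | add a b _ _ ha hb =>
    obtain ⟨a, rfl⟩ := ha; obtain ⟨b, rfl⟩ := hb; exact ⟨a + b, add_pow_char ..⟩
  | mul a b _ _ ha hb =>
    obtain ⟨a, rfl⟩ := ha; obtain ⟨b, rfl⟩ := hb; exact ⟨a * b, mul_pow a b p⟩

variable [IsReduced B]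

theorem pow_p_injective : Function.Injective (fun b : B => b ^ p) :=
  frobenius_inj B p

/-- the `p`-th root on `A[B^p]` -/
noncomputable def root (c : pPowerSubalgebra p A B) : B :=
  Classical.choose (exists_pow_eq_of_mem_pPowerSubalgebra p c.2)

theorem root_pow (c : pPowerSubalgebra p A B) : root p c ^ p = c :=
  Classical.choose_spec (exists_pow_eq_of_mem_pPowerSubalgebra p c.2)

theorem root_eq {c : pPowerSubalgebra p A B} {b : B} (h : b ^ p = c) : root p c = b :=
  pow_p_injective p ((root_pow p c).trans h.symm)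

/-- the `p`-th root as a ring homomorphism -/
noncomputable def rootHom : pPowerSubalgebra p A B →+* B where
  toFun := root p
  map_one' := root_eq p (by simp)
  map_mul' a b := root_eq p (by rw [mul_pow, root_pow, root_pow]; rfl)
  map_zero' := root_eq p (by simp [hp.out.ne_zero])
  map_add' a b := root_eq p (by rw [add_pow_char (R := B), root_pow, root_pow]; rfl)

theorem rootHom_pow (b : B) :
    rootHom p (⟨b ^ p, pow_mem_pPowerSubalgebra p b⟩ : pPowerSubalgebra p A B) = b :=
  root_eq p rfl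

end Perfect

section Step

variable (p : ℕ) [hp : Fact p.Prime] {A B : Type u} [CommRing A] [CharP A p] [PerfectRing A p]
  [CommRing B] [Algebra A B] [CharP B p] [IsReduced B]

theorem cast_p_eq_zero (E : Type*) [CommRing E] [Algebra A E] : (p : E) = 0 := by
  rw [← map_natCast (algebraMap A E), CharP.cast_eq_zero, map_zero]

theorem add_pow_prime_of_cast_eq_zero {T : Type*} [CommRing T] {p : ℕ} (hp : p.Prime)
    (hpT : (p : T) = 0) (a b : T) : (a + b) ^ p = a ^ p + b ^ p := by
  obtain ⟨q, hq⟩ := exists_add_pow_prime_eq hp a b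
  rw [hq, hpT]; ring

variable {E₁ E₀ : Type*} [CommRing E₁] [CommRing E₀] [Algebra A E₁] [Algebra A E₀]
  (π : E₁ →ₐ[A] E₀) (hπ : Function.Surjective π) (v : B →ₐ[A] E₀)

/-- the Frobenius-twisted lift `b ↦ (lift of v b)^p` -/
noncomputable def psi : B → E₁ := fun b => (Classical.choose (hπ (v b))) ^ p

include hp in
theorem psi_eq (hK : ∀ k, π k = 0 → k ^ p = 0) (b : B) (e : E₁) (he : π e = v b) :
    psi p π hπ v b = e ^ p := by
  unfold psi
  have h1 := Classical.choose_spec (hπ (v b))
  have h2 : π (Classical.choose (hπ (v b)) - e) = 0 := by rw [map_sub, h1, he, sub_self]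
  have h3 := hK _ h2
  rw [sub_pow_prime_of_cast_eq_zero hp.out (cast_p_eq_zero (A := A) p E₁)] at h3
  exact sub_eq_zero.mp h3

/-- `psi` as a ring homomorphism -/
noncomputable def psiHom (hK : ∀ k, π k = 0 → k ^ p = 0) : B →+* E₁ where
  toFun := psi p π hπ v
  map_one' := by rw [psi_eq p π hπ v hK 1 1 (by simp)]; simp
  map_mul' a b := by
    rw [psi_eq p π hπ v hK (a * b) (Classical.choose (hπ (v a)) * Classical.choose (hπ (v b)))
      (by rw [map_mul, Classical.choose_spec (hπ (v a)), Classical.choose_spec (hπ (v b)),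
        map_mul]), mul_pow]
    rfl
  map_zero' := by rw [psi_eq p π hπ v hK 0 0 (by simp)]; simp [hp.out.ne_zero]
  map_add' a b := by
    rw [psi_eq p π hπ v hK (a + b) (Classical.choose (hπ (v a)) + Classical.choose (hπ (v b)))
      (by rw [map_add, Classical.choose_spec (hπ (v a)), Classical.choose_spec (hπ (v b)),
        map_add]), add_pow_prime_of_cast_eq_zero hp.out (cast_p_eq_zero (A := A) p E₁)]
    rfl

include hπ in
/-- **One Frobenius step of the lifting.** -/
theorem step {ι : Type u} {x : ι → B} (hx : IsPBasis p A x)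
    (hK : ∀ k, π k = 0 → k ^ p = 0) (z : ι → E₁) (hz : ∀ i, π (z i) = v (x i)) :
    ∃! v₁ : B →ₐ[A] E₁, π.comp v₁ = v ∧ ∀ i, v₁ (x i) = z i := by
  have h := isRedBasis_of_isPBasis p hx
  let c : ι → pPowerSubalgebra p A B := fun i => ⟨x i ^ p, pow_mem_pPowerSubalgebra p (x i)⟩
  have hc : ∀ i, x i ^ p = algebraMap (pPowerSubalgebra p A B) B (c i) := fun i => rfl
  let g : pPowerSubalgebra p A B →+* E₁ := (psiHom p π hπ v hK).comp (rootHom p)
  have hg : ∀ a, g a = psi p π hπ v (root p a) := fun a => rfl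
  have hgz : ∀ i, z i ^ p = g (c i) := by
    intro i
    rw [hg, root_eq p (c := c i) (b := x i) rfl, psi_eq p π hπ v hK (x i) (z i) (hz i)]
  obtain ⟨v₁, hv₁C, hv₁x⟩ := h.exists_ringHom hp.out.one_lt c hc g z hgz
  have hcomm : ∀ a : A, v₁ (algebraMap A B a) = algebraMap A E₁ a := by
    intro a
    obtain ⟨a', rfl⟩ := surjective_frobenius A p a
    have h1 : algebraMap A B (frobenius A p a') =
        algebraMap (pPowerSubalgebra p A B) B (algebraMap A (pPowerSubalgebra p A B) (frobenius A p a')) :=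
      rfl
    rw [h1, hv₁C, hg]
    have h2 : root p (algebraMap A (pPowerSubalgebra p A B) (frobenius A p a')) = algebraMap A B a' := by
      apply root_eq
      rw [frobenius_def, map_pow]
      rfl
    rw [h2, psi_eq p π hπ v hK _ (algebraMap A E₁ a') (by rw [AlgHom.commutes, AlgHom.commutes]),
      frobenius_def, map_pow]
  let w₁ : B →ₐ[A] E₁ := { v₁ with commutes' := hcomm }
  have hw₁ : ∀ b, w₁ b = v₁ b := fun b => rfl
  have hlift : ∀ w : B →ₐ[A] E₁, (∀ a, w (algebraMap (pPowerSubalgebra p A B) B a) = g a) →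
      (∀ i, w (x i) = z i) → π.comp w = v := by
    intro w hwC hwx
    have : (π.comp w).toRingHom = v.toRingHom := by
      apply h.ringHom_ext
      · intro a
        change π (w (algebraMap (pPowerSubalgebra p A B) B a)) = v (algebraMap _ B a)
        rw [hwC, hg]
        unfold psi
        rw [map_pow, Classical.choose_spec (hπ (v (root p a))), ← map_pow, root_pow]
        rfl
      · intro i
        change π (w (x i)) = v (x i)
        rw [hwx, hz]
    ext b
    exact RingHom.congr_fun this b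
  refine ⟨w₁, ⟨hlift w₁ hv₁C hv₁x, hv₁x⟩, ?_⟩
  rintro w₂ ⟨hw₂, hw₂x⟩
  have : w₂.toRingHom = w₁.toRingHom := by
    apply h.ringHom_ext
    · intro a
      change w₂ (algebraMap _ B a) = v₁ (algebraMap _ B a)
      rw [hv₁C, hg]
      have h1 : algebraMap (pPowerSubalgebra p A B) B a = root p a ^ p := (root_pow p a).symm
      rw [h1, map_pow]
      refine (psi_eq p π hπ v hK (root p a) (w₂ (root p a)) ?_).symm
      have := AlgHom.congr_fun hw₂ (root p a)
      exact this
    · intro i
      change w₂ (x i) = v₁ (x i)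
      rw [hw₂x, hv₁x]
  ext b
  exact RingHom.congr_fun this b

end Step

section Lift

variable (p : ℕ) [hp : Fact p.Prime] {A B : Type u} [CommRing A] [CharP A p] [PerfectRing A p]
  [CommRing B] [Algebra A B] [CharP B p] [IsReduced B]

theorem add_pow_prime_pow_of_cast_eq_zero {T : Type*} [CommRing T] {p : ℕ} (hp : p.Prime)
    (hpT : (p : T) = 0) (m : ℕ) (a b : T) : (a + b) ^ p ^ m = a ^ p ^ m + b ^ p ^ m := by
  induction m with
  | zero => simp
  | succ m ih => rw [pow_succ, pow_mul, ih, add_pow_prime_of_cast_eq_zero hp hpT, ← pow_mul, ← pow_mul]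

/-- **Unique lifting along a surjection with nil kernel of bounded exponent.** -/
theorem existsUnique_lift {ι : Type u} {x : ι → B} (hx : IsPBasis p A x) (m : ℕ) :
    ∀ {E₁ E₀ : Type u} [CommRing E₁] [CommRing E₀] [Algebra A E₁] [Algebra A E₀]
      (π : E₁ →ₐ[A] E₀) (_ : Function.Surjective π) (_ : ∀ k, π k = 0 → k ^ p ^ m = 0)
      (v : B →ₐ[A] E₀) (z : ι → E₁) (_ : ∀ i, π (z i) = v (x i)),
      ∃! w : B →ₐ[A] E₁, π.comp w = v ∧ ∀ i, w (x i) = z i := by
  induction m with
  | zero =>
    intro E₁ E₀ _ _ _ _ π hπ hK v z hz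
    have hinj : Function.Injective π := by
      rw [injective_iff_map_eq_zero]
      intro k hk
      simpa using hK k hk
    let e : E₁ ≃ₐ[A] E₀ := AlgEquiv.ofBijective π ⟨hinj, hπ⟩
    refine ⟨e.symm.toAlgHom.comp v, ⟨?_, fun i => ?_⟩, ?_⟩
    · ext b
      change π (e.symm (v b)) = v b
      exact e.apply_symm_apply (v b)
    · apply hinj
      rw [hz]
      change π (e.symm (v (x i))) = _
      exact e.apply_symm_apply _
    · rintro w ⟨hw, -⟩
      ext b
      apply hinj
      have := AlgHom.congr_fun hw b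
      rw [AlgHom.comp_apply] at this
      rw [this]
      change _ = π (e.symm (v b))
      exact (e.apply_symm_apply (v b)).symm
  | succ m ih =>
    intro E₁ E₀ _ _ _ _ π hπ hK v z hz
    have hpE : (p : E₁) = 0 := cast_p_eq_zero (A := A) p E₁
    let K₁ : Ideal E₁ := Ideal.span (Set.range fun k : RingHom.ker π.toRingHom => (k : E₁) ^ p)
    have hK₁ : ∀ a ∈ K₁, π a = 0 := by
      intro a ha
      induction ha using Submodule.span_induction with
      | mem a ha =>
        obtain ⟨k, rfl⟩ := ha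
        have : π (k : E₁) = 0 := k.2
        rw [map_pow, this, zero_pow hp.out.ne_zero]
      | zero => simp
      | add a b _ _ ha hb => rw [map_add, ha, hb, add_zero]
      | smul a b _ hb => rw [smul_eq_mul, map_mul, hb, mul_zero]
    let mk : E₁ →ₐ[A] E₁ ⧸ K₁ := Ideal.Quotient.mkₐ A K₁
    have hmk : Function.Surjective mk := Ideal.Quotient.mkₐ_surjective A K₁
    let π' : E₁ ⧸ K₁ →ₐ[A] E₀ := Ideal.Quotient.liftₐ K₁ π hK₁
    have hπ'mk : ∀ e, π' (mk e) = π e := fun e => rfl
    have hπ' : Function.Surjective π' := by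
      intro y
      obtain ⟨e, rfl⟩ := hπ y
      exact ⟨mk e, rfl⟩
    have hK' : ∀ k', π' k' = 0 → k' ^ p = 0 := by
      intro k' hk'
      obtain ⟨e, rfl⟩ := hmk k'
      rw [hπ'mk] at hk'
      rw [← map_pow]
      change Ideal.Quotient.mk K₁ (e ^ p) = 0
      rw [Ideal.Quotient.eq_zero_iff_mem]
      exact Ideal.subset_span ⟨⟨e, hk'⟩, rfl⟩
    have hKm : ∀ k, mk k = 0 → k ^ p ^ m = 0 := by
      intro k hk
      have hk' : k ∈ K₁ := Ideal.Quotient.eq_zero_iff_mem.mp hk
      induction hk' using Submodule.span_induction with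
      | mem a ha =>
        obtain ⟨k, rfl⟩ := ha
        rw [← pow_mul, ← pow_succ']
        exact hK _ k.2
      | zero => exact zero_pow (pow_ne_zero _ hp.out.ne_zero)
      | add a b ha' hb' ha hb =>
        rw [add_pow_prime_pow_of_cast_eq_zero hp.out hpE,
          ha (Ideal.Quotient.eq_zero_iff_mem.mpr ha'), hb (Ideal.Quotient.eq_zero_iff_mem.mpr hb'),
          add_zero]
      | smul a b hb' hb =>
        rw [smul_eq_mul, mul_pow, hb (Ideal.Quotient.eq_zero_iff_mem.mpr hb'), mul_zero]
    obtain ⟨v', ⟨hv'1, hv'2⟩, hv'u⟩ := step p π' hπ' v hx hK' (fun i => mk (z i))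
      (fun i => by rw [hπ'mk, hz])
    obtain ⟨w, ⟨hw1, hw2⟩, hwu⟩ := ih mk hmk hKm v' z (fun i => (hv'2 i).symm)
    refine ⟨w, ⟨?_, hw2⟩, ?_⟩
    · ext b
      have h1 := AlgHom.congr_fun hw1 b
      have h2 := AlgHom.congr_fun hv'1 b
      rw [AlgHom.comp_apply] at h1 h2 ⊢
      rw [← h2, ← h1, hπ'mk]
    · rintro w₂ ⟨hw₂1, hw₂2⟩
      apply hwu
      refine ⟨?_, hw₂2⟩
      apply hv'u
      refine ⟨?_, fun i => ?_⟩
      · ext b
        have h1 := AlgHom.congr_fun hw₂1 b
        rw [AlgHom.comp_apply] at h1 ⊢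
        rw [AlgHom.comp_apply, hπ'mk, h1]
      · rw [AlgHom.comp_apply, hw₂2]

end Lift

end Groth.Agent.Helper2.PBasis
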