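import Mathlib
import Groth.Agent.S4541
import Groth.Agent.Lib.Helper2.PBasisField3

/-! Field extensions of a perfect field are formally smooth. -/

namespace Groth.Agent.Helper2.Sep

open EGA41 Groth.Agent.Helper2.PBasis

universe u

/-- every extension of a field has a `p`-basis -/
theorem exists_isPBasis (p : ℕ) [Fact p.Prime] (k K : Type u) [Field k] [Field K] [Algebra k K]
    [CharP K p] : ∃ (κ : Type u) (X : κ → K), IsPBasis p k X := by
  have h0 : IsPIndependent p k (fun i : PEmpty.{u+1} => (PEmpty.elim i : K)) :=
    (isPIndependent_iff p _).mpr (pInd_of_isEmpty p _)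
  obtain ⟨κ, X, f, -, -, hX⟩ := exists_isPBasis_extension p _ h0
  exact ⟨κ, X, hX⟩

/-- a field of characteristic `p` is formally smooth over a perfect subfield -/
theorem formallySmooth_of_perfect (p : ℕ) [Fact p.Prime] (P K : Type u) [Field P] [Field K]
    [Algebra P K] [CharP P p] [PerfectRing P p] : Algebra.FormallySmooth P K := by
  haveI : CharP K p := charP_of_injective_algebraMap (algebraMap P K).injective p
  obtain ⟨κ, X, hX⟩ := exists_isPBasis p P K
  exact (Groth.Agent.S4541.result p X hX).1

/-- field extensions in characteristic zero are formally smooth -/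
theorem formallySmooth_of_charZero (F K : Type*) [Field F] [Field K] [Algebra F K] [CharZero F] :
    Algebra.FormallySmooth F K := by
  haveI : CharZero K := charZero_of_injective_algebraMap (algebraMap F K).injective
  obtain ⟨ι, v, hv⟩ := exists_isTranscendenceBasis' F K
  haveI := hv.isAlgebraic_field
  haveI : Algebra.IsSeparable (IntermediateField.adjoin F (Set.range v)) K :=
    Algebra.IsAlgebraic.isSeparable_of_perfectField
  exact .of_algebraicIndependent_of_isSeparable hv.1

end Groth.Agent.Helper2.Sep
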