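import Mathlib
import Groth.Agent.Lib.Helper2.PBasisField

namespace Groth.Agent.Helper2.PBasis

open Function

section Tower

variable {ι κ : Type*} {p : ℕ}

theorem mon_sumElim {E : Type*} [CommMonoid E] (u : ι → E) (v : κ → E) (e : ι →₀ ℕ) (f : κ →₀ ℕ) :
    mon (Sum.elim u v) (e.sumElim f) = mon u e * mon v f := by
  unfold mon
  rw [Finsupp.prod_sumElim]
  rfl

/-- the equivalence `Red (ι ⊕ κ) p ≃ Red ι p × Red κ p` -/
noncomputable def redSumEquiv : Red (ι ⊕ κ) p ≃ Red ι p × Red κ p where
  toFun g := (⟨g.1.comapDomain Sum.inl Sum.inl_injective.injOn, fun i => by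
      rw [Finsupp.comapDomain_apply]; exact g.2 _⟩,
    ⟨g.1.comapDomain Sum.inr Sum.inr_injective.injOn, fun i => by
      rw [Finsupp.comapDomain_apply]; exact g.2 _⟩)
  invFun q := ⟨q.1.1.sumElim q.2.1, fun i => by
    rcases i with i | i
    · exact q.1.2 i
    · exact q.2.2 i⟩
  left_inv g := Subtype.ext (Finsupp.comapDomain_sumElim_comapDomain g.1)
  right_inv q := by
    apply Prod.ext <;> apply Subtype.ext <;> simp

theorem mon_redSumEquiv_symm {E : Type*} [CommMonoid E] (u : ι → E) (v : κ → E)
    (q : Red ι p × Red κ p) :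
    mon (Sum.elim u v) (redSumEquiv.symm q).1 = mon u q.1.1 * mon v q.2.1 :=
  mon_sumElim u v q.1.1 q.2.1

variable {R S T : Type*} [CommRing R] [CommRing S] [CommRing T] [Algebra R S] [Algebra S T]
  [Algebra R T] [IsScalarTower R S T] {x : ι → S} {y : κ → T}

/-- transitivity of `p`-independence -/
theorem PInd.tower (hx : PInd R p x) (hy : PInd S p y) :
    PInd R p (Sum.elim (fun i => algebraMap S T (x i)) y) := by
  unfold PInd at hx hy ⊢
  have h := linearIndependent_smul hx hy
  have h2 := h.comp redSumEquiv redSumEquiv.injective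
  have hfun : (fun g : Red (ι ⊕ κ) p => mon (Sum.elim (fun i => algebraMap S T (x i)) y) g.1) =
      (fun q : Red ι p × Red κ p => mon x q.1.1 • mon y q.2.1) ∘ redSumEquiv := by
    funext g
    simp only [Function.comp_apply]
    have := mon_redSumEquiv_symm (fun i => algebraMap S T (x i)) y (redSumEquiv g)
    rw [Equiv.symm_apply_apply] at this
    rw [this, Algebra.smul_def, map_mon (algebraMap S T)]
  rw [hfun]
  exact h2

/-- transitivity of `p`-generation -/
theorem redSpan_tower (hx : redSpan R p x = ⊤) (hy : redSpan S p y = ⊤) :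
    redSpan R p (Sum.elim (fun i => algebraMap S T (x i)) y) = ⊤ := by
  have key : ∀ (s : S) (f : Red κ p),
      s • mon y f.1 ∈ redSpan R p (Sum.elim (fun i => algebraMap S T (x i)) y) := by
    intro s f
    have hs : s ∈ redSpan R p x := by rw [hx]; trivial
    unfold redSpan at hs
    induction hs using Submodule.span_induction with
    | mem s hs =>
      obtain ⟨e, rfl⟩ := hs
      refine Submodule.subset_span ⟨redSumEquiv.symm (e, f), ?_⟩
      change mon (Sum.elim (fun i => algebraMap S T (x i)) y) (redSumEquiv.symm (e, f)).1 = _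
      rw [mon_redSumEquiv_symm, Algebra.smul_def, map_mon (algebraMap S T)]
    | zero => rw [zero_smul]; exact Submodule.zero_mem _
    | add a b _ _ ha hb => rw [add_smul]; exact Submodule.add_mem _ ha hb
    | smul r a _ ha => rw [smul_assoc]; exact Submodule.smul_mem _ _ ha
  rw [eq_top_iff]
  intro t _
  have ht : t ∈ redSpan S p y := by rw [hy]; trivial
  unfold redSpan at ht
  rw [Finsupp.mem_span_range_iff_exists_finsupp] at ht
  obtain ⟨c, rfl⟩ := ht
  exact Submodule.sum_mem _ fun f _ => key (c f) f

/-- converse of `linearIndependent_smul` when `b` is a basis -/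
theorem linearIndependent_of_smul_basis {R S T : Type*} [CommRing R] [CommRing S] [AddCommGroup T]
    [Algebra R S] [Module S T] [Module R T] [IsScalarTower R S T] {ι' κ' : Type*}
    (b : Module.Basis ι' R S) {c : κ' → T}
    (h : LinearIndependent R fun q : ι' × κ' => b q.1 • c q.2) : LinearIndependent S c := by
  classical
  rw [linearIndependent_iff]
  intro l hl
  let L : ι' × κ' →₀ R := l.sum fun f s => (b.repr s).mapDomain fun e => (e, f)
  have hL : Finsupp.linearCombination R (fun q : ι' × κ' => b q.1 • c q.2) L = 0 := by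
    rw [← hl, Finsupp.linearCombination_apply S l]
    simp only [L, Finsupp.sum, map_sum]
    refine Finset.sum_congr rfl fun f _ => ?_
    rw [Finsupp.linearCombination_mapDomain, Finsupp.linearCombination_apply]
    simp only [Function.comp_apply]
    conv_rhs => rw [← b.linearCombination_repr (l f), Finsupp.linearCombination_apply]
    rw [Finsupp.sum, Finsupp.sum, Finset.sum_smul]
    refine Finset.sum_congr rfl fun e _ => ?_
    rw [smul_assoc]
  have hL0 := (linearIndependent_iff.mp h) L hL
  ext f
  apply b.repr.injective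
  ext e
  have h1 := DFunLike.congr_fun hL0 (e, f)
  simp only [L, Finsupp.sum, Finsupp.coe_finsetSum, Finset.sum_apply, Finsupp.coe_zero,
    Pi.zero_apply] at h1
  rw [Finset.sum_eq_single f] at h1
  · rw [Finsupp.mapDomain_apply (fun e e' hee' => (Prod.mk.inj hee').1)] at h1
    simpa using h1
  · intro f' _ hf'
    apply Finsupp.mapDomain_of_notMem_range
    rintro ⟨e', he'⟩
    exact hf' (Prod.mk.inj he').2
  · intro hf
    rw [Finsupp.notMem_support_iff.mp hf]
    simp

theorem PInd.of_tower (hx : IsRedBasis R p x)
    (h : PInd R p (Sum.elim (fun i => algebraMap S T (x i)) y)) : PInd S p y := by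
  unfold PInd at h ⊢
  apply linearIndependent_of_smul_basis hx.basis
  have h2 := h.comp redSumEquiv.symm redSumEquiv.symm.injective
  have hfun : (fun q : Red ι p × Red κ p => hx.basis q.1 • mon y q.2.1) =
      (fun g : Red (ι ⊕ κ) p => mon (Sum.elim (fun i => algebraMap S T (x i)) y) g.1) ∘
        redSumEquiv.symm := by
    funext q
    simp only [Function.comp_apply]
    rw [mon_redSumEquiv_symm, hx.basis_apply, Algebra.smul_def, map_mon (algebraMap S T)]
  rw [hfun]
  exact h2

end Tower

end Groth.Agent.Helper2.PBasis
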