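import Mathlib
import Groth.Prelude.Def_EGA41
import Groth.Agent.Lib.Helper2.PBasis4
import Groth.Agent.Lib.Helper2.PBasisTower

universe u

namespace Groth.Agent.Helper2.PBasis

open EGA41 Function

section Transfer

theorem linearIndependent_transfer {R R' M : Type*} [CommRing R] [CommRing R'] [AddCommGroup M]
    [Module R M] [Module R' M] (i : R → R') (hs : Surjective i) (h0 : ∀ r, i r = 0 → r = 0)
    (hc : ∀ (r : R) (m : M), r • m = i r • m) {ι : Type*} (v : ι → M) :
    LinearIndependent R v ↔ LinearIndependent R' v := by
  constructor
  · intro h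
    exact h.map_of_surjective_injective i (AddMonoidHom.id M) hs (fun m hm => hm) hc
  · intro h
    exact h.map_of_injective_injective i (AddMonoidHom.id M) h0 (fun m hm => hm)
      (fun r m => (hc r m).symm)

theorem redSpan_eq_top_iff_of_surjective {R' P M : Type*} [CommRing R'] [CommRing P] [CommRing M]
    [Algebra R' P] [Algebra P M] [Algebra R' M] [IsScalarTower R' P M]
    (hs : Surjective (algebraMap R' P)) {ι : Type*} (p : ℕ) (x : ι → M) :
    redSpan P p x = ⊤ ↔ redSpan R' p x = ⊤ := by
  have := Submodule.restrictScalars_span R' P hs (Set.range fun e : Red ι p => mon x e.1)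
  unfold redSpan
  rw [← this]
  constructor
  · intro h; rw [h]; rfl
  · intro h
    rw [eq_top_iff]
    intro m _
    have : m ∈ (Submodule.span P (Set.range fun e : Red ι p => mon x e.1)).restrictScalars R' := by
      rw [h]; trivial
    exact this

end Transfer

end Groth.Agent.Helper2.PBasis
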