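import Mathlib
import Groth.Agent.Lib.Helper2.PBasisTower2

/-! Frobenius transport of `p`-independence / `p`-generation, and a kernel-basis lemma. -/

namespace Groth.Agent.Helper2.PBasis

open Function

section Frob

variable {ι : Type*} {p : ℕ}

theorem mon_pow {E : Type*} [CommMonoid E] (x : ι → E) (n : ℕ) (e : ι →₀ ℕ) :
    mon x e ^ n = mon (fun i => x i ^ n) e :=
  map_mon (powMonoidHom n) x e

/-- Frobenius transport of `p`-independence -/
theorem PInd.frob [Fact p.Prime] {C₁ B C₂ T : Type*} [CommRing C₁] [CommRing B] [Algebra C₁ B]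
    [CharP B p] [IsReduced B] [CommRing C₂] [CommRing T] [Algebra C₂ T] (g : T →+* B)
    (hg : Injective g) (hC₂ : Injective (algebraMap C₂ T))
    (hC : ∀ c₂ : C₂, ∃ c₁ : C₁, g (algebraMap C₂ T c₂) = (algebraMap C₁ B c₁) ^ p)
    {x : ι → B} {x' : ι → T} (hx' : ∀ i, g (x' i) = x i ^ p)
    (hx : PInd C₁ p x) : PInd C₂ p x' := by
  have hp : p.Prime := Fact.out
  unfold PInd at hx ⊢
  rw [linearIndependent_iff'] at hx ⊢
  intro s r hr e he
  choose c hc using hC
  have hmon : ∀ e : ι →₀ ℕ, g (mon x' e) = mon x e ^ p := by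
    intro e
    rw [map_mon, mon_pow]
    congr 1
    funext i
    exact hx' i
  have h1 : (∑ e ∈ s, c (r e) • mon x e.1) ^ p = 0 := by
    rw [sum_pow_char]
    have h2 := congrArg g hr
    rw [map_sum, map_zero] at h2
    rw [← h2]
    refine Finset.sum_congr rfl fun e _ => ?_
    rw [Algebra.smul_def, mul_pow, ← hc, Algebra.smul_def, map_mul, hmon]
  have h3 : ∑ e ∈ s, c (r e) • mon x e.1 = 0 := pow_eq_zero_iff hp.ne_zero |>.mp h1
  have h4 := hx s (fun e => c (r e)) h3 e he
  apply hC₂
  apply hg
  rw [map_zero, map_zero, hc, h4, map_zero, zero_pow hp.ne_zero]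

/-- Frobenius transport of `p`-generation -/
theorem redSpan_frob [Fact p.Prime] {C₁ B C₂ T : Type*} [CommRing C₁] [CommRing B] [Algebra C₁ B]
    [CharP B p] [CommRing C₂] [CommRing T] [Algebra C₂ T] (g : T →+* B)
    (hg : Injective g) (hT : ∀ t : T, ∃ b : B, g t = b ^ p)
    (hC : ∀ c₁ : C₁, ∃ c₂ : C₂, g (algebraMap C₂ T c₂) = (algebraMap C₁ B c₁) ^ p)
    {x : ι → B} {x' : ι → T} (hx' : ∀ i, g (x' i) = x i ^ p)
    (hx : redSpan C₁ p x = ⊤) : redSpan C₂ p x' = ⊤ := by
  have hmon : ∀ e : ι →₀ ℕ, g (mon x' e) = mon x e ^ p := by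
    intro e
    rw [map_mon, mon_pow]
    congr 1
    funext i
    exact hx' i
  rw [eq_top_iff]
  intro t _
  obtain ⟨b, hb⟩ := hT t
  have hb' : b ∈ redSpan C₁ p x := hx ▸ Submodule.mem_top
  unfold redSpan at hb'
  rw [Finsupp.mem_span_range_iff_exists_finsupp] at hb'
  obtain ⟨c, rfl⟩ := hb'
  choose c₂ hc₂ using hC
  have ht : t = ∑ e ∈ c.support, c₂ (c e) • mon x' e.1 := by
    apply hg
    rw [hb, Finsupp.sum, sum_pow_char, map_sum]
    refine Finset.sum_congr rfl fun e _ => ?_
    rw [Algebra.smul_def, Algebra.smul_def, map_mul, mul_pow, hc₂, hmon]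
  rw [ht]
  exact Submodule.sum_mem _ fun e _ =>
    Submodule.smul_mem _ _ (Submodule.subset_span ⟨e, rfl⟩)

end Frob

section KerBasis

/-- If a basis splits as `α ⊕ β`, a linear map kills the `α`-part and is injective on the span of
the `β`-part, then the `α`-part is a basis of the kernel. -/
theorem exists_basis_ker_of_sum {S N N' α β : Type*} [CommRing S] [AddCommGroup N] [Module S N]
    [AddCommGroup N'] [Module S N'] (b : Module.Basis (α ⊕ β) S N) (φ : N →ₗ[S] N')
    (h0 : ∀ a, φ (b (Sum.inl a)) = 0)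
    (hli : LinearIndependent S fun j => φ (b (Sum.inr j))) :
    ∃ c : Module.Basis α S (LinearMap.ker φ), ∀ a, (c a : N) = b (Sum.inl a) := by
  classical
  have hl : LinearIndependent S fun a => b (Sum.inl a) :=
    b.linearIndependent.comp Sum.inl Sum.inl_injective
  have hk : Submodule.span S (Set.range fun a => b (Sum.inl a)) = LinearMap.ker φ := by
    apply le_antisymm
    · rw [Submodule.span_le]
      rintro _ ⟨a, rfl⟩
      exact h0 a
    · intro z hz
      set f := b.repr z with hf
      have hz' : z = ∑ i ∈ f.support, f i • b i := by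
        conv_lhs => rw [← b.linearCombination_repr z]
        rw [Finsupp.linearCombination_apply, Finsupp.sum]
      have hsplit : ∀ (g : α ⊕ β → N), ∑ i ∈ f.support, g i =
          ∑ a ∈ f.support.toLeft, g (Sum.inl a) + ∑ j ∈ f.support.toRight, g (Sum.inr j) := by
        intro g
        conv_lhs => rw [← Finset.toLeft_disjSum_toRight (u := f.support)]
        rw [Finset.sum_disjSum]
      have hsplit' : ∀ (g : α ⊕ β → N'), ∑ i ∈ f.support, g i =
          ∑ a ∈ f.support.toLeft, g (Sum.inl a) + ∑ j ∈ f.support.toRight, g (Sum.inr j) := by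
        intro g
        conv_lhs => rw [← Finset.toLeft_disjSum_toRight (u := f.support)]
        rw [Finset.sum_disjSum]
      have h1 : ∑ j ∈ f.support.toRight, f (Sum.inr j) • φ (b (Sum.inr j)) = 0 := by
        have h2 : φ z = 0 := hz
        rw [hz', map_sum, hsplit'] at h2
        simp only [map_smul, h0, smul_zero, Finset.sum_const_zero, zero_add] at h2
        exact h2
      rw [linearIndependent_iff'] at hli
      have h3 := hli _ (fun j => f (Sum.inr j)) h1
      rw [hz', hsplit]
      have h4 : ∑ j ∈ f.support.toRight, f (Sum.inr j) • b (Sum.inr j) = 0 :=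
        Finset.sum_eq_zero fun j hj => by rw [h3 j hj, zero_smul]
      rw [h4, add_zero]
      exact Submodule.sum_mem _ fun a _ =>
        Submodule.smul_mem _ _ (Submodule.subset_span ⟨a, rfl⟩)
  refine ⟨(Module.Basis.span hl).map (LinearEquiv.ofEq _ _ hk), fun a => ?_⟩
  rw [Module.Basis.map_apply, LinearEquiv.coe_ofEq_apply, Module.Basis.span_apply]

end KerBasis

end Groth.Agent.Helper2.PBasis
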