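import Mathlib
import Groth.Agent.Lib.Helper2.PBasisFrob

/-! Absolute differentials (`Ω[B⁄ℤ]`) of a ring with a reduced-monomial basis over a ring of
`p`-th powers. -/

namespace Groth.Agent.Helper2.PBasis

open Function

variable {ι : Type*} {p : ℕ} {C B : Type*} [CommRing C] [CommRing B] [Algebra C B] {x : ι → B}

theorem D_int_pow_eq_zero [Fact p.Prime] [CharP B p] (b : B) :
    KaehlerDifferential.D ℤ B (b ^ p) = 0 := by
  rw [Derivation.leibniz_pow]
  have : ((p : ℕ) • (b ^ (p - 1) • KaehlerDifferential.D ℤ B b) : Ω[B⁄ℤ]) =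
      ((p : B)) • (b ^ (p - 1) • KaehlerDifferential.D ℤ B b) := by
    rw [Nat.cast_smul_eq_nsmul]
  rw [this, CharP.cast_eq_zero, zero_smul]

theorem IsRedBasis.exists_partial_int [Fact p.Prime] [CharP B p] [DecidableEq ι]
    (h : IsRedBasis C p x) (c : ι → C) (hc : ∀ i, x i ^ p = algebraMap C B (c i)) (β : ι) :
    ∃ D : Derivation ℤ B B, ∀ i, D (x i) = if i = β then 1 else 0 := by
  have hp : p.Prime := Fact.out
  obtain ⟨D, ⟨_, hD2⟩, -⟩ := h.existsUnique_derivation hp c hc (L := B)
    (0 : Derivation ℤ C B) (fun i => rfl) (fun i => if i = β then 1 else 0)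
  exact ⟨D, hD2⟩

theorem IsRedBasis.linearIndependent_D_int [Fact p.Prime] [CharP B p]
    (h : IsRedBasis C p x) (c : ι → C) (hc : ∀ i, x i ^ p = algebraMap C B (c i)) :
    LinearIndependent B (fun i => KaehlerDifferential.D ℤ B (x i)) := by
  classical
  rw [linearIndependent_iff']
  intro s g hg β hβ
  obtain ⟨D, hD⟩ := h.exists_partial_int c hc β
  have := congrArg D.liftKaehlerDifferential hg
  rw [map_sum, map_zero] at this
  simp only [map_smul, Derivation.liftKaehlerDifferential_comp_D, hD, smul_eq_mul, mul_ite,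
    mul_one, mul_zero, Finset.sum_ite_eq', hβ, if_true] at this
  exact this

theorem span_D_int_eq_top (hx : redSpan C p x = ⊤)
    (hC : ∀ a : C, KaehlerDifferential.D ℤ B (algebraMap C B a) = 0) :
    Submodule.span B (Set.range fun i => KaehlerDifferential.D ℤ B (x i)) = ⊤ := by
  rw [eq_top_iff, ← KaehlerDifferential.span_range_derivation, Submodule.span_le]
  rintro _ ⟨b, rfl⟩
  have hb : b ∈ redSpan C p x := hx ▸ Submodule.mem_top
  unfold redSpan at hb
  induction hb using Submodule.span_induction with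
  | mem b hb =>
    obtain ⟨e, rfl⟩ := hb
    exact derivation_mon_mem (KaehlerDifferential.D ℤ B) x e.1
  | zero => simp
  | add a b _ _ ha hb => rw [map_add]; exact Submodule.add_mem _ ha hb
  | smul a b _ hb =>
    rw [Algebra.smul_def, Derivation.leibniz]
    refine Submodule.add_mem _ (Submodule.smul_mem _ _ hb) ?_
    rw [hC, smul_zero]
    exact Submodule.zero_mem _

/-- the differentials of an absolute `p`-basis form a basis of `Ω[B⁄ℤ]` -/
theorem IsRedBasis.exists_basis_D_int [Fact p.Prime] [CharP B p]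
    (h : IsRedBasis C p x) (c : ι → C) (hc : ∀ i, x i ^ p = algebraMap C B (c i))
    (hC : ∀ a : C, ∃ b : B, algebraMap C B a = b ^ p) :
    ∃ b : Module.Basis ι B (Ω[B⁄ℤ]), ∀ i, b i = KaehlerDifferential.D ℤ B (x i) := by
  have hspan := span_D_int_eq_top (x := x) (show redSpan C p x = ⊤ from h.span) (fun a => by
    obtain ⟨b, hb⟩ := hC a
    rw [hb]
    exact D_int_pow_eq_zero b)
  refine ⟨Module.Basis.mk (h.linearIndependent_D_int c hc) hspan.ge, fun i => ?_⟩
  simp

end Groth.Agent.Helper2.PBasis
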