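import Mathlib
import Groth.Agent.Lib.Helper2.PBasisInt

/-! Absolute differentials versus differentials over a perfect subring. -/

namespace Groth.Agent.Helper2.Sep

open Groth.Agent.Helper2.PBasis KaehlerDifferential

variable (p : ℕ) [Fact p.Prime] (P : Type*) [CommRing P] [CharP P p] [PerfectRing P p]

/-- the universal `ℤ`-derivation is `P`-linear when `P` is perfect -/
noncomputable def derivationOfPerfect (B : Type*) [CommRing B] [Algebra P B] [CharP B p] :
    Derivation P B (Ω[B⁄ℤ]) :=
  Derivation.mk'
    { toFun := fun b => D ℤ B b
      map_add' := by intro a b; simp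
      map_smul' := by
        intro a b
        simp only [RingHom.id_apply]
        obtain ⟨a', rfl⟩ := surjective_frobenius P p a
        rw [Algebra.smul_def, Derivation.leibniz, frobenius_def, map_pow, D_int_pow_eq_zero,
          smul_zero, add_zero, ← map_pow, algebraMap_smul] }
    (by intro a b; exact Derivation.leibniz _ a b)

theorem derivationOfPerfect_apply (B : Type*) [CommRing B] [Algebra P B] [CharP B p] (b : B) :
    derivationOfPerfect p P B b = D ℤ B b := rfl

theorem bijective_map_int (B : Type*) [CommRing B] [Algebra P B] [CharP B p] :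
    Function.Bijective (KaehlerDifferential.map ℤ P B B) := by
  refine ⟨?_, KaehlerDifferential.map_surjective ℤ P B⟩
  have h : (derivationOfPerfect p P B).liftKaehlerDifferential.comp
      (KaehlerDifferential.map ℤ P B B) = LinearMap.id := by
    apply Derivation.liftKaehlerDifferential_unique
    ext b
    simp [derivationOfPerfect_apply]
  exact Function.LeftInverse.injective (g := (derivationOfPerfect p P B).liftKaehlerDifferential)
    (fun x => LinearMap.congr_fun h x)

section Square

open TensorProduct

variable (k K : Type*) [Field k] [Field K] [Algebra P k] [Algebra P K] [Algebra k K]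
  [IsScalarTower P k K] [CharP k p] [CharP K p]

theorem map_map_int (ω : Ω[k⁄ℤ]) :
    KaehlerDifferential.map ℤ P K K (KaehlerDifferential.map ℤ ℤ k K ω) =
      KaehlerDifferential.map P P k K (KaehlerDifferential.map ℤ P k k ω) := by
  have hω : ω ∈ Submodule.span k (Set.range (D ℤ k)) := by
    rw [KaehlerDifferential.span_range_derivation]; trivial
  induction hω using Submodule.span_induction with
  | mem ω h =>
    obtain ⟨a, rfl⟩ := h
    simp only [KaehlerDifferential.map_D, Algebra.algebraMap_self, RingHom.id_apply]
  | zero => simp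
  | add a b _ _ ha hb => simp only [map_add, ha, hb]
  | smul r a _ ha =>
    rw [(KaehlerDifferential.map ℤ ℤ k K).map_smul, (KaehlerDifferential.map ℤ P k k).map_smul,
      (KaehlerDifferential.map P P k K).map_smul, LinearMap.map_smul_of_tower, ha]

include p in
theorem injective_mapBaseChange_int_iff :
    Function.Injective (mapBaseChange ℤ k K) ↔ Function.Injective (mapBaseChange P k K) := by
  let αk : Ω[k⁄ℤ] ≃ₗ[k] Ω[k⁄P] :=
    LinearEquiv.ofBijective (KaehlerDifferential.map ℤ P k k) (bijective_map_int p P k)
  let αK : Ω[K⁄ℤ] ≃ₗ[K] Ω[K⁄P] :=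
    LinearEquiv.ofBijective (KaehlerDifferential.map ℤ P K K) (bijective_map_int p P K)
  let β : K ⊗[k] Ω[k⁄ℤ] ≃ₗ[K] K ⊗[k] Ω[k⁄P] := LinearEquiv.baseChange k K _ _ αk
  have hsq : ∀ z, αK (mapBaseChange ℤ k K z) = mapBaseChange P k K (β z) := by
    intro z
    induction z using TensorProduct.induction_on with
    | zero => simp
    | add a b ha hb => simp only [map_add, ha, hb]
    | tmul c ω =>
      have h1 : β (c ⊗ₜ[k] ω) = c ⊗ₜ[k] (KaehlerDifferential.map ℤ P k k ω) := by
        simp [β, αk, LinearEquiv.baseChange]
      rw [h1, mapBaseChange_tmul, mapBaseChange_tmul, map_smul]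
      change c • KaehlerDifferential.map ℤ P K K _ = _
      rw [map_map_int]
  constructor
  · intro h x y hxy
    have h2 : mapBaseChange ℤ k K (β.symm x) = mapBaseChange ℤ k K (β.symm y) := by
      apply αK.injective
      rw [hsq, hsq, LinearEquiv.apply_symm_apply, LinearEquiv.apply_symm_apply, hxy]
    exact β.symm.injective (h h2)
  · intro h x y hxy
    have h2 : mapBaseChange P k K (β x) = mapBaseChange P k K (β y) := by
      rw [← hsq, ← hsq, hxy]
    exact β.injective (h h2)

end Square

end Groth.Agent.Helper2.Sep
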