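import Mathlib

/-! MacLane's condition: `k`-linearly independent families of `K` have `k`-linearly independent
`p`-th powers. -/

namespace Groth.Agent.Helper2.Sep

open TensorProduct

/-- MacLane's condition (linear disjointness of `K` and `k^{1/p}` over `k`) -/
def MacLane (k K : Type*) [Field k] [Field K] [Algebra k K] (p : ℕ) : Prop :=
  ∀ (n : ℕ) (s : Fin n → K), LinearIndependent k s → LinearIndependent k (fun j => s j ^ p)

theorem add_pow_prime_of_cast_eq_zero' {T : Type*} [CommRing T] {p : ℕ} (hp : p.Prime)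
    (hpT : (p : T) = 0) (a b : T) : (a + b) ^ p = a ^ p + b ^ p := by
  obtain ⟨q, hq⟩ := exists_add_pow_prime_eq hp a b
  rw [hq, hpT]; ring

theorem sum_pow_prime_of_cast_eq_zero {T : Type*} [CommRing T] {p : ℕ} (hp : p.Prime)
    (hpT : (p : T) = 0) {ι : Type*} (s : Finset ι) (f : ι → T) :
    (∑ i ∈ s, f i) ^ p = ∑ i ∈ s, f i ^ p := by
  classical
  induction s using Finset.induction_on with
  | empty => simp [hp.ne_zero]
  | insert a s ha ih =>
    rw [Finset.sum_insert ha, Finset.sum_insert ha, add_pow_prime_of_cast_eq_zero' hp hpT, ih]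

/-- geometrically reduced extensions satisfy MacLane's condition -/
theorem macLane_of_isGeometricallyReduced {k K : Type*} [Field k] [Field K] [Algebra k K]
    (p : ℕ) [Fact p.Prime] [CharP k p] [Algebra.IsGeometricallyReduced k K] : MacLane k K p := by
  have hp : p.Prime := Fact.out
  intro n s hs
  rw [Fintype.linearIndependent_iff]
  intro c hc j
  let k' := AlgebraicClosure k
  have hd : ∀ j, ∃ d : k', d ^ p = algebraMap k k' (c j) :=
    fun j => IsAlgClosed.exists_pow_nat_eq _ hp.pos
  choose d hd using hd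
  let z : k' ⊗[k] K := ∑ j, d j ⊗ₜ[k] s j
  have hpT : ((p : ℕ) : k' ⊗[k] K) = 0 := by
    have : ((p : ℕ) : k' ⊗[k] K) = algebraMap k (k' ⊗[k] K) ((p : ℕ) : k) :=
      (map_natCast (algebraMap k (k' ⊗[k] K)) p).symm
    rw [this, CharP.cast_eq_zero, map_zero]
  have hz : z ^ p = 0 := by
    rw [sum_pow_prime_of_cast_eq_zero hp hpT]
    have h1 : ∀ j, (d j ⊗ₜ[k] s j) ^ p = (1 : k') ⊗ₜ[k] (c j • s j ^ p) := by
      intro j
      rw [Algebra.TensorProduct.tmul_pow, hd, Algebra.algebraMap_eq_smul_one,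
        TensorProduct.smul_tmul]
    simp_rw [h1]
    rw [← TensorProduct.tmul_sum, hc, TensorProduct.tmul_zero]
  have hz0 : z = 0 := by
    haveI : IsReduced (k' ⊗[k] K) := inferInstance
    exact (pow_eq_zero_iff hp.ne_zero).mp hz
  have hli : LinearIndependent k' (fun j => (1 : k') ⊗ₜ[k] s j) :=
    Module.Flat.linearIndependent_one_tmul hs
  rw [Fintype.linearIndependent_iff] at hli
  have h2 : ∑ j, d j • ((1 : k') ⊗ₜ[k] s j) = 0 := by
    rw [← hz0]
    refine Finset.sum_congr rfl fun j _ => ?_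
    rw [TensorProduct.smul_tmul', smul_eq_mul, mul_one]
  have h3 := hli d h2 j
  have h4 := hd j
  rw [h3, zero_pow hp.ne_zero] at h4
  exact (algebraMap k k').injective (by rw [← h4, map_zero])

end Groth.Agent.Helper2.Sep
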