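import Mathlib
import Groth.Agent.Lib.Helper2.SepMacLane
import Groth.Agent.Lib.Helper2.PBasis7
import Groth.Agent.Lib.Helper2.PBasisField3

/-! MacLane's condition versus `p`-independence in `K` of a `p`-basis of `k`. -/

namespace Groth.Agent.Helper2.Sep

open EGA41 Groth.Agent.Helper2.PBasis

universe u

variable (p : ℕ) [hp : Fact p.Prime] {P k K : Type u} [Field P] [CharP P p] [PerfectRing P p]
  [Field k] [Field K] [Algebra P k] [Algebra P K] [Algebra k K] [IsScalarTower P k K]

theorem pMonomial_map {ι : Type u} (x : ι → k) (e : ι →₀ ℕ) :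
    pMonomial (fun i => algebraMap k K (x i)) e = algebraMap k K (pMonomial x e) := by
  unfold pMonomial
  rw [map_finsuppProd]
  simp only [map_pow]

include hp in
/-- MacLane's condition implies that a `p`-basis of `k` stays `p`-independent in `K` -/
theorem isPIndependent_map_of_macLane [CharP k p] [CharP K p] (hM : MacLane k K p) {ι : Type u}
    {x : ι → k} (hx : IsPBasis p P x) : IsPIndependent p P (fun i => algebraMap k K (x i)) := by
  classical
  have hp' : p.Prime := hp.out
  unfold IsPIndependent
  rw [linearIndependent_iff']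
  intro S g hg e₀ he₀
  have ha : ∀ e, ∃ a : K, a ^ p = (g e : K) := fun e =>
    exists_pow_eq_of_mem_pPowerSubalgebra p (g e).2
  choose a ha using ha
  -- a finite `k`-basis of the span of the `a e`
  let V : Submodule k K := Submodule.span k (a '' (S : Set _))
  haveI : Module.Finite k V := Module.Finite.span_of_finite k (Set.Finite.image a S.finite_toSet)
  let b := Module.finBasis k V
  let n := Module.finrank k V
  let s : Fin n → K := fun j => (b j : K)
  have hs : LinearIndependent k s :=
    b.linearIndependent.map' V.subtype (Submodule.ker_subtype V)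
  have hspan : ∀ e ∈ S, ∃ c : Fin n → k, a e = ∑ j, c j • s j := by
    intro e he
    have hmem : a e ∈ V := Submodule.subset_span ⟨e, he, rfl⟩
    refine ⟨fun j => b.repr ⟨a e, hmem⟩ j, ?_⟩
    have := b.sum_repr ⟨a e, hmem⟩
    have h2 := congrArg V.subtype this
    rw [map_sum] at h2
    simpa using h2.symm
  have hc : ∀ e, ∃ c : Fin n → k, e ∈ S → a e = ∑ j, c j • s j := by
    intro e
    by_cases he : e ∈ S
    · obtain ⟨c, hc⟩ := hspan e he
      exact ⟨c, fun _ => hc⟩
    · exact ⟨0, fun h => (he h).elim⟩
  choose c hc using hc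
  -- rewrite the relation
  have hsum : ∑ j, (∑ e ∈ S, c e j ^ p * pMonomial x e.1) • s j ^ p = 0 := by
    rw [← hg]
    simp_rw [Finset.sum_smul]
    rw [Finset.sum_comm]
    refine Finset.sum_congr rfl fun e he => ?_
    rw [Subalgebra.smul_def, smul_eq_mul, ← ha e, hc e he, sum_pow_char, Finset.sum_mul]
    refine Finset.sum_congr rfl fun j _ => ?_
    rw [pMonomial_map, Algebra.smul_def, Algebra.smul_def, mul_pow, map_mul, map_pow]
    ring
  have hM' := hM n s hs
  rw [Fintype.linearIndependent_iff] at hM'
  have h1 := hM' _ hsum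
  -- use the `p`-basis of `k`
  have hx1 := hx.1
  unfold IsPIndependent at hx1
  rw [linearIndependent_iff'] at hx1
  have h2 : ∀ j, ∀ e ∈ S, c e j = 0 := by
    intro j e he
    have h3 := hx1 S (fun e => ⟨c e j ^ p, pow_mem_pPowerSubalgebra p (c e j)⟩) (by
      rw [← h1 j]
      refine Finset.sum_congr rfl fun e _ => ?_
      rw [Subalgebra.smul_def, smul_eq_mul]) e he
    have h4 : c e j ^ p = 0 := congrArg Subtype.val h3
    exact (pow_eq_zero_iff hp'.ne_zero).mp h4
  apply Subtype.ext
  rw [← ha e₀, hc e₀ he₀]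
  simp [h2 _ e₀ he₀, hp'.ne_zero]

include hp in
/-- if a `p`-basis of `k` stays `p`-independent in `K`, MacLane's condition holds -/
theorem macLane_of_isPIndependent_map [CharP k p] [CharP K p] {ι : Type u}
    {x : ι → k} (hx : IsPBasis p P x)
    (hK : IsPIndependent p P (fun i => algebraMap k K (x i))) : MacLane k K p := by
  classical
  have hp' : p.Prime := hp.out
  intro n s hs
  rw [Fintype.linearIndependent_iff]
  intro c hc j₀
  let B := (isRedBasis_of_isPBasis p hx).basis
  have hB : ∀ e, B e = pMonomial x e.1 := fun e => IsRedBasis.basis_apply _ e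
  let S : Finset (Red ι p) := Finset.univ.biUnion fun j => (B.repr (c j)).support
  have hcj : ∀ j, c j = ∑ e ∈ S, (B.repr (c j) e) • pMonomial x e.1 := by
    intro j
    conv_lhs => rw [← B.linearCombination_repr (c j)]
    rw [Finsupp.linearCombination_apply]
    rw [Finsupp.sum_of_support_subset (s := S)]
    · refine Finset.sum_congr rfl fun e _ => ?_
      rw [hB]
    · intro e he
      exact Finset.mem_biUnion.mpr ⟨j, Finset.mem_univ _, he⟩
    · intro e _
      exact zero_smul _ _
  have hδ : ∀ j e, ∃ d : k, d ^ p = (B.repr (c j) e : k) := fun j e =>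
    exists_pow_eq_of_mem_pPowerSubalgebra p (B.repr (c j) e).2
  choose δ hδ using hδ
  -- the relation in `K`
  have hsum : ∑ e ∈ S, (⟨(∑ j, δ j e • s j) ^ p, pow_mem_pPowerSubalgebra p _⟩ :
      pPowerSubalgebra p P K) • pMonomial (fun i => algebraMap k K (x i)) e.1 = 0 := by
    rw [← hc]
    have h1 : ∀ j, c j • s j ^ p =
        ∑ e ∈ S, algebraMap k K (δ j e ^ p * pMonomial x e.1) * s j ^ p := by
      intro j
      conv_lhs => rw [hcj j]
      rw [Finset.sum_smul]
      refine Finset.sum_congr rfl fun e _ => ?_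
      rw [Subalgebra.smul_def, smul_eq_mul, ← hδ, Algebra.smul_def]
    simp_rw [h1]
    rw [Finset.sum_comm]
    refine Finset.sum_congr rfl fun e _ => ?_
    rw [Subalgebra.smul_def, smul_eq_mul]
    change (∑ j, δ j e • s j) ^ p * _ = _
    rw [sum_pow_char, Finset.sum_mul]
    refine Finset.sum_congr rfl fun j _ => ?_
    rw [pMonomial_map, Algebra.smul_def, mul_pow, map_mul, map_pow]
    ring
  unfold IsPIndependent at hK
  rw [linearIndependent_iff'] at hK
  have h2 : ∀ e ∈ S, ∀ j, δ j e = 0 := by
    intro e he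
    have h3 := hK S _ hsum e he
    have h4 : (∑ j, δ j e • s j) ^ p = 0 := congrArg Subtype.val h3
    have h5 : ∑ j, δ j e • s j = 0 := (pow_eq_zero_iff hp'.ne_zero).mp h4
    rw [Fintype.linearIndependent_iff] at hs
    exact hs _ h5
  rw [hcj j₀]
  refine Finset.sum_eq_zero fun e he => ?_
  have h6 : B.repr (c j₀) e = 0 := by
    apply Subtype.ext
    rw [← hδ, h2 e he j₀, zero_pow hp'.ne_zero]
    rfl
  rw [h6, zero_smul]

end Groth.Agent.Helper2.Sep
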