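import Mathlib
import Groth.Agent.Lib.Helper2.SepMacLane

/-! Separably generated field extensions are geometrically reduced; MacLane's criterion. -/

namespace Groth.Agent.Helper2.Sep

open TensorProduct

section Domain

open scoped IntermediateField.algebraAdjoinAdjoin

variable {k K : Type*} [Field k] [Field K] [Algebra k K] {ι : Type*} {v : ι → K}

set_option synthInstance.maxHeartbeats 400000 in
set_option maxHeartbeats 1000000 in
/-- the base change of a purely transcendental extension to a field is a domain -/
theorem isDomain_adjoin_tensor (hv : AlgebraicIndependent k v) (k' : Type*) [Field k']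
    [Algebra k k'] : IsDomain ((IntermediateField.adjoin k (Set.range v)) ⊗[k] k') := by
  let A₀ := Algebra.adjoin k (Set.range v)
  let F := IntermediateField.adjoin k (Set.range v)
  have e1 : A₀ ⊗[k] k' ≃ₐ[k] MvPolynomial ι k' :=
    (Algebra.TensorProduct.congr hv.aevalEquiv.symm (AlgEquiv.refl : k' ≃ₐ[k] k')).trans
      ((Algebra.TensorProduct.comm k (MvPolynomial ι k) k').trans
        ((MvPolynomial.algebraTensorAlgEquiv k k').restrictScalars k))
  haveI : IsDomain (A₀ ⊗[k] k') := e1.toMulEquiv.isDomain
  let φ : A₀ ⊗[k] k' →ₐ[k] F ⊗[k] k' :=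
    Algebra.TensorProduct.map (IsScalarTower.toAlgHom k A₀ F) (AlgHom.id k k')
  letI := (Algebra.TensorProduct.map (IsScalarTower.toAlgHom k A₀ F) (AlgHom.id k k')).toAlgebra
  have halg : ∀ z, algebraMap (A₀ ⊗[k] k') (F ⊗[k] k') z = φ z := fun z => rfl
  haveI : IsScalarTower A₀ (A₀ ⊗[k] k') (F ⊗[k] k') :=
    IsScalarTower.of_algebraMap_eq' (R := ↥A₀) (S := ↥A₀ ⊗[k] k') (A := ↥F ⊗[k] k') (by
      ext a
      rw [RingHom.comp_apply, halg]
      have h1 : algebraMap A₀ (A₀ ⊗[k] k') a = a ⊗ₜ 1 := rfl
      have h2 : algebraMap A₀ (F ⊗[k] k') a = (algebraMap A₀ F a) ⊗ₜ 1 :=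
        Algebra.TensorProduct.algebraMap_apply a
      rw [h1, h2]
      simp only [φ, Algebra.TensorProduct.map_tmul, map_one]
      rfl)
  haveI hloc : IsLocalization (Algebra.algebraMapSubmonoid (A₀ ⊗[k] k') (nonZeroDivisors A₀))
      (F ⊗[k] k') :=
    IsLocalization.tensorProduct_tensorProduct k k' (nonZeroDivisors A₀) F (by
      ext x
      change φ (1 ⊗ₜ x) = 1 ⊗ₜ x
      simp [φ])
  refine IsLocalization.isDomain_of_le_nonZeroDivisors (F ⊗[k] k')
    (M := Algebra.algebraMapSubmonoid (A₀ ⊗[k] k') (nonZeroDivisors A₀)) ?_
  rintro _ ⟨a, ha, rfl⟩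
  apply mem_nonZeroDivisors_of_ne_zero
  have hinj : Function.Injective (algebraMap A₀ (A₀ ⊗[k] k')) :=
    Algebra.TensorProduct.includeLeft_injective (S := k) (algebraMap k k').injective
  intro h0
  exact nonZeroDivisors.ne_zero ha (hinj (by rw [h0, map_zero]))

end Domain

theorem isReduced_tensor_of_isSeparable (F K D : Type*) [Field F] [Field K] [Algebra F K]
    [Algebra.EssFiniteType F K] [Algebra.IsSeparable F K] [CommRing D] [IsDomain D] [Algebra F D] :
    IsReduced (K ⊗[F] D) := by
  haveI : Algebra.FormallyUnramified F K := Algebra.FormallyUnramified.of_isSeparable F K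
  haveI : IsReduced (FractionRing D ⊗[F] K) :=
    Algebra.FormallyUnramified.isReduced_of_field (FractionRing D) (FractionRing D ⊗[F] K)
  let f3 : K ⊗[F] D →ₐ[F] K ⊗[F] FractionRing D :=
    Algebra.TensorProduct.map (AlgHom.id F K) (IsScalarTower.toAlgHom F D (FractionRing D))
  have hf3 : Function.Injective f3 :=
    Module.Flat.lTensor_preserves_injective_linearMap (M := K)
      (IsScalarTower.toAlgHom F D (FractionRing D)).toLinearMap
      (IsFractionRing.injective D (FractionRing D))
  let e4 : K ⊗[F] FractionRing D ≃ₐ[F] FractionRing D ⊗[F] K :=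
    Algebra.TensorProduct.comm F K (FractionRing D)
  exact isReduced_of_injective (e4.toAlgHom.toRingHom.comp f3.toRingHom)
    (e4.injective.comp hf3)

section Main

variable {k K : Type*} [Field k] [Field K] [Algebra k K]

set_option synthInstance.maxHeartbeats 400000 in
set_option maxHeartbeats 1000000 in
/-- separably generated extensions are geometrically reduced -/
theorem isGeometricallyReduced_of_separablyGenerated {ι : Type*} {v : ι → K}
    [Algebra.EssFiniteType k K] (hv : AlgebraicIndependent k v)
    [Algebra.IsSeparable (IntermediateField.adjoin k (Set.range v)) K] :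
    Algebra.IsGeometricallyReduced k K := by
  rw [Algebra.isGeometricallyReduced_field_iff]
  haveI : IsDomain ((IntermediateField.adjoin k (Set.range v)) ⊗[k] AlgebraicClosure k) :=
    isDomain_adjoin_tensor hv _
  haveI : Algebra.EssFiniteType (IntermediateField.adjoin k (Set.range v)) K :=
    Algebra.EssFiniteType.of_comp k _ K
  haveI := isReduced_tensor_of_isSeparable (IntermediateField.adjoin k (Set.range v)) K
    ((IntermediateField.adjoin k (Set.range v)) ⊗[k] AlgebraicClosure k)
  let e1 : AlgebraicClosure k ⊗[k] K ≃ₐ[k] K ⊗[k] AlgebraicClosure k :=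
    Algebra.TensorProduct.comm k _ K
  let e2 := Algebra.TensorProduct.cancelBaseChange k (IntermediateField.adjoin k (Set.range v))
    (IntermediateField.adjoin k (Set.range v)) K (AlgebraicClosure k)
  exact isReduced_of_injective (e2.symm.toAlgHom.toRingHom.comp e1.toAlgHom.toRingHom)
    (e2.symm.injective.comp e1.injective)

/-- the finset form of MacLane's condition used by Mathlib -/
theorem MacLane.finset {p : ℕ} (h : MacLane k K p) (s : Finset K)
    (hs : LinearIndepOn k _root_.id (s : Set K)) : LinearIndepOn k (· ^ p) (s : Set K) := by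
  let e : Fin s.card ≃ (s : Set K) :=
    s.equivFin.symm.trans (Equiv.subtypeEquivRight fun x => (Finset.mem_coe).symm)
  have h1 : LinearIndependent k (fun j : Fin s.card => ((e j : K))) :=
    LinearIndependent.comp hs e e.injective
  have h2 := h _ _ h1
  exact (linearIndependent_equiv e (f := fun x : (s : Set K) => (x : K) ^ p)).mp h2

/-- MacLane's condition passes to subextensions -/
theorem MacLane.of_algHom {p : ℕ} (h : MacLane k K p) {K' : Type*} [Field K'] [Algebra k K']
    (f : K' →ₐ[k] K) : MacLane k K' p := by
  intro n s hs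
  have h1 : LinearIndependent k (f.toLinearMap ∘ s) :=
    hs.map' f.toLinearMap (LinearMap.ker_eq_bot.mpr f.injective)
  have h2 := h n _ h1
  refine LinearIndependent.of_comp f.toLinearMap ?_
  have hfun : f.toLinearMap ∘ (fun j => s j ^ p) = fun j => (f.toLinearMap ∘ s) j ^ p := by
    funext j
    simp
  rw [hfun]
  exact h2

/-- a field extension all of whose finitely generated subextensions are separably generated is
geometrically reduced -/
theorem isGeometricallyReduced_of_forall_fg_separablyGenerated
    (H : ∀ K' : IntermediateField k K, Algebra.EssFiniteType k K' →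
      ∃ s : Finset K', IsTranscendenceBasis k ((↑) : s → K') ∧
        Algebra.IsSeparable (IntermediateField.adjoin k (s : Set K')) K') :
    Algebra.IsGeometricallyReduced k K := by
  apply Algebra.IsGeometricallyReduced.of_forall_fg
  intro B hB
  obtain ⟨t, ht⟩ := hB
  let K' : IntermediateField k K := IntermediateField.adjoin k (t : Set K)
  haveI hK' : Algebra.EssFiniteType k K' := IntermediateField.essFiniteType_iff.mpr ⟨t, rfl⟩
  obtain ⟨s, hs, hsep⟩ := H K' hK'
  haveI : Algebra.IsSeparable
      (IntermediateField.adjoin k (Set.range ((↑) : s → K'))) K' := by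
    convert! hsep <;> simp
  haveI : Algebra.IsGeometricallyReduced k K' :=
    isGeometricallyReduced_of_separablyGenerated hs.1
  have hle : B ≤ K'.toSubalgebra := by
    rw [← ht]
    exact IntermediateField.algebra_adjoin_le_adjoin k _
  exact Algebra.IsGeometricallyReduced.of_injective (Subalgebra.inclusion hle)
    (Subalgebra.inclusion_injective hle)

/-- **MacLane**: MacLane's condition implies geometric reducedness -/
theorem isGeometricallyReduced_of_macLane (p : ℕ) [Fact p.Prime] [CharP k p]
    (h : MacLane k K p) : Algebra.IsGeometricallyReduced k K := by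
  have hp : p.Prime := Fact.out
  apply isGeometricallyReduced_of_forall_fg_separablyGenerated
  intro K' hK'
  have h' : MacLane k K' p := h.of_algHom K'.val
  exact exists_isTranscendenceBasis_and_isSeparable_of_linearIndepOn_pow_of_essFiniteType p hp
    (fun s hs => h'.finset s hs)

/-- in characteristic zero every field extension is geometrically reduced -/
theorem isGeometricallyReduced_of_charZero [CharZero k] : Algebra.IsGeometricallyReduced k K := by
  apply isGeometricallyReduced_of_forall_fg_separablyGenerated
  intro K' hK'
  exact exists_isTranscendenceBasis_and_isSeparable_of_perfectField k K'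

end Main

end Groth.Agent.Helper2.Sep
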