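import Mathlib

/-! Consequences of the Jacobi–Zariski sequence for `H¹` of the cotangent complex. -/

namespace Groth.Agent.Helper2.Sep

open Algebra KaehlerDifferential

universe u₁ u₂ u₃

variable (R : Type u₁) (S : Type u₂) (T : Type u₃) [CommRing R] [CommRing S] [CommRing T]
  [Algebra R S] [Algebra R T] [Algebra S T] [IsScalarTower R S T]

theorem injective_mapBaseChange_of_subsingleton [Subsingleton (H1Cotangent S T)] :
    Function.Injective (mapBaseChange R S T) := by
  rw [injective_iff_map_eq_zero]
  intro z hz
  obtain ⟨w, rfl⟩ := (H1Cotangent.exact_δ_mapBaseChange R S T z).mp hz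
  rw [Subsingleton.elim w 0, map_zero]

theorem subsingleton_h1Cotangent_of_injective [Subsingleton (H1Cotangent R T)]
    (h : Function.Injective (mapBaseChange R S T)) : Subsingleton (H1Cotangent S T) := by
  refine ⟨fun a b => ?_⟩
  have key : ∀ w : H1Cotangent S T, w = 0 := by
    intro w
    have h1 : H1Cotangent.δ R S T w = 0 := by
      apply h
      rw [map_zero]
      exact (H1Cotangent.exact_δ_mapBaseChange R S T _).mpr ⟨w, rfl⟩
    obtain ⟨v, rfl⟩ := (H1Cotangent.exact_map_δ R S T w).mp h1
    rw [Subsingleton.elim v 0, map_zero]
  rw [key a, key b]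

/-- over a base `R` over which the field `K` is formally smooth, `K` is formally smooth over the
subfield `k` iff `K ⊗ Ω[k/R] → Ω[K/R]` is injective -/
theorem formallySmooth_iff_injective_mapBaseChange (k : Type u₂) (K : Type u₃) [Field k] [Field K]
    [Algebra R k] [Algebra R K] [Algebra k K] [IsScalarTower R k K] [FormallySmooth R K] :
    FormallySmooth k K ↔ Function.Injective (mapBaseChange R k K) := by
  constructor
  · intro h
    exact injective_mapBaseChange_of_subsingleton R k K
  · intro h
    haveI := subsingleton_h1Cotangent_of_injective R k K h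
    exact ⟨inferInstance, inferInstance⟩

end Groth.Agent.Helper2.Sep
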