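import Mathlib
import Groth.Agent.Lib.Helper2.PBasisField3
import Groth.Agent.Lib.Helper2.PBasis3

/-! Injectivity of `K ⊗ Ω[k/P] → Ω[K/P]` versus `p`-independence in `K` of a `p`-basis of `k`. -/

namespace Groth.Agent.Helper2.Sep

open EGA41 Groth.Agent.Helper2.PBasis

universe u

variable (p : ℕ) [hp : Fact p.Prime] {P k K : Type u} [Field P]
  [Field k] [Field K] [Algebra P k] [Algebra P K] [Algebra k K] [IsScalarTower P k K]
  [CharP k p] [CharP K p]

theorem mapBaseChange_baseChange_basis {ι : Type u} {x : ι → k}
    (b₀ : Module.Basis ι k (Ω[k⁄P])) (hb₀ : ∀ i, b₀ i = KaehlerDifferential.D P k (x i)) (i : ι) :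
    KaehlerDifferential.mapBaseChange P k K ((b₀.baseChange K) i) =
      KaehlerDifferential.D P K (algebraMap k K (x i)) := by
  rw [Module.Basis.baseChange_apply, hb₀, KaehlerDifferential.mapBaseChange_tmul, one_smul,
    KaehlerDifferential.map_D]

theorem injective_mapBaseChange_of_isPIndependent {ι : Type u} {x : ι → k}
    (hx : IsPBasis p P x) (hK : IsPIndependent p P (fun i => algebraMap k K (x i))) :
    Function.Injective (KaehlerDifferential.mapBaseChange P k K) := by
  obtain ⟨b₀, hb₀⟩ := exists_basis_D_of_isPBasis p hx
  have hli : LinearIndependent K (fun i => KaehlerDifferential.D P K (algebraMap k K (x i))) :=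
    linearIndependent_D_of_isPIndependent p _ hK
  have hcomp : (KaehlerDifferential.mapBaseChange P k K) =
      (Finsupp.linearCombination K
        (fun i => KaehlerDifferential.D P K (algebraMap k K (x i)))).comp
          (b₀.baseChange K).repr.toLinearMap := by
    apply (b₀.baseChange K).ext
    intro i
    rw [mapBaseChange_baseChange_basis b₀ hb₀, LinearMap.comp_apply, LinearEquiv.coe_coe,
      Module.Basis.repr_self, Finsupp.linearCombination_single, one_smul]
  rw [hcomp]
  exact (linearIndependent_iff_injective_finsuppLinearCombination.mp hli).comp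
    (b₀.baseChange K).repr.injective

theorem isPIndependent_of_injective_mapBaseChange {ι : Type u} {x : ι → k}
    (hx : IsPBasis p P x) (hinj : Function.Injective (KaehlerDifferential.mapBaseChange P k K)) :
    IsPIndependent p P (fun i => algebraMap k K (x i)) := by
  obtain ⟨b₀, hb₀⟩ := exists_basis_D_of_isPBasis p hx
  apply isPIndependent_of_linearIndependent_D p
  have h1 := (b₀.baseChange K).linearIndependent.map' (KaehlerDifferential.mapBaseChange P k K)
    (LinearMap.ker_eq_bot.mpr hinj)
  have hfun : (KaehlerDifferential.mapBaseChange P k K) ∘ (b₀.baseChange K) =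
      fun i => KaehlerDifferential.D P K (algebraMap k K (x i)) := by
    funext i
    exact mapBaseChange_baseChange_basis b₀ hb₀ i
  rw [hfun] at h1
  exact h1

end Groth.Agent.Helper2.Sep
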