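import Mathlib
import Groth.Agent.Lib.Helper2.SepJZ
import Groth.Agent.Lib.Helper2.SepPerfect
import Groth.Agent.Lib.Helper2.SepDisjoint
import Groth.Agent.Lib.Helper2.SepKaehler
import Groth.Agent.Lib.Helper2.SepGen
import Groth.Agent.Lib.Helper2.SepConv

/-! Separable (= geometrically reduced) field extensions: equivalence with formal smoothness and
with injectivity of `K ⊗ Ω[k] → Ω[K]`. -/

namespace Groth.Agent.Helper2.Sep

open EGA41 Groth.Agent.Helper2.PBasis KaehlerDifferential

universe u

section CharP

theorem macLane_iff_injective_mapBaseChange (p : ℕ) [hp : Fact p.Prime] (P k K : Type u)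
    [Field P] [CharP P p] [PerfectRing P p] [Field k] [Field K] [Algebra P k] [Algebra P K]
    [Algebra k K] [IsScalarTower P k K] :
    MacLane k K p ↔ Function.Injective (mapBaseChange P k K) := by
  haveI : CharP k p := charP_of_injective_algebraMap (algebraMap P k).injective p
  haveI : CharP K p := charP_of_injective_algebraMap (algebraMap k K).injective p
  obtain ⟨ι, x, hx⟩ := exists_isPBasis p P k
  constructor
  · intro h
    exact injective_mapBaseChange_of_isPIndependent p hx (isPIndependent_map_of_macLane p h hx)
  · intro h
    exact macLane_of_isPIndependent_map p hx (isPIndependent_of_injective_mapBaseChange p hx h)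

theorem isGeometricallyReduced_iff_macLane (p : ℕ) [hp : Fact p.Prime] (k K : Type*)
    [Field k] [Field K] [Algebra k K] [CharP k p] :
    Algebra.IsGeometricallyReduced k K ↔ MacLane k K p := by
  constructor
  · intro h
    exact macLane_of_isGeometricallyReduced p
  · intro h
    exact isGeometricallyReduced_of_macLane p h

theorem formallySmooth_iff_injective_mapBaseChange_perfect (p : ℕ) [hp : Fact p.Prime]
    (P k K : Type u)
    [Field P] [CharP P p] [PerfectRing P p] [Field k] [Field K] [Algebra P k] [Algebra P K]
    [Algebra k K] [IsScalarTower P k K] :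
    Algebra.FormallySmooth k K ↔ Function.Injective (mapBaseChange P k K) := by
  haveI : Algebra.FormallySmooth P K := formallySmooth_of_perfect p P K
  exact formallySmooth_iff_injective_mapBaseChange P k K

theorem formallySmooth_iff_isGeometricallyReduced_perfect (p : ℕ) [hp : Fact p.Prime]
    (P k K : Type u)
    [Field P] [CharP P p] [PerfectRing P p] [Field k] [Field K] [Algebra P k] [Algebra P K]
    [Algebra k K] [IsScalarTower P k K] :
    Algebra.FormallySmooth k K ↔ Algebra.IsGeometricallyReduced k K := by
  haveI : CharP k p := charP_of_injective_algebraMap (algebraMap P k).injective p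
  rw [formallySmooth_iff_injective_mapBaseChange_perfect p P k K,
    isGeometricallyReduced_iff_macLane p k K, macLane_iff_injective_mapBaseChange p P k K]

theorem isGeometricallyReduced_iff_injective_int_perfect (p : ℕ) [hp : Fact p.Prime]
    (P k K : Type u)
    [Field P] [CharP P p] [PerfectRing P p] [Field k] [Field K] [Algebra P k] [Algebra P K]
    [Algebra k K] [IsScalarTower P k K] :
    Algebra.IsGeometricallyReduced k K ↔ Function.Injective (mapBaseChange ℤ k K) := by
  haveI : CharP k p := charP_of_injective_algebraMap (algebraMap P k).injective p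
  haveI : CharP K p := charP_of_injective_algebraMap (algebraMap k K).injective p
  rw [injective_mapBaseChange_int_iff p P k K,
    isGeometricallyReduced_iff_macLane p k K, macLane_iff_injective_mapBaseChange p P k K]

end CharP

section General

variable (k K : Type u) [Field k] [Field K] [Algebra k K]

/-- a perfect subfield in the same universe -/
theorem exists_perfect_subfield (p : ℕ) [Fact p.Prime] [CharP k p] :
    ∃ (P : Type u) (_ : Field P) (_ : CharP P p) (_ : PerfectRing P p) (_ : Algebra P k)
      (_ : Algebra P K), IsScalarTower P k K := by
  letI : Algebra (ZMod p) k := ZMod.algebra k p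
  letI : Algebra (ULift.{u} (ZMod p)) k := ULift.algebra' (ZMod p) k
  letI : Algebra (ULift.{u} (ZMod p)) K :=
    ((algebraMap k K).comp (algebraMap (ULift.{u} (ZMod p)) k)).toAlgebra
  exact ⟨ULift.{u} (ZMod p), inferInstance, inferInstance, inferInstance, inferInstance,
    inferInstance,
    IsScalarTower.of_algebraMap_eq' (R := ULift.{u} (ZMod p)) (S := k) (A := K) rfl⟩

/-- **EGA 0_IV 19.6.1**: a field extension is formally smooth iff it is separable -/
theorem formallySmooth_iff_isGeometricallyReduced :
    Algebra.FormallySmooth k K ↔ Algebra.IsGeometricallyReduced k K := by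
  obtain h0 | ⟨p, hp, hpk⟩ := CharP.exists' k
  · exact ⟨fun _ => isGeometricallyReduced_of_charZero, fun _ => formallySmooth_of_charZero k K⟩
  · obtain ⟨P, _, _, _, _, _, _⟩ := exists_perfect_subfield k K p
    exact formallySmooth_iff_isGeometricallyReduced_perfect p P k K

/-- a field extension is separable iff `K ⊗ Ω[k/ℤ] → Ω[K/ℤ]` is injective -/
theorem isGeometricallyReduced_iff_injective_int :
    Algebra.IsGeometricallyReduced k K ↔ Function.Injective (mapBaseChange ℤ k K) := by
  obtain h0 | ⟨p, hp, hpk⟩ := CharP.exists' k
  · refine ⟨fun _ => ?_, fun _ => isGeometricallyReduced_of_charZero⟩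
    haveI := formallySmooth_of_charZero k K
    exact injective_mapBaseChange_of_subsingleton ℤ k K
  · obtain ⟨P, _, _, _, _, _, _⟩ := exists_perfect_subfield k K p
    exact isGeometricallyReduced_iff_injective_int_perfect p P k K

/-- a formally smooth (separable) field extension has injective `K ⊗ Ω[k/R] → Ω[K/R]` -/
theorem injective_mapBaseChange_of_isGeometricallyReduced (R : Type*) [CommRing R] [Algebra R k]
    [Algebra R K] [IsScalarTower R k K] [Algebra.IsGeometricallyReduced k K] :
    Function.Injective (mapBaseChange R k K) := by
  haveI : Algebra.FormallySmooth k K := (formallySmooth_iff_isGeometricallyReduced k K).mpr ‹_›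
  exact injective_mapBaseChange_of_subsingleton R k K

end General

end Groth.Agent.Helper2.Sep
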