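import Mathlib

open MvPolynomial

/-!
# Complete rings with Noetherian reduction are Noetherian

`isNoetherianRing_of_isAdicComplete`: if `S` is `J`-adically complete, `J` is finitely generated and
`S ⧸ J` is Noetherian, then `S` is Noetherian (Stacks 05GH).  The proof is the classical leading-form
argument, phrased with homogeneous polynomials over `S ⧸ J`.
`isNoetherianRing_adicCompletion`: the completion of `R` along a finitely generated ideal `I` with
`R ⧸ I` Noetherian is Noetherian.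
-/

namespace Groth.Agent.Helper2.CompleteNoeth

section A
variable {σ R : Type*} [CommRing R]

attribute [local instance] MvPolynomial.gradedAlgebra in
lemma hc_mul_of_isHomogeneous (a b : MvPolynomial σ R) {i : ℕ} (hb : b.IsHomogeneous i) (n : ℕ) :
    homogeneousComponent n (a * b) =
      if i ≤ n then homogeneousComponent (n - i) a * b else 0 := by
  have h := DirectSum.coe_decompose_mul_of_right_mem (𝒜 := homogeneousSubmodule σ R) (a := a) n
    ((mem_homogeneousSubmodule i b).2 hb)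
  have e : ∀ (φ : MvPolynomial σ R) (k : ℕ),
      (DirectSum.decompose (homogeneousSubmodule σ R) φ k : MvPolynomial σ R) =
        homogeneousComponent k φ := fun φ k => decomposition.decompose'_apply φ k
  rw [e, e] at h
  exact h

lemma hc_map {S : Type*} [CommRing S] (f : R →+* S) (n : ℕ) (p : MvPolynomial σ R) :
    homogeneousComponent n (map f p) = map f (homogeneousComponent n p) := by
  ext m
  rw [coeff_homogeneousComponent, coeff_map, coeff_map, coeff_homogeneousComponent]
  split_ifs <;> simp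

end A

section B
variable {σ S : Type*} [CommRing S] (a : σ → S)

lemma eval_mem_pow {F : MvPolynomial σ S} {d : ℕ} (hF : F.IsHomogeneous d) :
    eval a F ∈ (Ideal.span (Set.range a)) ^ d :=
  (Ideal.mem_span_pow_iff_exists_isHomogeneous a _).2 ⟨F, hF, rfl⟩

lemma eval_mem_pow_succ {F : MvPolynomial σ S} {d : ℕ} (hF : F.IsHomogeneous d)
    (hc : ∀ m, coeff m F ∈ Ideal.span (Set.range a)) :
    eval a F ∈ (Ideal.span (Set.range a)) ^ (d + 1) := by
  rw [eval_eq, pow_succ']
  refine Ideal.sum_mem _ fun m hm => Ideal.mul_mem_mul (hc m) ?_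
  have hdeg : m.degree = d := by
    by_contra hd
    exact (mem_support_iff.mp hm) (hF.coeff_eq_zero hd)
  have h1 : eval a (monomial m (1 : S)) ∈ (Ideal.span (Set.range a)) ^ d :=
    eval_mem_pow a (isHomogeneous_monomial 1 hdeg)
  rw [eval_monomial, one_mul] at h1
  exact h1

end B

section C
universe u v
variable {σ : Type v} {S : Type u} [CommRing S] (a : σ → S) (𝔞 : Ideal S)

/-- the set of leading forms -/
def T : Set (MvPolynomial σ (S ⧸ Ideal.span (Set.range a))) :=
  {p | ∃ (d : ℕ) (F : MvPolynomial σ S), F.IsHomogeneous d ∧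
    eval a F ∈ 𝔞 ⊔ (Ideal.span (Set.range a)) ^ (d + 1) ∧
    map (Ideal.Quotient.mk (Ideal.span (Set.range a))) F = p}

lemma exists_gens [Finite σ] [IsNoetherianRing (S ⧸ Ideal.span (Set.range a))] :
    ∃ (κ : Type (max v u)) (_ : Fintype κ) (H : κ → MvPolynomial σ S) (dg : κ → ℕ),
      (∀ k, (H k).IsHomogeneous (dg k)) ∧
      (∀ k, eval a (H k) ∈ 𝔞 ⊔ (Ideal.span (Set.range a)) ^ (dg k + 1)) ∧
      T a 𝔞 ⊆ Ideal.span (Set.range fun k =>
        map (Ideal.Quotient.mk (Ideal.span (Set.range a))) (H k)) := by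
  classical
  have hfg : (Ideal.span (T a 𝔞)).FG := IsNoetherian.noetherian _
  obtain ⟨T', hT', hspan⟩ := (Submodule.fg_span_iff_fg_span_finset_subset _).mp hfg
  have hch : ∀ p : T', ∃ (d : ℕ) (F : MvPolynomial σ S), F.IsHomogeneous d ∧
      eval a F ∈ 𝔞 ⊔ (Ideal.span (Set.range a)) ^ (d + 1) ∧
      map (Ideal.Quotient.mk (Ideal.span (Set.range a))) F = p.1 := fun p => hT' p.2
  choose dg H h1 h2 h3 using hch
  refine ⟨T', inferInstance, H, dg, h1, h2, ?_⟩
  have : (Set.range fun k : T' => map (Ideal.Quotient.mk (Ideal.span (Set.range a))) (H k)) =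
      (T' : Set _) := by
    ext p
    simp only [Set.mem_range, h3]
    constructor
    · rintro ⟨k, rfl⟩; exact k.2
    · intro hp; exact ⟨⟨p, hp⟩, rfl⟩
  rw [this]
  intro p hp
  have : p ∈ Ideal.span (T a 𝔞) := Ideal.subset_span hp
  have h4 : Ideal.span (T a 𝔞) = Ideal.span (T' : Set _) := hspan
  rw [h4] at this
  exact this


lemma step {κ : Type*} [Fintype κ] (H : κ → MvPolynomial σ S) (dg : κ → ℕ)
    (hH : ∀ k, (H k).IsHomogeneous (dg k))
    (g j : κ → S) (hj : ∀ k, j k ∈ (Ideal.span (Set.range a)) ^ (dg k + 1))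
    (hgj : ∀ k, eval a (H k) = g k + j k)
    (hT : T a 𝔞 ⊆ Ideal.span (Set.range fun k =>
        map (Ideal.Quotient.mk (Ideal.span (Set.range a))) (H k)))
    {d : ℕ} {x : S} (hx : x ∈ 𝔞) (hxd : x ∈ (Ideal.span (Set.range a)) ^ d) :
    ∃ q : κ → S, (∀ k, q k ∈ (Ideal.span (Set.range a)) ^ (d - dg k)) ∧
      x - ∑ k, q k * g k ∈ (Ideal.span (Set.range a)) ^ (d + 1) := by
  classical
  set J := Ideal.span (Set.range a) with hJ
  set π := map (σ := σ) (Ideal.Quotient.mk J) with hπ
  obtain ⟨F, hF, rfl⟩ := (Ideal.mem_span_pow_iff_exists_isHomogeneous a x).1 hxd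
  have hFT : π F ∈ T a 𝔞 := ⟨d, F, hF, Ideal.mem_sup_left hx, rfl⟩
  obtain ⟨Qb, hQb⟩ := (Ideal.mem_span_range_iff_exists_fun).1 (hT hFT)
  choose Q' hQ' using fun k =>
    MvPolynomial.map_surjective (Ideal.Quotient.mk J) Ideal.Quotient.mk_surjective (Qb k)
  let Q : κ → MvPolynomial σ S := fun k =>
    if dg k ≤ d then homogeneousComponent (d - dg k) (Q' k) else 0
  have hQhom : ∀ k, (Q k).IsHomogeneous (d - dg k) := by
    intro k
    by_cases h : dg k ≤ d
    · simp only [Q, if_pos h]; exact homogeneousComponent_isHomogeneous _ _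
    · simp only [Q, if_neg h]; exact isHomogeneous_zero _ _ _
  have hQH : ∀ k, (Q k * H k).IsHomogeneous d := by
    intro k
    by_cases h : dg k ≤ d
    · have := (hQhom k).mul (hH k)
      rwa [Nat.sub_add_cancel h] at this
    · simp only [Q, if_neg h, zero_mul]; exact isHomogeneous_zero _ _ _
  set E := F - ∑ k, Q k * H k with hEdef
  have hE : E.IsHomogeneous d := hF.sub (IsHomogeneous.sum _ _ _ fun k _ => hQH k)
  have hπQ : ∀ k, π (Q k) = if dg k ≤ d then homogeneousComponent (d - dg k) (Qb k) else 0 := by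
    intro k
    by_cases h : dg k ≤ d
    · simp only [Q, if_pos h, hπ, ← hc_map, hQ']
    · simp only [Q, if_neg h, map_zero]
  have hπE : π E = 0 := by
    have h1 : π F = homogeneousComponent d (π F) :=
      (homogeneousComponent_eq_self (hF.map _)).symm
    rw [hEdef, map_sub, map_sum, h1, ← hQb, map_sum, sub_eq_zero]
    refine Finset.sum_congr rfl fun k _ => ?_
    rw [RingHom.map_mul π, hπQ, hc_mul_of_isHomogeneous _ _ ((hH k).map _)]
    split_ifs
    · rfl
    · rw [zero_mul]
  have hEc : ∀ m, coeff m E ∈ J := by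
    intro m
    have : coeff m (π E) = 0 := by rw [hπE]; simp
    rw [hπ, coeff_map] at this
    exact Ideal.Quotient.eq_zero_iff_mem.mp this
  have hevE := eval_mem_pow_succ a hE hEc
  refine ⟨fun k => eval a (Q k), fun k => eval_mem_pow a (hQhom k), ?_⟩
  have h2 : eval a F - ∑ k, eval a (Q k) * g k = eval a E + ∑ k, eval a (Q k) * j k := by
    rw [hEdef, map_sub, map_sum]
    simp only [map_mul, hgj, mul_add, Finset.sum_add_distrib]
    ring
  rw [h2]
  refine add_mem hevE (Ideal.sum_mem _ fun k _ => ?_)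
  by_cases h : dg k ≤ d
  · have h3 : d + 1 = (d - dg k) + (dg k + 1) := by omega
    rw [h3, pow_add]
    exact Ideal.mul_mem_mul (eval_mem_pow a (hQhom k)) (hj k)
  · simp only [Q, if_neg h, map_zero, zero_mul]; exact zero_mem _

end C

section D
variable {S : Type*} [CommRing S] (J : Ideal S) (𝔞 : Ideal S)
  {κ : Type*} [Fintype κ] (g : κ → S) (D : ℕ)

open Classical in
/-- the approximating sequence of coefficient vectors -/
noncomputable def seq
    (hstep : ∀ (d : ℕ) (x : S), x ∈ 𝔞 → x ∈ J ^ d → ∃ q : κ → S,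
      (∀ k, q k ∈ J ^ (d - D)) ∧ x - ∑ k, q k * g k ∈ J ^ (d + 1))
    (x : S) (hx : x ∈ 𝔞) (hg : ∀ k, g k ∈ 𝔞) : ℕ → (κ → S)
  | 0 => 0
  | d + 1 =>
    if h : x - ∑ k, seq hstep x hx hg d k * g k ∈ J ^ d then
      seq hstep x hx hg d + Classical.choose (hstep d _
        (sub_mem hx (Ideal.sum_mem _ fun k _ => Ideal.mul_mem_left _ _ (hg k))) h)
    else seq hstep x hx hg d

variable {J 𝔞 g D}
variable (hstep : ∀ (d : ℕ) (x : S), x ∈ 𝔞 → x ∈ J ^ d → ∃ q : κ → S,
      (∀ k, q k ∈ J ^ (d - D)) ∧ x - ∑ k, q k * g k ∈ J ^ (d + 1))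
    {x : S} (hx : x ∈ 𝔞) (hg : ∀ k, g k ∈ 𝔞)

include hx hg in
lemma seq_mem_a (s : κ → S) : x - ∑ k, s k * g k ∈ 𝔞 :=
  sub_mem hx (Ideal.sum_mem _ fun k _ => Ideal.mul_mem_left _ _ (hg k))

lemma seq_succ (d : ℕ) (h : x - ∑ k, seq J 𝔞 g D hstep x hx hg d k * g k ∈ J ^ d) :
    ∃ q : κ → S, (∀ k, q k ∈ J ^ (d - D)) ∧
      (x - ∑ k, seq J 𝔞 g D hstep x hx hg d k * g k) - ∑ k, q k * g k ∈ J ^ (d + 1) ∧
      seq J 𝔞 g D hstep x hx hg (d + 1) = seq J 𝔞 g D hstep x hx hg d + q := by
  have hsp := Classical.choose_spec (hstep d _ (seq_mem_a hx hg _) h)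
  refine ⟨_, hsp.1, hsp.2, ?_⟩
  rw [seq, dif_pos h]

lemma seq_mem (d : ℕ) : x - ∑ k, seq J 𝔞 g D hstep x hx hg d k * g k ∈ J ^ d := by
  induction d with
  | zero => simp
  | succ d ih =>
    obtain ⟨q, -, h2, h3⟩ := seq_succ hstep hx hg d ih
    have : x - ∑ k, seq J 𝔞 g D hstep x hx hg (d + 1) k * g k =
        (x - ∑ k, seq J 𝔞 g D hstep x hx hg d k * g k) - ∑ k, q k * g k := by
      rw [h3]
      simp only [Pi.add_apply, add_mul, Finset.sum_add_distrib]
      ring
    rw [this]
    exact h2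

lemma seq_diff (d : ℕ) (k : κ) :
    seq J 𝔞 g D hstep x hx hg (d + 1) k - seq J 𝔞 g D hstep x hx hg d k ∈ J ^ (d - D) := by
  obtain ⟨q, h1, -, h3⟩ := seq_succ hstep hx hg d (seq_mem hstep hx hg d)
  rw [h3]
  simp only [Pi.add_apply, add_sub_cancel_left]
  exact h1 k

lemma seq_diff' (m e : ℕ) (k : κ) :
    seq J 𝔞 g D hstep x hx hg (m + e) k - seq J 𝔞 g D hstep x hx hg m k ∈ J ^ (m - D) := by
  induction e with
  | zero => simp
  | succ e ih =>
    have h1 := seq_diff hstep hx hg (m + e) k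
    have h2 : seq J 𝔞 g D hstep x hx hg (m + (e + 1)) k - seq J 𝔞 g D hstep x hx hg m k =
        (seq J 𝔞 g D hstep x hx hg (m + e + 1) k - seq J 𝔞 g D hstep x hx hg (m + e) k) +
        (seq J 𝔞 g D hstep x hx hg (m + e) k - seq J 𝔞 g D hstep x hx hg m k) := by
      rw [← add_assoc]; ring
    rw [h2]
    exact add_mem (Ideal.pow_le_pow_right (by omega) h1) ih

include hstep hg in
theorem le_span [IsAdicComplete J S] : 𝔞 ≤ Ideal.span (Set.range g) := by
  intro x hx
  let s := seq J 𝔞 g D hstep x hx hg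
  have hcauchy : ∀ k, ∀ {m n : ℕ}, m ≤ n →
      s (m + D) k ≡ s (n + D) k [SMOD (J ^ m • ⊤ : Submodule S S)] := by
    intro k m n hmn
    obtain ⟨e, rfl⟩ := Nat.exists_eq_add_of_le hmn
    refine SModEq.symm ?_
    rw [SModEq.sub_mem, smul_eq_mul, Ideal.mul_top]
    have := seq_diff' hstep hx hg (m + D) e k
    have h2 : m + e + D = m + D + e := by ring
    rw [h2]
    exact Ideal.pow_le_pow_right (by omega) this
  choose a ha using fun k => IsPrecomplete.prec (I := J) (M := S) inferInstance (hcauchy k)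
  have ha' : ∀ k m, s (m + D) k - a k ∈ J ^ m := by
    intro k m
    have := ha k m
    rwa [SModEq.sub_mem, smul_eq_mul, Ideal.mul_top] at this
  have h0 : x - ∑ k, a k * g k = 0 := by
    apply IsHausdorff.haus (I := J) (M := S) inferInstance
    intro m
    rw [SModEq.zero, smul_eq_mul, Ideal.mul_top]
    have h3 : x - ∑ k, a k * g k =
        (x - ∑ k, s (m + D) k * g k) + ∑ k, (s (m + D) k - a k) * g k := by
      simp only [sub_mul, Finset.sum_sub_distrib]
      ring
    rw [h3]
    refine add_mem (Ideal.pow_le_pow_right (by omega) (seq_mem hstep hx hg (m + D)))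
      (Ideal.sum_mem _ fun k _ => Ideal.mul_mem_right _ _ (ha' k m))
  rw [sub_eq_zero] at h0
  rw [h0]
  exact Ideal.sum_mem _ fun k _ => Ideal.mul_mem_left _ _ (Ideal.subset_span ⟨k, rfl⟩)

end D

section E
universe u

/-- A ring which is complete with respect to a finitely generated ideal `J` with `S ⧸ J`
Noetherian is Noetherian. -/
theorem isNoetherianRing_of_isAdicComplete {S : Type u} [CommRing S] (J : Ideal S) (hJ : J.FG)
    [IsAdicComplete J S] [IsNoetherianRing (S ⧸ J)] : IsNoetherianRing S := by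
  classical
  obtain ⟨s, rfl⟩ := hJ
  let a : ↥(s : Set S) → S := Subtype.val
  have hra : (s : Set S) = Set.range a := Subtype.range_val.symm
  have hcomp : IsAdicComplete (Ideal.span (Set.range a)) S := by rw [← hra]; infer_instance
  have hnoeth : IsNoetherianRing (S ⧸ Ideal.span (Set.range a)) := by rw [← hra]; infer_instance
  rw [isNoetherianRing_iff_ideal_fg]
  intro 𝔞
  obtain ⟨κ, _, H, dg, hH, hev, hT⟩ := exists_gens a 𝔞
  have hch : ∀ k, ∃ g ∈ 𝔞, ∃ j ∈ (Ideal.span (Set.range a)) ^ (dg k + 1),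
      g + j = MvPolynomial.eval a (H k) := fun k => Submodule.mem_sup.1 (hev k)
  choose g hg j hj hgj using hch
  have hstep : ∀ (d : ℕ) (x : S), x ∈ 𝔞 → x ∈ (Ideal.span (Set.range a)) ^ d → ∃ q : κ → S,
      (∀ k, q k ∈ (Ideal.span (Set.range a)) ^ (d - Finset.univ.sup dg)) ∧
        x - ∑ k, q k * g k ∈ (Ideal.span (Set.range a)) ^ (d + 1) := by
    intro d x hx hxd
    obtain ⟨q, hq1, hq2⟩ := step a 𝔞 H dg hH g j hj (fun k => (hgj k).symm) hT hx hxd
    refine ⟨q, fun k => ?_, hq2⟩
    have : dg k ≤ Finset.univ.sup dg := Finset.le_sup (Finset.mem_univ k)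
    exact Ideal.pow_le_pow_right (by omega) (hq1 k)
  have h1 : 𝔞 ≤ Ideal.span (Set.range g) := le_span hstep hg
  have h2 : Ideal.span (Set.range g) ≤ 𝔞 := by
    rw [Ideal.span_le]; rintro _ ⟨k, rfl⟩; exact hg k
  rw [le_antisymm h1 h2]
  exact Submodule.fg_span (Set.finite_range g)

end E

section F
universe u

/-- If `I` is finitely generated and `R ⧸ I` is Noetherian then `AdicCompletion I R` is
Noetherian. -/
theorem isNoetherianRing_adicCompletion (R : Type u) [CommRing R] (I : Ideal R) (hI : I.FG)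
    [IsNoetherianRing (R ⧸ I)] : IsNoetherianRing (AdicCompletion I R) := by
  have hcomp := AdicCompletion.isAdicComplete_self I hI
  have hker := AdicCompletion.ker_evalOneₐ_eq_map (I := I) hI
  have hsurj := AdicCompletion.evalOneₐ_surjective I
  let e : (AdicCompletion I R ⧸ I.map (algebraMap R (AdicCompletion I R))) ≃+* R ⧸ I :=
    (Ideal.quotEquivOfEq hker.symm).trans
      (RingHom.quotientKerEquivOfSurjective (f := (AdicCompletion.evalOneₐ I).toRingHom) hsurj)
  have : IsNoetherianRing (AdicCompletion I R ⧸ I.map (algebraMap R (AdicCompletion I R))) :=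
    isNoetherianRing_of_ringEquiv _ e.symm
  exact isNoetherianRing_of_isAdicComplete (I.map (algebraMap R (AdicCompletion I R))) (hI.map _)

end F

end Groth.Agent.Helper2.CompleteNoeth
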