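import Mathlib
import Groth.Agent.Lib.Helper9.AdicLim9

/-!
# Finiteness of complete separated modules

* `span_eq_top_of_sup_smul_eq_top`: over an `I`-adically complete ring, generators modulo `I`
  of an `I`-adically separated module generate (Stacks 031D).
* `finite_adicCompletion`: for `I` finitely generated, `A` `I`-adically complete and `M/IM`
  finite, the completion of `M` is a finite `A`-module.
* `finite_residueField_tensor_kaehler`: `K ⊗_A Ω_{A/k}` is finite when `K/k` is essentially
  of finite type and `A` is Noetherian local.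
-/

open IsLocalRing TensorProduct

universe u

namespace Groth.Agent.Helper2.CompleteFinite

theorem finite_residueField_tensor_kaehler {k A : Type u} [Field k] [CommRing A] [IsLocalRing A]
    [IsNoetherianRing A] [Algebra k A]
    [Algebra.EssFiniteType k (ResidueField A)] :
    Module.Finite A (ResidueField A ⊗[A] Ω[A⁄k]) := by
  have hsurj : Function.Surjective (algebraMap A (ResidueField A)) := IsLocalRing.residue_surjective
  have h1 := KaehlerDifferential.exact_kerCotangentToTensor_mapBaseChange k A (ResidueField A) hsurj
  have h2 := KaehlerDifferential.mapBaseChange_surjective k A (ResidueField A) hsurj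
  have : Module.Finite (ResidueField A) (Ω[ResidueField A⁄k]) := inferInstance
  have : Module.Finite A (ResidueField A) := Module.Finite.of_surjective (Algebra.linearMap A _) hsurj
  have : Module.Finite A (Ω[ResidueField A⁄k]) := Module.Finite.trans (ResidueField A) _
  have : Module.Finite A (RingHom.ker (algebraMap A (ResidueField A))).Cotangent :=
    Module.Finite.of_surjective (Ideal.toCotangent _) (Ideal.toCotangent_surjective _)
  exact Module.Finite.of_exact (f := KaehlerDifferential.kerCotangentToTensor k A (ResidueField A))
    (g := (KaehlerDifferential.mapBaseChange k A (ResidueField A)).restrictScalars A) h1 h2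

theorem span_eq_top_of_sup_smul_eq_top {A : Type u} [CommRing A] (I : Ideal A) [IsAdicComplete I A]
    (L : Type u) [AddCommGroup L] [Module A L] [IsHausdorff I L] {r : ℕ} (x : Fin r → L)
    (hx : Submodule.span A (Set.range x) ⊔ I • ⊤ = ⊤) : Submodule.span A (Set.range x) = ⊤ := by
  have key := Groth.Agent.Helper9.AdicLim9.core (I := I) (x := x)
    (Lk := fun n => I ^ (n + 1) • (⊤ : Submodule A L)) ?_ (fun n => le_rfl) ?_ ?_
  · rw [eq_top_iff]
    intro z _
    have hz : z ∈ Submodule.span A (Set.range x) ⊔ I • ⊤ := by rw [hx]; trivial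
    obtain ⟨y, hy, w, hw, rfl⟩ := Submodule.mem_sup.1 hz
    refine add_mem hy ?_
    obtain ⟨a, -, rfl⟩ := key 0 w (by simpa using hw)
    exact Submodule.sum_mem _ fun i _ => Submodule.smul_mem _ _ (Submodule.subset_span ⟨i, rfl⟩)
  · intro n z hz
    have h1 : I ^ (n + 1) • (⊤ : Submodule A L) =
        I ^ (n + 1) • Submodule.span A (Set.range x) ⊔ I ^ (n + 1 + 1) • ⊤ := by
      conv_lhs => rw [← hx, Submodule.smul_sup, ← Submodule.mul_smul, ← pow_succ]
    rw [h1] at hz
    obtain ⟨y, hy, w, hw, rfl⟩ := Submodule.mem_sup.1 hz
    rw [Submodule.mem_ideal_smul_span_iff_exists_sum] at hy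
    obtain ⟨a, ha, hsum⟩ := hy
    refine ⟨fun i => a i, ha, ?_⟩
    have hsum' : ∑ i, a i • x i = y := by
      rw [← hsum]
      exact (Finsupp.sum_fintype a (fun i c => c • x i) (fun i => zero_smul A (x i))).symm
    rw [hsum']
    simpa using hw
  · intro z hz
    apply IsHausdorff.haus (I := I) inferInstance
    intro n
    rw [SModEq.zero]
    rcases n with _ | n
    · simp
    · exact hz n
  · intro n
    exact Submodule.smul_mono_left (Ideal.pow_le_pow_right (by omega))

theorem finite_adicCompletion {A : Type u} [CommRing A] (I : Ideal A) (hI : I.FG)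
    [IsAdicComplete I A] (M : Type u) [AddCommGroup M] [Module A M]
    (hM : Module.Finite A (M ⧸ (I ^ 1 • ⊤ : Submodule A M))) :
    Module.Finite A (AdicCompletion I M) := by
  obtain ⟨r, s, hs⟩ := Module.Finite.exists_fin (R := A) (M := M ⧸ (I ^ 1 • ⊤ : Submodule A M))
  have hsurj := AdicCompletion.eval_surjective I M 1
  choose x hx using fun i => hsurj (s i)
  have := AdicCompletion.isAdicComplete (I := I) (M := M) hI
  have hker := AdicCompletion.pow_smul_top_eq_ker_eval (I := I) (M := M) (n := 1) hI
  have hspan : Submodule.span A (Set.range x) = ⊤ := by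
    apply span_eq_top_of_sup_smul_eq_top I
    rw [eq_top_iff]
    intro z _
    have h1 : AdicCompletion.eval I M 1 z ∈ Submodule.span A (Set.range s) := by rw [hs]; trivial
    obtain ⟨c, hc⟩ := (Submodule.mem_span_range_iff_exists_fun A).1 h1
    have h2 : z - ∑ i, c i • x i ∈ LinearMap.ker (AdicCompletion.eval I M 1) := by
      rw [LinearMap.mem_ker, map_sub, map_sum, ← hc]
      simp only [map_smul, hx, sub_self]
    rw [← hker, pow_one] at h2
    have h3 : z = ∑ i, c i • x i + (z - ∑ i, c i • x i) := by abel
    rw [h3]
    refine Submodule.add_mem_sup (Submodule.sum_mem _ fun i _ => ?_) h2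
    exact Submodule.smul_mem _ _ (Submodule.subset_span ⟨i, rfl⟩)
  exact Module.finite_def.2 (Submodule.fg_iff_exists_fin_generating_family.2 ⟨r, x, hspan⟩)

end Groth.Agent.Helper2.CompleteFinite
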