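import Mathlib

/-!
# Adic completeness for a smaller finitely generated ideal (Stacks 090T)
-/

namespace Groth.Agent.Helper2.AdicLe

variable {A : Type*} [CommRing A] {M : Type*} [AddCommGroup M] [Module A M]

/-- elements of `span (range b) • N` are combinations of the `b j` with coefficients in `N`. -/
lemma exists_sum_of_mem_span_smul {r : ℕ} (b : Fin r → A) (N : Submodule A M) {x : M}
    (hx : x ∈ Ideal.span (Set.range b) • N) :
    ∃ y : Fin r → M, (∀ j, y j ∈ N) ∧ x = ∑ j, b j • y j := by
  refine Submodule.smul_induction_on hx ?_ ?_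
  · intro c hc n hn
    obtain ⟨a, rfl⟩ := (Ideal.mem_span_range_iff_exists_fun).1 hc
    refine ⟨fun j => a j • n, fun j => N.smul_mem _ hn, ?_⟩
    rw [Finset.sum_smul]
    refine Finset.sum_congr rfl fun j _ => ?_
    rw [smul_smul, mul_comm]
  · rintro x y ⟨u, hu, rfl⟩ ⟨v, hv, rfl⟩
    refine ⟨u + v, fun j => add_mem (hu j) (hv j), ?_⟩
    simp only [Pi.add_apply, smul_add, Finset.sum_add_distrib]

theorem isAdicComplete_of_le (I J : Ideal A) (hIJ : I ≤ J) (hI : I.FG) [IsAdicComplete J M] :
    IsAdicComplete I M := by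
  have hpow : ∀ n, (I ^ n • ⊤ : Submodule A M) ≤ J ^ n • ⊤ := fun n =>
    Submodule.smul_mono (Ideal.pow_right_mono hIJ n) le_rfl
  have hH : IsHausdorff I M := by
    refine ⟨fun x hx => IsHausdorff.haus (I := J) inferInstance x fun n => ?_⟩
    have := hx n
    rw [SModEq.zero] at this ⊢
    exact hpow n this
  refine { hH with prec' := ?_ }
  intro f hf
  -- the `J`-adic limit
  have hfJ : ∀ {m n : ℕ}, m ≤ n → f m ≡ f n [SMOD (J ^ m • ⊤ : Submodule A M)] := by
    intro m n hmn
    have := hf hmn
    rw [SModEq.sub_mem] at this ⊢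
    exact hpow m this
  obtain ⟨L, hL⟩ := IsPrecomplete.prec (I := J) (M := M) inferInstance hfJ
  refine ⟨L, fun n => ?_⟩
  -- generators of `I ^ n`
  obtain ⟨r, b, hb⟩ := Submodule.fg_iff_exists_fin_generating_family.1 (hI.pow (n := n))
  have hb' : I ^ n = Ideal.span (Set.range b) := hb.symm
  -- differences
  have hdiff : ∀ i : ℕ, ∃ y : Fin r → M, (∀ j, y j ∈ (I ^ i • ⊤ : Submodule A M)) ∧
      f (n + i + 1) - f (n + i) = ∑ j, b j • y j := by
    intro i
    have h1 := hf (Nat.le_succ (n + i))
    rw [SModEq.comm, SModEq.sub_mem] at h1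
    have h2 : (I ^ (n + i) • ⊤ : Submodule A M) = Ideal.span (Set.range b) • (I ^ i • ⊤) := by
      rw [pow_add, hb', Submodule.mul_smul]
    rw [h2] at h1
    exact exists_sum_of_mem_span_smul b _ h1
  choose y hy hfy using hdiff
  -- partial sums
  let g : Fin r → ℕ → M := fun j k => ∑ i ∈ Finset.range k, y i j
  have hg : ∀ j, ∀ {k k' : ℕ}, k ≤ k' → g j k ≡ g j k' [SMOD (J ^ k • ⊤ : Submodule A M)] := by
    intro j k k' hkk'
    rw [SModEq.comm, SModEq.sub_mem]
    simp only [g]
    rw [← Finset.sum_sdiff (Finset.range_subset_range.2 hkk'), add_sub_cancel_right]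
    refine Submodule.sum_mem _ fun i hi => ?_
    rw [Finset.mem_sdiff, Finset.mem_range, Finset.mem_range, not_lt] at hi
    exact Submodule.smul_mono (Ideal.pow_le_pow_right hi.2) le_rfl (hpow i (hy i j))
  choose Y hY using fun j => IsPrecomplete.prec (I := J) (M := M) inferInstance (hg j)
  have hsum : ∀ k, f (n + k) - f n = ∑ j, b j • g j k := by
    intro k
    induction k with
    | zero => simp [g]
    | succ k ih =>
      have : f (n + (k + 1)) - f n = (f (n + k + 1) - f (n + k)) + (f (n + k) - f n) := by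
        rw [← add_assoc]; abel
      rw [this, ih, hfy]
      simp only [g, Finset.sum_range_succ, smul_add, Finset.sum_add_distrib]
      abel
  -- the key identity
  have hkey : L - f n - ∑ j, b j • Y j = 0 := by
    apply IsHausdorff.haus (I := J) (M := M) inferInstance
    intro k
    rw [SModEq.zero]
    have e : L - f n - ∑ j, b j • Y j =
        (L - f (n + k)) + ∑ j, b j • (g j k - Y j) := by
      have := hsum k
      simp only [smul_sub, Finset.sum_sub_distrib]
      rw [← this]; abel
    rw [e]
    refine add_mem ?_ (Submodule.sum_mem _ fun j _ => Submodule.smul_mem _ _ ?_)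
    · have := hL (n + k)
      rw [SModEq.comm, SModEq.sub_mem] at this
      exact Submodule.smul_mono (Ideal.pow_le_pow_right (Nat.le_add_left k n)) le_rfl this
    · have := hY j k
      rwa [SModEq.sub_mem] at this
  rw [SModEq.comm, SModEq.sub_mem]
  have : L - f n = ∑ j, b j • Y j := by
    rw [sub_eq_zero] at hkey; exact hkey
  rw [this, hb']
  exact Submodule.sum_mem _ fun j _ =>
    Submodule.smul_mem_smul (Ideal.subset_span ⟨j, rfl⟩) Submodule.mem_top

end Groth.Agent.Helper2.AdicLe
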