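import Mathlib

/-! Fredholm index of linear maps between (possibly infinite dimensional) vector spaces:
additivity under composition. -/

namespace Groth.Agent.Helper2.Fredholm

open Module

variable {F : Type*} [Field F] {U V W : Type*} [AddCommGroup U] [Module F U]
  [AddCommGroup V] [Module F V] [AddCommGroup W] [Module F W]

/-- finite dimensional kernel and cokernel -/
structure IsFred (f : U →ₗ[F] V) : Prop where
  ker : FiniteDimensional F (LinearMap.ker f)
  coker : FiniteDimensional F (V ⧸ LinearMap.range f)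

/-- the index -/
noncomputable def ind (f : U →ₗ[F] V) : ℤ :=
  (finrank F (V ⧸ LinearMap.range f) : ℤ) - finrank F (LinearMap.ker f)

/-- rank-nullity without assuming the source is finite dimensional -/
theorem finite_and_finrank {X Y : Type*} [AddCommGroup X] [Module F X] [AddCommGroup Y]
    [Module F Y] (h : X →ₗ[F] Y) [FiniteDimensional F (LinearMap.ker h)]
    [FiniteDimensional F (LinearMap.range h)] :
    FiniteDimensional F X ∧
      finrank F X = finrank F (LinearMap.ker h) + finrank F (LinearMap.range h) := by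
  haveI : FiniteDimensional F (X ⧸ LinearMap.ker h) :=
    Module.Finite.equiv h.quotKerEquivRange.symm
  haveI : FiniteDimensional F X := Module.Finite.of_submodule_quotient (LinearMap.ker h)
  refine ⟨inferInstance, ?_⟩
  rw [add_comm]
  exact (LinearMap.finrank_range_add_finrank_ker h).symm

theorem IsFred.comp {f : U →ₗ[F] V} {g : V →ₗ[F] W} (hf : IsFred f) (hg : IsFred g) :
    IsFred (g ∘ₗ f) ∧ ind (g ∘ₗ f) = ind f + ind g := by
  haveI := hf.ker
  haveI := hf.coker
  haveI := hg.ker
  haveI := hg.coker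
  set kf := LinearMap.ker f with hkf
  set kg := LinearMap.ker g with hkg
  set rf := LinearMap.range f with hrf
  set A := LinearMap.ker (g ∘ₗ f) with hA
  -- RN1
  let f₁ : A →ₗ[F] kg := LinearMap.codRestrict kg (f ∘ₗ A.subtype) (fun a => by
    show g (f a.1) = 0
    exact a.2)
  have hk1 : (LinearMap.ker f₁).map A.subtype = kf := by
    ext u
    simp only [Submodule.mem_map, LinearMap.mem_ker, Submodule.subtype_apply]
    constructor
    · rintro ⟨a, ha, rfl⟩
      have := congrArg Subtype.val ha
      show f a.1 = 0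
      simpa [f₁] using this
    · intro hu
      have hu' : f u = 0 := hu
      have huA : u ∈ A := by
        show g (f u) = 0
        rw [hu', map_zero]
      exact ⟨⟨u, huA⟩, Subtype.ext (by simpa [f₁] using hu'), rfl⟩
  have hr1 : (LinearMap.range f₁).map kg.subtype = kg ⊓ rf := by
    ext v
    simp only [Submodule.mem_map, LinearMap.mem_range, Submodule.subtype_apply, Submodule.mem_inf]
    constructor
    · rintro ⟨y, ⟨a, rfl⟩, rfl⟩
      exact ⟨(f₁ a).2, ⟨a.1, rfl⟩⟩
    · rintro ⟨hv, ⟨u, rfl⟩⟩
      have huA : u ∈ A := by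
        show g (f u) = 0
        exact hv
      exact ⟨f₁ ⟨u, huA⟩, ⟨_, rfl⟩, rfl⟩
  haveI : FiniteDimensional F (LinearMap.ker f₁) := by
    have e := Submodule.equivMapOfInjective A.subtype A.subtype_injective (LinearMap.ker f₁)
    rw [hk1] at e
    exact Module.Finite.equiv e.symm
  have e1 : finrank F (LinearMap.ker f₁) = finrank F kf := by
    rw [← hk1, Submodule.finrank_map_subtype_eq]
  have e1' : finrank F (LinearMap.range f₁) = finrank F ↥(kg ⊓ rf) := by
    rw [← hr1, Submodule.finrank_map_subtype_eq]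
  obtain ⟨hAfin, hAdim⟩ := finite_and_finrank f₁
  -- RN4
  let ι : kg →ₗ[F] V ⧸ rf := rf.mkQ ∘ₗ kg.subtype
  have hk4 : (LinearMap.ker ι).map kg.subtype = kg ⊓ rf := by
    ext v
    simp only [Submodule.mem_map, LinearMap.mem_ker, Submodule.subtype_apply, Submodule.mem_inf]
    constructor
    · rintro ⟨y, hy, rfl⟩
      refine ⟨y.2, ?_⟩
      simpa [ι, Submodule.Quotient.mk_eq_zero] using hy
    · rintro ⟨hv, hv'⟩
      refine ⟨⟨v, hv⟩, ?_, rfl⟩
      simpa [ι, Submodule.Quotient.mk_eq_zero] using hv'
  have e4 : finrank F (LinearMap.ker ι) = finrank F ↥(kg ⊓ rf) := by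
    rw [← hk4, Submodule.finrank_map_subtype_eq]
  have h4 := LinearMap.finrank_range_add_finrank_ker ι
  -- RN2
  have hle : rf ≤ (LinearMap.range (g ∘ₗ f)).comap g := by
    rintro _ ⟨u, rfl⟩
    exact ⟨u, rfl⟩
  let gbar : V ⧸ rf →ₗ[F] W ⧸ LinearMap.range (g ∘ₗ f) := Submodule.mapQ rf _ g hle
  have hk2 : LinearMap.ker gbar = LinearMap.range ι := by
    ext x
    obtain ⟨v, rfl⟩ := Submodule.Quotient.mk_surjective _ x
    simp only [LinearMap.mem_ker, LinearMap.mem_range]
    constructor
    · intro h
      have h' : g v ∈ LinearMap.range (g ∘ₗ f) := by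
        simpa [gbar, Submodule.Quotient.mk_eq_zero] using h
      obtain ⟨u, hu⟩ := h'
      have hmem : v - f u ∈ kg := by
        show g (v - f u) = 0
        rw [map_sub, ← hu]
        simp
      refine ⟨⟨v - f u, hmem⟩, ?_⟩
      simp only [ι, LinearMap.comp_apply, Submodule.subtype_apply, Submodule.mkQ_apply,
        Submodule.Quotient.mk_sub]
      rw [sub_eq_self, Submodule.Quotient.mk_eq_zero]
      exact ⟨u, rfl⟩
    · rintro ⟨y, hy⟩
      rw [← hy]
      simp only [ι, gbar, LinearMap.comp_apply, Submodule.subtype_apply, Submodule.mkQ_apply,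
        Submodule.mapQ_apply]
      have : g y.1 = 0 := y.2
      rw [this]
      simp
  have h2 := LinearMap.finrank_range_add_finrank_ker gbar
  rw [hk2] at h2
  -- RN3
  have hle3 : LinearMap.range (g ∘ₗ f) ≤ (LinearMap.range g).comap LinearMap.id := by
    rintro _ ⟨u, rfl⟩
    exact ⟨f u, rfl⟩
  let π : W ⧸ LinearMap.range (g ∘ₗ f) →ₗ[F] W ⧸ LinearMap.range g :=
    Submodule.mapQ _ _ LinearMap.id hle3
  have hπsurj : Function.Surjective π := by
    intro x
    obtain ⟨w, rfl⟩ := Submodule.Quotient.mk_surjective _ x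
    exact ⟨Submodule.Quotient.mk w, by simp [π]⟩
  have hk3 : LinearMap.ker π = LinearMap.range gbar := by
    ext x
    obtain ⟨w, rfl⟩ := Submodule.Quotient.mk_surjective _ x
    simp only [LinearMap.mem_ker, LinearMap.mem_range]
    constructor
    · intro h
      have h' : w ∈ LinearMap.range g := by
        simpa [π, Submodule.Quotient.mk_eq_zero] using h
      obtain ⟨v, rfl⟩ := h'
      exact ⟨Submodule.Quotient.mk v, by simp [gbar]⟩
    · rintro ⟨y, hy⟩
      obtain ⟨v, rfl⟩ := Submodule.Quotient.mk_surjective _ y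
      rw [← hy]
      simp only [gbar, π, Submodule.mapQ_apply, LinearMap.id_apply]
      rw [Submodule.Quotient.mk_eq_zero]
      exact ⟨v, rfl⟩
  haveI : FiniteDimensional F (LinearMap.ker π) := by
    rw [hk3]; infer_instance
  haveI : FiniteDimensional F (LinearMap.range π) := by
    rw [LinearMap.range_eq_top.mpr hπsurj]
    exact Module.Finite.equiv (Submodule.topEquiv (R := F) (M := W ⧸ LinearMap.range g)).symm
  obtain ⟨hWfin, hWdim⟩ := finite_and_finrank π
  have e3 : finrank F (LinearMap.range π) = finrank F (W ⧸ LinearMap.range g) := by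
    rw [LinearMap.range_eq_top.mpr hπsurj, finrank_top]
  rw [hk3] at hWdim
  refine ⟨⟨hAfin, hWfin⟩, ?_⟩
  simp only [ind]
  rw [← hA, ← hkf, ← hkg, ← hrf]
  rw [hWdim, e3, hAdim, e1, e1']
  rw [e4] at h4
  push_cast
  have h2' : (finrank F (V ⧸ rf) : ℤ) = finrank F (LinearMap.range gbar) + finrank F (LinearMap.range ι) := by
    exact_mod_cast h2.symm
  have h4' : (finrank F kg : ℤ) = finrank F (LinearMap.range ι) + finrank F ↥(kg ⊓ rf) := by
    exact_mod_cast h4.symm
  rw [h2', h4']
  ring

end Groth.Agent.Helper2.Fredholm
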