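import Mathlib
import Groth.Agent.Lib.Helper2.Fredholm

/-! Fredholm index: invariance under equivalences and field base change. -/

namespace Groth.Agent.Helper2.Fredholm

open Module TensorProduct

variable {F : Type*} [Field F] {U V W : Type*} [AddCommGroup U] [Module F U]
  [AddCommGroup V] [Module F V] [AddCommGroup W] [Module F W]

theorem isFred_equiv (e : U ≃ₗ[F] V) : IsFred (e : U →ₗ[F] V) ∧ ind (e : U →ₗ[F] V) = 0 := by
  have hk : LinearMap.ker (e : U →ₗ[F] V) = ⊥ := LinearMap.ker_eq_bot.mpr e.injective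
  have hr : LinearMap.range (e : U →ₗ[F] V) = ⊤ := LinearMap.range_eq_top.mpr e.surjective
  refine ⟨⟨?_, ?_⟩, ?_⟩
  · rw [hk]; infer_instance
  · rw [hr]; infer_instance
  · simp only [ind]
    rw [hk, hr]
    have : finrank F (V ⧸ (⊤ : Submodule F V)) = 0 := by
      haveI : Subsingleton (V ⧸ (⊤ : Submodule F V)) := Submodule.Quotient.subsingleton_iff.mpr rfl
      exact Module.finrank_zero_of_subsingleton
    rw [this]
    simp

theorem IsFred.comp_equiv {g : V →ₗ[F] W} (hg : IsFred g) (e : U ≃ₗ[F] V) :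
    IsFred (g ∘ₗ (e : U →ₗ[F] V)) ∧ ind (g ∘ₗ (e : U →ₗ[F] V)) = ind g := by
  obtain ⟨h1, h2⟩ := isFred_equiv e
  obtain ⟨h3, h4⟩ := h1.comp hg
  exact ⟨h3, by rw [h4, h2, zero_add]⟩

theorem IsFred.equiv_comp {f : U →ₗ[F] V} (hf : IsFred f) (e : V ≃ₗ[F] W) :
    IsFred ((e : V →ₗ[F] W) ∘ₗ f) ∧ ind ((e : V →ₗ[F] W) ∘ₗ f) = ind f := by
  obtain ⟨h1, h2⟩ := isFred_equiv e
  obtain ⟨h3, h4⟩ := hf.comp h1
  exact ⟨h3, by rw [h4, h2, add_zero]⟩

theorem ind_of_finrank {f : U →ₗ[F] V} {X Y : Type*} [AddCommGroup X] [Module F X]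
    [AddCommGroup Y] [Module F Y] (e1 : LinearMap.ker f ≃ₗ[F] X)
    (e2 : (V ⧸ LinearMap.range f) ≃ₗ[F] Y) : ind f = (finrank F Y : ℤ) - finrank F X := by
  simp only [ind]
  rw [e1.finrank_eq, e2.finrank_eq]

variable (E : Type*) [Field E] [Algebra F E]

/-- base change of a Fredholm map along a field extension -/
theorem IsFred.baseChange {f : U →ₗ[F] V} (hf : IsFred f) :
    IsFred (f.baseChange E) ∧ ind (f.baseChange E) = ind f := by
  haveI := hf.ker
  haveI := hf.coker
  -- kernel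
  let ek : E ⊗[F] LinearMap.ker f ≃ₗ[E] LinearMap.ker (f.baseChange E) :=
    LinearMap.tensorKerEquiv E E f
  -- cokernel
  let q : E ⊗[F] V →ₗ[E] E ⊗[F] (V ⧸ LinearMap.range f) :=
    (LinearMap.range f).mkQ.baseChange E
  have hq : Function.Surjective q := by
    have : Function.Surjective ((LinearMap.range f).mkQ.lTensor E) :=
      LinearMap.lTensor_surjective E (Submodule.mkQ_surjective _)
    exact this
  have hex : Function.Exact (f.lTensor E) ((LinearMap.range f).mkQ.lTensor E) :=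
    lTensor_exact E (LinearMap.exact_map_mkQ_range f) (Submodule.mkQ_surjective _)
  have hker : LinearMap.ker q = LinearMap.range (f.baseChange E) := by
    ext x
    rw [LinearMap.mem_ker, LinearMap.mem_range]
    exact hex x
  let ec : ((E ⊗[F] V) ⧸ LinearMap.range (f.baseChange E)) ≃ₗ[E]
      E ⊗[F] (V ⧸ LinearMap.range f) :=
    (Submodule.quotEquivOfEq _ _ hker.symm).trans (q.quotKerEquivOfSurjective hq)
  refine ⟨⟨Module.Finite.equiv ek, Module.Finite.equiv ec.symm⟩, ?_⟩
  simp only [ind]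
  rw [← ek.finrank_eq, ec.finrank_eq, Module.finrank_baseChange, Module.finrank_baseChange]

end Groth.Agent.Helper2.Fredholm
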