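import Mathlib
import Groth.Prelude.Def_EGA41
import Groth.Agent.Lib.Helper2.Fredholm2

/-! Cartier's equality: the index of `L ⊗_K Ω_{K/k} → Ω_{L/k}`; basic properties and
transitivity in towers. -/

namespace Groth.Agent.Helper2.Cartier

open Module TensorProduct KaehlerDifferential Groth.Agent.Helper2.Fredholm

universe u v

section Basic

variable (k : Type v) (K L : Type u) [CommRing k] [Field K] [Field L]
  [Algebra k K] [Algebra K L] [Algebra k L] [IsScalarTower k K L]

/-- the map is Fredholm -/
def Good : Prop := IsFred (KaehlerDifferential.mapBaseChange k K L)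

/-- the index -/
noncomputable def idx : ℤ := ind (KaehlerDifferential.mapBaseChange k K L)

/-- cokernel of `mapBaseChange` is `Ω[L⁄K]` -/
noncomputable def cokerEquiv :
    (Ω[L⁄k] ⧸ LinearMap.range (KaehlerDifferential.mapBaseChange k K L)) ≃ₗ[L] Ω[L⁄K] :=
  (Submodule.quotEquivOfEq _ _ (KaehlerDifferential.range_mapBaseChange k K L)).trans
    ((KaehlerDifferential.map k K L L).quotKerEquivOfSurjective
      (KaehlerDifferential.map_surjective k K L))

theorem good_iff : Good k K L ↔
    Module.Finite L (Ω[L⁄K]) ∧ Module.Finite L (EGA41.imperfection k K L) := by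
  constructor
  · intro h
    haveI := h.ker
    haveI := h.coker
    exact ⟨Module.Finite.equiv (cokerEquiv k K L), h.ker⟩
  · rintro ⟨h1, h2⟩
    exact ⟨h2, Module.Finite.equiv (cokerEquiv k K L).symm⟩

theorem idx_eq : idx k K L =
    (finrank L (Ω[L⁄K]) : ℤ) - finrank L (EGA41.imperfection k K L) := by
  unfold idx
  exact ind_of_finrank (LinearEquiv.refl L _) (cokerEquiv k K L)

end Basic

section Tower

variable (k : Type v) (K M L : Type u) [CommRing k] [Field K] [Field M] [Field L]
  [Algebra k K] [Algebra k M] [Algebra k L] [Algebra K M] [Algebra M L] [Algebra K L]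
  [IsScalarTower k K M] [IsScalarTower k M L] [IsScalarTower k K L] [IsScalarTower K M L]

theorem map_map_tower (x : Ω[K⁄k]) :
    KaehlerDifferential.map k k M L (KaehlerDifferential.map k k K M x) =
      KaehlerDifferential.map k k K L x := by
  have hx : x ∈ Submodule.span K (Set.range (KaehlerDifferential.D k K)) := by
    rw [KaehlerDifferential.span_range_derivation]; trivial
  induction hx using Submodule.span_induction with
  | mem y hy =>
    obtain ⟨a, rfl⟩ := hy
    simp only [KaehlerDifferential.map_D]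
    rw [← IsScalarTower.algebraMap_apply]
  | zero => simp
  | add a b _ _ ha hb => simp only [map_add, ha, hb]
  | smul c a _ ha =>
    rw [LinearMap.map_smul (KaehlerDifferential.map k k K M),
      LinearMap.map_smul (KaehlerDifferential.map k k K L), ← ha]
    rw [← algebraMap_smul M c ((KaehlerDifferential.map k k K M) a), LinearMap.map_smul,
      algebraMap_smul]

theorem tower_comm :
    (KaehlerDifferential.mapBaseChange k K L) ∘ₗ
        ((AlgebraTensorModule.cancelBaseChange K M L L (Ω[K⁄k])) :
          L ⊗[M] (M ⊗[K] Ω[K⁄k]) →ₗ[L] L ⊗[K] Ω[K⁄k]) =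
      (KaehlerDifferential.mapBaseChange k M L) ∘ₗ
        (KaehlerDifferential.mapBaseChange k K M).baseChange L := by
  apply TensorProduct.AlgebraTensorModule.ext
  intro l y
  induction y with
  | zero => simp
  | add a b ha hb => simp only [tmul_add, map_add, ha, hb]
  | tmul m w =>
    simp only [LinearMap.coe_comp, LinearEquiv.coe_coe, Function.comp_apply,
      AlgebraTensorModule.cancelBaseChange_tmul, KaehlerDifferential.mapBaseChange_tmul,
      LinearMap.baseChange_tmul, map_smul]
    rw [map_map_tower, smul_assoc, smul_comm]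

theorem good_trans (h1 : Good k K M) (h2 : Good k M L) :
    Good k K L ∧ idx k K L = idx k K M + idx k M L := by
  obtain ⟨hb, hbi⟩ := IsFred.baseChange L h1
  obtain ⟨hc, hci⟩ := hb.comp h2
  rw [← tower_comm] at hc hci
  obtain ⟨hd, hdi⟩ := hc.comp_equiv (AlgebraTensorModule.cancelBaseChange K M L L (Ω[K⁄k])).symm
  have e : ((KaehlerDifferential.mapBaseChange k K L) ∘ₗ
        ((AlgebraTensorModule.cancelBaseChange K M L L (Ω[K⁄k])) :
          L ⊗[M] (M ⊗[K] Ω[K⁄k]) →ₗ[L] L ⊗[K] Ω[K⁄k])) ∘ₗ
      ((AlgebraTensorModule.cancelBaseChange K M L L (Ω[K⁄k])).symm :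
          L ⊗[K] Ω[K⁄k] →ₗ[L] L ⊗[M] (M ⊗[K] Ω[K⁄k])) =
      KaehlerDifferential.mapBaseChange k K L := by
    ext x
    simp
  rw [e] at hd hdi
  refine ⟨hd, ?_⟩
  unfold idx
  rw [hdi, hci, hbi]

end Tower

end Groth.Agent.Helper2.Cartier
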