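import Mathlib
import Groth.Prelude.Def_EGA41
import Groth.Agent.Lib.Helper2.CartierIdx
import Groth.Agent.Lib.Helper2.SepMain

/-! Cartier's equality: the elementary steps. -/

namespace Groth.Agent.Helper2.Cartier

open Module TensorProduct KaehlerDifferential Groth.Agent.Helper2.Fredholm

universe u v

section Etale

variable (k : Type v) (K L : Type u) [CommRing k] [Field K] [Field L]
  [Algebra k K] [Algebra K L] [Algebra k L] [IsScalarTower k K L]

theorem good_of_formallyEtale [Algebra.FormallyEtale K L] : Good k K L ∧ idx k K L = 0 := by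
  have e : ((KaehlerDifferential.tensorKaehlerEquivOfFormallyEtale k K L :
      L ⊗[K] Ω[K⁄k] ≃ₗ[L] Ω[L⁄k]) : L ⊗[K] Ω[K⁄k] →ₗ[L] Ω[L⁄k]) =
      KaehlerDifferential.mapBaseChange k K L := by
    ext x
    simp
  have := isFred_equiv (KaehlerDifferential.tensorKaehlerEquivOfFormallyEtale k K L)
  rw [e] at this
  exact this

end Etale

section Simple

variable (K L : Type u) [Field K] [Field L] [Algebra K L]

/-- the subfield of elements whose differential lies in a given subspace -/
def diffField (W : Submodule L (Ω[L⁄K])) : IntermediateField K L where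
  carrier := {x | KaehlerDifferential.D K L x ∈ W}
  mul_mem' {a b} ha hb := by
    show KaehlerDifferential.D K L (a * b) ∈ W
    rw [Derivation.leibniz]
    exact W.add_mem (W.smul_mem _ hb) (W.smul_mem _ ha)
  one_mem' := by
    show KaehlerDifferential.D K L 1 ∈ W
    rw [Derivation.map_one_eq_zero]
    exact W.zero_mem
  add_mem' {a b} ha hb := by
    show KaehlerDifferential.D K L (a + b) ∈ W
    rw [map_add]
    exact W.add_mem ha hb
  zero_mem' := by
    show KaehlerDifferential.D K L 0 ∈ W
    rw [map_zero]
    exact W.zero_mem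
  algebraMap_mem' r := by
    show KaehlerDifferential.D K L (algebraMap K L r) ∈ W
    rw [Derivation.map_algebraMap]
    exact W.zero_mem
  inv_mem' x hx := by
    show KaehlerDifferential.D K L x⁻¹ ∈ W
    rw [Derivation.leibniz_inv]
    exact W.smul_mem _ hx

variable {K L}

theorem span_D_eq_top {t : L} (ht : IntermediateField.adjoin K {t} = ⊤) :
    Submodule.span L {KaehlerDifferential.D K L t} = ⊤ := by
  set W := Submodule.span L {KaehlerDifferential.D K L t} with hW
  have h1 : IntermediateField.adjoin K {t} ≤ diffField K L W := by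
    rw [IntermediateField.adjoin_le_iff]
    intro x hx
    rw [Set.mem_singleton_iff] at hx
    subst hx
    exact Submodule.subset_span rfl
  rw [ht] at h1
  rw [eq_top_iff, ← KaehlerDifferential.span_range_derivation, Submodule.span_le]
  rintro _ ⟨x, rfl⟩
  exact h1 (IntermediateField.mem_top (x := x))

theorem finite_kaehler_of_simple {t : L} (ht : IntermediateField.adjoin K {t} = ⊤) :
    Module.Finite L (Ω[L⁄K]) ∧ finrank L (Ω[L⁄K]) ≤ 1 := by
  have h := span_D_eq_top ht
  have hfin : Module.Finite L (Ω[L⁄K]) := by
    rw [Module.finite_def, ← h]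
    exact Submodule.fg_span_singleton _
  refine ⟨hfin, ?_⟩
  have h2 : finrank L (Submodule.span L {KaehlerDifferential.D K L t}) ≤ 1 := by
    refine (finrank_span_le_card _).trans ?_
    simp
  rw [h] at h2
  rwa [finrank_top] at h2

theorem finrank_kaehler_of_simple [Algebra.EssFiniteType K L] {t : L}
    (ht : IntermediateField.adjoin K {t} = ⊤) (hns : ¬ Algebra.IsSeparable K L) :
    finrank L (Ω[L⁄K]) = 1 := by
  obtain ⟨hfin, hle⟩ := finite_kaehler_of_simple ht
  by_contra hne
  have h0 : finrank L (Ω[L⁄K]) = 0 := by omega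
  have hs : Subsingleton (Ω[L⁄K]) := Module.finrank_zero_iff.mp h0
  haveI : Algebra.FormallyUnramified K L := ⟨hs⟩
  exact hns (Algebra.FormallyUnramified.isSeparable K L)

end Simple

section Transc

variable (k : Type v) (K L : Type u) [CommRing k] [Field K] [Field L]
  [Algebra k K] [Algebra K L] [Algebra k L] [IsScalarTower k K L]

theorem good_of_injective (hinj : Function.Injective (KaehlerDifferential.mapBaseChange k K L))
    [Module.Finite L (Ω[L⁄K])] :
    Good k K L ∧ idx k K L = finrank L (Ω[L⁄K]) := by
  have hbot : EGA41.imperfection k K L = ⊥ := LinearMap.ker_eq_bot.mpr hinj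
  have hfin : Module.Finite L (EGA41.imperfection k K L) := by
    rw [hbot]; infer_instance
  refine ⟨(good_iff k K L).mpr ⟨inferInstance, hfin⟩, ?_⟩
  rw [idx_eq, hbot, finrank_bot]
  simp

variable {K L}

theorem trdeg_of_transcendental {t : L} (ht : IntermediateField.adjoin K {t} = ⊤)
    (htr : Transcendental K t) : Algebra.trdeg K L = 1 := by
  apply le_antisymm
  · haveI : Algebra.IsAlgebraic (Algebra.adjoin K ({t} : Set L)) L := by
      rw [← IntermediateField.isAlgebraic_adjoin_iff_top, ht]
      refine ⟨fun x => ?_⟩
      exact isAlgebraic_algebraMap (⟨x, IntermediateField.mem_top⟩ : (⊤ : IntermediateField K L))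
    have := Algebra.IsAlgebraic.trdeg_le_cardinalMk K ({t} : Set L)
    simpa using this
  · have hai : AlgebraicIndependent K (fun _ : PUnit.{u+1} => t) :=
      algebraicIndependent_unique_type_iff.mpr htr
    have := hai.cardinalMk_le_trdeg
    simpa using this

theorem good_of_transcendental [Algebra.EssFiniteType K L] {t : L}
    (ht : IntermediateField.adjoin K {t} = ⊤) (htr : Transcendental K t) :
    Good k K L ∧ idx k K L = 1 := by
  have hai : AlgebraicIndependent K (fun _ : Unit => t) :=
    algebraicIndependent_unique_type_iff.mpr htr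
  have hr : Set.range (fun _ : Unit => t) = {t} := Set.range_const
  haveI : Algebra.IsSeparable (IntermediateField.adjoin K (Set.range (fun _ : Unit => t))) L := by
    rw [hr, ht]
    refine ⟨fun x => ?_⟩
    exact isSeparable_algebraMap (⟨x, IntermediateField.mem_top⟩ : (⊤ : IntermediateField K L))
  haveI : Algebra.IsGeometricallyReduced K L :=
    Groth.Agent.Helper2.Sep.isGeometricallyReduced_of_separablyGenerated hai
  have hinj := Groth.Agent.Helper2.Sep.injective_mapBaseChange_of_isGeometricallyReduced K L k
  have hns : ¬ Algebra.IsSeparable K L := by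
    intro h
    exact htr (h.isAlgebraic.isAlgebraic t)
  obtain ⟨hfin, -⟩ := finite_kaehler_of_simple ht
  obtain ⟨hg, hi⟩ := good_of_injective k K L hinj
  refine ⟨hg, ?_⟩
  rw [hi, finrank_kaehler_of_simple ht hns]
  rfl

end Transc

section H1

variable {K L : Type u} [Field K] [Field L] [Algebra K L]

theorem h1Cotangent_of_simple {b : L} (hb : IsIntegral K b)
    (ht : IntermediateField.adjoin K {b} = ⊤) :
    Module.Finite L (Algebra.H1Cotangent K L) ∧ finrank L (Algebra.H1Cotangent K L) ≤ 1 := by
  have hsurj : Function.Surjective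
      (MvPolynomial.aeval (fun _ : Unit => b) : MvPolynomial Unit K →ₐ[K] L) := by
    rw [← AlgHom.range_eq_top, ← Algebra.adjoin_range_eq_range_aeval, Set.range_const]
    have := IntermediateField.adjoin_simple_toSubalgebra_of_isAlgebraic hb.isAlgebraic
    rw [ht] at this
    rw [← this]
    rfl
  let P := Algebra.Generators.ofSurjective (fun _ : Unit => b) hsurj
  haveI : IsPrincipalIdealRing (MvPolynomial Unit K) :=
    IsPrincipalIdealRing.of_surjective
      (MvPolynomial.uniqueAlgEquiv K Unit).symm.toRingEquiv.toRingHom
      (MvPolynomial.uniqueAlgEquiv K Unit).symm.surjective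
  haveI : IsPrincipalIdealRing P.toExtension.Ring :=
    inferInstanceAs (IsPrincipalIdealRing (MvPolynomial Unit K))
  obtain ⟨f, hf⟩ := (IsPrincipalIdealRing.principal P.toExtension.ker).principal
  have hfm : f ∈ P.toExtension.ker := by
    rw [hf]; exact Submodule.mem_span_singleton_self f
  have hspan : Submodule.span L
      {Algebra.Extension.Cotangent.mk (P := P.toExtension) ⟨f, hfm⟩} = ⊤ := by
    have := Algebra.Extension.Cotangent.span_eq_top_of_span_eq_ker (P := P.toExtension)
      (fun _ : Unit => f) (by rw [Set.range_const]; exact hf.symm)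
    have hr : (Set.range fun _ : Unit =>
        Algebra.Extension.Cotangent.mk (P := P.toExtension) ⟨f, hfm⟩) =
        {Algebra.Extension.Cotangent.mk (P := P.toExtension) ⟨f, hfm⟩} := Set.range_const
    rw [← hr]
    exact this
  haveI hfinC : Module.Finite L P.toExtension.Cotangent := by
    rw [Module.finite_def, ← hspan]
    exact Submodule.fg_span_singleton _
  have hrkC : finrank L P.toExtension.Cotangent ≤ 1 := by
    have h2 := finrank_span_le_card (R := L)
      ({Algebra.Extension.Cotangent.mk (P := P.toExtension) ⟨f, hfm⟩} :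
        Set P.toExtension.Cotangent)
    rw [hspan, finrank_top] at h2
    refine h2.trans ?_
    simp
  haveI hfinH : Module.Finite L P.toExtension.H1Cotangent :=
    inferInstanceAs (Module.Finite L (LinearMap.ker P.toExtension.cotangentComplex))
  have hrkH : finrank L P.toExtension.H1Cotangent ≤ 1 :=
    (Submodule.finrank_le (LinearMap.ker P.toExtension.cotangentComplex)).trans hrkC
  refine ⟨Module.Finite.equiv P.equivH1Cotangent, ?_⟩
  rw [← P.equivH1Cotangent.finrank_eq]
  exact hrkH

end H1

section Alg

variable (k : Type v) {K L : Type u} [CommRing k] [Field K] [Field L]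
  [Algebra k K] [Algebra K L] [Algebra k L] [IsScalarTower k K L]

theorem imperfection_of_simple {b : L} (hb : IsIntegral K b)
    (ht : IntermediateField.adjoin K {b} = ⊤) :
    Module.Finite L (EGA41.imperfection k K L) ∧ finrank L (EGA41.imperfection k K L) ≤ 1 := by
  obtain ⟨hfin, hrk⟩ := h1Cotangent_of_simple hb ht
  have he : EGA41.imperfection k K L = LinearMap.range (Algebra.H1Cotangent.δ k K L) :=
    LinearMap.exact_iff.mp (Algebra.H1Cotangent.exact_δ_mapBaseChange k K L)
  rw [he]
  exact ⟨inferInstance, (LinearMap.finrank_range_le _).trans hrk⟩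

theorem good_of_simple_algebraic [Algebra.EssFiniteType K L] {b : L} (hb : IsIntegral K b)
    (ht : IntermediateField.adjoin K {b} = ⊤) :
    Good k K L ∧ 0 ≤ idx k K L ∧
      ((EGA41.imperfection k K L = ⊥ → Algebra.IsSeparable K L) → idx k K L = 0) := by
  obtain ⟨hΥf, hΥr⟩ := imperfection_of_simple k hb ht
  obtain ⟨hΩf, hΩr⟩ := finite_kaehler_of_simple ht
  have hgood : Good k K L := (good_iff k K L).mpr ⟨hΩf, hΥf⟩
  refine ⟨hgood, ?_⟩
  by_cases hsep : Algebra.IsSeparable K L
  · haveI : Algebra.FormallyEtale K L := Algebra.FormallyEtale.of_isSeparable K L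
    obtain ⟨-, h0⟩ := good_of_formallyEtale k K L
    exact ⟨h0.ge, fun _ => h0⟩
  · have h1 := finrank_kaehler_of_simple ht hsep
    rw [idx_eq, h1]
    refine ⟨by omega, fun H => ?_⟩
    have hne : EGA41.imperfection k K L ≠ ⊥ := fun h => hsep (H h)
    have hpos : finrank L (EGA41.imperfection k K L) ≠ 0 := by
      intro h0
      exact hne (Submodule.finrank_eq_zero.mp h0)
    omega

end Alg

end Groth.Agent.Helper2.Cartier
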