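import Mathlib
import Groth.Prelude.Def_EGA41
import Groth.Agent.Lib.Helper2.CartierSteps

/-! Cartier's equality: the induction on generators. -/

namespace Groth.Agent.Helper2.Cartier

open Module TensorProduct KaehlerDifferential Groth.Agent.Helper2.Fredholm

universe u v

/-- the base ring detects inseparability of algebraic extensions through the imperfection module -/
def NonDeg (k : Type v) [CommRing k] : Prop :=
  ∀ (K L : Type u) [Field K] [Field L] [Algebra k K] [Algebra K L] [Algebra k L]
    [IsScalarTower k K L] [Algebra.IsAlgebraic K L],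
    EGA41.imperfection k K L = ⊥ → Algebra.IsSeparable K L

section Q

variable (k : Type v) [CommRing k]

/-- Cartier's inequality, and equality for nondegenerate base -/
def Q (K L : Type u) [Field K] [Field L] [Algebra k K] [Algebra K L] [Algebra k L]
    [IsScalarTower k K L] : Prop :=
  Good k K L ∧ (Cardinal.toNat (Algebra.trdeg K L) : ℤ) ≤ idx k K L ∧
    (NonDeg.{u, v} k → idx k K L = (Cardinal.toNat (Algebra.trdeg K L) : ℤ))

theorem Q_trans (K M L : Type u) [Field K] [Field M] [Field L]
    [Algebra k K] [Algebra k M] [Algebra k L] [Algebra K M] [Algebra M L] [Algebra K L]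
    [IsScalarTower k K M] [IsScalarTower k M L] [IsScalarTower k K L] [IsScalarTower K M L]
    (hKM : Algebra.trdeg K M < Cardinal.aleph0) (hML : Algebra.trdeg M L < Cardinal.aleph0)
    (h1 : Q k K M) (h2 : Q k M L) : Q k K L := by
  obtain ⟨g1, i1, e1⟩ := h1
  obtain ⟨g2, i2, e2⟩ := h2
  obtain ⟨g, hi⟩ := good_trans k K M L g1 g2
  have ht : (Cardinal.toNat (Algebra.trdeg K L) : ℤ) =
      (Cardinal.toNat (Algebra.trdeg K M) : ℤ) + (Cardinal.toNat (Algebra.trdeg M L) : ℤ) := by
    rw [← _root_.trdeg_add_eq K M (A := L), Cardinal.toNat_add hKM hML]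
    push_cast
    rfl
  refine ⟨g, ?_, fun hN => ?_⟩
  · rw [hi, ht]; omega
  · rw [hi, ht, e1 hN, e2 hN]

theorem Q_simple {K M : Type u} [Field K] [Field M] [Algebra k K] [Algebra k M] [Algebra K M]
    [IsScalarTower k K M] [Algebra.EssFiniteType K M] {a : M}
    (ha : IntermediateField.adjoin K {a} = ⊤) : Q k K M := by
  by_cases hint : IsIntegral K a
  · obtain ⟨g, h0, he⟩ := good_of_simple_algebraic k hint ha
    haveI : Algebra.IsAlgebraic K M := by
      have h1 : Algebra.IsAlgebraic K (IntermediateField.adjoin K {a}) :=
        IntermediateField.isAlgebraic_adjoin_simple hint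
      rw [ha] at h1
      exact ⟨fun x =>
        (h1.isAlgebraic (⟨x, IntermediateField.mem_top⟩ :
          (⊤ : IntermediateField K M))).algebraMap (A := M)⟩
    have ht : Algebra.trdeg K M = 0 := _root_.trdeg_eq_zero
    refine ⟨g, ?_, fun hN => ?_⟩
    · rw [ht]; simpa using h0
    · rw [ht]
      simpa using he (hN K M)
  · have htr : Transcendental K a := fun h => hint h.isIntegral
    obtain ⟨g, hi⟩ := good_of_transcendental k ha htr
    have ht := trdeg_of_transcendental ha htr
    refine ⟨g, ?_, fun _ => ?_⟩
    · rw [ht, hi]; simp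
    · rw [ht, hi]; simp

theorem adjoin_gen_eq_top {K L : Type u} [Field K] [Field L] [Algebra K L] (a : L) :
    IntermediateField.adjoin K {IntermediateField.AdjoinSimple.gen K a} =
      (⊤ : IntermediateField K (IntermediateField.adjoin K {a})) := by
  apply IntermediateField.lift_injective
  rw [IntermediateField.lift_adjoin_simple, IntermediateField.lift_top]
  rfl

theorem Q_of_adjoin (L : Type u) [Field L] [Algebra k L] (S : Finset L) :
    ∀ (K : Type u) [Field K] [Algebra k K] [Algebra K L] [IsScalarTower k K L],
      IntermediateField.adjoin K (S : Set L) = ⊤ → Q k K L := by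
  classical
  induction S using Finset.induction_on with
  | empty =>
    intro K _ _ _ _ h
    have h0 : IntermediateField.adjoin K {(0 : L)} = ⊤ := by
      rw [IntermediateField.adjoin_zero, ← h, Finset.coe_empty, IntermediateField.adjoin_empty]
    haveI : Algebra.EssFiniteType K L := by
      rw [← IntermediateField.fg_top_iff]
      exact ⟨{0}, by simpa using h0⟩
    exact Q_simple k h0
  | insert a S' ha ih =>
    intro K _ _ _ _ h
    have hML : IntermediateField.adjoin (IntermediateField.adjoin K {a}) (S' : Set L) = ⊤ := by
      rw [← IntermediateField.restrictScalars_eq_top_iff (K := K),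
        IntermediateField.adjoin_adjoin_left, ← h, Finset.coe_insert, Set.singleton_union]
    haveI : IsScalarTower k (IntermediateField.adjoin K {a}) L :=
      IsScalarTower.of_algebraMap_eq (fun x => rfl)
    have q2 := ih (IntermediateField.adjoin K {a}) hML
    haveI e1 : Algebra.EssFiniteType K (IntermediateField.adjoin K {a}) :=
      IntermediateField.essFiniteType_iff.mpr
        (IntermediateField.fg_adjoin_of_finite (Set.finite_singleton a))
    haveI e2 : Algebra.EssFiniteType (IntermediateField.adjoin K {a}) L := by
      rw [← IntermediateField.fg_top_iff]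
      exact ⟨S', hML⟩
    have q1 : Q k K (IntermediateField.adjoin K {a}) := Q_simple k (adjoin_gen_eq_top a)
    exact Q_trans k K (IntermediateField.adjoin K {a}) L (trdeg_lt_aleph0 _ _)
      (trdeg_lt_aleph0 _ _) q1 q2

theorem Q_of_essFiniteType (K L : Type u) [Field K] [Field L] [Algebra k K] [Algebra K L]
    [Algebra k L] [IsScalarTower k K L] [Algebra.EssFiniteType K L] : Q k K L := by
  obtain ⟨S, hS⟩ := (IntermediateField.fg_top_iff (F := K) (E := L)).mpr inferInstance
  exact Q_of_adjoin k L S K hS

end Q

end Groth.Agent.Helper2.Cartier
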