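import Mathlib
import Groth.Agent.Lib.Helper2.SepMain

/-! Algebraic geometrically reduced field extensions are separable. -/

namespace Groth.Agent.Helper2.Cartier

open Groth.Agent.Helper2.Sep

theorem isSeparable_of_macLane {K L : Type*} [Field K] [Field L] [Algebra K L] (p : ℕ)
    [Fact p.Prime] [CharP K p] (h : MacLane K L p) {b : L} (hb : IsIntegral K b) :
    IsSeparable K b := by
  have hp : p.Prime := Fact.out
  rcases Polynomial.separable_or p (minpoly.irreducible hb) with hs | ⟨-, g, hg, hgf⟩
  · exact hs
  · exfalso
    have hdeg : (minpoly K b).natDegree = g.natDegree * p := by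
      rw [← hgf, Polynomial.natDegree_expand]
    have hg0 : g ≠ 0 := hg.ne_zero
    have hm : 0 < g.natDegree := by
      by_contra h0
      have h1 : g.natDegree = 0 := by omega
      have h2 : (minpoly K b).natDegree = 0 := by rw [hdeg, h1, zero_mul]
      exact (minpoly.natDegree_pos hb).ne' h2
    have hle : g.natDegree + 1 ≤ (minpoly K b).natDegree := by
      rw [hdeg]
      nlinarith [hp.two_le]
    have hli : LinearIndependent K (fun j : Fin (g.natDegree + 1) => b ^ (j : ℕ)) :=
      (linearIndependent_pow (K := K) b).comp (Fin.castLE hle) (Fin.castLE_injective hle)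
    have h2 := h (g.natDegree + 1) _ hli
    rw [Fintype.linearIndependent_iff] at h2
    have h3 := h2 (fun j => g.coeff j) ?_ (Fin.last g.natDegree)
    · exact Polynomial.leadingCoeff_ne_zero.mpr hg0 h3
    · have h4 : Polynomial.aeval b (Polynomial.expand K p g) = 0 := by
        rw [hgf]; exact minpoly.aeval K b
      rw [Polynomial.expand_aeval, Polynomial.aeval_eq_sum_range, Finset.sum_range] at h4
      rw [← h4]
      refine Finset.sum_congr rfl fun j _ => ?_
      rw [← pow_mul, ← pow_mul, mul_comm]

theorem isSeparable_of_isGeometricallyReduced {K L : Type*} [Field K] [Field L] [Algebra K L]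
    [Algebra.IsAlgebraic K L] [Algebra.IsGeometricallyReduced K L] : Algebra.IsSeparable K L := by
  obtain h0 | ⟨p, hp, hpk⟩ := CharP.exists' K
  · infer_instance
  · haveI := hp
    have hm : MacLane K L p := macLane_of_isGeometricallyReduced p
    exact ⟨fun b => isSeparable_of_macLane p hm (Algebra.IsIntegral.isIntegral b)⟩

end Groth.Agent.Helper2.Cartier
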