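import Mathlib
import Groth.Prelude.Def_EGA41
import Groth.Agent.Lib.Helper2.CartierMain
import Groth.Agent.Lib.Helper2.CartierSep

/-! Cartier's equality: final statements. -/

namespace Groth.Agent.Helper2.Cartier

open Module TensorProduct KaehlerDifferential Groth.Agent.Helper2.Fredholm

universe u v

theorem nonDeg_int : NonDeg.{u, 0} ℤ := by
  intro K L _ _ i1 _ i2 _ _ h
  obtain rfl : i1 = Ring.toIntAlgebra K := Subsingleton.elim _ _
  obtain rfl : i2 = Ring.toIntAlgebra L := Subsingleton.elim _ _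
  have hinj : Function.Injective (KaehlerDifferential.mapBaseChange ℤ K L) :=
    LinearMap.ker_eq_bot.mp h
  haveI : Algebra.IsGeometricallyReduced K L :=
    (Groth.Agent.Helper2.Sep.isGeometricallyReduced_iff_injective_int K L).mpr hinj
  exact isSeparable_of_isGeometricallyReduced

/-- Cartier's inequality -/
theorem cartier_le (k : Type v) [CommRing k] (K L : Type u) [Field K] [Field L] [Algebra k K]
    [Algebra K L] [Algebra k L] [IsScalarTower k K L] [Algebra.EssFiniteType K L] :
    Module.Finite L (Ω[L⁄K]) ∧ Module.Finite L (EGA41.imperfection k K L) ∧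
      (Cardinal.toNat (Algebra.trdeg K L) : ℤ) ≤
        (Module.finrank L (Ω[L⁄K]) : ℤ) - Module.finrank L (EGA41.imperfection k K L) := by
  obtain ⟨g, hle, -⟩ := Q_of_essFiniteType k K L
  obtain ⟨h1, h2⟩ := (good_iff k K L).mp g
  refine ⟨h1, h2, ?_⟩
  rw [← idx_eq]
  exact hle

/-- Cartier's equality -/
theorem cartier_eq (K L : Type u) [Field K] [Field L] [Algebra K L] [Algebra.EssFiniteType K L] :
    Module.Finite L (Ω[L⁄K]) ∧ Module.Finite L (EGA41.imperfection ℤ K L) ∧
      (Module.finrank L (Ω[L⁄K]) : ℤ) - Module.finrank L (EGA41.imperfection ℤ K L) =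
        Cardinal.toNat (Algebra.trdeg K L) := by
  obtain ⟨g, -, he⟩ := Q_of_essFiniteType ℤ K L
  obtain ⟨h1, h2⟩ := (good_iff ℤ K L).mp g
  refine ⟨h1, h2, ?_⟩
  rw [← idx_eq]
  exact he nonDeg_int

theorem isFred_finite_source {F : Type*} [Field F] {U V : Type*} [AddCommGroup U] [Module F U]
    [AddCommGroup V] [Module F V] {f : U →ₗ[F] V} (hf : IsFred f) [FiniteDimensional F V] :
    FiniteDimensional F U ∧ ind f = (finrank F V : ℤ) - finrank F U := by
  haveI := hf.ker
  obtain ⟨h1, h2⟩ := finite_and_finrank f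
  refine ⟨h1, ?_⟩
  have h3 := Submodule.finrank_quotient_add_finrank (LinearMap.range f)
  simp only [ind]
  omega

/-- the three-field version -/
theorem cartier_three (k K L : Type u) [Field k] [Field K] [Field L]
    [Algebra k K] [Algebra K L] [Algebra k L] [IsScalarTower k K L] [Algebra.EssFiniteType k L] :
    Module.Finite L (Ω[L⁄k]) ∧ Module.Finite K (Ω[K⁄k]) ∧
      (Cardinal.toNat (Algebra.trdeg K L) : ℤ) ≤
        (Module.finrank L (Ω[L⁄k]) : ℤ) - Module.finrank K (Ω[K⁄k]) := by
  haveI : Algebra.EssFiniteType K L := Algebra.EssFiniteType.of_comp k K L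
  obtain ⟨g, hle, -⟩ := Q_of_essFiniteType k K L
  haveI hL : Module.Finite L (Ω[L⁄k]) := inferInstance
  obtain ⟨h1, h2⟩ := isFred_finite_source g
  have h3 : finrank L (L ⊗[K] Ω[K⁄k]) = finrank K (Ω[K⁄k]) := Module.finrank_baseChange
  have hK : Module.Finite K (Ω[K⁄k]) := by
    rw [← Module.rank_lt_aleph0_iff]
    have h4 : Module.rank L (L ⊗[K] Ω[K⁄k]) < Cardinal.aleph0 := Module.rank_lt_aleph0_iff.mpr h1
    rw [Module.rank_baseChange] at h4
    simpa using h4
  refine ⟨hL, hK, ?_⟩
  rw [← h3]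
  unfold idx at hle
  rw [h2] at hle
  exact hle

end Groth.Agent.Helper2.Cartier
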