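import Mathlib

/-! Linear independence over a directed intersection of subfields descends to a member. -/

namespace Groth.Agent.Helper2.LinDescent

variable {K : Type*} [Field K]

/-- concrete linear independence over a subset of scalars -/
def LI (F : Set K) {n : ℕ} (v : Fin n → K) : Prop :=
  ∀ c : Fin n → K, (∀ j, c j ∈ F) → ∑ j, c j * v j = 0 → ∀ j, c j = 0

theorem LI.mono {F G : Set K} (h : G ⊆ F) {n : ℕ} {v : Fin n → K} (hv : LI F v) : LI G v :=
  fun c hc hs => hv c (fun j => h (hc j)) hs

theorem li_iff (R : Type*) [CommRing R] [Algebra R K]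
    (hinj : Function.Injective (algebraMap R K)) {n : ℕ} (v : Fin n → K) :
    LinearIndependent R v ↔ LI (Set.range (algebraMap R K)) v := by
  rw [Fintype.linearIndependent_iff]
  constructor
  · intro h c hc hs j
    choose g hg using hc
    have h1 : ∑ i, g i • v i = 0 := by
      rw [← hs]
      refine Finset.sum_congr rfl fun i _ => ?_
      rw [Algebra.smul_def, hg]
    rw [← hg j, h g h1 j, map_zero]
  · intro h g hs j
    have h1 := h (fun i => algebraMap R K (g i)) (fun i => ⟨g i, rfl⟩) (by
      rw [← hs]
      refine Finset.sum_congr rfl fun i _ => ?_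
      rw [Algebra.smul_def]) j
    exact hinj (by rw [h1, map_zero])

theorem exists_LI {ι : Type*} [Preorder ι] [IsDirected ι (· ≤ ·)] [Nonempty ι]
    (F : ι → Subfield K) (hF : Antitone F) :
    ∀ (n : ℕ) (v : Fin n → K), LI ((⨅ i, F i : Subfield K) : Set K) v → ∃ i, LI (F i : Set K) v := by
  intro n
  induction n with
  | zero => exact fun v _ => ⟨Classical.arbitrary ι, fun c _ _ j => j.elim0⟩
  | succ n ih =>
    intro v hv
    set w : Fin n → K := fun j => v j.castSucc with hw
    set l : K := v (Fin.last n) with hl
    have hsum : ∀ c : Fin (n + 1) → K,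
        ∑ j, c j * v j = ∑ j : Fin n, c j.castSucc * w j + c (Fin.last n) * l := by
      intro c
      rw [Fin.sum_univ_castSucc]
    have hwLI : LI ((⨅ i, F i : Subfield K) : Set K) w := by
      intro c hc hs j
      have h1 := hv (Fin.snoc c 0) (fun j => by
        refine Fin.lastCases ?_ (fun j => ?_) j
        · simp only [Fin.snoc_last]; exact Subfield.zero_mem _
        · simp only [Fin.snoc_castSucc]; exact hc j) (by
        rw [hsum]
        simp only [Fin.snoc_castSucc, Fin.snoc_last, zero_mul, add_zero]
        exact hs) j.castSucc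
      simpa using h1
    obtain ⟨α, hα⟩ := ih w hwLI
    by_contra hne
    push Not at hne
    -- key claim
    have key : ∀ β, α ≤ β → ∃ d : Fin n → K, (∀ j, d j ∈ F β) ∧ l = ∑ j, d j * w j := by
      intro β hβ
      have h1 := hne β
      unfold LI at h1
      push Not at h1
      obtain ⟨c, hc, hs, j₀, hj₀⟩ := h1
      rw [hsum] at hs
      have hcl : c (Fin.last n) ≠ 0 := by
        intro h0
        rw [h0, zero_mul, add_zero] at hs
        have h2 := hα (fun j => c j.castSucc) (fun j => hF hβ (hc j.castSucc)) hs
        apply hj₀
        refine Fin.lastCases h0 (fun j => h2 j) j₀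
      refine ⟨fun j => -(c j.castSucc) / c (Fin.last n), fun j => ?_, ?_⟩
      · exact (F β).div_mem ((F β).neg_mem (hc j.castSucc)) (hc (Fin.last n))
      · have h3 : c (Fin.last n) * l = -∑ j : Fin n, c j.castSucc * w j := by
          linear_combination hs
        have h4 : l = (-∑ j : Fin n, c j.castSucc * w j) / c (Fin.last n) := by
          rw [← h3]; field_simp
        rw [h4, neg_div, Finset.sum_div, ← Finset.sum_neg_distrib]
        refine Finset.sum_congr rfl fun j _ => ?_
        ring
    obtain ⟨d, hd, hld⟩ := key α le_rfl
    have hdmem : ∀ j, d j ∈ (⨅ i, F i : Subfield K) := by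
      intro j
      rw [Subfield.mem_iInf]
      intro γ
      obtain ⟨β, hαβ, hγβ⟩ := exists_ge_ge α γ
      obtain ⟨d', hd', hld'⟩ := key β hαβ
      have h5 : ∀ j, d' j - d j = 0 := by
        apply hα (fun j => d' j - d j) (fun j => (F α).sub_mem (hF hαβ (hd' j)) (hd j))
        have : ∑ j, (d' j - d j) * w j = ∑ j, d' j * w j - ∑ j, d j * w j := by
          rw [← Finset.sum_sub_distrib]
          refine Finset.sum_congr rfl fun j _ => ?_
          ring
        rw [this, ← hld, ← hld', sub_self]
      have h6 : d j = d' j := by
        have := h5 j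
        linear_combination -this
      rw [h6]
      exact hF hγβ (hd' j)
    have h7 := hv (Fin.snoc d (-1)) (fun j => by
        refine Fin.lastCases ?_ (fun j => ?_) j
        · simp only [Fin.snoc_last]
          exact Subfield.neg_mem _ (Subfield.one_mem _)
        · simp only [Fin.snoc_castSucc]; exact hdmem j) (by
        rw [hsum]
        simp only [Fin.snoc_castSucc, Fin.snoc_last]
        rw [← hld]; ring) (Fin.last n)
    simp at h7

end Groth.Agent.Helper2.LinDescent
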