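import Mathlib
import Groth.Prelude.Def_EGA41
import Groth.Agent.Lib.Helper2.PBasisField3

universe u

namespace Groth.Agent.Helper2.PBasis

open EGA41 Function

section

variable {ι κ : Type*} {C B : Type*} [CommRing C] [CommRing B] [Algebra C B] {p : ℕ}

theorem redSpan_comp_le (hp : 0 < p) (x : ι → B) (f : κ → ι) (hf : Injective f) :
    redSpan C p (x ∘ f) ≤ redSpan C p x := by
  unfold redSpan
  rw [Submodule.span_le]
  rintro _ ⟨e, rfl⟩
  change mon (x ∘ f) e.1 ∈ _
  rw [← mon_mapDomain x f e.1]
  exact Submodule.subset_span ⟨Red.map hp f hf e, rfl⟩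

end

section

variable (p : ℕ) [hp : Fact p.Prime] {k K : Type u} [Field k] [Field K] [Algebra k K] [CharP K p]

theorem coe_adjoin_eq_redSpan {ι : Type u} (x : ι → K) (a : ι) :
    ((IntermediateField.adjoin k ((Set.range fun y : K => y ^ p) ∪ x '' {b | b ≠ a}) :
      IntermediateField k K) : Set K) =
      (redSpan (pPowerSubalgebra p k K) p (fun t : {b // b ≠ a} => x t) : Set K) := by
  have hpow := pow_mem_range_Cf (k := k) (K := K) p
  apply Set.Subset.antisymm
  · let G : IntermediateField k K :=
      (redField hpow (fun t : {b // b ≠ a} => x t)).restrictScalars k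
    have hG : (G : Set K) = (redSpan (pPowerSubalgebra p k K) p (fun t : {b // b ≠ a} => x t) : Set K) :=
      rfl
    rw [← hG]
    have : IntermediateField.adjoin k ((Set.range fun y : K => y ^ p) ∪ x '' {b | b ≠ a}) ≤ G := by
      rw [IntermediateField.adjoin_le_iff]
      rintro z (⟨y, rfl⟩ | ⟨b, hb, rfl⟩)
      · exact (redField hpow (fun t : {b // b ≠ a} => x t)).algebraMap_mem
          (⟨y ^ p, pow_mem_pPowerSubalgebra p y⟩ : Cf p (k := k) (K := K))
      · exact mem_redSpan_self hpow (fun t : {b // b ≠ a} => x t) ⟨b, hb⟩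
    exact this
  · intro z hz
    change z ∈ redSpan (pPowerSubalgebra p k K) p (fun t : {b // b ≠ a} => x t) at hz
    set G := IntermediateField.adjoin k ((Set.range fun y : K => y ^ p) ∪ x '' {b | b ≠ a}) with hG
    have hC : ∀ c ∈ pPowerSubalgebra p k K, c ∈ G := by
      intro c hc
      have : pPowerSubalgebra p k K ≤ G.toSubalgebra := by
        apply Algebra.adjoin_le
        rintro _ ⟨y, rfl⟩
        exact IntermediateField.subset_adjoin _ _ (Or.inl ⟨y, rfl⟩)
      exact this hc
    unfold redSpan at hz
    induction hz using Submodule.span_induction with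
    | mem z hz =>
      obtain ⟨e, rfl⟩ := hz
      change mon (fun t : {b // b ≠ a} => x t) e.1 ∈ G
      unfold mon
      refine prod_mem fun t _ => pow_mem ?_ _
      exact IntermediateField.subset_adjoin _ _ (Or.inr ⟨t, t.2, rfl⟩)
    | zero => exact zero_mem G
    | add a b _ _ ha hb => exact add_mem ha hb
    | smul c b _ hb =>
      rw [Algebra.smul_def]
      exact mul_mem (hC _ c.2) hb

theorem isPIndependent_iff_notMem_adjoin {ι : Type u} (x : ι → K) :
    IsPIndependent p k x ↔
      ∀ a : ι, x a ∉ IntermediateField.adjoin k ((Set.range fun y : K => y ^ p) ∪ x '' {b | b ≠ a}) := by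
  have hmem : ∀ a z, z ∈ IntermediateField.adjoin k ((Set.range fun y : K => y ^ p) ∪ x '' {b | b ≠ a}) ↔
      z ∈ redSpan (pPowerSubalgebra p k K) p (fun t : {b // b ≠ a} => x t) := by
    intro a z
    have := coe_adjoin_eq_redSpan (k := k) p x a
    exact Set.ext_iff.mp this z
  constructor
  · intro hx a ha
    rw [hmem] at ha
    have hx' : LinearIndependent (pPowerSubalgebra p k K) (fun e : Red ι p => mon x e.1) := hx
    let s : Set (Red ι p) := {e | e.1 a = 0}
    have hnot : (⟨Finsupp.single a 1, fun i => by
        classical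
        rw [Finsupp.single_apply]; split_ifs
        · exact hp.out.one_lt
        · exact hp.out.pos⟩ : Red ι p) ∉ s := by
      simp [s]
    have h1 := hx'.notMem_span_image hnot
    apply h1
    simp only [mon_single, pow_one]
    unfold redSpan at ha
    refine (Submodule.span_mono ?_) ha
    rintro _ ⟨e, rfl⟩
    refine ⟨Red.map hp.out.pos (Subtype.val : {b // b ≠ a} → ι) Subtype.val_injective e, ?_, ?_⟩
    · change (e.1.mapDomain Subtype.val) a = 0
      apply Finsupp.mapDomain_of_notMem_range
      rintro ⟨t, ht⟩
      exact t.2 ht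
    · exact mon_mapDomain x Subtype.val e.1
  · intro h
    obtain ⟨T, hT, hgen⟩ := exists_maximal_sub (k := k) p x
    have hTuniv : ∀ a, a ∈ T := by
      intro a
      by_contra haT
      apply h a
      rw [hmem]
      let g : T → {b // b ≠ a} := fun t => ⟨t, fun hta => haT (hta ▸ t.2)⟩
      have hg : Injective g := fun t t' htt' =>
        Subtype.ext (congrArg (fun b : {b // b ≠ a} => (b : ι)) htt')
      exact redSpan_comp_le hp.out.pos (fun t : {b // b ≠ a} => x t) g hg (hgen a)
    rw [isPIndependent_iff]
    exact hT.comp hp.out.pos (fun i => (⟨i, hTuniv i⟩ : T))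
      (fun i j hij => congrArg (fun t : T => (t : ι)) hij)

end

end Groth.Agent.Helper2.PBasis
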