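import Mathlib
import Groth.Prelude.Def_EGA41
import Groth.Agent.Lib.Helper2.PBasisField4
import Groth.Agent.Lib.Helper2.LinDescent

/-! Admissible subfields (EGA 0_IV 21.8): `p`-independence over a directed family of subfields. -/

universe u

namespace Groth.Agent.Helper2.AdmSub

open EGA41 Groth.Agent.Helper2.PBasis Groth.Agent.Helper2.LinDescent

section

variable (p : ℕ) [hp : Fact p.Prime] {k₀ K : Type u} [Field k₀] [Field K] [Algebra k₀ K]
  [CharP K p]

/-- `k₀(K^p)` -/
abbrev PP : IntermediateField k₀ K :=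
  IntermediateField.adjoin k₀ (Set.range fun y : K => y ^ p)

theorem coe_pPowerSubalgebra (E : IntermediateField k₀ K) :
    (pPowerSubalgebra p E K : Set K) = ((E ⊔ PP (k₀ := k₀) (K := K) p : IntermediateField k₀ K) : Set K) := by
  apply Set.Subset.antisymm
  · intro x hx
    change x ∈ Algebra.adjoin E (Set.range fun b : K => b ^ p) at hx
    induction hx using Algebra.adjoin_induction with
    | mem c hc =>
      exact (le_sup_right : PP p ≤ E ⊔ PP p) (IntermediateField.subset_adjoin _ _ hc)
    | algebraMap a => exact (le_sup_left : E ≤ E ⊔ PP p) a.2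
    | add a b _ _ ha hb => exact add_mem ha hb
    | mul a b _ _ ha hb => exact mul_mem ha hb
  · have h : E ⊔ PP (k₀ := k₀) (K := K) p ≤ (Cf p (k := E) (K := K)).restrictScalars k₀ := by
      refine sup_le ?_ ?_
      · intro e he
        exact (Cf p (k := E) (K := K)).algebraMap_mem ⟨e, he⟩
      · rw [IntermediateField.adjoin_le_iff]
        rintro _ ⟨y, rfl⟩
        exact pow_mem_pPowerSubalgebra p y
    exact h

theorem coe_pPowerSubalgebra_base :
    (pPowerSubalgebra p k₀ K : Set K) = (PP (k₀ := k₀) (K := K) p : Set K) := by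
  apply Set.Subset.antisymm
  · intro x hx
    change x ∈ Algebra.adjoin k₀ (Set.range fun b : K => b ^ p) at hx
    exact IntermediateField.algebra_adjoin_le_adjoin _ _ hx
  · have h : PP (k₀ := k₀) (K := K) p ≤ Cf p (k := k₀) (K := K) := by
      rw [IntermediateField.adjoin_le_iff]
      rintro _ ⟨y, rfl⟩
      exact pow_mem_pPowerSubalgebra p y
    exact h

instance {ι : Type*} [Finite ι] : Finite (Red ι p) := by
  have hp0 : 0 < p := hp.out.pos
  let f : Red ι p → (ι → Fin p) := fun e i => ⟨e.1 i, e.2 i⟩
  refine Finite.of_injective f ?_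
  intro e e' h
  apply Subtype.ext
  ext i
  have := congrFun h i
  exact congrArg Fin.val this

theorem range_algebraMap_subalgebra {R A : Type*} [CommRing R] [CommRing A] [Algebra R A]
    (S : Subalgebra R A) : Set.range (algebraMap S A) = (S : Set A) := by
  ext y
  constructor
  · rintro ⟨⟨z, hz⟩, rfl⟩; exact hz
  · intro hy; exact ⟨⟨y, hy⟩, rfl⟩

theorem exists_isPIndependent {ι : Type u} [Preorder ι] [IsDirected ι (· ≤ ·)] [Nonempty ι]
    (k : ι → IntermediateField k₀ K) (hk : Antitone k)
    (hI : (⨅ i, k i ⊔ PP p) = PP (k₀ := k₀) (K := K) p)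
    {S : Type u} [Finite S] (x : S → K) (hx : IsPIndependent p k₀ x) :
    ∃ i, IsPIndependent p (k i) x := by
  let e : Fin (Nat.card (Red S p)) ≃ Red S p := (Finite.equivFin _).symm
  let v : Fin (Nat.card (Red S p)) → K := fun j => pMonomial x (e j).1
  have hx' : LinearIndependent (pPowerSubalgebra p k₀ K) (fun r : Red S p => pMonomial x r.1) := hx
  have h1 : LinearIndependent (pPowerSubalgebra p k₀ K) v := hx'.comp e e.injective
  rw [li_iff (pPowerSubalgebra p k₀ K) Subtype.val_injective, range_algebraMap_subalgebra,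
    coe_pPowerSubalgebra_base] at h1
  let F : ι → Subfield K := fun i => (k i ⊔ PP (k₀ := k₀) (K := K) p).toSubfield
  have hF : Antitone F := by
    intro i j hij y hy
    exact (sup_le_sup_right (hk hij) _ : k j ⊔ PP p ≤ k i ⊔ PP p) hy
  have hcar : ((⨅ i, F i : Subfield K) : Set K) = (PP (k₀ := k₀) (K := K) p : Set K) := by
    rw [← hI, Subfield.coe_iInf, IntermediateField.coe_iInf]
    rfl
  rw [← hcar] at h1
  obtain ⟨i, hi⟩ := exists_LI F hF _ v h1
  refine ⟨i, ?_⟩
  have h2 : LI ((pPowerSubalgebra p (k i) K : Subalgebra (k i) K) : Set K) v := by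
    rw [coe_pPowerSubalgebra]
    exact hi
  rw [← range_algebraMap_subalgebra, ← li_iff _ Subtype.val_injective] at h2
  exact (linearIndependent_equiv e (f := fun r : Red S p => pMonomial x r.1)).mp h2

end

end Groth.Agent.Helper2.AdmSub
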