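import Mathlib
import Groth.Prelude.Def_EGA41
import Groth.Agent.Lib.Helper2.AdmSub

/-! Admissible subfields (EGA 0_IV 21.8): supports and injectivity on finite-rank submodules. -/

universe u

namespace Groth.Agent.Helper2.AdmSub

open EGA41 TensorProduct Groth.Agent.Helper2.PBasis Groth.Agent.Helper2.LinDescent

/-- a finitely generated submodule is supported on finitely many basis vectors -/
theorem exists_support {R M κ : Type*} [CommRing R] [AddCommGroup M] [Module R M]
    (b : Module.Basis κ R M) (N : Submodule R M) (hN : N.FG) :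
    ∃ S : Finset κ, ∀ ω ∈ N, ∀ j, j ∉ S → b.repr ω j = 0 := by
  classical
  obtain ⟨T, hT⟩ := hN
  refine ⟨T.biUnion fun t => (b.repr t).support, ?_⟩
  intro ω hω
  rw [← hT] at hω
  induction hω using Submodule.span_induction with
  | mem t ht =>
    intro j hj
    by_contra h
    exact hj (Finset.mem_biUnion.mpr ⟨t, ht, Finsupp.mem_support_iff.mpr h⟩)
  | zero => intro j _; simp
  | add x y _ _ hx hy =>
    intro j hj
    rw [map_add, Finsupp.add_apply, hx j hj, hy j hj, add_zero]
  | smul c x _ hx =>
    intro j hj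
    rw [map_smul, Finsupp.smul_apply, hx j hj, smul_zero]

section

variable (p : ℕ) [hp : Fact p.Prime] {k₀ K L : Type u} [Field k₀] [Field K] [Field L]
  [Algebra k₀ K] [Algebra K L] [CharP K p]

theorem injOn_of_isPIndependent {κ : Type u} (X : κ → K)
    (b : Module.Basis κ K (Ω[K⁄k₀])) (hb : ∀ j, b j = KaehlerDifferential.D k₀ K (X j))
    (S : Finset κ) (k' : IntermediateField k₀ K)
    (hind : IsPIndependent p k' (fun j : S => X j))
    (ω : L ⊗[K] Ω[K⁄k₀]) (hsupp : ∀ j, j ∉ S → (b.baseChange L).repr ω j = 0)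
    (h0 : ((KaehlerDifferential.map k₀ k' K K).restrictScalars K).baseChange L ω = 0) :
    ω = 0 := by
  classical
  have hli := linearIndependent_D_of_isPIndependent p _ hind
  have hliL : LinearIndependent L
      (fun j : S => (1 : L) ⊗ₜ[K] KaehlerDifferential.D k' K (X j)) :=
    Module.Flat.linearIndependent_one_tmul (S := L) hli
  set bL := b.baseChange L with hbL
  have hω1 : ω = ∑ j ∈ S, (bL.repr ω) j • bL j := by
    conv_lhs => rw [← bL.linearCombination_repr ω]
    rw [Finsupp.linearCombination_apply, Finsupp.sum]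
    refine Finset.sum_subset ?_ ?_
    · intro j hj
      by_contra hjS
      exact (Finsupp.mem_support_iff.mp hj) (hsupp j hjS)
    · intro j _ hj
      rw [Finsupp.notMem_support_iff.mp hj, zero_smul]
  rw [hω1, map_sum] at h0
  have h1 : ∀ j ∈ S, ((KaehlerDifferential.map k₀ k' K K).restrictScalars K).baseChange L
      ((bL.repr ω) j • bL j) = (bL.repr ω) j • ((1 : L) ⊗ₜ[K] KaehlerDifferential.D k' K (X j)) := by
    intro j _
    rw [map_smul, hbL, Module.Basis.baseChange_apply, LinearMap.baseChange_tmul, hb,
      LinearMap.restrictScalars_apply, KaehlerDifferential.map_D]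
    rfl
  rw [Finset.sum_congr rfl h1, ← Finset.sum_coe_sort] at h0
  have h2 := Fintype.linearIndependent_iff.mp hliL (fun j => (bL.repr ω) j) h0
  have h3 : bL.repr ω = 0 := by
    ext j
    by_cases hj : j ∈ S
    · exact h2 ⟨j, hj⟩
    · exact hsupp j hj
  exact bL.repr.map_eq_zero_iff.mp h3

end

section kS

variable (p : ℕ) [hp : Fact p.Prime] {k₀ K : Type u} [Field k₀] [Field K] [Algebra k₀ K]
  [CharP K p]

/-- the admissible subfield attached to a finite set of indices of a `p`-basis -/
noncomputable def kS {κ : Type u} (X : κ → K) (S : Finset κ) : IntermediateField k₀ K :=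
  IntermediateField.adjoin k₀ ((Set.range fun y : K => y ^ p) ∪ X '' {j | j ∉ S})

theorem pow_mem_kS {κ : Type u} (X : κ → K) (S : Finset κ) (y : K) :
    y ^ p ∈ kS (k₀ := k₀) p X S :=
  IntermediateField.subset_adjoin _ _ (Or.inl ⟨y, rfl⟩)

theorem isPIndependent_kS {κ : Type u} (X : κ → K) (S : Finset κ)
    (hX : IsPIndependent p k₀ X) :
    IsPIndependent p (kS (k₀ := k₀) p X S) (fun j : S => X j) := by
  rw [isPIndependent_iff_notMem_adjoin]
  intro a ha
  have hXa := (isPIndependent_iff_notMem_adjoin p X).mp hX a.1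
  apply hXa
  set G := IntermediateField.adjoin k₀ ((Set.range fun y : K => y ^ p) ∪ X '' {b | b ≠ a.1})
    with hG
  have hle : kS (k₀ := k₀) p X S ≤ G := by
    apply IntermediateField.adjoin.mono
    rintro y (hy | ⟨j, hj, rfl⟩)
    · exact Or.inl hy
    · refine Or.inr ⟨j, ?_, rfl⟩
      intro hja
      exact hj (hja ▸ a.2)
  have h2 : IntermediateField.adjoin (kS (k₀ := k₀) p X S)
      ((Set.range fun y : K => y ^ p) ∪ (fun j : S => X j) '' {b | b ≠ a}) ≤
      IntermediateField.extendScalars hle := by
    rw [IntermediateField.adjoin_le_iff]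
    rintro y (hy | ⟨j, hj, rfl⟩)
    · have : y ∈ G := IntermediateField.subset_adjoin _ _ (Or.inl hy)
      exact this
    · have : X j.1 ∈ G := by
        refine IntermediateField.subset_adjoin _ _ (Or.inr ⟨j.1, ?_, rfl⟩)
        intro hja
        exact hj (Subtype.ext hja)
      exact this
  exact h2 ha

theorem finite_kS {κ : Type u} (X : κ → K) (S : Finset κ) (hX : IsPGenerating p k₀ X) :
    Module.Finite (kS (k₀ := k₀) p X S) K := by
  classical
  set E := IntermediateField.adjoin (kS (k₀ := k₀) p X S) (X '' (S : Set κ)) with hE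
  haveI : Finite (X '' (S : Set κ)) := (S.finite_toSet.image X).to_subtype
  have hfd : FiniteDimensional (kS (k₀ := k₀) p X S) E := by
    apply IntermediateField.finiteDimensional_adjoin
    rintro _ ⟨j, -, rfl⟩
    apply IsIntegral.of_pow hp.out.pos
    exact isIntegral_algebraMap (x := (⟨X j ^ p, pow_mem_kS p X S (X j)⟩ : kS (k₀ := k₀) p X S))
  have hXmem : ∀ j, X j ∈ E := by
    intro j
    by_cases hj : j ∈ S
    · exact IntermediateField.subset_adjoin _ _ ⟨j, hj, rfl⟩
    · exact E.algebraMap_mem ⟨X j, IntermediateField.subset_adjoin _ _ (Or.inr ⟨j, hj, rfl⟩)⟩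
  have htop : E = ⊤ := by
    rw [eq_top_iff]
    intro y hytop
    clear hytop
    have hy : y ∈ redSpan (pPowerSubalgebra p k₀ K) p X := by
      rw [(isPGenerating_iff' p X).mp hX]; trivial
    unfold redSpan at hy
    induction hy using Submodule.span_induction with
    | mem z hz =>
      obtain ⟨e, rfl⟩ := hz
      change mon X e.1 ∈ E
      unfold mon
      exact prod_mem fun t _ => pow_mem (hXmem t) _
    | zero => exact zero_mem E
    | add a b _ _ ha hb => exact add_mem ha hb
    | smul c b _ hb =>
      rw [Algebra.smul_def]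
      refine mul_mem ?_ hb
      have hc : (c : K) ∈ kS (k₀ := k₀) p X S := by
        have h1 : (c : K) ∈ (PP (k₀ := k₀) (K := K) p : Set K) := by
          rw [← coe_pPowerSubalgebra_base]; exact c.2
        exact (IntermediateField.adjoin.mono _ _ _ Set.subset_union_left) h1
      exact E.algebraMap_mem ⟨c, hc⟩
  rw [htop] at hfd
  exact Module.Finite.equiv (IntermediateField.topEquiv (F := kS (k₀ := k₀) p X S) (E := K)).toLinearEquiv

end kS

end Groth.Agent.Helper2.AdmSub
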