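import Mathlib
import Groth.Prelude.Def_EGA41
import Groth.Agent.Lib.Helper2.AdmSub2
import Groth.Agent.Lib.Helper2.CartierMain

/-! Admissible subfields: detecting elements through `p`-th root extensions. -/

universe u

namespace Groth.Agent.Helper2.AdmSub

open EGA41 TensorProduct Groth.Agent.Helper2.PBasis

section

variable (p : ℕ) [hp : Fact p.Prime] {k₀ K : Type u} [Field k₀] [Field K] [Algebra k₀ K]
  [CharP K p]

theorem mem_PP_of_D_eq_zero {a : K} (hD : KaehlerDifferential.D k₀ K a = 0) :
    a ∈ PP (k₀ := k₀) (K := K) p := by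
  by_contra ha'
  have hx : IsPIndependent p k₀ (fun _ : PUnit.{u+1} => a) := by
    rw [isPIndependent_iff_notMem_adjoin]
    intro u hu
    apply ha'
    have hempty : (fun _ : PUnit.{u+1} => a) '' {b | b ≠ u} = ∅ := by
      ext y
      simp only [Set.mem_image, Set.mem_setOf_eq, Set.mem_empty_iff_false, iff_false]
      rintro ⟨b, hb, -⟩
      exact hb (Subsingleton.elim _ _)
    rw [hempty, Set.union_empty] at hu
    exact hu
  have hli := linearIndependent_D_of_isPIndependent p _ hx
  exact hli.ne_zero PUnit.unit hD

theorem D_eq_zero_of_mem_sup (E : IntermediateField k₀ K) {a : K}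
    (ha : a ∈ E ⊔ PP (k₀ := k₀) (K := K) p) : KaehlerDifferential.D E K a = 0 := by
  have hmem : a ∈ pPowerSubalgebra p E K := by
    have := coe_pPowerSubalgebra p E
    rw [← SetLike.mem_coe, this]
    exact ha
  exact derivation_eq_zero_of_mem p (KaehlerDifferential.D E K) hmem

omit hp in
/-- a simple `p`-th root extension detecting `da`. -/
theorem exists_root_extension (hp : p.Prime) (hc : CharP K p) (a : K) :
    ∃ (L : Type u) (_ : Field L) (_ : Algebra K L) (_ : Algebra k₀ L) (_ : IsScalarTower k₀ K L),
      Module.Finite L (EGA41.imperfection k₀ K L) ∧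
        (1 : L) ⊗ₜ[K] KaehlerDifferential.D k₀ K a ∈ EGA41.imperfection k₀ K L := by
  obtain ⟨r, hr⟩ := IsAlgClosed.exists_pow_nat_eq (algebraMap K (AlgebraicClosure K) a) hp.pos
  let L := IntermediateField.adjoin K {r}
  have hint : IsIntegral K r := Algebra.IsIntegral.isIntegral r
  have hgen : IsIntegral K (IntermediateField.AdjoinSimple.gen K r) :=
    (IntermediateField.AdjoinSimple.isIntegral_gen K r).mpr hint
  haveI : IsScalarTower k₀ L (AlgebraicClosure K) := IsScalarTower.of_algebraMap_eq (fun x => rfl)
  refine ⟨L, inferInstance, inferInstance, inferInstance, inferInstance, ?_, ?_⟩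
  · exact (Groth.Agent.Helper2.Cartier.imperfection_of_simple k₀ hgen
      (Groth.Agent.Helper2.Cartier.adjoin_gen_eq_top r)).1
  · show KaehlerDifferential.mapBaseChange k₀ K L _ = 0
    rw [KaehlerDifferential.mapBaseChange_tmul, one_smul, KaehlerDifferential.map_D]
    have h1 : algebraMap K L a = (IntermediateField.AdjoinSimple.gen K r) ^ p := by
      apply Subtype.ext
      show algebraMap K (AlgebraicClosure K) a = r ^ p
      exact hr.symm
    haveI : CharP L p := charP_of_injective_algebraMap (algebraMap K L).injective p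
    rw [h1, Derivation.leibniz_pow, ← Nat.cast_smul_eq_nsmul L, CharP.cast_eq_zero L p, zero_smul]

end

end Groth.Agent.Helper2.AdmSub
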