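import Mathlib

/-! Properties of morphisms of schemes that are étale local on the source (and target). -/

open TensorProduct in
theorem Module.Flat.of_flat_comp_faithfullyFlat (R A B : Type*) [CommRing R] [CommRing A]
    [CommRing B] [Algebra R A] [Algebra A B] [Algebra R B] [IsScalarTower R A B]
    [Module.Flat R B] [Module.FaithfullyFlat A B] : Module.Flat R A := by
  rw [Module.Flat.iff_lTensor_preserves_injective_linearMap]
  intro N N' _ _ _ _ f hf
  have h1 : Function.Injective (AlgebraTensorModule.lTensor B B f) := by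
    have := Module.Flat.lTensor_preserves_injective_linearMap (M := B) f hf
    exact this
  have h2 := AlgebraTensorModule.lTensor_comp_cancelBaseChange (R := R) (A := A) (B := B) (M := B) f
  have h3 : Function.Injective
      (AlgebraTensorModule.lTensor B B (AlgebraTensorModule.lTensor A A f)) := by
    have : Function.Injective ((AlgebraTensorModule.cancelBaseChange R A B B N').toLinearMap ∘ₗ
        AlgebraTensorModule.lTensor B B (AlgebraTensorModule.lTensor A A f)) := by
      rw [← h2]
      exact h1.comp (AlgebraTensorModule.cancelBaseChange R A B B N).injective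
    rw [LinearMap.coe_comp] at this
    exact Function.Injective.of_comp this
  have h4 : Function.Injective ((AlgebraTensorModule.lTensor A A f).lTensor B) := h3
  rw [Module.FaithfullyFlat.lTensor_injective_iff_injective] at h4
  exact h4

namespace Groth.Agent.Helper2.EtaleLocal
open CategoryTheory CategoryTheory.Limits AlgebraicGeometry MorphismProperty TensorProduct
universe u

theorem flat_of_flat_comp_of_surjective {U X Y : Scheme.{u}} (a : U ⟶ X) (f : X ⟶ Y) [Flat a]
    [Surjective a] [Flat (a ≫ f)] : Flat f := by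
  rw [Flat.iff_flat_stalkMap]
  intro x
  obtain ⟨u, rfl⟩ := a.surjective x
  have h1 : ((a ≫ f).stalkMap u).hom.Flat := Flat.stalkMap _ u
  have h2 : (a.stalkMap u).hom.Flat := Flat.stalkMap _ u
  rw [Scheme.Hom.stalkMap_comp] at h1
  let φ : Y.presheaf.stalk (f (a u)) →+* X.presheaf.stalk (a u) := (f.stalkMap (a u)).hom
  let ψ : X.presheaf.stalk (a u) →+* U.presheaf.stalk u := (a.stalkMap u).hom
  letI := φ.toAlgebra
  letI := ψ.toAlgebra
  letI := (ψ.comp φ).toAlgebra
  haveI : IsScalarTower (Y.presheaf.stalk (f (a u))) (X.presheaf.stalk (a u))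
      (U.presheaf.stalk u) := IsScalarTower.of_algebraMap_eq' rfl
  haveI : Module.Flat (Y.presheaf.stalk (f (a u))) (U.presheaf.stalk u) := h1
  haveI : Module.Flat (X.presheaf.stalk (a u)) (U.presheaf.stalk u) := h2
  haveI : IsLocalHom (algebraMap (X.presheaf.stalk (a u)) (U.presheaf.stalk u)) :=
    inferInstanceAs (IsLocalHom (a.stalkMap u).hom)
  haveI : Module.FaithfullyFlat (X.presheaf.stalk (a u)) (U.presheaf.stalk u) :=
    Module.FaithfullyFlat.of_flat_of_isLocalHom
  exact Module.Flat.of_flat_comp_faithfullyFlat (Y.presheaf.stalk (f (a u)))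
    (X.presheaf.stalk (a u)) (U.presheaf.stalk u)

set_option backward.isDefEq.respectTransparency.types false in
/-- An étale surjective morphism onto a quasi-compact scheme is dominated by an affine one. -/
theorem exists_affine_etale_surjective {U X : Scheme.{u}} (a : U ⟶ X) [Etale a] [Surjective a]
    [CompactSpace X] :
    ∃ (T : Scheme.{u}) (q : T ⟶ U), IsAffine T ∧ Etale q ∧ Surjective (q ≫ a) := by
  obtain ⟨V, hV, e⟩ : ∃ V : U.Opens, IsCompact (V : Set U) ∧ a '' V = Set.univ :=
    a.isOpenMap.exists_opens_image_eq_of_prespectralSpace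
    a.continuous (by rw [a.surjective.range_eq]) isOpen_univ isCompact_univ
  have hc : CompactSpace V := isCompact_iff_compactSpace.mp hV
  have hc' : CompactSpace (V : Scheme.{u}) := hc
  obtain ⟨T, p, hp1, hp2, hT⟩ :=
    Scheme.exists_hom_isAffine_of_isZariskiLocalAtSource @Etale (V : Scheme.{u})
  have : Etale p := hp2
  refine ⟨T, p ≫ V.ι, hT, inferInstance, ⟨fun x => ?_⟩⟩
  have hx : x ∈ a '' V := e ▸ Set.mem_univ x
  obtain ⟨v, hv, rfl⟩ := hx
  obtain ⟨t, ht⟩ := hp1.surj ⟨v, hv⟩
  refine ⟨t, ?_⟩
  simp only [Scheme.Hom.comp_apply, ht]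
  rfl

set_option backward.isDefEq.respectTransparency.types false in
/-- Reduction of étale-locality on the source to commutative algebra. -/
theorem of_comp_etale_surjective_of_ringHom {P : MorphismProperty Scheme.{u}}
    {Q : ∀ {R S : Type u} [CommRing R] [CommRing S], (R →+* S) → Prop}
    [HasRingHomProperty P Q] [P.IsStableUnderComposition]
    (hle : ∀ {X Y : Scheme.{u}} (g : X ⟶ Y), Etale g → P g)
    (H : ∀ {R A B : Type u} [CommRing R] [CommRing A] [CommRing B] (φ : R →+* A) (ψ : A →+* B),
      ψ.Etale → ψ.FaithfullyFlat → Q (ψ.comp φ) → Q φ)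
    {U X Y : Scheme.{u}} (a : U ⟶ X) (f : X ⟶ Y) [Etale a] [Surjective a] (h : P (a ≫ f)) :
    P f := by
  wlog hY : IsAffine Y generalizing U X Y
  · rw [IsZariskiLocalAtTarget.iff_of_openCover (P := P) Y.affineCover]
    intro i
    let ι := Y.affineCover.f i
    have sq1 : IsPullback (pullback.snd a (pullback.fst f ι)) (pullback.fst a (pullback.fst f ι))
        (pullback.fst f ι) a := (IsPullback.of_hasPullback a (pullback.fst f ι)).flip
    have sq2 : IsPullback (pullback.snd f ι) (pullback.fst f ι) ι f :=
      (IsPullback.of_hasPullback f ι).flip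
    have sq3 := (sq1.paste_horiz sq2).flip
    have hP : P (pullback.snd a (pullback.fst f ι) ≫ pullback.snd f ι) :=
      IsZariskiLocalAtTarget.of_isPullback (iY := ι) sq3 h
    exact this (pullback.snd a (pullback.fst f ι)) (pullback.snd f ι) hP inferInstance
  wlog hX : IsAffine X generalizing U X
  · rw [IsZariskiLocalAtSource.iff_of_openCover (P := P) X.affineCover]
    intro i
    let ι := X.affineCover.f i
    have hP : P (pullback.snd a ι ≫ ι ≫ f) := by
      rw [← Category.assoc, ← pullback.condition, Category.assoc]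
      exact IsZariskiLocalAtSource.comp h _
    exact this (pullback.snd a ι) (ι ≫ f) hP inferInstance
  obtain ⟨T, q, hT, hq, hqs⟩ := exists_affine_etale_surjective a
  have hP : P ((q ≫ a) ≫ f) := by
    rw [Category.assoc]
    exact P.comp_mem _ _ (hle q hq) h
  rw [HasRingHomProperty.iff_of_isAffine (P := P)] at hP ⊢
  have he : Etale (q ≫ a) := inferInstance
  rw [HasRingHomProperty.iff_of_isAffine (P := @Etale)] at he
  have hff : (q ≫ a).appTop.hom.FaithfullyFlat :=
    (Flat.flat_and_surjective_iff_faithfullyFlat_of_isAffine (q ≫ a)).mp ⟨inferInstance, hqs⟩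
  refine H f.appTop.hom (q ≫ a).appTop.hom he hff ?_
  rw [Scheme.Hom.comp_appTop] at hP
  exact hP

theorem formallyUnramified_of_comp_etale_faithfullyFlat {R A B : Type u} [CommRing R]
    [CommRing A] [CommRing B] (φ : R →+* A) (ψ : A →+* B) (hψ : ψ.Etale)
    (hff : ψ.FaithfullyFlat) (h : (ψ.comp φ).FormallyUnramified) : φ.FormallyUnramified := by
  algebraize [φ, ψ, ψ.comp φ]
  have : Algebra.FormallyEtale A B := inferInstance
  have e := KaehlerDifferential.tensorKaehlerEquivOfFormallyEtale R A B
  have h1 : Subsingleton (B ⊗[A] Ω[A⁄R]) := e.toEquiv.injective.subsingleton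
  have h2 : Subsingleton Ω[A⁄R] := Module.FaithfullyFlat.lTensor_reflects_triviality A B _
  exact ⟨h2⟩

set_option backward.isDefEq.respectTransparency.types false in
/-- If `f ≫ g` is locally of finite presentation and `g` is locally of finite type, then `f` is
locally of finite presentation. -/
theorem locallyOfFinitePresentation_of_comp {X Y Z : Scheme.{u}} (f : X ⟶ Y) (g : Y ⟶ Z)
    (h : LocallyOfFinitePresentation (f ≫ g)) (hg : LocallyOfFiniteType g) :
    LocallyOfFinitePresentation f := by
  wlog hZ : IsAffine Z generalizing X Y Z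
  · rw [IsZariskiLocalAtTarget.iff_of_iSup_eq_top (P := @LocallyOfFinitePresentation) _
      (g.iSup_preimage_eq_top (iSup_affineOpens_eq_top Z))]
    intro U
    have H := IsZariskiLocalAtTarget.restrict h U.1
    rw [morphismRestrict_comp] at H
    exact this _ _ H inferInstance inferInstance
  wlog hY : IsAffine Y generalizing X Y
  · rw [IsZariskiLocalAtTarget.iff_of_iSup_eq_top (P := @LocallyOfFinitePresentation) _
      (iSup_affineOpens_eq_top Y)]
    intro U
    have H := HasRingHomProperty.comp_of_isOpenImmersion @LocallyOfFinitePresentation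
      (f ⁻¹ᵁ U.1).ι (f ≫ g) h
    rw [← morphismRestrict_ι_assoc] at H
    exact this _ _ H inferInstance inferInstance
  wlog hX : IsAffine X generalizing X
  · rw [IsZariskiLocalAtSource.iff_of_iSup_eq_top (P := @LocallyOfFinitePresentation) _
      (iSup_affineOpens_eq_top X)]
    intro U
    have H := HasRingHomProperty.comp_of_isOpenImmersion @LocallyOfFinitePresentation
      U.1.ι (f ≫ g) h
    rw [← Category.assoc] at H
    exact this _ H inferInstance
  rw [HasRingHomProperty.iff_of_isAffine (P := @LocallyOfFinitePresentation)] at h ⊢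
  rw [HasRingHomProperty.iff_of_isAffine (P := @LocallyOfFiniteType)] at hg
  rw [Scheme.Hom.comp_appTop] at h
  exact RingHom.FinitePresentation.of_comp_finiteType _ h hg

theorem isPullback_of_comp_mono {C : Type*} [Category C] {P X V W Y : C} {fst : P ⟶ X}
    {snd : P ⟶ V} {f : X ⟶ W} {v : V ⟶ W} (i : W ⟶ Y) [Mono i]
    (h : IsPullback fst snd (f ≫ i) (v ≫ i)) : IsPullback fst snd f v := by
  refine IsPullback.mk' ?_ ?_ ?_
  · rw [← cancel_mono i, Category.assoc, Category.assoc, h.w]
  · intro T φ φ' h1 h2
    exact h.hom_ext h1 h2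
  · intro T a b hab
    refine ⟨h.lift a b (by rw [← Category.assoc, hab, Category.assoc]), h.lift_fst _ _ _,
      h.lift_snd _ _ _⟩

set_option backward.isDefEq.respectTransparency.types false in
/-- Descent along a flat, locally finitely presented morphism that is only surjective after base
change to the source. -/
theorem of_pullback_snd_of_flat_lfp {P : MorphismProperty Scheme.{u}}
    [P.IsStableUnderComposition] [P.DescendsAlong (@Surjective ⊓ @Flat ⊓ @LocallyOfFinitePresentation)]
    (hopen : ∀ {A B : Scheme.{u}} (j : A ⟶ B), IsOpenImmersion j → P j)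
    {X Y' V' : Scheme.{u}} (f' : X ⟶ Y') (v : V' ⟶ Y') [Flat v] [LocallyOfFinitePresentation v]
    (hs : Surjective (pullback.fst f' v)) (h : P (pullback.snd f' v)) : P f' := by
  let W : Y'.Opens := ⟨Set.range v, v.isOpenMap.isOpen_range⟩
  have hW : Set.range W.ι = Set.range v := by simp [W]
  have hf' : Set.range f' ⊆ Set.range W.ι := by
    rw [hW]
    rintro _ ⟨x, rfl⟩
    obtain ⟨p, rfl⟩ := hs.surj x
    refine ⟨pullback.snd f' v p, ?_⟩
    rw [← Scheme.Hom.comp_apply, ← pullback.condition, Scheme.Hom.comp_apply]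
  have hv : Set.range v ⊆ Set.range W.ι := hW.ge
  let f'' := IsOpenImmersion.lift W.ι f' hf'
  let v'' := IsOpenImmersion.lift W.ι v hv
  have e1 : f'' ≫ W.ι = f' := IsOpenImmersion.lift_fac _ _ _
  have e2 : v'' ≫ W.ι = v := IsOpenImmersion.lift_fac _ _ _
  have sq : IsPullback (pullback.fst f' v) (pullback.snd f' v) f'' v'' := by
    apply isPullback_of_comp_mono W.ι
    rw [e1, e2]
    exact IsPullback.of_hasPullback f' v
  have hv'' : (@Surjective ⊓ @Flat ⊓ @LocallyOfFinitePresentation : MorphismProperty Scheme.{u})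
      v'' := by
    refine ⟨⟨⟨fun w => ?_⟩, ?_⟩, ?_⟩
    · obtain ⟨p, hp⟩ : W.ι w ∈ Set.range v := by
        rw [← hW]; exact ⟨w, rfl⟩
      refine ⟨p, ?_⟩
      apply W.ι.isOpenEmbedding.injective
      rw [← Scheme.Hom.comp_apply, e2, hp]
    · have : Flat (v'' ≫ W.ι) := by rw [e2]; infer_instance
      exact MorphismProperty.of_postcomp (W := @Flat) (W' := @IsOpenImmersion) v'' W.ι
        inferInstance this
    · have : LocallyOfFinitePresentation (v'' ≫ W.ι) := by rw [e2]; infer_instance
      exact MorphismProperty.of_postcomp (W := @LocallyOfFinitePresentation)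
        (W' := @IsOpenImmersion) v'' W.ι inferInstance this
  have hP : P f'' := MorphismProperty.of_isPullback_of_descendsAlong sq.flip hv'' h
  rw [← e1]
  exact P.comp_mem _ _ hP (hopen _ inferInstance)

/-- The structure map of `Spec` of a finitely generated `ℤ`-algebra to the terminal scheme. -/
theorem lfp_spec_of_fg {A₀ : Type u} [CommRing A₀] (h : Algebra.FiniteType ℤ A₀) :
    LocallyOfFinitePresentation
      (Spec.map (CommRingCat.ofHom ((Int.castRingHom A₀).comp
        (ULift.ringEquiv.{0, u} (R := ℤ)).toRingHom))) := by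
  rw [HasRingHomProperty.Spec_iff (P := @LocallyOfFinitePresentation)]
  rw [CommRingCat.hom_ofHom]
  have hN : IsNoetherianRing (ULift.{u} ℤ) := isNoetherianRing_of_ringEquiv ℤ ULift.ringEquiv.symm
  apply (RingHom.FinitePresentation.of_finiteType (A := ULift.{u} ℤ)).mp
  refine RingHom.FiniteType.comp ?_ ?_
  · rw [← algebraMap_int_eq, RingHom.finiteType_algebraMap]
    exact h
  · apply RingHom.FiniteType.of_surjective
    exact (ULift.ringEquiv.{0, u} (R := ℤ)).surjective

set_option backward.isDefEq.respectTransparency.types false in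
theorem ringHom_of_comp_etale_faithfullyFlat {P : MorphismProperty Scheme.{u}}
    {Q : ∀ {R S : Type u} [CommRing R] [CommRing S], (R →+* S) → Prop}
    [HasRingHomProperty P Q] [P.IsStableUnderComposition]
    [P.DescendsAlong (@Surjective ⊓ @Flat ⊓ @LocallyOfFinitePresentation)]
    (hLFP : ∀ {A B : Scheme.{u}} (g : A ⟶ B), LocallyOfFinitePresentation g → P g)
    (hcancel : ∀ {A B C : Scheme.{u}} (g : A ⟶ B) (h : B ⟶ C), P (g ≫ h) →
      LocallyOfFinitePresentation h → P g)
    {R A B : Type u} [CommRing R] [CommRing A] [CommRing B] (φ : R →+* A) (ψ : A →+* B)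
    (hψ : ψ.Etale) (hff : ψ.FaithfullyFlat) (h : Q (ψ.comp φ)) : Q φ := by
  algebraize [φ, ψ, ψ.comp φ]
  obtain ⟨A₀, B₀, _, _, hfg, het, ⟨e⟩⟩ :=
    Algebra.Etale.exists_subalgebra_fg (R := ℤ) (A := A) (B := B)
  have hQiso : RingHom.RespectsIso @Q :=
    (HasRingHomProperty.isLocal_ringHomProperty P).respectsIso
  -- replace `B` by the tensor product
  let ψ₁ : A →+* A ⊗[A₀] B₀ := Algebra.TensorProduct.includeLeftRingHom
  have hψ₁ : ψ₁ = e.toRingEquiv.toRingHom.comp ψ := by
    ext x
    show (x ⊗ₜ[A₀] (1 : B₀)) = e (ψ x)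
    have : ψ x = algebraMap A B x := rfl
    rw [this, e.commutes]
    rfl
  have hQ₁ : Q (ψ₁.comp φ) := by
    rw [hψ₁, RingHom.comp_assoc]
    exact hQiso.left _ _ h
  have hff₁ : ψ₁.FaithfullyFlat := by
    rw [hψ₁]
    exact RingHom.FaithfullyFlat.stableUnderComposition _ _ hff
      (RingHom.FaithfullyFlat.of_bijective e.bijective)
  -- schemes
  let f : Spec (.of A) ⟶ Spec (.of R) := Spec.map (CommRingCat.ofHom φ)
  let a₁ : Spec (.of (A ⊗[A₀] B₀)) ⟶ Spec (.of A) := Spec.map (CommRingCat.ofHom ψ₁)
  let z : Spec (.of A) ⟶ Spec (.of A₀) := Spec.map (CommRingCat.ofHom (algebraMap A₀ A))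
  let w : Spec (.of B₀) ⟶ Spec (.of A₀) := Spec.map (CommRingCat.ofHom (algebraMap A₀ B₀))
  let u₀ : Spec (.of (A ⊗[A₀] B₀)) ⟶ Spec (.of B₀) :=
    Spec.map (CommRingCat.ofHom (Algebra.TensorProduct.includeRight (R := A₀) (A := A)).toRingHom)
  have sqU : IsPullback a₁ u₀ z w :=
    isPullback_SpecMap_of_isPushout _ _ _ _ (CommRingCat.isPushout_tensorProduct A₀ A B₀)
  let T : Scheme.{u} := Spec (.of (ULift.{u} ℤ))
  have hT : IsTerminal T := specULiftZIsTerminal
  let s : Spec (.of R) ⟶ T := hT.from _
  let t : Spec (.of A₀) ⟶ T := Spec.map (CommRingCat.ofHom ((Int.castRingHom A₀).comp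
    (ULift.ringEquiv.{0, u} (R := ℤ)).toRingHom))
  have ht : LocallyOfFinitePresentation t :=
    lfp_spec_of_fg ((Subalgebra.fg_iff_finiteType A₀).mp hfg)
  let π := pullback.fst s t
  let p₂ := pullback.snd s t
  let f' : Spec (.of A) ⟶ pullback s t := pullback.lift f z (hT.hom_ext _ _)
  have hw : Etale w :=
    (HasRingHomProperty.Spec_iff (P := @Etale)).mpr (RingHom.etale_algebraMap.mpr het)
  let v := pullback.fst p₂ w
  have sq1 : IsPullback (pullback.fst f' v) (pullback.snd f' v) f' v := .of_hasPullback _ _
  have sq2 : IsPullback v (pullback.snd p₂ w) p₂ w := .of_hasPullback _ _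
  have sq3 := sq1.paste_vert sq2
  have hz : f' ≫ p₂ = z := pullback.lift_snd _ _ _
  rw [hz] at sq3
  let ε := sqU.isoIsPullback _ _ sq3
  have hε : ε.hom ≫ pullback.fst f' v = a₁ := sqU.isoIsPullback_hom_fst _ _ sq3
  have hP₁ : P (a₁ ≫ f) := by
    rw [← Spec.map_comp, ← CommRingCat.ofHom_comp]
    exact (HasRingHomProperty.Spec_iff (P := P)).mpr hQ₁
  have hfπ : f' ≫ π = f := pullback.lift_fst _ _ _
  have hP₂ : P (pullback.snd f' v ≫ (v ≫ π)) := by
    have : a₁ ≫ f = ε.hom ≫ (pullback.snd f' v ≫ (v ≫ π)) := by
      rw [← hε, ← hfπ, Category.assoc, ← Category.assoc (pullback.fst f' v), pullback.condition]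
      simp
    rw [this, P.cancel_left_of_respectsIso] at hP₁
    exact hP₁
  have hP₃ : P (pullback.snd f' v) := hcancel _ _ hP₂ inferInstance
  have hsurj : Surjective (pullback.fst f' v) := by
    have : pullback.fst f' v = ε.inv ≫ a₁ := by rw [← hε, Iso.inv_hom_id_assoc]
    rw [this]
    haveI : Surjective a₁ := ((flat_and_surjective_SpecMap_iff _).mpr hff₁).2
    infer_instance
  have hP₄ : P f' :=
    of_pullback_snd_of_flat_lfp (fun j hj => hLFP j inferInstance) f' v hsurj hP₃
  have hP₅ : P f := by
    rw [← hfπ]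
    exact P.comp_mem _ _ hP₄ (hLFP π inferInstance)
  exact (HasRingHomProperty.Spec_iff (P := P)).mp hP₅

set_option backward.isDefEq.respectTransparency.types false in
theorem locallyOfFiniteType_of_comp_etale_surjective {U X Y : Scheme.{u}} (a : U ⟶ X)
    (f : X ⟶ Y) [Etale a] [Surjective a] (h : LocallyOfFiniteType (a ≫ f)) :
    LocallyOfFiniteType f :=
  of_comp_etale_surjective_of_ringHom (P := @LocallyOfFiniteType)
    (fun g hg => inferInstance)
    (fun φ ψ hψ hff h => ringHom_of_comp_etale_faithfullyFlat (P := @LocallyOfFiniteType)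
      (fun g hg => inferInstance)
      (fun g h' hgh _ => by haveI := hgh; exact locallyOfFiniteType_of_comp g h') φ ψ hψ hff h)
    a f h

set_option backward.isDefEq.respectTransparency.types false in
theorem locallyOfFinitePresentation_of_comp_etale_surjective {U X Y : Scheme.{u}} (a : U ⟶ X)
    (f : X ⟶ Y) [Etale a] [Surjective a] (h : LocallyOfFinitePresentation (a ≫ f)) :
    LocallyOfFinitePresentation f :=
  of_comp_etale_surjective_of_ringHom (P := @LocallyOfFinitePresentation)
    (fun g hg => inferInstance)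
    (fun φ ψ hψ hff h => ringHom_of_comp_etale_faithfullyFlat (P := @LocallyOfFinitePresentation)
      (fun g hg => hg)
      (fun g h' hgh hh => locallyOfFinitePresentation_of_comp g h' hgh inferInstance)
      φ ψ hψ hff h)
    a f h

theorem formallyUnramified_of_comp_etale_surjective {U X Y : Scheme.{u}} (a : U ⟶ X)
    (f : X ⟶ Y) [Etale a] [Surjective a] (h : FormallyUnramified (a ≫ f)) :
    FormallyUnramified f :=
  of_comp_etale_surjective_of_ringHom (P := @FormallyUnramified)
    (fun g hg => inferInstance)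
    (fun φ ψ hψ hff h => formallyUnramified_of_comp_etale_faithfullyFlat φ ψ hψ hff h)
    a f h

theorem etale_of_comp_etale_surjective {U X Y : Scheme.{u}} (a : U ⟶ X)
    (f : X ⟶ Y) [Etale a] [Surjective a] (h : Etale (a ≫ f)) : Etale f := by
  rw [Etale.iff_flat_and_formallyUnramified]
  refine ⟨flat_of_flat_comp_of_surjective a f, formallyUnramified_of_comp_etale_surjective a f
    inferInstance, locallyOfFinitePresentation_of_comp_etale_surjective a f inferInstance⟩

theorem locallyQuasiFinite_of_comp_etale_surjective {U X Y : Scheme.{u}} (a : U ⟶ X)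
    (f : X ⟶ Y) [Etale a] [Surjective a] [LocallyOfFiniteType f]
    (h : LocallyQuasiFinite (a ≫ f)) : LocallyQuasiFinite f := by
  rw [locallyQuasiFinite_iff_isDiscrete_preimage_singleton]
  intro y
  rw [isDiscrete_iff_forall_mem_exists_isOpen]
  intro x hx
  obtain ⟨u, rfl⟩ := a.surjective x
  have hd := (a ≫ f).isDiscrete_preimage_singleton y
  rw [isDiscrete_iff_forall_mem_exists_isOpen] at hd
  obtain ⟨O, hO, hOe⟩ := hd u (by simpa using hx)
  refine ⟨a '' O, a.isOpenMap _ hO, ?_⟩
  ext x'
  constructor
  · rintro ⟨⟨u', hu', rfl⟩, hx'⟩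
    have : u' ∈ O ∩ (a ≫ f) ⁻¹' {y} := ⟨hu', by simpa using hx'⟩
    rw [hOe] at this
    rw [this]; rfl
  · rintro rfl
    have : u ∈ O ∩ (a ≫ f) ⁻¹' {y} := by rw [hOe]; rfl
    exact ⟨⟨u, this.1, rfl⟩, hx⟩

/-- Properties of morphisms of schemes that are étale local on the source-and-target, in the form
used for morphisms of algebraic spaces. -/
class IsEtaleLocalST (P : MorphismProperty Scheme.{u}) : Prop extends
    P.IsStableUnderBaseChange, P.IsStableUnderComposition where
  of_etale : ∀ {X Y : Scheme.{u}} (f : X ⟶ Y), Etale f → P f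
  of_comp_etale_surjective : ∀ {U X Y : Scheme.{u}} (a : U ⟶ X) (f : X ⟶ Y), Etale a →
    Surjective a → P (a ≫ f) → P f

namespace IsEtaleLocalST

variable {P : MorphismProperty Scheme.{u}} [IsEtaleLocalST P]

theorem of_postcomp_etale {X Y Z : Scheme.{u}} (f : X ⟶ Y) (g : Y ⟶ Z) [Etale g]
    (h : P (f ≫ g)) : P f := by
  let Γ : X ⟶ pullback (f ≫ g) g := pullback.lift (𝟙 X) f (by simp)
  have h1 : Γ ≫ pullback.fst (f ≫ g) g = 𝟙 X := pullback.lift_fst _ _ _
  have h2 : Γ ≫ pullback.snd (f ≫ g) g = f := pullback.lift_snd _ _ _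
  have he : Etale (Γ ≫ pullback.fst (f ≫ g) g) := by rw [h1]; infer_instance
  have hΓ : Etale Γ := MorphismProperty.of_postcomp (W := @Etale) (W' := @Etale) Γ
    (pullback.fst (f ≫ g) g) inferInstance he
  rw [← h2]
  exact P.comp_mem _ _ (of_etale Γ hΓ) (P.pullback_snd _ _ h)

/-- The top arrow of a chart square has `P` if the morphism has `P`. -/
theorem of_chart {U V X Y : Scheme.{u}} {a : U ⟶ X} {b : V ⟶ Y} {h : U ⟶ V} {f : X ⟶ Y}
    (w : a ≫ f = h ≫ b) [Etale a] [Etale b] (hf : P f) : P h := by
  have : P (h ≫ b) := by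
    rw [← w]
    exact P.comp_mem _ _ (of_etale a inferInstance) hf
  exact of_postcomp_etale h b this

/-- The morphism has `P` if the top arrow of a chart square with surjective source chart does. -/
theorem of_chart_surjective {U V X Y : Scheme.{u}} {a : U ⟶ X} {b : V ⟶ Y} {h : U ⟶ V}
    {f : X ⟶ Y} (w : a ≫ f = h ≫ b) [Etale a] [Surjective a] [Etale b] (hh : P h) : P f := by
  refine of_comp_etale_surjective a f inferInstance inferInstance ?_
  rw [w]
  exact P.comp_mem _ _ hh (of_etale b inferInstance)

/-- Descent along an étale surjective base change. -/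
theorem of_isPullback_etale_surjective {X' X Y' Y : Scheme.{u}} {g' : X' ⟶ X} {f' : X' ⟶ Y'}
    {f : X ⟶ Y} {g : Y' ⟶ Y} (sq : IsPullback g' f' f g) [Etale g] [Surjective g] (h : P f') :
    P f := by
  have h1 : Etale g' := MorphismProperty.of_isPullback sq.flip inferInstance
  have h2 : Surjective g' := MorphismProperty.of_isPullback sq.flip inferInstance
  exact of_chart_surjective sq.w h

end IsEtaleLocalST

set_option backward.isDefEq.respectTransparency.types false in
instance : IsEtaleLocalST (@Flat : MorphismProperty Scheme.{u}) where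
  toIsStableUnderBaseChange := inferInstance
  toIsStableUnderComposition := inferInstance
  of_etale _ _ := inferInstance
  of_comp_etale_surjective a f _ _ h := flat_of_flat_comp_of_surjective a f

set_option backward.isDefEq.respectTransparency.types false in
instance : IsEtaleLocalST (@LocallyOfFiniteType : MorphismProperty Scheme.{u}) where
  toIsStableUnderBaseChange := inferInstance
  toIsStableUnderComposition := inferInstance
  of_etale _ _ := inferInstance
  of_comp_etale_surjective a f _ _ h := locallyOfFiniteType_of_comp_etale_surjective a f h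

set_option backward.isDefEq.respectTransparency.types false in
instance : IsEtaleLocalST (@LocallyOfFinitePresentation : MorphismProperty Scheme.{u}) where
  toIsStableUnderBaseChange := inferInstance
  toIsStableUnderComposition := inferInstance
  of_etale _ _ := inferInstance
  of_comp_etale_surjective a f _ _ h :=
    locallyOfFinitePresentation_of_comp_etale_surjective a f h

set_option backward.isDefEq.respectTransparency.types false in
instance : IsEtaleLocalST (@Etale : MorphismProperty Scheme.{u}) where
  toIsStableUnderBaseChange := inferInstance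
  toIsStableUnderComposition := inferInstance
  of_etale _ h := h
  of_comp_etale_surjective a f _ _ h := etale_of_comp_etale_surjective a f h

set_option backward.isDefEq.respectTransparency.types false in
instance : IsEtaleLocalST (@FormallyUnramified : MorphismProperty Scheme.{u}) where
  toIsStableUnderBaseChange := inferInstance
  toIsStableUnderComposition := inferInstance
  of_etale _ _ := inferInstance
  of_comp_etale_surjective a f _ _ h := formallyUnramified_of_comp_etale_surjective a f h


theorem locallyQuasiFinite_of_unramified {X Y : Scheme.{u}} (f : X ⟶ Y) [FormallyUnramified f]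
    [LocallyOfFiniteType f] : LocallyQuasiFinite f := by
  refine ⟨fun {U} hU {V} hV e => ?_⟩
  have h1 : (f.appLE U V e).hom.FormallyUnramified :=
    HasRingHomProperty.appLE @FormallyUnramified f inferInstance ⟨U, hU⟩ ⟨V, hV⟩ e
  have h2 : (f.appLE U V e).hom.FiniteType :=
    HasRingHomProperty.appLE @LocallyOfFiniteType f inferInstance ⟨U, hU⟩ ⟨V, hV⟩ e
  algebraize [(f.appLE U V e).hom]
  rw [RingHom.QuasiFinite]
  infer_instance

theorem locallyQuasiFinite_of_etale {X Y : Scheme.{u}} (f : X ⟶ Y) [Etale f] :
    LocallyQuasiFinite f := locallyQuasiFinite_of_unramified f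

set_option backward.isDefEq.respectTransparency.types false in
instance IsEtaleLocalST.inf (P Q : MorphismProperty Scheme.{u}) [IsEtaleLocalST P]
    [IsEtaleLocalST Q] : IsEtaleLocalST (P ⊓ Q) where
  toIsStableUnderBaseChange := inferInstance
  toIsStableUnderComposition := inferInstance
  of_etale f hf := ⟨IsEtaleLocalST.of_etale f hf, IsEtaleLocalST.of_etale f hf⟩
  of_comp_etale_surjective a f ha hs h :=
    ⟨IsEtaleLocalST.of_comp_etale_surjective a f ha hs h.1,
      IsEtaleLocalST.of_comp_etale_surjective a f ha hs h.2⟩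

set_option backward.isDefEq.respectTransparency.types false in
instance : IsEtaleLocalST (@LocallyQuasiFinite ⊓ @LocallyOfFiniteType :
    MorphismProperty Scheme.{u}) where
  toIsStableUnderBaseChange := inferInstance
  toIsStableUnderComposition := inferInstance
  of_etale f hf := ⟨locallyQuasiFinite_of_etale f, inferInstance⟩
  of_comp_etale_surjective a f ha hs h := by
    have h2 : LocallyOfFiniteType f := locallyOfFiniteType_of_comp_etale_surjective a f h.2
    exact ⟨locallyQuasiFinite_of_comp_etale_surjective a f h.1, h2⟩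

end Groth.Agent.Helper2.EtaleLocal
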