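import Mathlib
import Groth.Prelude.Def_EGA41
import Groth.Prelude.Def_CAlgX
set_option autoImplicit false
universe u

namespace Groth.Agent.Helper2.AdicFS

/-- square-zero lifting implies nilpotent lifting (discrete base) -/
theorem isFormallySmoothAdic_bot_of_isAdicFormallySmooth {A B : Type u} [CommRing A] [CommRing B]
    [Algebra A B] (𝔫 : Ideal B) (h : CAlgX.IsAdicFormallySmooth A B 𝔫) :
    EGA41.IsFormallySmoothAdic A ⊥ B 𝔫 := by
  intro C _ _ J hJ hdisc
  clear hdisc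
  have key : IsNilpotent J → ∀ u : B →ₐ[A] C ⧸ J, (∃ k : ℕ, ∀ x ∈ 𝔫 ^ k, u x = 0) →
      ∃ v : B →ₐ[A] C, (Ideal.Quotient.mkₐ A J).comp v = u := by
    revert ‹Algebra A C›
    apply Ideal.IsNilpotent.induction_on (S := C) J hJ
    · intro S _ I hI _ _ u hu
      exact h S I hI u hu
    · intro S _ I J hIJ h₁ h₂ _ hJnil u ⟨k, hk⟩
      obtain ⟨N, hN⟩ := hJnil
      have hInil : IsNilpotent I := ⟨N, by
        rw [Ideal.zero_eq_bot, eq_bot_iff] at hN ⊢
        exact le_trans (Ideal.pow_right_mono hIJ N) hN⟩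
      have hJ'nil : IsNilpotent (J.map (Ideal.Quotient.mk I)) := ⟨N, by
        rw [← Ideal.map_pow, hN, Ideal.zero_eq_bot, Ideal.map_bot]; rfl⟩
      let e : ((S ⧸ I) ⧸ J.map (Ideal.Quotient.mk I)) ≃ₐ[A] S ⧸ J :=
        { (DoubleQuot.quotQuotEquivQuotSup I J).trans
            (Ideal.quotEquivOfEq (sup_eq_right.mpr hIJ)) with
          commutes' := fun x => rfl }
      have hu' : ∃ k : ℕ, ∀ x ∈ 𝔫 ^ k, (e.symm.toAlgHom.comp u) x = 0 := by
        refine ⟨k, fun x hx => ?_⟩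
        change e.symm (u x) = 0
        rw [hk x hx, map_zero]
      obtain ⟨g', hg'⟩ := h₂ hJ'nil (e.symm.toAlgHom.comp u) hu'
      have hg'c : ∃ m : ℕ, ∀ x ∈ 𝔫 ^ m, g' x = 0 := by
        refine ⟨k * N, fun x hx => ?_⟩
        have h1 : (𝔫 ^ k).map g'.toRingHom ≤ J.map (Ideal.Quotient.mk I) := by
          rw [Ideal.map_le_iff_le_comap]
          intro y hy
          rw [Ideal.mem_comap, ← Ideal.Quotient.eq_zero_iff_mem]
          change Ideal.Quotient.mk _ (g' y) = 0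
          have := AlgHom.congr_fun hg' y
          change Ideal.Quotient.mk _ (g' y) = e.symm (u y) at this
          rw [this, hk y hy, map_zero]
        have h2 := Ideal.pow_right_mono h1 N
        rw [← Ideal.map_pow, ← pow_mul, ← Ideal.map_pow, hN, Ideal.zero_eq_bot, Ideal.map_bot] at h2
        exact h2 (Ideal.mem_map_of_mem _ hx)
      obtain ⟨g, hg⟩ := h₁ hInil g' hg'c
      refine ⟨g, ?_⟩
      ext x
      have h3 := AlgHom.congr_fun hg' x
      change Ideal.Quotient.mk _ (g' x) = e.symm (u x) at h3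
      have h4 : e (Ideal.Quotient.mk _ (g' x)) = u x := by rw [h3, e.apply_symm_apply]
      rw [← hg] at h4
      exact h4
  exact fun u hu => key hJ u hu

theorem isAdicFormallySmooth_of_isFormallySmoothAdic_bot {A B : Type u} [CommRing A] [CommRing B]
    [Algebra A B] (𝔫 : Ideal B) (h : EGA41.IsFormallySmoothAdic A ⊥ B 𝔫) :
    CAlgX.IsAdicFormallySmooth A B 𝔫 := by
  intro C _ _ J hJ ψ hψ
  exact h C J ⟨2, hJ⟩ ⟨1, by rw [pow_one, Ideal.map_bot]⟩ ψ hψ

theorem isAdicFormallySmooth_iff_isFormallySmoothAdic_bot {A B : Type u} [CommRing A] [CommRing B]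
    [Algebra A B] (𝔫 : Ideal B) :
    CAlgX.IsAdicFormallySmooth A B 𝔫 ↔ EGA41.IsFormallySmoothAdic A ⊥ B 𝔫 :=
  ⟨isFormallySmoothAdic_bot_of_isAdicFormallySmooth 𝔫,
    isAdicFormallySmooth_of_isFormallySmoothAdic_bot 𝔫⟩

end Groth.Agent.Helper2.AdicFS
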