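import Mathlib
import Groth.Prelude.Def_EGA41
set_option autoImplicit false
universe u

namespace Groth.Agent.Helper2.AdicFS

/-- the kernel of `AdicCompletion → B/𝔟ⁿ` is `(𝔟 B̂)ⁿ` for finitely generated `𝔟` -/
theorem mem_map_pow_of_evalₐ_eq_zero {B : Type*} [CommRing B] (𝔟 : Ideal B) (hfg : 𝔟.FG) (n : ℕ)
    (x : AdicCompletion 𝔟 B) (hx : AdicCompletion.evalₐ 𝔟 n x = 0) :
    x ∈ (𝔟.map (algebraMap B (AdicCompletion 𝔟 B))) ^ n := by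
  have h1 : x ∈ (AdicCompletion.eval 𝔟 B n).ker := by
    rw [LinearMap.mem_ker]
    have h2 := AdicCompletion.factor_evalₐ_eq_eval 𝔟 x (n := n) (le_of_eq (Ideal.mul_top _).symm)
    rw [← h2, hx, map_zero]
  rw [← AdicCompletion.pow_smul_top_eq_ker_eval hfg, Ideal.smul_top_eq_map] at h1
  rw [← Ideal.map_pow]
  exact h1

theorem evalₐ_eq_zero_of_mem_map_pow {B : Type*} [CommRing B] (𝔟 : Ideal B) (n : ℕ)
    (x : AdicCompletion 𝔟 B) (hx : x ∈ (𝔟.map (algebraMap B (AdicCompletion 𝔟 B))) ^ n) :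
    AdicCompletion.evalₐ 𝔟 n x = 0 := by
  rw [← Ideal.map_pow] at hx
  have : (𝔟 ^ n).map (algebraMap B (AdicCompletion 𝔟 B)) ≤ RingHom.ker (AdicCompletion.evalₐ 𝔟 n) := by
    rw [Ideal.map_le_iff_le_comap]
    intro b hb
    rw [Ideal.mem_comap, RingHom.mem_ker]
    change AdicCompletion.evalₐ 𝔟 n (AdicCompletion.of 𝔟 B b) = 0
    rw [AdicCompletion.evalₐ_of, Ideal.Quotient.eq_zero_iff_mem]
    exact hb
  exact this hx

theorem isFormallySmoothAdic_of_adicCompletion {A B : Type u} [CommRing A] (𝔞 : Ideal A) [CommRing B]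
    [Algebra A B] (𝔟 : Ideal B)
    (h : EGA41.IsFormallySmoothAdic A 𝔞 (AdicCompletion 𝔟 B)
      (𝔟.map (algebraMap B (AdicCompletion 𝔟 B)))) :
    EGA41.IsFormallySmoothAdic A 𝔞 B 𝔟 := by
  intro C _ _ J hJ hdisc u ⟨k, hk⟩
  let ev : AdicCompletion 𝔟 B →ₐ[A] B ⧸ 𝔟 ^ k := (AdicCompletion.evalₐ 𝔟 k).restrictScalars A
  let ubar : (B ⧸ 𝔟 ^ k) →ₐ[A] C ⧸ J := Ideal.Quotient.liftₐ (𝔟 ^ k) u hk
  let uhat : AdicCompletion 𝔟 B →ₐ[A] C ⧸ J := ubar.comp ev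
  have huhat : ∃ m : ℕ, ∀ x ∈ (𝔟.map (algebraMap B (AdicCompletion 𝔟 B))) ^ m, uhat x = 0 := by
    refine ⟨k, fun x hx => ?_⟩
    change ubar (AdicCompletion.evalₐ 𝔟 k x) = 0
    rw [evalₐ_eq_zero_of_mem_map_pow 𝔟 k x hx, map_zero]
  obtain ⟨vhat, hvhat⟩ := h C J hJ hdisc uhat huhat
  refine ⟨vhat.comp (IsScalarTower.toAlgHom A B (AdicCompletion 𝔟 B)), ?_⟩
  ext b
  have h1 := AlgHom.congr_fun hvhat (algebraMap B (AdicCompletion 𝔟 B) b)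
  change Ideal.Quotient.mk J (vhat (algebraMap B (AdicCompletion 𝔟 B) b)) = u b
  change Ideal.Quotient.mk J (vhat (algebraMap B (AdicCompletion 𝔟 B) b)) =
    ubar (AdicCompletion.evalₐ 𝔟 k (AdicCompletion.of 𝔟 B b)) at h1
  rw [h1, AdicCompletion.evalₐ_of]
  rfl

theorem isFormallySmoothAdic_adicCompletion {A B : Type u} [CommRing A] (𝔞 : Ideal A) [CommRing B]
    [Algebra A B] (𝔟 : Ideal B) (hfg : 𝔟.FG) (h : EGA41.IsFormallySmoothAdic A 𝔞 B 𝔟) :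
    EGA41.IsFormallySmoothAdic A 𝔞 (AdicCompletion 𝔟 B)
      (𝔟.map (algebraMap B (AdicCompletion 𝔟 B))) := by
  intro C _ _ J hJ hdisc u ⟨k, hk⟩
  obtain ⟨N, hN⟩ := hJ
  let ι : B →ₐ[A] AdicCompletion 𝔟 B := IsScalarTower.toAlgHom A B (AdicCompletion 𝔟 B)
  let u₀ : B →ₐ[A] C ⧸ J := u.comp ι
  have hu₀ : ∃ m : ℕ, ∀ x ∈ 𝔟 ^ m, u₀ x = 0 := by
    refine ⟨k, fun x hx => ?_⟩
    apply hk
    rw [← Ideal.map_pow]
    exact Ideal.mem_map_of_mem _ hx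
  obtain ⟨v₀, hv₀⟩ := h C J ⟨N, hN⟩ hdisc u₀ hu₀
  have hv₀J : ∀ x ∈ 𝔟 ^ k, v₀ x ∈ J := by
    intro x hx
    have h1 := AlgHom.congr_fun hv₀ x
    change Ideal.Quotient.mk J (v₀ x) = u (ι x) at h1
    rw [← Ideal.Quotient.eq_zero_iff_mem, h1]
    apply hk
    rw [← Ideal.map_pow]
    exact Ideal.mem_map_of_mem _ hx
  have hv₀0 : ∀ x ∈ 𝔟 ^ (k * N + k), v₀ x = 0 := by
    intro x hx
    have hx' : x ∈ (𝔟 ^ k) ^ N := by
      rw [← pow_mul]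
      exact Ideal.pow_le_pow_right (Nat.le_add_right _ _) hx
    have h2 : (𝔟 ^ k).map v₀.toRingHom ≤ J := by
      rw [Ideal.map_le_iff_le_comap]
      exact fun y hy => hv₀J y hy
    have h3 := Ideal.pow_right_mono h2 N
    rw [← Ideal.map_pow, hN, Ideal.zero_eq_bot] at h3
    exact h3 (Ideal.mem_map_of_mem _ hx')
  let ev : AdicCompletion 𝔟 B →ₐ[A] B ⧸ 𝔟 ^ (k * N + k) :=
    (AdicCompletion.evalₐ 𝔟 (k * N + k)).restrictScalars A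
  let vbar : (B ⧸ 𝔟 ^ (k * N + k)) →ₐ[A] C := Ideal.Quotient.liftₐ (𝔟 ^ (k * N + k)) v₀ hv₀0
  refine ⟨vbar.comp ev, ?_⟩
  ext x
  obtain ⟨b, hb⟩ := Ideal.Quotient.mk_surjective (AdicCompletion.evalₐ 𝔟 (k * N + k) x)
  change Ideal.Quotient.mk J (vbar (AdicCompletion.evalₐ 𝔟 (k * N + k) x)) = u x
  rw [← hb]
  change Ideal.Quotient.mk J (v₀ b) = u x
  have h1 := AlgHom.congr_fun hv₀ b
  change Ideal.Quotient.mk J (v₀ b) = u (ι b) at h1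
  rw [h1]
  have h2 : AdicCompletion.evalₐ 𝔟 (k * N + k) (x - ι b) = 0 := by
    rw [map_sub, ← hb]
    change _ - AdicCompletion.evalₐ 𝔟 (k * N + k) (AdicCompletion.of 𝔟 B b) = 0
    rw [AdicCompletion.evalₐ_of, sub_self]
  have h3 := mem_map_pow_of_evalₐ_eq_zero 𝔟 hfg _ _ h2
  have h4 : u (x - ι b) = 0 := hk _ (Ideal.pow_le_pow_right (Nat.le_add_left _ _) h3)
  rw [map_sub, sub_eq_zero] at h4
  exact h4.symm

end Groth.Agent.Helper2.AdicFS
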