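import Mathlib
import Groth.Agent.Lib.Helper2.AdicCompletionFS
set_option autoImplicit false
universe u

namespace Groth.Agent.Helper2.AdicUniv

open AdicCompletion

variable {R : Type*} [CommRing R] {C B : Type*} [CommRing C] [CommRing B] [Algebra R C]
  [Algebra R B]

/-- an element of a Hausdorff ring lying in all powers of the ideal vanishes -/
theorem eq_zero_of_forall_mem_pow (JB : Ideal B) [IsHausdorff JB B] (x : B)
    (hx : ∀ n : ℕ, x ∈ JB ^ n) : x = 0 := by
  apply IsHausdorff.haus' (I := JB) x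
  intro n
  rw [SModEq.zero]
  rw [smul_eq_mul, Ideal.mul_top]
  exact hx n

theorem pow_le_comap (J : Ideal C) (JB : Ideal B) (g : C →ₐ[R] B) (hg : J.map g ≤ JB) (n : ℕ) :
    J ^ n ≤ (JB ^ n).comap g := by
  rw [← Ideal.map_le_iff_le_comap, Ideal.map_pow]
  exact Ideal.pow_right_mono hg n

theorem factor_evalₐ (J : Ideal C) {m n : ℕ} (hle : m ≤ n) (x : AdicCompletion J C) :
    Ideal.Quotient.factor (Ideal.pow_le_pow_right hle) (evalₐ J n x) = evalₐ J m x := by
  induction x using AdicCompletion.induction_on with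
  | h a =>
    rw [evalₐ_mk, evalₐ_mk, Ideal.Quotient.factor_mk, Ideal.Quotient.eq]
    have h := a.property hle
    rw [SModEq.sub_mem, smul_eq_mul, Ideal.mul_top] at h
    have := neg_mem h
    rwa [neg_sub] at this

/-- the `n`-th approximation of the lift. -/
noncomputable def stepMap (J : Ideal C) (JB : Ideal B) (g : C →ₐ[R] B) (hg : J.map g ≤ JB)
    (n : ℕ) : AdicCompletion J C →ₐ[R] B ⧸ JB ^ n :=
  (Ideal.quotientMapₐ (JB ^ n) g (pow_le_comap J JB g hg n)).comp
    ((evalₐ J n).restrictScalars R)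

theorem stepMap_apply_of_eval (J : Ideal C) (JB : Ideal B) (g : C →ₐ[R] B) (hg : J.map g ≤ JB)
    (n : ℕ) (x : AdicCompletion J C) (c : C) (hc : evalₐ J n x = Ideal.Quotient.mk _ c) :
    stepMap J JB g hg n x = Ideal.Quotient.mk _ (g c) := by
  unfold stepMap
  rw [AlgHom.comp_apply]
  change Ideal.quotientMapₐ (JB ^ n) g _ (evalₐ J n x) = _
  rw [hc]
  rfl

theorem evalₐ_of_le (J : Ideal C) {m n : ℕ} (hle : m ≤ n) (x : AdicCompletion J C) (c : C)
    (hc : evalₐ J n x = Ideal.Quotient.mk _ c) : evalₐ J m x = Ideal.Quotient.mk _ c := by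
  rw [← factor_evalₐ J hle x, hc, Ideal.Quotient.factor_mk]

/-- **Lift to the completion**: a homomorphism `C → B` into a complete ring, continuous for the
adic topologies, extends to the completion of `C`. -/
theorem exists_lift (J : Ideal C) (JB : Ideal B) [IsAdicComplete JB B] (g : C →ₐ[R] B)
    (hg : J.map g ≤ JB) :
    ∃ χ : AdicCompletion J C →ₐ[R] B, ∀ c, χ (of J C c) = g c := by
  have hcompat : ∀ {m n : ℕ} (hle : m ≤ n),
      (Ideal.Quotient.factorₐ R (Ideal.pow_le_pow_right hle)).comp (stepMap J JB g hg n) =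
        stepMap J JB g hg m := by
    intro m n hle
    ext x
    obtain ⟨c, hc⟩ := Ideal.Quotient.mk_surjective (evalₐ J n x)
    rw [AlgHom.comp_apply, stepMap_apply_of_eval J JB g hg n x c hc.symm,
      stepMap_apply_of_eval J JB g hg m x c (evalₐ_of_le J hle x c hc.symm)]
    rfl
  let L : AdicCompletion J C →ₐ[R] AdicCompletion JB B :=
    liftAlgHom JB (stepMap J JB g hg) hcompat
  let e : AdicCompletion JB B →ₐ[R] B := (ofAlgEquiv JB).symm.toAlgHom.restrictScalars R
  refine ⟨e.comp L, ?_⟩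
  intro c
  have hsub : e (L (of J C c)) - g c = 0 := by
    apply eq_zero_of_forall_mem_pow JB
    intro n
    rw [← Ideal.Quotient.eq]
    have h1 : Ideal.Quotient.mk (JB ^ n) (e (L (of J C c))) = evalₐ JB n (L (of J C c)) :=
      mk_ofAlgEquiv_symm JB n _
    rw [h1]
    have h2 : evalₐ JB n (L (of J C c)) = stepMap J JB g hg n (of J C c) :=
      evalₐ_liftAlgHom JB (stepMap J JB g hg) hcompat n _
    rw [h2]
    exact stepMap_apply_of_eval J JB g hg n _ c (evalₐ_of J n c)
  rw [AlgHom.comp_apply]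
  exact sub_eq_zero.mp hsub

/-- **Density**: two ring homomorphisms out of the completion (for a finitely generated ideal),
continuous for the adic topologies, into a separated ring, which agree on `C`, are equal. -/
theorem lift_unique (J : Ideal C) (hJ : J.FG) (JB : Ideal B) [IsHausdorff JB B]
    (χ χ' : AdicCompletion J C →+* B)
    (hχ : (J.map (algebraMap C (AdicCompletion J C))).map χ ≤ JB)
    (hχ' : (J.map (algebraMap C (AdicCompletion J C))).map χ' ≤ JB)
    (h : ∀ c, χ (of J C c) = χ' (of J C c)) : χ = χ' := by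
  ext x
  rw [← sub_eq_zero]
  apply eq_zero_of_forall_mem_pow JB
  intro n
  obtain ⟨c, hc⟩ := Ideal.Quotient.mk_surjective (evalₐ J n x)
  have hz : evalₐ J n (x - of J C c) = 0 := by
    rw [map_sub, evalₐ_of, hc, sub_self]
  have hmem := Groth.Agent.Helper2.AdicFS.mem_map_pow_of_evalₐ_eq_zero J hJ n _ hz
  have key : ∀ (ξ : AdicCompletion J C →+* B),
      (J.map (algebraMap C (AdicCompletion J C))).map ξ ≤ JB → ξ (x - of J C c) ∈ JB ^ n := by
    intro ξ hξ
    have h1 : ξ (x - of J C c) ∈ ((J.map (algebraMap C (AdicCompletion J C))) ^ n).map ξ :=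
      Ideal.mem_map_of_mem ξ hmem
    rw [Ideal.map_pow] at h1
    exact Ideal.pow_right_mono hξ n h1
  have e1 : χ x - χ' x = χ (x - of J C c) - χ' (x - of J C c) := by
    rw [map_sub, map_sub, h c]; ring
  rw [e1]
  exact sub_mem (key χ hχ) (key χ' hχ')

end Groth.Agent.Helper2.AdicUniv
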