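import Mathlib

/-!
# Completions of finite modules with isomorphic truncations are isomorphic

Artin–Rees approximation of homomorphisms `M → N ⧸ I^(n+c) N` by honest homomorphisms `M → N`.
-/

set_option autoImplicit false

namespace Groth.Agent.Helper2.AdicIsoQuot

open Submodule

universe u v

variable {A : Type u} [CommRing A]

section Pi

variable {N : Type v} [AddCommGroup N] [Module A N]

/-- A vector all of whose coordinates lie in `J • ⊤` lies in `J • ⊤`. -/
theorem mem_smul_top_pi {s : ℕ} (J : Ideal A) (v : Fin s → N)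
    (hv : ∀ j, v j ∈ (J • ⊤ : Submodule A N)) :
    v ∈ (J • ⊤ : Submodule A (Fin s → N)) := by
  classical
  have hsum : v = ∑ j, LinearMap.single A (fun _ : Fin s => N) j (v j) := by
    ext i
    simp [Finset.sum_apply, Pi.single_apply]
  rw [hsum]
  refine Submodule.sum_mem _ fun j _ => ?_
  have hle : (J • ⊤ : Submodule A N) ≤
      (J • ⊤ : Submodule A (Fin s → N)).comap (LinearMap.single A (fun _ : Fin s => N) j) := by
    rw [← Submodule.map_le_iff_le_comap, Submodule.map_smul'']
    exact Submodule.smul_mono le_rfl le_top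
  exact hle (hv j)

/-- A linear map sends `J • ⊤` into `J • ⊤`. -/
theorem map_mem_smul_top {P : Type*} [AddCommGroup P] [Module A P] (J : Ideal A)
    (g : N →ₗ[A] P) {x : N} (hx : x ∈ (J • ⊤ : Submodule A N)) :
    g x ∈ (J • ⊤ : Submodule A P) := by
  have hle : (J • ⊤ : Submodule A N) ≤ (J • ⊤ : Submodule A P).comap g := by
    rw [← Submodule.map_le_iff_le_comap, Submodule.map_smul'']
    exact Submodule.smul_mono le_rfl le_top
  exact hle hx

end Pi

variable [IsNoetherianRing A] (I : Ideal A)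
variable (M N : Type u) [AddCommGroup M] [Module A M] [Module.Finite A M]
  [AddCommGroup N] [Module A N] [Module.Finite A N]

/-- **Artin–Rees approximation of homomorphisms.** There is `c` such that every homomorphism
`M → N ⧸ I^(n+c) N` agrees modulo `I^n N` with an honest homomorphism `M → N`. -/
theorem exists_hom_approx :
    ∃ c : ℕ, ∀ (n : ℕ) (φ : M →ₗ[A] (N ⧸ (I ^ (n + c) • ⊤ : Submodule A N))),
      ∃ ψ : M →ₗ[A] N, ∀ m : M, ∃ y : N,
        Submodule.Quotient.mk y = φ m ∧ ψ m - y ∈ (I ^ n • ⊤ : Submodule A N) := by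
  classical
  obtain ⟨r, f, hf⟩ := Module.Finite.exists_fin' A M
  have hK : (LinearMap.ker f).FG := IsNoetherian.noetherian _
  obtain ⟨s, k, hk⟩ := Submodule.fg_iff_exists_fin_generating_family.mp hK
  -- the relation map
  let θ : (Fin r → N) →ₗ[A] (Fin s → N) :=
    LinearMap.pi fun j => (Fintype.bilinearCombination A A).flip (k j)
  have hθ : ∀ (x : Fin r → N) (j : Fin s), θ x j = Fintype.linearCombination A x (k j) := by
    intro x j
    rfl
  obtain ⟨c, hc⟩ := Ideal.exists_pow_inf_eq_pow_smul I (LinearMap.range θ)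
  refine ⟨c, fun n φ => ?_⟩
  -- choose lifts of the images of the generators
  have hlift : ∀ i : Fin r, ∃ x : N, Submodule.Quotient.mk x = φ (f (Pi.single i 1)) :=
    fun i => Submodule.Quotient.mk_surjective _ _
  choose x hx using hlift
  have hxa : ∀ a : Fin r → A,
      (Submodule.Quotient.mk (Fintype.linearCombination A x a) :
        N ⧸ (I ^ (n + c) • ⊤ : Submodule A N)) = φ (f a) := by
    intro a
    have ha : a = ∑ i, a i • (Pi.single i (1 : A) : Fin r → A) := by
      ext j
      simp [Finset.sum_apply, Pi.single_apply]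
    conv_rhs => rw [ha]
    rw [Fintype.linearCombination_apply, ← Submodule.mkQ_apply]
    simp only [map_sum, map_smul, Submodule.mkQ_apply, hx]
  -- θ x lies in I^(n+c) • ⊤ ⊓ range θ
  have hθx : θ x ∈ (I ^ (n + c) • ⊤ : Submodule A (Fin s → N)) := by
    refine mem_smul_top_pi _ _ fun j => ?_
    rw [hθ, ← Submodule.Quotient.mk_eq_zero, hxa]
    have hkj : k j ∈ LinearMap.ker f := by
      rw [← hk]
      exact Submodule.subset_span ⟨j, rfl⟩
    rw [LinearMap.mem_ker.mp hkj, map_zero]
  have hmem : θ x ∈ (I ^ (n + c) • ⊤ ⊓ LinearMap.range θ : Submodule A (Fin s → N)) :=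
    ⟨hθx, LinearMap.mem_range_self _ _⟩
  rw [hc (n + c) (Nat.le_add_left _ _), Nat.add_sub_cancel] at hmem
  have hmem' : θ x ∈ (I ^ n • ⊤ : Submodule A (Fin r → N)).map θ := by
    rw [Submodule.map_smul'', Submodule.map_top]
    exact Submodule.smul_mono le_rfl inf_le_right hmem
  obtain ⟨y, hy, hyx⟩ := hmem'
  -- the corrected tuple
  have hker : LinearMap.ker f ≤ LinearMap.ker (Fintype.linearCombination A (x - y)) := by
    rw [← hk, Submodule.span_le]
    rintro _ ⟨j, rfl⟩
    rw [SetLike.mem_coe, LinearMap.mem_ker, ← hθ, map_sub, hyx, sub_self]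
    rfl
  let ψ : M →ₗ[A] N := ((LinearMap.ker f).liftQ _ hker) ∘ₗ
    (f.quotKerEquivOfSurjective hf).symm.toLinearMap
  have hψ : ∀ a : Fin r → A, ψ (f a) = Fintype.linearCombination A (x - y) a := by
    intro a
    have h1 : (f.quotKerEquivOfSurjective hf).symm (f a) = Submodule.Quotient.mk a := by
      rw [LinearEquiv.symm_apply_eq]
      rfl
    simp only [ψ, LinearMap.comp_apply, LinearEquiv.coe_coe, h1, Submodule.liftQ_apply]
  refine ⟨ψ, fun m => ?_⟩
  obtain ⟨a, rfl⟩ := hf m
  refine ⟨Fintype.linearCombination A x a, hxa a, ?_⟩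
  rw [hψ]
  have hsub : Fintype.linearCombination A (x - y) a - Fintype.linearCombination A x a =
      - ((Fintype.bilinearCombination A A).flip a y) := by
    simp only [Fintype.linearCombination_apply, LinearMap.flip_apply,
      Fintype.bilinearCombination_apply, Pi.sub_apply, smul_sub, Finset.sum_sub_distrib]
    abel
  rw [hsub]
  exact Submodule.neg_mem _ (map_mem_smul_top _ _ hy)

/-- If `M ⧸ I^n M ≃ N ⧸ I^n N` for all `n`, then there is a homomorphism `M → N` which is
surjective modulo `I`. -/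
theorem exists_hom_surjective_mod
    (h : ∀ n : ℕ, Nonempty ((M ⧸ (I ^ n • ⊤ : Submodule A M)) ≃ₗ[A]
      (N ⧸ (I ^ n • ⊤ : Submodule A N)))) :
    ∃ ψ : M →ₗ[A] N, Function.Surjective ((I • ⊤ : Submodule A N).mkQ ∘ₗ ψ) := by
  obtain ⟨c, hc⟩ := exists_hom_approx I M N
  obtain ⟨e⟩ := h (1 + c)
  obtain ⟨ψ, hψ⟩ := hc 1 (e.toLinearMap ∘ₗ (I ^ (1 + c) • ⊤ : Submodule A M).mkQ)
  refine ⟨ψ, fun z => ?_⟩
  obtain ⟨n₀, rfl⟩ := Submodule.Quotient.mk_surjective _ z
  obtain ⟨mbar, hm⟩ := e.surjective (Submodule.Quotient.mk n₀)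
  obtain ⟨m, rfl⟩ := Submodule.Quotient.mk_surjective _ mbar
  obtain ⟨y, hy1, hy2⟩ := hψ m
  refine ⟨m, ?_⟩
  simp only [LinearMap.comp_apply, LinearEquiv.coe_coe, Submodule.mkQ_apply] at hy1 ⊢
  rw [hm, Submodule.Quotient.eq] at hy1
  rw [Submodule.Quotient.eq]
  have hle : (I ^ (1 + c) • ⊤ : Submodule A N) ≤ I • ⊤ := by
    rw [pow_add, pow_one, mul_smul]
    exact Submodule.smul_mono le_rfl le_top
  have h2 : ψ m - y ∈ (I • ⊤ : Submodule A N) := by simpa using hy2
  have : ψ m - n₀ = (ψ m - y) + (y - n₀) := by abel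
  rw [this]
  exact Submodule.add_mem _ h2 (hle hy1)

/-- **Main theorem.** Finite modules over a Noetherian ring with isomorphic truncations have
isomorphic completions. -/
theorem nonempty_adicCompletion_equiv
    (h : ∀ n : ℕ, Nonempty ((M ⧸ (I ^ n • ⊤ : Submodule A M)) ≃ₗ[A]
      (N ⧸ (I ^ n • ⊤ : Submodule A N)))) :
    Nonempty (AdicCompletion I M ≃ₗ[AdicCompletion I A] AdicCompletion I N) := by
  obtain ⟨ψ, hψ⟩ := exists_hom_surjective_mod I M N h
  obtain ⟨ψ', hψ'⟩ := exists_hom_surjective_mod I N M fun n => ⟨(h n).some.symm⟩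
  have hs : Function.Surjective (AdicCompletion.map I ψ) :=
    AdicCompletion.map_surjective_of_mkQ_comp_surjective hψ
  have hs' : Function.Surjective (AdicCompletion.map I ψ') :=
    AdicCompletion.map_surjective_of_mkQ_comp_surjective hψ'
  haveI : Module.Finite (AdicCompletion I A) (AdicCompletion I M) :=
    Module.Finite.of_surjective (AdicCompletion.ofTensorProduct I M)
      (AdicCompletion.ofTensorProduct_surjective_of_finite I M)
  have hinj : Function.Injective ((AdicCompletion.map I ψ') ∘ₗ (AdicCompletion.map I ψ)) :=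
    OrzechProperty.injective_of_surjective_endomorphism _ (hs'.comp hs)
  have hinj' : Function.Injective (AdicCompletion.map I ψ) := by
    intro a b hab
    apply hinj
    simp only [LinearMap.comp_apply, hab]
  exact ⟨LinearEquiv.ofBijective (AdicCompletion.map I ψ) ⟨hinj', hs⟩⟩

end Groth.Agent.Helper2.AdicIsoQuot
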