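import Mathlib
import Groth.Prelude.Def_EGA41
set_option autoImplicit false
universe u
open TensorProduct

namespace Groth.Agent.Helper2.AdicFS

/-- gluing two algebra maps into quotients along the intersection of the ideals -/
theorem exists_glue {R B C : Type*} [CommRing R] [CommRing B] [CommRing C] [Algebra R B]
    [Algebra R C] (I₁ I₂ : Ideal C) (φ₁ : B →ₐ[R] C ⧸ I₁) (φ₂ : B →ₐ[R] C ⧸ I₂)
    (hcompat : ∀ b, Ideal.Quotient.factor (le_sup_left : I₁ ≤ I₁ ⊔ I₂) (φ₁ b) =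
      Ideal.Quotient.factor (le_sup_right : I₂ ≤ I₁ ⊔ I₂) (φ₂ b)) :
    ∃ ψ : B →ₐ[R] C ⧸ (I₁ ⊓ I₂),
      (∀ b, Ideal.Quotient.factor (inf_le_left : I₁ ⊓ I₂ ≤ I₁) (ψ b) = φ₁ b) ∧
      (∀ b, Ideal.Quotient.factor (inf_le_right : I₁ ⊓ I₂ ≤ I₂) (ψ b) = φ₂ b) := by
  let ρ : (C ⧸ (I₁ ⊓ I₂)) →ₐ[R] (C ⧸ I₁) × (C ⧸ I₂) :=
    AlgHom.prod (Ideal.Quotient.factorₐ R (inf_le_left : I₁ ⊓ I₂ ≤ I₁))
      (Ideal.Quotient.factorₐ R (inf_le_right : I₁ ⊓ I₂ ≤ I₂))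
  have hρ : ∀ c : C, ρ (Ideal.Quotient.mk _ c) = (Ideal.Quotient.mk I₁ c, Ideal.Quotient.mk I₂ c) :=
    fun c => rfl
  have hinj : Function.Injective ρ := by
    rw [injective_iff_map_eq_zero]
    intro q hq
    obtain ⟨c, rfl⟩ := Ideal.Quotient.mk_surjective q
    rw [hρ, Prod.mk_eq_zero, Ideal.Quotient.eq_zero_iff_mem, Ideal.Quotient.eq_zero_iff_mem] at hq
    exact Ideal.Quotient.eq_zero_iff_mem.mpr ⟨hq.1, hq.2⟩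
  let χ : B →ₐ[R] (C ⧸ I₁) × (C ⧸ I₂) := AlgHom.prod φ₁ φ₂
  have hmem : ∀ b, χ b ∈ ρ.range := by
    intro b
    obtain ⟨c₁, hc₁⟩ := Ideal.Quotient.mk_surjective (φ₁ b)
    obtain ⟨c₂, hc₂⟩ := Ideal.Quotient.mk_surjective (φ₂ b)
    have h1 := hcompat b
    rw [← hc₁, ← hc₂, Ideal.Quotient.factor_mk, Ideal.Quotient.factor_mk, Ideal.Quotient.eq] at h1
    obtain ⟨i₁, hi₁, i₂, hi₂, h12⟩ := Submodule.mem_sup.mp h1
    refine ⟨Ideal.Quotient.mk _ (c₁ - i₁), ?_⟩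
    change ρ (Ideal.Quotient.mk _ (c₁ - i₁)) = (φ₁ b, φ₂ b)
    rw [hρ]
    rw [← hc₁, ← hc₂]
    refine Prod.ext ?_ ?_
    · change Ideal.Quotient.mk I₁ (c₁ - i₁) = Ideal.Quotient.mk I₁ c₁
      rw [Ideal.Quotient.eq]
      simpa using I₁.neg_mem hi₁
    · change Ideal.Quotient.mk I₂ (c₁ - i₁) = Ideal.Quotient.mk I₂ c₂
      rw [Ideal.Quotient.eq]
      have : c₁ - i₁ - c₂ = i₂ := by linear_combination -h12
      rw [this]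
      exact hi₂
  let ψ : B →ₐ[R] C ⧸ (I₁ ⊓ I₂) :=
    (AlgEquiv.ofInjective ρ hinj).symm.toAlgHom.comp (χ.codRestrict ρ.range hmem)
  have hψ : ∀ b, ρ (ψ b) = χ b := by
    intro b
    have := (AlgEquiv.ofInjective ρ hinj).apply_symm_apply (χ.codRestrict ρ.range hmem b)
    exact congrArg Subtype.val this
  refine ⟨ψ, fun b => ?_, fun b => ?_⟩
  · exact congrArg Prod.fst (hψ b)
  · exact congrArg Prod.snd (hψ b)

/-- the limit of a compatible system of algebra maps into the quotients of a complete ring -/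
theorem exists_limit {R B C : Type*} [CommRing R] [CommRing B] [CommRing C] [Algebra R B]
    [Algebra R C] (I : Ideal C) [IsAdicComplete I C] (f : ∀ n : ℕ, B →ₐ[R] C ⧸ I ^ n)
    (hf : ∀ {m n : ℕ} (hle : m ≤ n),
      (Ideal.Quotient.factorₐ R (Ideal.pow_le_pow_right hle)).comp (f n) = f m) :
    ∃ g : B →ₐ[R] C, ∀ n b, Ideal.Quotient.mk (I ^ n) (g b) = f n b := by
  refine ⟨((AdicCompletion.ofAlgEquiv I).symm.toAlgHom.restrictScalars R).comp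
    (AdicCompletion.liftAlgHom I f hf), fun n b => ?_⟩
  change Ideal.Quotient.mk (I ^ n) ((AdicCompletion.ofAlgEquiv I).symm
    (AdicCompletion.liftAlgHom I f hf b)) = f n b
  rw [AdicCompletion.mk_ofAlgEquiv_symm, AdicCompletion.evalₐ_liftAlgHom]

theorem eq_zero_of_factor_eq_zero {C : Type*} [CommRing C] (I₁ I₂ : Ideal C) (q : C ⧸ (I₁ ⊓ I₂))
    (h₁ : Ideal.Quotient.factor (inf_le_left : I₁ ⊓ I₂ ≤ I₁) q = 0)
    (h₂ : Ideal.Quotient.factor (inf_le_right : I₁ ⊓ I₂ ≤ I₂) q = 0) : q = 0 := by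
  obtain ⟨c, rfl⟩ := Ideal.Quotient.mk_surjective q
  rw [Ideal.Quotient.factor_mk, Ideal.Quotient.eq_zero_iff_mem] at h₁ h₂
  exact Ideal.Quotient.eq_zero_iff_mem.mpr ⟨h₁, h₂⟩

theorem sup_pow_le_sup {C : Type*} [CommRing C] (I J : Ideal C) (t : ℕ) (h : J ^ t ≤ I) :
    (I ⊔ J) ^ t ≤ I := by
  have key : ∀ s : ℕ, (I ⊔ J) ^ s ≤ I ⊔ J ^ s := by
    intro s
    induction s with
    | zero => simp
    | succ s ih =>
      rw [pow_succ]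
      refine le_trans (Ideal.mul_mono_left ih) ?_
      rw [Ideal.mul_le]
      intro x hx y hy
      obtain ⟨i, hi, j', hj', rfl⟩ := Submodule.mem_sup.mp hx
      obtain ⟨i', hi', j, hj, rfl⟩ := Submodule.mem_sup.mp hy
      have : (i + j') * (i' + j) = (i * (i' + j) + j' * i') + j' * j := by ring
      rw [this]
      refine Submodule.add_mem_sup (I.add_mem (I.mul_mem_right _ hi) (I.mul_mem_left _ hi')) ?_
      rw [pow_succ]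
      exact Ideal.mul_mem_mul hj' hj
  exact le_trans (key t) (sup_le le_rfl h)

/-- one step of the successive approximation -/
theorem exists_step {A B C : Type u} [CommRing A] [CommRing B] [CommRing C] [Algebra A B]
    [Algebra A C] (𝔞 : Ideal A) (𝔟 : Ideal B) (𝔠 : Ideal C)
    (hB : EGA41.IsFormallySmoothAdic A 𝔞 B 𝔟)
    (hAC : ∃ k : ℕ, (𝔞 ^ k).map (algebraMap A C) ≤ 𝔠)
    (J : Ideal C) (hJ : ∃ t : ℕ, J ^ t ≤ 𝔠)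
    (u : B →ₐ[A] C ⧸ J) (hu : ∃ k : ℕ, ∀ x ∈ 𝔟 ^ k, u x ∈ 𝔠.map (Ideal.Quotient.mk J))
    (n : ℕ) (φ : B →ₐ[A] C ⧸ 𝔠 ^ n)
    (hφu : ∀ b, Ideal.Quotient.factor (le_sup_left : 𝔠 ^ n ≤ 𝔠 ^ n ⊔ J) (φ b) =
      Ideal.Quotient.factor (le_sup_right : J ≤ 𝔠 ^ n ⊔ J) (u b))
    (hφc : ∃ m : ℕ, ∀ x ∈ 𝔟 ^ m, φ x = 0) :
    ∃ φ' : B →ₐ[A] C ⧸ 𝔠 ^ (n + 1),
      (Ideal.Quotient.factorₐ A (Ideal.pow_le_pow_right n.le_succ)).comp φ' = φ ∧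
      (∀ b, Ideal.Quotient.factor (le_sup_left : 𝔠 ^ (n + 1) ≤ 𝔠 ^ (n + 1) ⊔ J) (φ' b) =
        Ideal.Quotient.factor (le_sup_right : J ≤ 𝔠 ^ (n + 1) ⊔ J) (u b)) ∧
      ∃ m : ℕ, ∀ x ∈ 𝔟 ^ m, φ' x = 0 := by
  obtain ⟨k, hk⟩ := hAC
  obtain ⟨t, ht⟩ := hJ
  obtain ⟨k', hk'⟩ := hu
  obtain ⟨m₁, hm₁⟩ := hφc
  -- the two maps to be glued
  let φ₂ : B →ₐ[A] C ⧸ (𝔠 ^ (n + 1) ⊔ J) :=
    (Ideal.Quotient.factorₐ A (le_sup_right : J ≤ 𝔠 ^ (n + 1) ⊔ J)).comp u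
  have hφ₂ : ∀ b, φ₂ b = Ideal.Quotient.factor (le_sup_right : J ≤ 𝔠 ^ (n + 1) ⊔ J) (u b) :=
    fun b => rfl
  have hcompat : ∀ b, Ideal.Quotient.factor
      (le_sup_left : 𝔠 ^ n ≤ 𝔠 ^ n ⊔ (𝔠 ^ (n + 1) ⊔ J)) (φ b) =
      Ideal.Quotient.factor (le_sup_right : 𝔠 ^ (n + 1) ⊔ J ≤ 𝔠 ^ n ⊔ (𝔠 ^ (n + 1) ⊔ J)) (φ₂ b) := by
    intro b
    have h1 := hφu b
    rw [hφ₂]
    obtain ⟨c₁, hc₁⟩ := Ideal.Quotient.mk_surjective (φ b)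
    obtain ⟨c₂, hc₂⟩ := Ideal.Quotient.mk_surjective (u b)
    rw [← hc₁, ← hc₂, Ideal.Quotient.factor_mk, Ideal.Quotient.factor_mk, Ideal.Quotient.eq] at h1
    rw [← hc₁, ← hc₂, Ideal.Quotient.factor_mk, Ideal.Quotient.factor_mk, Ideal.Quotient.factor_mk,
      Ideal.Quotient.eq]
    exact (sup_le_sup_left le_sup_right _ : 𝔠 ^ n ⊔ J ≤ 𝔠 ^ n ⊔ (𝔠 ^ (n + 1) ⊔ J)) h1
  obtain ⟨ψ, hψ₁, hψ₂⟩ := exists_glue (𝔠 ^ n) (𝔠 ^ (n + 1) ⊔ J) φ φ₂ hcompat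
  -- the test algebra and its nilpotent ideal
  have hKle : 𝔠 ^ (n + 1) ≤ 𝔠 ^ n ⊓ (𝔠 ^ (n + 1) ⊔ J) :=
    le_inf (Ideal.pow_le_pow_right n.le_succ) le_sup_left
  have hKpow : (𝔠 ^ n ⊓ (𝔠 ^ (n + 1) ⊔ J)) ^ (t + 2) ≤ 𝔠 ^ (n + 1) := by
    rcases Nat.eq_zero_or_pos n with hn | hn
    · subst hn
      calc (𝔠 ^ 0 ⊓ (𝔠 ^ (0 + 1) ⊔ J)) ^ (t + 2) ≤ (𝔠 ^ (0 + 1) ⊔ J) ^ (t + 2) :=
            Ideal.pow_right_mono inf_le_right _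
        _ ≤ (𝔠 ^ (0 + 1) ⊔ J) ^ t := Ideal.pow_le_pow_right (by omega)
        _ ≤ 𝔠 ^ (0 + 1) := sup_pow_le_sup _ _ t (by simpa using ht)
    · calc (𝔠 ^ n ⊓ (𝔠 ^ (n + 1) ⊔ J)) ^ (t + 2) ≤ (𝔠 ^ n) ^ (t + 2) :=
            Ideal.pow_right_mono inf_le_left _
        _ = 𝔠 ^ (n * (t + 2)) := (pow_mul _ _ _).symm
        _ ≤ 𝔠 ^ (n + 1) := Ideal.pow_le_pow_right (by nlinarith)
  have hnil : IsNilpotent ((𝔠 ^ n ⊓ (𝔠 ^ (n + 1) ⊔ J)).map (Ideal.Quotient.mkₐ A (𝔠 ^ (n + 1)))) := by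
    refine ⟨t + 2, ?_⟩
    rw [Ideal.zero_eq_bot, eq_bot_iff]
    calc ((𝔠 ^ n ⊓ (𝔠 ^ (n + 1) ⊔ J)).map (Ideal.Quotient.mkₐ A (𝔠 ^ (n + 1)))) ^ (t + 2)
        = ((𝔠 ^ n ⊓ (𝔠 ^ (n + 1) ⊔ J)) ^ (t + 2)).map (Ideal.Quotient.mkₐ A (𝔠 ^ (n + 1))) :=
          (Ideal.map_pow _ _ _).symm
      _ ≤ (𝔠 ^ (n + 1)).map (Ideal.Quotient.mkₐ A (𝔠 ^ (n + 1))) := Ideal.map_mono hKpow
      _ = ⊥ := Ideal.map_quotient_self _
  have hdisc : ∃ m : ℕ, (𝔞 ^ m).map (algebraMap A (C ⧸ 𝔠 ^ (n + 1))) = ⊥ := by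
    refine ⟨k * (n + 1), ?_⟩
    rw [eq_bot_iff, Ideal.map_le_iff_le_comap]
    intro a ha
    rw [Ideal.mem_comap, Ideal.mem_bot, IsScalarTower.algebraMap_apply A C (C ⧸ 𝔠 ^ (n + 1)),
      Ideal.Quotient.algebraMap_eq, Ideal.Quotient.eq_zero_iff_mem]
    have h2 : algebraMap A C a ∈ ((𝔞 ^ k).map (algebraMap A C)) ^ (n + 1) := by
      rw [← Ideal.map_pow, ← pow_mul]
      exact Ideal.mem_map_of_mem _ ha
    exact Ideal.pow_right_mono hk _ h2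
  let e := DoubleQuot.quotQuotEquivQuotOfLEₐ A hKle
  let ψ' : B →ₐ[A] (C ⧸ 𝔠 ^ (n + 1)) ⧸
      (𝔠 ^ n ⊓ (𝔠 ^ (n + 1) ⊔ J)).map (Ideal.Quotient.mkₐ A (𝔠 ^ (n + 1))) :=
    e.symm.toAlgHom.comp ψ
  have hψ' : ∀ b, e (ψ' b) = ψ b := fun b => e.apply_symm_apply _
  -- continuity of ψ
  have hu2 : ∀ x ∈ 𝔟 ^ (k' * (n + 1)), φ₂ x = 0 := by
    intro x hx
    have h1 : u x ∈ (𝔠.map (Ideal.Quotient.mk J)) ^ (n + 1) := by
      have h2 : x ∈ (𝔟 ^ k') ^ (n + 1) := by rwa [← pow_mul]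
      have h3 : (𝔟 ^ k').map u.toRingHom ≤ 𝔠.map (Ideal.Quotient.mk J) := by
        rw [Ideal.map_le_iff_le_comap]
        intro y hy
        exact hk' y hy
      have h4 := Ideal.pow_right_mono h3 (n + 1)
      rw [← Ideal.map_pow] at h4
      exact h4 (Ideal.mem_map_of_mem _ h2)
    rw [← Ideal.map_pow] at h1
    obtain ⟨c, hc, hcu⟩ := (Ideal.mem_map_iff_of_surjective _ Ideal.Quotient.mk_surjective).mp h1
    rw [hφ₂, ← hcu, Ideal.Quotient.factor_mk, Ideal.Quotient.eq_zero_iff_mem]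
    exact Ideal.mem_sup_left hc
  have hψc : ∀ x ∈ 𝔟 ^ (m₁ + k' * (n + 1)), ψ' x = 0 := by
    intro x hx
    have hx1 : x ∈ 𝔟 ^ m₁ := Ideal.pow_le_pow_right (Nat.le_add_right _ _) hx
    have hx2 : x ∈ 𝔟 ^ (k' * (n + 1)) := Ideal.pow_le_pow_right (Nat.le_add_left _ _) hx
    have : ψ x = 0 := by
      apply eq_zero_of_factor_eq_zero
      · rw [hψ₁, hm₁ x hx1]
      · rw [hψ₂, hu2 x hx2]
    change e.symm (ψ x) = 0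
    rw [this, map_zero]
  obtain ⟨φ', hφ'⟩ := hB (C ⧸ 𝔠 ^ (n + 1)) _ hnil hdisc ψ' ⟨_, hψc⟩
  have hφ'b : ∀ b, ∀ c : C, φ' b = Ideal.Quotient.mk _ c → ψ b = Ideal.Quotient.mk _ c := by
    intro b c hc
    rw [← hψ', ← hφ']
    change e (Ideal.Quotient.mk _ (φ' b)) = _
    rw [hc]
    rfl
  refine ⟨φ', ?_, ?_, ?_⟩
  · ext b
    obtain ⟨c, hc⟩ := Ideal.Quotient.mk_surjective (φ' b)
    have h1 := hφ'b b c hc.symm
    change Ideal.Quotient.factor (Ideal.pow_le_pow_right n.le_succ) (φ' b) = φ b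
    rw [← hψ₁, h1, ← hc, Ideal.Quotient.factor_mk, Ideal.Quotient.factor_mk]
  · intro b
    obtain ⟨c, hc⟩ := Ideal.Quotient.mk_surjective (φ' b)
    have h1 := hφ'b b c hc.symm
    rw [← hφ₂, ← hψ₂, h1, ← hc, Ideal.Quotient.factor_mk, Ideal.Quotient.factor_mk]
  · refine ⟨(m₁ + k' * (n + 1)) * (t + 2), ?_⟩
    intro x hx
    have h1 : (𝔟 ^ (m₁ + k' * (n + 1))).map φ'.toRingHom ≤
        (𝔠 ^ n ⊓ (𝔠 ^ (n + 1) ⊔ J)).map (Ideal.Quotient.mkₐ A (𝔠 ^ (n + 1))) := by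
      rw [Ideal.map_le_iff_le_comap]
      intro y hy
      rw [Ideal.mem_comap]
      have h2 := hψc y hy
      rw [← hφ'] at h2
      exact Ideal.Quotient.eq_zero_iff_mem.mp h2
    have h2 := Ideal.pow_right_mono h1 (t + 2)
    rw [← Ideal.map_pow, ← pow_mul] at h2
    have h3 := h2 (Ideal.mem_map_of_mem _ hx)
    obtain ⟨j, hj⟩ := hnil
    have h4 : ((𝔠 ^ n ⊓ (𝔠 ^ (n + 1) ⊔ J)).map (Ideal.Quotient.mkₐ A (𝔠 ^ (n + 1)))) ^ (t + 2) = ⊥ := by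
      rw [eq_bot_iff]
      calc ((𝔠 ^ n ⊓ (𝔠 ^ (n + 1) ⊔ J)).map (Ideal.Quotient.mkₐ A (𝔠 ^ (n + 1)))) ^ (t + 2)
          = ((𝔠 ^ n ⊓ (𝔠 ^ (n + 1) ⊔ J)) ^ (t + 2)).map (Ideal.Quotient.mkₐ A (𝔠 ^ (n + 1))) :=
            (Ideal.map_pow _ _ _).symm
        _ ≤ (𝔠 ^ (n + 1)).map (Ideal.Quotient.mkₐ A (𝔠 ^ (n + 1))) := Ideal.map_mono hKpow
        _ = ⊥ := Ideal.map_quotient_self _
    rw [h4] at h3
    exact h3

/-- lifting continuous maps into a complete ring along a closed ideal whose powers tend to zero -/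
theorem exists_lift_complete {A B C : Type u} [CommRing A] [CommRing B] [CommRing C] [Algebra A B]
    [Algebra A C] (𝔞 : Ideal A) (𝔟 : Ideal B) (𝔠 : Ideal C)
    (hB : EGA41.IsFormallySmoothAdic A 𝔞 B 𝔟) [IsAdicComplete 𝔠 C]
    (hAC : ∃ k : ℕ, (𝔞 ^ k).map (algebraMap A C) ≤ 𝔠)
    (J : Ideal C) (hJ : ∃ t : ℕ, J ^ t ≤ 𝔠) [IsHausdorff (𝔠.map (Ideal.Quotient.mk J)) (C ⧸ J)]
    (u : B →ₐ[A] C ⧸ J) (hu : ∃ k : ℕ, ∀ x ∈ 𝔟 ^ k, u x ∈ 𝔠.map (Ideal.Quotient.mk J)) :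
    ∃ v : B →ₐ[A] C, (∃ k : ℕ, ∀ x ∈ 𝔟 ^ k, v x ∈ 𝔠) ∧ (Ideal.Quotient.mkₐ A J).comp v = u := by
  -- the successive approximations
  let P : ∀ n : ℕ, (B →ₐ[A] C ⧸ 𝔠 ^ n) → Prop := fun n φ =>
    (∀ b, Ideal.Quotient.factor (le_sup_left : 𝔠 ^ n ≤ 𝔠 ^ n ⊔ J) (φ b) =
      Ideal.Quotient.factor (le_sup_right : J ≤ 𝔠 ^ n ⊔ J) (u b)) ∧
    ∃ m : ℕ, ∀ x ∈ 𝔟 ^ m, φ x = 0
  haveI hsub0 : Subsingleton (C ⧸ 𝔠 ^ 0) := by
    rw [pow_zero, Ideal.one_eq_top]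
    exact Ideal.Quotient.subsingleton_iff.mpr rfl
  haveI hsub0' : Subsingleton (C ⧸ (𝔠 ^ 0 ⊔ J)) := by
    rw [pow_zero, Ideal.one_eq_top, top_sup_eq]
    exact Ideal.Quotient.subsingleton_iff.mpr rfl
  have hP0 : P 0 default := ⟨fun b => Subsingleton.elim _ _, ⟨0, fun x _ => Subsingleton.elim _ _⟩⟩
  let s : ∀ n : ℕ, {φ : B →ₐ[A] C ⧸ 𝔠 ^ n // P n φ} := fun n =>
    Nat.rec (motive := fun n => {φ : B →ₐ[A] C ⧸ 𝔠 ^ n // P n φ}) ⟨default, hP0⟩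
      (fun n sn => ⟨Classical.choose (exists_step 𝔞 𝔟 𝔠 hB hAC J hJ u hu n sn.1 sn.2.1 sn.2.2),
        (Classical.choose_spec (exists_step 𝔞 𝔟 𝔠 hB hAC J hJ u hu n sn.1 sn.2.1 sn.2.2)).2⟩) n
  have hs : ∀ n, (Ideal.Quotient.factorₐ A (Ideal.pow_le_pow_right n.le_succ)).comp (s (n + 1)).1 =
      (s n).1 := fun n =>
    (Classical.choose_spec (exists_step 𝔞 𝔟 𝔠 hB hAC J hJ u hu n (s n).1 (s n).2.1 (s n).2.2)).1
  have hcomp : ∀ {m n : ℕ} (hle : m ≤ n),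
      (Ideal.Quotient.factorₐ A (Ideal.pow_le_pow_right hle)).comp (s n).1 = (s m).1 := by
    intro m n hle
    induction n, hle using Nat.le_induction with
    | base => ext b; simp
    | succ n hmn ih =>
      rw [← Ideal.Quotient.factorₐ_comp _ (Ideal.pow_le_pow_right n.le_succ)
        (Ideal.pow_le_pow_right hmn), AlgHom.comp_assoc, hs n, ih]
  obtain ⟨v, hv⟩ := exists_limit 𝔠 (fun n => (s n).1) hcomp
  refine ⟨v, ?_, ?_⟩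
  · obtain ⟨m, hm⟩ := (s 1).2.2
    refine ⟨m, fun x hx => ?_⟩
    have h1 := hv 1 x
    rw [hm x hx, Ideal.Quotient.eq_zero_iff_mem, pow_one] at h1
    exact h1
  · ext b
    change Ideal.Quotient.mk J (v b) = u b
    obtain ⟨c', hc'⟩ := Ideal.Quotient.mk_surjective (u b)
    rw [← sub_eq_zero]
    apply IsHausdorff.haus (inferInstance : IsHausdorff (𝔠.map (Ideal.Quotient.mk J)) (C ⧸ J))
    intro n
    rw [SModEq.zero, smul_eq_mul, Ideal.mul_top, ← Ideal.map_pow, ← hc', ← map_sub]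
    have h1 := (s n).2.1 b
    rw [← hv n b, ← hc', Ideal.Quotient.factor_mk, Ideal.Quotient.factor_mk, Ideal.Quotient.eq] at h1
    obtain ⟨i, hi, j, hj, hij⟩ := Submodule.mem_sup.mp h1
    rw [← hij, map_add, Ideal.Quotient.eq_zero_iff_mem.mpr hj, add_zero]
    exact Ideal.mem_map_of_mem _ hi

end Groth.Agent.Helper2.AdicFS
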