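import Mathlib
import Groth.Prelude.Def_EGA41
set_option autoImplicit false
universe u
open TensorProduct

namespace Groth.Agent.Helper2.AdicFS

/-- transitivity of adic formal smoothness -/
theorem isFormallySmoothAdic_trans {A B C : Type u} [CommRing A] [CommRing B] [CommRing C] [Algebra A B]
    [Algebra B C] [Algebra A C] [IsScalarTower A B C] (𝔞 : Ideal A) (𝔟 : Ideal B) (𝔠 : Ideal C)
    (hBC : ∃ k : ℕ, (𝔟 ^ k).map (algebraMap B C) ≤ 𝔠)
    (hB : EGA41.IsFormallySmoothAdic A 𝔞 B 𝔟) (hC : EGA41.IsFormallySmoothAdic B 𝔟 C 𝔠) :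
    EGA41.IsFormallySmoothAdic A 𝔞 C 𝔠 := by
  intro E _ _ J hJ hdisc u ⟨m, hm⟩
  obtain ⟨k₁, hk₁⟩ := hBC
  obtain ⟨N, hN⟩ := hJ
  let ι : B →ₐ[A] C := IsScalarTower.toAlgHom A B C
  let uB : B →ₐ[A] E ⧸ J := u.comp ι
  have huB : ∀ x ∈ 𝔟 ^ (k₁ * m), uB x = 0 := by
    intro x hx
    apply hm
    have h1 : algebraMap B C x ∈ ((𝔟 ^ k₁).map (algebraMap B C)) ^ m := by
      rw [← Ideal.map_pow, ← pow_mul]
      exact Ideal.mem_map_of_mem _ hx
    exact Ideal.pow_right_mono hk₁ m h1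
  obtain ⟨vB, hvB⟩ := hB E J ⟨N, hN⟩ hdisc uB ⟨_, huB⟩
  have hvB' : ∀ b, Ideal.Quotient.mk J (vB b) = u (algebraMap B C b) := fun b =>
    AlgHom.congr_fun hvB b
  letI algBE : Algebra B E := vB.toRingHom.toAlgebra
  haveI tow : IsScalarTower A B E := IsScalarTower.of_algebraMap_eq (fun a => (vB.commutes a).symm)
  let u' : C →ₐ[B] E ⧸ J :=
    { u.toRingHom with
      commutes' := fun b => by
        change u (algebraMap B C b) = Ideal.Quotient.mk J (vB b)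
        rw [hvB'] }
  have hdisc' : ∃ k : ℕ, (𝔟 ^ k).map (algebraMap B E) = ⊥ := by
    refine ⟨(k₁ * m) * N, ?_⟩
    rw [eq_bot_iff, pow_mul]
    have h1 : (𝔟 ^ (k₁ * m)).map (algebraMap B E) ≤ J := by
      rw [Ideal.map_le_iff_le_comap]
      intro x hx
      rw [Ideal.mem_comap, ← Ideal.Quotient.eq_zero_iff_mem]
      change Ideal.Quotient.mk J (vB x) = 0
      rw [hvB']
      exact huB x hx
    have h2 := Ideal.pow_right_mono h1 N
    rw [← Ideal.map_pow, hN] at h2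
    exact h2
  obtain ⟨v, hv⟩ := hC E J ⟨N, hN⟩ hdisc' u' ⟨m, hm⟩
  refine ⟨v.restrictScalars A, ?_⟩
  ext c
  exact AlgHom.congr_fun hv c

/-- base change of adic formal smoothness -/
theorem isFormallySmoothAdic_baseChange {A B A' : Type u} [CommRing A] [CommRing B] [CommRing A']
    [Algebra A B] [Algebra A A'] (𝔞 : Ideal A) (𝔟 : Ideal B) (𝔞' : Ideal A')
    (hAA' : ∃ k : ℕ, (𝔞 ^ k).map (algebraMap A A') ≤ 𝔞')
    (hB : EGA41.IsFormallySmoothAdic A 𝔞 B 𝔟) :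
    EGA41.IsFormallySmoothAdic A' 𝔞' (A' ⊗[A] B)
      (𝔞'.map (algebraMap A' (A' ⊗[A] B)) ⊔
        𝔟.map (Algebra.TensorProduct.includeRight : B →ₐ[A] A' ⊗[A] B).toRingHom) := by
  intro E _ _ J hJ ⟨k', hk'⟩ u ⟨m, hm⟩
  obtain ⟨k, hk⟩ := hAA'
  letI algAE : Algebra A E := ((algebraMap A' E).comp (algebraMap A A')).toAlgebra
  haveI tow : IsScalarTower A A' E := IsScalarTower.of_algebraMap_eq (fun _ => rfl)
  let uB : B →ₐ[A] E ⧸ J :=
    (u.restrictScalars A).comp (Algebra.TensorProduct.includeRight : B →ₐ[A] A' ⊗[A] B)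
  have huB : ∀ x ∈ 𝔟 ^ m, uB x = 0 := by
    intro x hx
    apply hm
    have h1 : (Algebra.TensorProduct.includeRight : B →ₐ[A] A' ⊗[A] B).toRingHom x ∈
        (𝔟.map (Algebra.TensorProduct.includeRight : B →ₐ[A] A' ⊗[A] B).toRingHom) ^ m := by
      rw [← Ideal.map_pow]
      exact Ideal.mem_map_of_mem _ hx
    exact Ideal.pow_right_mono le_sup_right m h1
  have hdisc : ∃ j : ℕ, (𝔞 ^ j).map (algebraMap A E) = ⊥ := by
    refine ⟨k * k', ?_⟩
    rw [eq_bot_iff, pow_mul, IsScalarTower.algebraMap_eq A A' E, ← Ideal.map_map, Ideal.map_pow]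
    calc ((𝔞 ^ k).map (algebraMap A A') ^ k').map (algebraMap A' E)
        ≤ (𝔞' ^ k').map (algebraMap A' E) := Ideal.map_mono (Ideal.pow_right_mono hk k')
      _ = ⊥ := hk'
  obtain ⟨vB, hvB⟩ := hB E J hJ hdisc uB ⟨m, huB⟩
  refine ⟨Algebra.TensorProduct.lift (Algebra.ofId A' E) vB (fun _ _ => Commute.all _ _), ?_⟩
  apply Algebra.TensorProduct.ext
  · ext
  · ext b
    have := AlgHom.congr_fun hvB b
    change Ideal.Quotient.mk J (vB b) = u ((1 : A') ⊗ₜ[A] b) at this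
    simpa using this

theorem isFormallySmoothAdic_quotient_pow {A B : Type u} [CommRing A] [CommRing B] [Algebra A B]
    (𝔞 : Ideal A) (𝔟 : Ideal B) (h : EGA41.IsFormallySmoothAdic A 𝔞 B 𝔟) (n : ℕ) :
    EGA41.IsFormallySmoothAdic (A ⧸ 𝔞 ^ n) ⊥ (B ⧸ (𝔞 ^ n).map (algebraMap A B))
      (𝔟.map (Ideal.Quotient.mk ((𝔞 ^ n).map (algebraMap A B)))) := by
  intro E _ _ J hJ _ u ⟨m, hm⟩
  letI algAE : Algebra A E := ((algebraMap (A ⧸ 𝔞 ^ n) E).comp (algebraMap A (A ⧸ 𝔞 ^ n))).toAlgebra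
  haveI tow : IsScalarTower A (A ⧸ 𝔞 ^ n) E := IsScalarTower.of_algebraMap_eq (fun _ => rfl)
  let uB : B →ₐ[A] E ⧸ J :=
    (u.restrictScalars A).comp (Ideal.Quotient.mkₐ A ((𝔞 ^ n).map (algebraMap A B)))
  have huB : ∀ x ∈ 𝔟 ^ m, uB x = 0 := by
    intro x hx
    apply hm
    rw [← Ideal.map_pow]
    exact Ideal.mem_map_of_mem _ hx
  have hAE0 : ∀ a ∈ 𝔞 ^ n, algebraMap A E a = 0 := by
    intro a ha
    change algebraMap (A ⧸ 𝔞 ^ n) E (Ideal.Quotient.mk _ a) = 0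
    rw [Ideal.Quotient.eq_zero_iff_mem.mpr ha, map_zero]
  have hdisc : ∃ j : ℕ, (𝔞 ^ j).map (algebraMap A E) = ⊥ := by
    refine ⟨n, ?_⟩
    rw [eq_bot_iff, Ideal.map_le_iff_le_comap]
    intro a ha
    rw [Ideal.mem_comap, Ideal.mem_bot]
    exact hAE0 a ha
  obtain ⟨vB, hvB⟩ := h E J hJ hdisc uB ⟨m, huB⟩
  have hkill : ∀ x ∈ (𝔞 ^ n).map (algebraMap A B), vB.toRingHom x = 0 := by
    have : (𝔞 ^ n).map (algebraMap A B) ≤ RingHom.ker vB.toRingHom := by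
      rw [Ideal.map_le_iff_le_comap]
      intro a ha
      rw [Ideal.mem_comap, RingHom.mem_ker]
      change vB (algebraMap A B a) = 0
      rw [AlgHom.commutes]
      exact hAE0 a ha
    exact fun x hx => this hx
  let v : (B ⧸ (𝔞 ^ n).map (algebraMap A B)) →ₐ[A ⧸ 𝔞 ^ n] E :=
    { Ideal.Quotient.lift _ vB.toRingHom hkill with
      commutes' := fun r => by
        obtain ⟨a, rfl⟩ := Ideal.Quotient.mk_surjective r
        change vB (algebraMap A B a) = algebraMap A E a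
        rw [AlgHom.commutes] }
  refine ⟨v, ?_⟩
  ext x
  obtain ⟨b, rfl⟩ := Ideal.Quotient.mk_surjective x
  exact AlgHom.congr_fun hvB b

theorem isFormallySmoothAdic_of_quotient_pow {A B : Type u} [CommRing A] [CommRing B] [Algebra A B]
    (𝔞 : Ideal A) (𝔟 : Ideal B)
    (h : ∀ n : ℕ, EGA41.IsFormallySmoothAdic (A ⧸ 𝔞 ^ n) ⊥ (B ⧸ (𝔞 ^ n).map (algebraMap A B))
      (𝔟.map (Ideal.Quotient.mk ((𝔞 ^ n).map (algebraMap A B))))) :
    EGA41.IsFormallySmoothAdic A 𝔞 B 𝔟 := by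
  intro E _ _ J hJ ⟨k, hk⟩ u ⟨m, hm⟩
  have hAE0 : ∀ a ∈ 𝔞 ^ k, algebraMap A E a = 0 := by
    intro a ha
    have : algebraMap A E a ∈ (𝔞 ^ k).map (algebraMap A E) := Ideal.mem_map_of_mem _ ha
    rwa [hk, Ideal.mem_bot] at this
  letI algE : Algebra (A ⧸ 𝔞 ^ k) E := (Ideal.Quotient.lift (𝔞 ^ k) (algebraMap A E) hAE0).toAlgebra
  haveI tow : IsScalarTower A (A ⧸ 𝔞 ^ k) E := IsScalarTower.of_algebraMap_eq (fun _ => rfl)
  have hkill : ∀ x ∈ (𝔞 ^ k).map (algebraMap A B), u.toRingHom x = 0 := by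
    have : (𝔞 ^ k).map (algebraMap A B) ≤ RingHom.ker u.toRingHom := by
      rw [Ideal.map_le_iff_le_comap]
      intro a ha
      rw [Ideal.mem_comap, RingHom.mem_ker]
      change u (algebraMap A B a) = 0
      rw [AlgHom.commutes, IsScalarTower.algebraMap_apply A E (E ⧸ J), hAE0 a ha, map_zero]
    exact fun x hx => this hx
  let ubar : (B ⧸ (𝔞 ^ k).map (algebraMap A B)) →ₐ[A ⧸ 𝔞 ^ k] E ⧸ J :=
    { Ideal.Quotient.lift _ u.toRingHom hkill with
      commutes' := fun r => by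
        obtain ⟨a, rfl⟩ := Ideal.Quotient.mk_surjective r
        change u (algebraMap A B a) = Ideal.Quotient.mk J (algebraMap A E a)
        rw [AlgHom.commutes]
        rfl }
  have hubar : ∀ x ∈ (𝔟.map (Ideal.Quotient.mk ((𝔞 ^ k).map (algebraMap A B)))) ^ m, ubar x = 0 := by
    intro x hx
    rw [← Ideal.map_pow] at hx
    obtain ⟨y, hy, rfl⟩ := (Ideal.mem_map_iff_of_surjective _ Ideal.Quotient.mk_surjective).mp hx
    exact hm y hy
  obtain ⟨vbar, hvbar⟩ := h k E J hJ ⟨1, by rw [pow_one, Ideal.map_bot]⟩ ubar ⟨m, hubar⟩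
  refine ⟨(vbar.restrictScalars A).comp (Ideal.Quotient.mkₐ A ((𝔞 ^ k).map (algebraMap A B))), ?_⟩
  ext b
  exact AlgHom.congr_fun hvbar (Ideal.Quotient.mk _ b)

end Groth.Agent.Helper2.AdicFS
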