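import Groth.Prelude.Def_FibCat2

/-!
# Helper lemmas on `FibCat.IsFibGrpd` (helper2)
-/

set_option autoImplicit false
open CategoryTheory

universe v₁ u₁ v₂ u₂ v₃ u₃

namespace Groth.Agent.Helper2

section

variable {𝒳 : Type u₁} [Category.{v₁} 𝒳] {C : Type u₂} [Category.{v₂} C] (p : 𝒳 ⥤ C)

/-- For a morphism between the images, lifting is the same as being mapped to it. -/
theorem isHomLift_iff_map_eq {a b : 𝒳} (g : p.obj a ⟶ p.obj b) (χ : a ⟶ b) :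
    p.IsHomLift g χ ↔ p.map χ = g := by
  constructor
  · intro h
    exact (IsHomLift.eq_of_isHomLift p g χ).symm
  · rintro rfl
    infer_instance

/-- Universal property of a morphism in a category fibred in groupoids, in `map`-form. -/
theorem IsFibGrpd.existsUnique_lift (h : FibCat.IsFibGrpd p) {y x z : 𝒳} (φ : y ⟶ x) (ψ : z ⟶ x)
    (g : p.obj z ⟶ p.obj y) (hg : g ≫ p.map φ = p.map ψ) :
    ∃! χ : z ⟶ y, p.map χ = g ∧ χ ≫ φ = ψ := by
  have := h.isStronglyCartesian φ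
  have hl : p.IsHomLift (g ≫ p.map φ) ψ := by
    rw [hg]; infer_instance
  obtain ⟨χ, ⟨h1, h2⟩, h3⟩ := Functor.IsStronglyCartesian.universal_property' (p := p)
    (f := p.map φ) (φ := φ) g ψ
  refine ⟨χ, ⟨(isHomLift_iff_map_eq p g χ).1 h1, h2⟩, ?_⟩
  rintro χ' ⟨h1', h2'⟩
  exact h3 χ' ⟨(isHomLift_iff_map_eq p g χ').2 h1', h2'⟩

/-- Constructor for `IsFibGrpd` in `map`-form. -/
theorem IsFibGrpd.mk' (h1 : ∀ (x : 𝒳) {V : C} (f : V ⟶ p.obj x), ∃ (y : 𝒳) (φ : y ⟶ x) (e : p.obj y = V),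
      p.map φ = eqToHom e ≫ f)
    (h2 : ∀ {y x z : 𝒳} (φ : y ⟶ x) (ψ : z ⟶ x) (g : p.obj z ⟶ p.obj y),
      g ≫ p.map φ = p.map ψ → ∃! χ : z ⟶ y, p.map χ = g ∧ χ ≫ φ = ψ) :
    FibCat.IsFibGrpd p where
  exists_lift {x V} f := by
    obtain ⟨y, φ, e, h⟩ := h1 x f
    refine ⟨y, φ, ?_⟩
    subst e
    have : f = p.map φ := by simpa using h.symm
    subst this
    infer_instance
  isStronglyCartesian {y x} φ :=
    { universal_property' := by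
        intro z g ψ hψ
        have hg : g ≫ p.map φ = p.map ψ := IsHomLift.eq_of_isHomLift p (g ≫ p.map φ) ψ
        obtain ⟨χ, ⟨h1, h2⟩, h3⟩ := h2 φ ψ g hg
        refine ⟨χ, ⟨(isHomLift_iff_map_eq p g χ).2 h1, h2⟩, ?_⟩
        rintro χ' ⟨h1', h2'⟩
        exact h3 χ' ⟨(isHomLift_iff_map_eq p g χ').1 h1', h2'⟩ }

/-- Existence of lifts in `map`-form. -/
theorem IsFibGrpd.exists_lift' (h : FibCat.IsFibGrpd p) (x : 𝒳) {V : C} (f : V ⟶ p.obj x) :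
    ∃ (y : 𝒳) (φ : y ⟶ x) (e : p.obj y = V), p.map φ = eqToHom e ≫ f := by
  obtain ⟨y, φ, hφ⟩ := h.exists_lift f
  have e := IsHomLift.domain_eq p f φ
  refine ⟨y, φ, e, ?_⟩
  have := IsHomLift.fac' p f φ
  simpa using this

end

end Groth.Agent.Helper2

namespace Groth.Agent.Helper2

section

variable {𝒳 : Type u₁} [Category.{v₁} 𝒳] {C : Type u₂} [Category.{v₂} C] (p : 𝒳 ⥤ C)

/-- In a discrete fibre, a morphism over the identity is an `eqToHom`. -/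
theorem eq_eqToHom_of_isDiscrete_fiber {S : C} (hd : IsDiscrete (p.Fiber S)) {a b : 𝒳} (φ : a ⟶ b)
    [p.IsHomLift (𝟙 S) φ] : ∃ h : a = b, φ = eqToHom h := by
  have h1 := hd.eq_of_hom (Functor.Fiber.homMk p S φ)
  have h2 : a = b := congrArg Subtype.val h1
  subst h2
  refine ⟨rfl, ?_⟩
  have ha : p.obj a = S := IsHomLift.domain_eq p (𝟙 S) φ
  have : p.IsHomLift (𝟙 S) (𝟙 a) := IsHomLift.id ha
  have h3 : Functor.Fiber.homMk p S φ = Functor.Fiber.homMk p S (𝟙 a) :=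
    (hd.subsingleton _ _).elim _ _
  have h4 := congrArg (fun t => Functor.Fiber.fiberInclusion.map t) h3
  simpa using h4

/-- In a thin fibre, two parallel morphisms over the identity are equal. -/
theorem eq_of_isThin_fiber {S : C} (hd : Quiver.IsThin (p.Fiber S)) {a b : 𝒳} (φ ψ : a ⟶ b)
    [p.IsHomLift (𝟙 S) φ] [p.IsHomLift (𝟙 S) ψ] : φ = ψ := by
  have ha : p.obj a = S := IsHomLift.domain_eq p (𝟙 S) φ
  have hb : p.obj b = S := IsHomLift.codomain_eq p (𝟙 S) φ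
  let A : p.Fiber S := ⟨a, ha⟩
  let B : p.Fiber S := ⟨b, hb⟩
  let f : A ⟶ B := ⟨φ, inferInstance⟩
  let g : A ⟶ B := ⟨ψ, inferInstance⟩
  have h3 : f = g := (hd A B).elim _ _
  exact congrArg Subtype.val h3

end

end Groth.Agent.Helper2

namespace Groth.Agent.Helper2

section

variable {𝒳 : Type u₁} [Category.{v₁} 𝒳] {C : Type u₂} [Category.{v₂} C] (p : 𝒳 ⥤ C)

theorem IsFibGrpd.isStronglyCartesian_of_isHomLift (h : FibCat.IsFibGrpd p) {R S : C} (f : R ⟶ S)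
    {a b : 𝒳} (φ : a ⟶ b) [hl : p.IsHomLift f φ] : p.IsStronglyCartesian f φ := by
  obtain ⟨⟩ := hl
  exact h.isStronglyCartesian φ

theorem IsFibGrpd.exists_lift_of_eq (h : FibCat.IsFibGrpd p) {a : 𝒳} {R S : C} (ha : p.obj a = S)
    (f : R ⟶ S) : ∃ (b : 𝒳) (φ : b ⟶ a), p.IsHomLift f φ := by
  subst ha
  exact h.exists_lift f

theorem isHomLift_id_of_eq {S S' : C} (e : S = S') {a b : 𝒳} (φ : a ⟶ b) [hl : p.IsHomLift (𝟙 S) φ] :
    p.IsHomLift (𝟙 S') φ := by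
  subst e
  exact hl

theorem IsFibGrpd.isIso_of_isHomLift_id (h : FibCat.IsFibGrpd p) {S : C} {a b : 𝒳} (φ : a ⟶ b)
    [p.IsHomLift (𝟙 S) φ] : IsIso φ := by
  have := IsFibGrpd.isStronglyCartesian_of_isHomLift p h (𝟙 S) φ
  exact Functor.IsStronglyCartesian.isIso_of_base_isIso p (𝟙 S) φ

theorem IsFibGrpd.existsUnique (h : FibCat.IsFibGrpd p) {R' R S : C} (g : R' ⟶ R) (f : R ⟶ S)
    (f' : R' ⟶ S) (hf' : f' = g ≫ f) {a b a' : 𝒳} (φ : a ⟶ b) [p.IsHomLift f φ] (φ' : a' ⟶ b)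
    [p.IsHomLift f' φ'] : ∃! χ : a' ⟶ a, p.IsHomLift g χ ∧ χ ≫ φ = φ' := by
  have := IsFibGrpd.isStronglyCartesian_of_isHomLift p h f φ
  exact Functor.IsStronglyCartesian.universal_property p f φ g f' hf' φ'

theorem IsFibGrpd.ext_of_comp (h : FibCat.IsFibGrpd p) {R' R : C} (g : R' ⟶ R) {a b a' : 𝒳}
    (φ : a ⟶ b) {ψ ψ' : a' ⟶ a} [p.IsHomLift g ψ] [p.IsHomLift g ψ'] (hc : ψ ≫ φ = ψ' ≫ φ) :
    ψ = ψ' := by
  have hR : p.obj a = R := IsHomLift.codomain_eq p g ψ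
  subst hR
  have := h.isStronglyCartesian φ
  exact Functor.IsStronglyCartesian.ext p (p.map φ) φ g hc

end

end Groth.Agent.Helper2

namespace Groth.Agent.Helper2

/-- The composite of two functors fibred in groupoids is fibred in groupoids. -/
theorem isFibGrpd_comp {𝒜 : Type u₁} [Category.{v₁} 𝒜] {ℬ : Type u₂} [Category.{v₂} ℬ]
    {𝒞 : Type u₃} [Category.{v₃} 𝒞] (F : 𝒜 ⥤ ℬ) (G : ℬ ⥤ 𝒞) (hF : FibCat.IsFibGrpd F)
    (hG : FibCat.IsFibGrpd G) : FibCat.IsFibGrpd (F ⋙ G) := by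
  apply IsFibGrpd.mk'
  · intro x V f
    obtain ⟨y', φ', e', h'⟩ := IsFibGrpd.exists_lift' G hG (F.obj x) f
    obtain ⟨y, φ, e, h⟩ := IsFibGrpd.exists_lift' F hF x φ'
    subst e
    refine ⟨y, φ, e', ?_⟩
    simp only [Functor.comp_map, h, eqToHom_refl, Category.id_comp, h']
  · intro y x z φ ψ g hg
    obtain ⟨χ', ⟨h1', h2'⟩, h3'⟩ := IsFibGrpd.existsUnique_lift G hG (F.map φ) (F.map ψ) g hg
    obtain ⟨χ, ⟨h1, h2⟩, h3⟩ := IsFibGrpd.existsUnique_lift F hF φ ψ χ' h2'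
    refine ⟨χ, ⟨by simp [h1, h1'], h2⟩, ?_⟩
    rintro χ₂ ⟨k1, k2⟩
    apply h3
    refine ⟨?_, k2⟩
    apply h3'
    refine ⟨k1, ?_⟩
    rw [← F.map_comp, k2]

end Groth.Agent.Helper2
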