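import Groth.Prelude.Def_FibCat2
import Groth.Agent.Lib.Helper2.FibGrpd

/-!
# The projections of a 2-fibre product of categories fibred in groupoids (helper2)
-/

set_option autoImplicit false
open CategoryTheory CategoryTheory.Limits

universe v₄ u₄ v₃ u₃ v₂ u₂ v u

namespace Groth.Agent.Helper2

variable {C : Type u} [Category.{v} C]
variable {𝒳 : BasedCategory.{v₂, u₂} C} {𝒴 : BasedCategory.{v₃, u₃} C} {𝒮 : BasedCategory.{v₄, u₄} C}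

theorem fp_snd_proj (F : 𝒳 ⥤ᵇ 𝒮) (G : 𝒴 ⥤ᵇ 𝒮) (w : (FibCat.fp F G).obj) :
    𝒴.p.obj w.obj.snd = 𝒳.p.obj w.obj.fst := by
  have hw : 𝒮.p.IsHomLift (𝟙 (𝒳.p.obj w.obj.fst)) w.obj.iso.hom := w.property
  exact (G.w_obj w.obj.snd).symm.trans (IsHomLift.codomain_eq 𝒮.p (𝟙 (𝒳.p.obj w.obj.fst)) w.obj.iso.hom)

/-- The first projection of `𝒳 ×_𝒮 𝒴` is fibred in groupoids as soon as `𝒴` and `𝒮` are. -/
theorem isFibGrpd_fpFst (F : 𝒳 ⥤ᵇ 𝒮) (G : 𝒴 ⥤ᵇ 𝒮) (h𝒴 : FibCat.IsFibGrpd 𝒴.p)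
    (h𝒮 : FibCat.IsFibGrpd 𝒮.p) : FibCat.IsFibGrpd (FibCat.fpFst F G).toFunctor := by
  apply IsFibGrpd.mk'
  · intro w V a
    change V ⟶ w.obj.fst at a
    have hw : 𝒮.p.IsHomLift (𝟙 (𝒳.p.obj w.obj.fst)) w.obj.iso.hom := w.property
    have hy := fp_snd_proj F G w
    obtain ⟨y', b, hb⟩ := IsFibGrpd.exists_lift_of_eq 𝒴.p h𝒴 hy (𝒳.p.map a)
    have hFa : 𝒮.p.IsHomLift (𝒳.p.map a) (F.map a) := inferInstance
    have hGb : 𝒮.p.IsHomLift (𝒳.p.map a) (G.map b) := inferInstance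
    have hcomp : 𝒮.p.IsHomLift (𝒳.p.map a) (F.map a ≫ w.obj.iso.hom) := inferInstance
    obtain ⟨χ, ⟨hχ1, hχ2⟩, -⟩ := IsFibGrpd.existsUnique 𝒮.p h𝒮 (𝟙 (𝒳.p.obj V)) (𝒳.p.map a)
      (𝒳.p.map a) (Category.id_comp _).symm (G.map b) (F.map a ≫ w.obj.iso.hom)
    have hiso : IsIso χ := IsFibGrpd.isIso_of_isHomLift_id 𝒮.p h𝒮 (S := 𝒳.p.obj V) χ
    let w' : (FibCat.fp F G).obj := ⟨⟨V, y', asIso χ⟩, hχ1⟩
    let φ : w' ⟶ w := ObjectProperty.homMk ⟨a, b, hχ2.symm⟩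
    exact ⟨w', φ, rfl, (Category.id_comp a).symm⟩
  · intro w₁ w₀ w₂ φ ψ g hg
    change w₂.obj.fst ⟶ w₁.obj.fst at g
    have hg' : g ≫ φ.hom.fst = ψ.hom.fst := hg
    have hb₁ : 𝒴.p.IsHomLift (𝒳.p.map φ.hom.fst) φ.hom.snd := FibCat.fp_isHomLift_snd F G φ
    have hb₂ : 𝒴.p.IsHomLift (𝒳.p.map ψ.hom.fst) ψ.hom.snd := FibCat.fp_isHomLift_snd F G ψ
    have hw₁ : 𝒮.p.IsHomLift (𝟙 (𝒳.p.obj w₁.obj.fst)) w₁.obj.iso.hom := w₁.property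
    have hw₂ : 𝒮.p.IsHomLift (𝟙 (𝒳.p.obj w₂.obj.fst)) w₂.obj.iso.hom := w₂.property
    obtain ⟨c, ⟨hc1, hc2⟩, hc3⟩ := IsFibGrpd.existsUnique 𝒴.p h𝒴 (𝒳.p.map g) (𝒳.p.map φ.hom.fst)
      (𝒳.p.map ψ.hom.fst) (by rw [← Functor.map_comp, hg']) φ.hom.snd ψ.hom.snd
    have hFg : 𝒮.p.IsHomLift (𝒳.p.map g) (F.map g) := inferInstance
    have hGc : 𝒮.p.IsHomLift (𝒳.p.map g) (G.map c) := inferInstance
    have hl1 : 𝒮.p.IsHomLift (𝒳.p.map g) (F.map g ≫ w₁.obj.iso.hom) := inferInstance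
    have hl2 : 𝒮.p.IsHomLift (𝒳.p.map g) (w₂.obj.iso.hom ≫ G.map c) := inferInstance
    have compat : F.map g ≫ w₁.obj.iso.hom = w₂.obj.iso.hom ≫ G.map c := by
      apply IsFibGrpd.ext_of_comp 𝒮.p h𝒮 (𝒳.p.map g) (G.map φ.hom.snd)
      have e1 := φ.hom.w
      have e2 := ψ.hom.w
      rw [Category.assoc, Category.assoc, ← e1, ← G.map_comp, hc2, ← e2, ← Category.assoc,
        ← F.map_comp, hg']
    refine ⟨ObjectProperty.homMk ⟨g, c, compat⟩, ⟨rfl, ?_⟩, ?_⟩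
    · apply ObjectProperty.hom_ext
      apply CategoricalPullback.hom_ext
      · exact hg'
      · exact hc2
    · rintro χ' ⟨k1, k2⟩
      have k1' : χ'.hom.fst = g := k1
      have hsnd : 𝒴.p.IsHomLift (𝒳.p.map g) χ'.hom.snd := by
        rw [← k1']
        exact FibCat.fp_isHomLift_snd F G χ'
      have k2' : χ'.hom.snd ≫ φ.hom.snd = ψ.hom.snd := by
        have := congrArg (fun t => t.hom.snd) k2
        exact this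
      have := hc3 χ'.hom.snd ⟨hsnd, k2'⟩
      apply ObjectProperty.hom_ext
      apply CategoricalPullback.hom_ext
      · exact k1'
      · exact this

end Groth.Agent.Helper2

namespace Groth.Agent.Helper2

theorem isHomLift_base_unique {𝒳 : Type u₂} [Category.{v₂} 𝒳] {C : Type u} [Category.{v} C]
    (p : 𝒳 ⥤ C) {R S : C} (f f' : R ⟶ S) {a b : 𝒳} (φ : a ⟶ b) [p.IsHomLift f φ]
    [p.IsHomLift f' φ] : f = f' := by
  rw [IsHomLift.fac p f φ, IsHomLift.fac p f' φ]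

variable {C : Type u} [Category.{v} C]
variable {𝒳 : BasedCategory.{v₂, u₂} C} {𝒴 : BasedCategory.{v₃, u₃} C} {𝒮 : BasedCategory.{v₄, u₄} C}

/-- The second projection of `𝒳 ×_𝒮 𝒴` is fibred in groupoids as soon as `𝒳` and `𝒮` are. -/
theorem isFibGrpd_fpSnd (F : 𝒳 ⥤ᵇ 𝒮) (G : 𝒴 ⥤ᵇ 𝒮) (h𝒳 : FibCat.IsFibGrpd 𝒳.p)
    (h𝒮 : FibCat.IsFibGrpd 𝒮.p) : FibCat.IsFibGrpd (FibCat.fpSnd F G).toFunctor := by
  apply IsFibGrpd.mk'
  · intro w V b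
    change V ⟶ w.obj.snd at b
    have hw : 𝒮.p.IsHomLift (𝟙 (𝒳.p.obj w.obj.fst)) w.obj.iso.hom := w.property
    have hy := fp_snd_proj F G w
    obtain ⟨x', a, ha⟩ := IsFibGrpd.exists_lift_of_eq 𝒳.p h𝒳 hy.symm (𝒴.p.map b)
    have hFa : 𝒮.p.IsHomLift (𝒴.p.map b) (F.map a) := inferInstance
    have hGb : 𝒮.p.IsHomLift (𝒴.p.map b) (G.map b) := inferInstance
    have hw' : 𝒮.p.IsHomLift (𝟙 (𝒴.p.obj w.obj.snd)) w.obj.iso.hom :=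
      isHomLift_id_of_eq 𝒮.p hy.symm w.obj.iso.hom
    have hcomp : 𝒮.p.IsHomLift (𝒴.p.map b) (F.map a ≫ w.obj.iso.hom) := inferInstance
    obtain ⟨χ, ⟨hχ1, hχ2⟩, -⟩ := IsFibGrpd.existsUnique 𝒮.p h𝒮 (𝟙 (𝒴.p.obj V)) (𝒴.p.map b)
      (𝒴.p.map b) (Category.id_comp _).symm (G.map b) (F.map a ≫ w.obj.iso.hom)
    have hiso : IsIso χ := IsFibGrpd.isIso_of_isHomLift_id 𝒮.p h𝒮 (S := 𝒴.p.obj V) χ
    have hx' : 𝒳.p.obj x' = 𝒴.p.obj V := IsHomLift.domain_eq 𝒳.p (𝒴.p.map b) a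
    have hχ1' : 𝒮.p.IsHomLift (𝟙 (𝒳.p.obj x')) χ := isHomLift_id_of_eq 𝒮.p hx'.symm χ
    let w' : (FibCat.fp F G).obj := ⟨⟨x', V, asIso χ⟩, hχ1'⟩
    let φ : w' ⟶ w := ObjectProperty.homMk ⟨a, b, hχ2.symm⟩
    exact ⟨w', φ, rfl, (Category.id_comp b).symm⟩
  · intro w₁ w₀ w₂ φ ψ g hg
    change w₂.obj.snd ⟶ w₁.obj.snd at g
    have hg' : g ≫ φ.hom.snd = ψ.hom.snd := hg
    have hb₁ : 𝒴.p.IsHomLift (𝒳.p.map φ.hom.fst) φ.hom.snd := FibCat.fp_isHomLift_snd F G φ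
    have hb₂ : 𝒴.p.IsHomLift (𝒳.p.map ψ.hom.fst) ψ.hom.snd := FibCat.fp_isHomLift_snd F G ψ
    have hw₁ : 𝒮.p.IsHomLift (𝟙 (𝒳.p.obj w₁.obj.fst)) w₁.obj.iso.hom := w₁.property
    have hw₂ : 𝒮.p.IsHomLift (𝟙 (𝒳.p.obj w₂.obj.fst)) w₂.obj.iso.hom := w₂.property
    have hy₁ := fp_snd_proj F G w₁
    have hy₂ := fp_snd_proj F G w₂
    let g' : 𝒳.p.obj w₂.obj.fst ⟶ 𝒳.p.obj w₁.obj.fst := eqToHom hy₂.symm ≫ 𝒴.p.map g ≫ eqToHom hy₁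
    have hgl : 𝒴.p.IsHomLift g' g := IsHomLift.of_fac 𝒴.p g' g hy₂ hy₁ rfl
    have hf' : 𝒳.p.map ψ.hom.fst = g' ≫ 𝒳.p.map φ.hom.fst := by
      have h1 : 𝒴.p.IsHomLift (g' ≫ 𝒳.p.map φ.hom.fst) (g ≫ φ.hom.snd) := inferInstance
      rw [hg'] at h1
      exact isHomLift_base_unique 𝒴.p _ _ ψ.hom.snd
    obtain ⟨c, ⟨hc1, hc2⟩, hc3⟩ := IsFibGrpd.existsUnique 𝒳.p h𝒳 g' (𝒳.p.map φ.hom.fst)
      (𝒳.p.map ψ.hom.fst) hf' φ.hom.fst ψ.hom.fst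
    have hFc : 𝒮.p.IsHomLift g' (F.map c) := inferInstance
    have hGg : 𝒮.p.IsHomLift g' (G.map g) := inferInstance
    have hl1 : 𝒮.p.IsHomLift g' (F.map c ≫ w₁.obj.iso.hom) := inferInstance
    have hl2 : 𝒮.p.IsHomLift g' (w₂.obj.iso.hom ≫ G.map g) := inferInstance
    have compat : F.map c ≫ w₁.obj.iso.hom = w₂.obj.iso.hom ≫ G.map g := by
      apply IsFibGrpd.ext_of_comp 𝒮.p h𝒮 g' (G.map φ.hom.snd)
      have e1 := φ.hom.w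
      have e2 := ψ.hom.w
      rw [Category.assoc, Category.assoc, ← e1, ← G.map_comp, hg', ← e2, ← Category.assoc,
        ← F.map_comp, hc2]
    refine ⟨ObjectProperty.homMk ⟨c, g, compat⟩, ⟨rfl, ?_⟩, ?_⟩
    · apply ObjectProperty.hom_ext
      apply CategoricalPullback.hom_ext
      · exact hc2
      · exact hg'
    · rintro χ' ⟨k1, k2⟩
      have k1' : χ'.hom.snd = g := k1
      have hs : 𝒴.p.IsHomLift (𝒳.p.map χ'.hom.fst) g := by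
        rw [← k1']
        exact FibCat.fp_isHomLift_snd F G χ'
      have hfst : 𝒳.p.IsHomLift g' χ'.hom.fst := by
        have : 𝒳.p.map χ'.hom.fst = g' := isHomLift_base_unique 𝒴.p _ _ g
        rw [← this]
        infer_instance
      have k2' : χ'.hom.fst ≫ φ.hom.fst = ψ.hom.fst := by
        have := congrArg (fun t => t.hom.fst) k2
        exact this
      have := hc3 χ'.hom.fst ⟨hfst, k2'⟩
      apply ObjectProperty.hom_ext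
      apply CategoricalPullback.hom_ext
      · exact this
      · exact k1'

/-- The 2-fibre product of categories fibred in groupoids is fibred in groupoids. -/
theorem isFibGrpd_fp (F : 𝒳 ⥤ᵇ 𝒮) (G : 𝒴 ⥤ᵇ 𝒮) (h𝒳 : FibCat.IsFibGrpd 𝒳.p)
    (h𝒴 : FibCat.IsFibGrpd 𝒴.p) (h𝒮 : FibCat.IsFibGrpd 𝒮.p) :
    FibCat.IsFibGrpd (FibCat.fp F G).p := by
  have h1 := isFibGrpd_fpFst F G h𝒴 h𝒮
  change FibCat.IsFibGrpd ((FibCat.fpFst F G).toFunctor ⋙ 𝒳.p)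
  exact isFibGrpd_comp _ _ h1 h𝒳

end Groth.Agent.Helper2
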