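import Groth.Prelude.Def_FibCat2
import Groth.Agent.Lib.Helper2.FibGrpd

/-!
# Equivalences over the base (helper2)
-/

set_option autoImplicit false
open CategoryTheory CategoryTheory.Limits

universe v₄ u₄ v₃ u₃ v₂ u₂ v u

namespace Groth.Agent.Helper2

variable {C : Type u} [Category.{v} C]
variable {𝒳 : BasedCategory.{v₂, u₂} C} {𝒴 : BasedCategory.{v₃, u₃} C}

/-- An equivalence over `C` has an underlying equivalence of categories. -/
theorem isEquivalence_of_isEquivOver (F : 𝒳 ⥤ᵇ 𝒴) (h : FibCat.IsEquivOver F) :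
    F.toFunctor.IsEquivalence := by
  obtain ⟨G, ⟨e1⟩, ⟨e2⟩⟩ := h
  let e1' : F.toFunctor ⋙ G.toFunctor ≅ 𝟭 𝒳.obj := (BasedNatTrans.forgetful 𝒳 𝒳).mapIso e1
  let e2' : G.toFunctor ⋙ F.toFunctor ≅ 𝟭 𝒴.obj := (BasedNatTrans.forgetful 𝒴 𝒴).mapIso e2
  exact (CategoryTheory.Equivalence.mk F.toFunctor G.toFunctor e1'.symm e2').isEquivalence_functor

end Groth.Agent.Helper2

namespace Groth.Agent.Helper2

variable {C : Type u} [Category.{v} C]
variable {𝒳 : BasedCategory.{v₂, u₂} C} {𝒴 : BasedCategory.{v₃, u₃} C}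

/-- The quasi-inverse of an equivalence over `C` is an equivalence over `C`. -/
theorem IsEquivOver.exists_inverse (F : 𝒳 ⥤ᵇ 𝒴) (h : FibCat.IsEquivOver F) :
    ∃ G : 𝒴 ⥤ᵇ 𝒳, FibCat.IsEquivOver G ∧ Nonempty (BasedFunctor.comp F G ≅ BasedFunctor.id 𝒳) ∧
      Nonempty (BasedFunctor.comp G F ≅ BasedFunctor.id 𝒴) := by
  obtain ⟨G, e1, e2⟩ := h
  exact ⟨G, ⟨F, e2, e1⟩, e1, e2⟩

/-- Being fibred in groupoids descends along an equivalence over `C`. -/
theorem isFibGrpd_of_isEquivOver (F : 𝒳 ⥤ᵇ 𝒴) (h : FibCat.IsEquivOver F)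
    (h𝒴 : FibCat.IsFibGrpd 𝒴.p) : FibCat.IsFibGrpd 𝒳.p := by
  have hE := isEquivalence_of_isEquivOver F h
  obtain ⟨G, ⟨e1⟩, ⟨e2⟩⟩ := h
  refine ⟨?_, ?_⟩
  · intro x V f
    obtain ⟨y', ψ, hψ⟩ := IsFibGrpd.exists_lift_of_eq 𝒴.p h𝒴 (F.w_obj x) f
    have h1 : 𝒳.p.IsHomLift f (G.map ψ) := inferInstance
    have h2 : 𝒳.p.IsHomLift (𝟙 (𝒳.p.obj x)) (e1.hom.toNatTrans.app x) := inferInstance
    exact ⟨G.obj y', G.map ψ ≫ e1.hom.toNatTrans.app x,
      @IsHomLift.comp_lift_id_right _ _ _ _ 𝒳.p _ _ _ _ _ f (G.map ψ) h1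
        (e1.hom.toNatTrans.app x) h2⟩
  · intro y x φ
    refine { universal_property' := ?_ }
    intro z g ψ hψ
    have hFφ : 𝒴.p.IsHomLift (𝒳.p.map φ) (F.map φ) := inferInstance
    have hFψ : 𝒴.p.IsHomLift (g ≫ 𝒳.p.map φ) (F.map ψ) := inferInstance
    obtain ⟨χ', ⟨h1, h2⟩, h3⟩ := IsFibGrpd.existsUnique 𝒴.p h𝒴 g (𝒳.p.map φ) (g ≫ 𝒳.p.map φ) rfl
      (F.map φ) (F.map ψ)
    obtain ⟨χ, hχ⟩ := F.toFunctor.map_surjective χ'
    have hχ' : F.map χ = χ' := hχ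
    refine ⟨χ, ⟨?_, ?_⟩, ?_⟩
    · have : 𝒴.p.IsHomLift g (F.map χ) := by rw [hχ']; exact h1
      exact BasedFunctor.isHomLift_map F g χ
    · apply F.toFunctor.map_injective
      change F.map (χ ≫ φ) = F.map ψ
      rw [Functor.map_comp, hχ', h2]
    · rintro χ₂ ⟨k1, k2⟩
      apply F.toFunctor.map_injective
      change F.map χ₂ = F.map χ
      rw [hχ']
      apply h3
      refine ⟨inferInstance, ?_⟩
      rw [← Functor.map_comp, k2]

end Groth.Agent.Helper2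

namespace Groth.Agent.Helper2

variable {C : Type u} [Category.{v} C]
variable {𝒳 : BasedCategory.{v₂, u₂} C} {𝒴 : BasedCategory.{v₃, u₃} C}

/-- Postcomposition with a based functor, as a functor between categories of based functors. -/
def postF (𝒜 : BasedCategory.{v₄, u₄} C) (F : 𝒳 ⥤ᵇ 𝒴) : (𝒜 ⥤ᵇ 𝒳) ⥤ (𝒜 ⥤ᵇ 𝒴) where
  obj H := BasedFunctor.comp H F
  map α := BasedCategory.whiskerRight α F
  map_id H := by
    apply BasedNatTrans.homCategory.ext
    ext a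
    simp
    rfl
  map_comp α β := by
    apply BasedNatTrans.homCategory.ext
    ext a
    simp
    rfl

/-- Whiskering an isomorphism of based functors on the left. -/
def whiskerLeftIso {𝒜 : BasedCategory.{v₄, u₄} C} (H : 𝒜 ⥤ᵇ 𝒳) {K L : 𝒳 ⥤ᵇ 𝒴} (e : K ≅ L) :
    BasedFunctor.comp H K ≅ BasedFunctor.comp H L where
  hom := BasedCategory.whiskerLeft H e.hom
  inv := BasedCategory.whiskerLeft H e.inv
  hom_inv_id := by
    apply BasedNatTrans.homCategory.ext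
    ext a
    have := congrArg (fun t => t.toNatTrans.app (H.obj a)) e.hom_inv_id
    exact this
  inv_hom_id := by
    apply BasedNatTrans.homCategory.ext
    ext a
    have := congrArg (fun t => t.toNatTrans.app (H.obj a)) e.inv_hom_id
    exact this

theorem postF_isEquivalence (𝒜 : BasedCategory.{v₄, u₄} C) (F : 𝒳 ⥤ᵇ 𝒴)
    (h : FibCat.IsEquivOver F) : (postF 𝒜 F).IsEquivalence := by
  obtain ⟨G, ⟨e1⟩, ⟨e2⟩⟩ := h
  let i₁ : postF 𝒜 F ⋙ postF 𝒜 G ≅ 𝟭 (𝒜 ⥤ᵇ 𝒳) :=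
    NatIso.ofComponents (fun H => whiskerLeftIso H e1) (by
      intro H H' α
      apply BasedNatTrans.homCategory.ext
      ext a
      exact e1.hom.toNatTrans.naturality (α.toNatTrans.app a))
  let i₂ : postF 𝒜 G ⋙ postF 𝒜 F ≅ 𝟭 (𝒜 ⥤ᵇ 𝒴) :=
    NatIso.ofComponents (fun H => whiskerLeftIso H e2) (by
      intro H H' α
      apply BasedNatTrans.homCategory.ext
      ext a
      exact e2.hom.toNatTrans.naturality (α.toNatTrans.app a))
  exact (CategoryTheory.Equivalence.mk _ _ i₁.symm i₂).isEquivalence_functor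

end Groth.Agent.Helper2
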