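import Mathlib

open TensorProduct

namespace Groth.Agent.Helper2.SmoothDescent


universe u v w

attribute [local instance] SMulCommClass.of_commMonoid

section K1
variable {R : Type v} {S : Type w} [CommRing R] [CommRing S] [Algebra R S]
variable {T : Type*} [CommRing T] [Algebra R T] [Algebra S T] [IsScalarTower R S T]

theorem bijective_mapKer_liftBaseChange {P : Algebra.Extension.{u} R S}
    {Q : Algebra.Extension.{u} R T} (f : P.Hom Q) [alg : Algebra P.Ring Q.Ring]
    (halg : algebraMap P.Ring Q.Ring = f.toRingHom) [Module.Flat P.Ring Q.Ring]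
    (hker : Q.ker = Ideal.map (algebraMap P.Ring Q.Ring) P.ker) :
    Function.Bijective ((f.mapKer halg).liftBaseChange Q.Ring) := by
  have hval : ∀ x : Q.Ring ⊗[P.Ring] P.ker,
      ((f.mapKer halg).liftBaseChange Q.Ring x).1 =
        TensorProduct.rid P.Ring Q.Ring (LinearMap.lTensor Q.Ring P.ker.subtype x) := by
    intro x
    have hmap : (Q.ker.subtype.restrictScalars P.Ring) ∘ₗ
        (((f.mapKer halg).liftBaseChange Q.Ring).restrictScalars P.Ring) =
        (TensorProduct.rid P.Ring Q.Ring).toLinearMap ∘ₗ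
          (LinearMap.lTensor Q.Ring P.ker.subtype) := by
      refine TensorProduct.ext' fun a i => ?_
      simp only [LinearMap.coe_comp, Function.comp_apply, LinearMap.coe_restrictScalars,
        LinearMap.liftBaseChange_tmul, LinearMap.lTensor_tmul, LinearEquiv.coe_coe,
        TensorProduct.rid_tmul, Submodule.subtype_apply, Submodule.coe_smul,
        Algebra.Extension.Hom.mapKer_apply_coe, Algebra.smul_def, ← halg,
        Algebra.algebraMap_self, RingHom.id_apply]
      ring
    exact LinearMap.congr_fun hmap x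
  constructor
  · intro x y hxy
    have h1 : TensorProduct.rid P.Ring Q.Ring (LinearMap.lTensor Q.Ring P.ker.subtype x) =
        TensorProduct.rid P.Ring Q.Ring (LinearMap.lTensor Q.Ring P.ker.subtype y) :=
      (hval x).symm.trans ((congrArg Subtype.val hxy).trans (hval y))
    exact Module.Flat.lTensor_preserves_injective_linearMap (M := Q.Ring) P.ker.subtype
      Subtype.val_injective ((TensorProduct.rid P.Ring Q.Ring).injective h1)
  · intro y
    have hy : y.1 ∈ Ideal.map (algebraMap P.Ring Q.Ring) P.ker := by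
      rw [← hker]; exact y.2
    have : ∀ z ∈ Ideal.map (algebraMap P.Ring Q.Ring) P.ker,
        ∃ x : Q.Ring ⊗[P.Ring] P.ker, ((f.mapKer halg).liftBaseChange Q.Ring x).1 = z := by
      intro z hz
      refine Submodule.span_induction ?_ ?_ ?_ ?_ hz
      · rintro _ ⟨i, hi, rfl⟩
        exact ⟨1 ⊗ₜ ⟨i, hi⟩, by
          rw [hval]
          simp [Algebra.smul_def]⟩
      · exact ⟨0, by simp⟩
      · rintro a b _ _ ⟨xa, ha⟩ ⟨xb, hb⟩
        exact ⟨xa + xb, by rw [map_add, Submodule.coe_add, ha, hb]⟩
      · rintro c a _ ⟨xa, ha⟩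
        exact ⟨c • xa, by rw [map_smul, Submodule.coe_smul, ha]⟩
    obtain ⟨x, hx⟩ := this _ hy
    exact ⟨x, Subtype.ext hx⟩

theorem subsingleton_tensor_h1Cotangent_of_lift (P : Algebra.Extension.{u} R S)
    [Algebra.FormallySmooth R P.Ring]
    {A' : Type u} [CommRing A'] [Algebra R A'] [Algebra P.Ring A'] [IsScalarTower R P.Ring A']
    [Module.Flat P.Ring A'] [Algebra.FormallyEtale P.Ring A']
    [Module.Flat S T]
    (π : A' →ₐ[R] T) (hπ : Function.Surjective π)
    (hcomm : ∀ a : P.Ring, π (algebraMap P.Ring A' a) = algebraMap S T (algebraMap P.Ring S a))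
    (hker : RingHom.ker π = Ideal.map (algebraMap P.Ring A') P.ker)
    [Subsingleton (Algebra.H1Cotangent R T)] : Subsingleton (T ⊗[S] P.H1Cotangent) := by
  let Q : Algebra.Extension.{u} R T := .ofSurjective π hπ
  let f : P.Hom Q :=
    { toRingHom := algebraMap P.Ring A'
      toRingHom_algebraMap := fun x => (IsScalarTower.algebraMap_apply R P.Ring A' _).symm
      algebraMap_toRingHom := fun x => hcomm x }
  have : Algebra.FormallySmooth R Q.Ring := Algebra.FormallySmooth.comp R P.Ring A'
  let _ : Algebra P.Ring Q.Ring := (inferInstance : Algebra P.Ring A')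
  have : Module.Flat P.Ring Q.Ring := (inferInstance : Module.Flat P.Ring A')
  have H₁ : f.toRingHom.FormallyEtale :=
    RingHom.formallyEtale_algebraMap.mpr (inferInstance : Algebra.FormallyEtale P.Ring A')
  have hQker : Q.ker = Ideal.map (algebraMap P.Ring Q.Ring) P.ker := hker
  have H₂ : Function.Bijective ((f.mapKer rfl).liftBaseChange Q.Ring) :=
    bijective_mapKer_liftBaseChange f rfl hQker
  exact ((Algebra.Extension.tensorH1CotangentOfFormallyEtale f rfl H₁ H₂) ≪≫ₗ
    Algebra.Extension.equivH1CotangentOfFormallySmooth _).toEquiv.subsingleton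

end K1


theorem ker_includeRight_eq_map {A S B : Type*} [CommRing A] [CommRing S] [CommRing B]
    [Algebra A S] [Algebra A B] (h : Function.Surjective (algebraMap A S)) :
    RingHom.ker (Algebra.TensorProduct.includeRight : B →ₐ[A] S ⊗[A] B) =
      Ideal.map (algebraMap A B) (RingHom.ker (algebraMap A S)) := by
  apply le_antisymm
  · intro x hx
    rw [RingHom.mem_ker] at hx
    have hex := rTensor_exact B (LinearMap.exact_subtype_ker_map (Algebra.linearMap A S)) h
    have h0 : (LinearMap.rTensor B (Algebra.linearMap A S)) ((1 : A) ⊗ₜ x) = 0 := by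
      simpa using hx
    obtain ⟨y, hy⟩ := (hex _).mp h0
    have key : ∀ y : (LinearMap.ker (Algebra.linearMap A S)) ⊗[A] B,
        TensorProduct.lid A B (LinearMap.rTensor B (LinearMap.ker (Algebra.linearMap A S)).subtype y)
          ∈ Ideal.map (algebraMap A B) (RingHom.ker (algebraMap A S)) := by
      intro y
      induction y with
      | zero => simp
      | add y z hy hz => simpa only [map_add] using Ideal.add_mem _ hy hz
      | tmul a b =>
        simp only [LinearMap.rTensor_tmul, Submodule.subtype_apply, TensorProduct.lid_tmul]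
        rw [Algebra.smul_def]
        exact Ideal.mul_mem_right _ _ (Ideal.mem_map_of_mem _ a.2)
    have hx' : x = TensorProduct.lid A B ((1 : A) ⊗ₜ x) := by simp
    rw [hx', ← hy]
    exact key y
  · rw [Ideal.map_le_iff_le_comap]
    intro a ha
    rw [Ideal.mem_comap, RingHom.mem_ker]
    rw [RingHom.mem_ker] at ha
    change (Algebra.TensorProduct.includeRight : B →ₐ[A] S ⊗[A] B) (algebraMap A B a) = 0
    rw [AlgHom.commutes, Algebra.TensorProduct.algebraMap_apply, ha, zero_tmul]


section K2
open Polynomial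


theorem exists_lift_standardEtalePair {A S : Type*} [CommRing A] [CommRing S] (φ : A →+* S)
    (hφ : Function.Surjective φ) (p : StandardEtalePair S) :
    ∃ L : StandardEtalePair A, L.f.map φ = p.f ∧ L.g.map φ = p.g * derivative p.f := by
  obtain ⟨F, hF, -, hFm⟩ :=
    lifts_and_natDegree_eq_and_monic (mem_lifts_of_surjective hφ p.f) p.monic_f
  obtain ⟨G₀, hG₀⟩ := (mem_lifts _).mp (mem_lifts_of_surjective hφ p.g)
  refine ⟨⟨F, hFm, G₀ * derivative F, ⟨G₀, 0, 1, by ring⟩⟩, hF, ?_⟩
  change (G₀ * derivative F).map φ = _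
  rw [Polynomial.map_mul, hG₀, ← Polynomial.derivative_map, hF]

theorem hasMap_iff_of_eq {S : Type*} [CommRing S] (p q : StandardEtalePair S) (hf : q.f = p.f)
    (hg : q.g = p.g * derivative p.f) {B : Type*} [CommRing B] [Algebra S B] (x : B) :
    p.HasMap x ↔ q.HasMap x := by
  constructor
  · intro h
    refine ⟨by rw [hf]; exact h.1, ?_⟩
    rw [hg, map_mul]
    exact h.2.mul h.isUnit_derivative_f
  · intro h
    refine ⟨by rw [← hf]; exact h.1, ?_⟩
    have h2 := h.2
    rw [hg, map_mul] at h2
    exact isUnit_of_mul_isUnit_left h2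

/-- Two standard étale pairs with the same `HasMap` predicate have isomorphic rings. -/
noncomputable def ringEquivOfHasMap {S : Type*} [CommRing S] (p q : StandardEtalePair S)
    (h1 : p.HasMap q.X) (h2 : q.HasMap p.X) : p.Ring ≃ₐ[S] q.Ring :=
  AlgEquiv.ofAlgHom (p.lift q.X h1) (q.lift p.X h2)
    (by ext; simp) (by ext; simp)


end K2

theorem subsingleton_tensor_h1Cotangent_of_isStandardEtale {R S T : Type*} [CommRing R]
    [CommRing S] [CommRing T] [Algebra R S] [Algebra R T] [Algebra S T] [IsScalarTower R S T]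
    [Algebra.IsStandardEtale S T] [Subsingleton (Algebra.H1Cotangent R T)] :
    Subsingleton (T ⊗[S] Algebra.H1Cotangent R S) := by
  let P : Algebra.Extension R S := (Algebra.Generators.self R S).toExtension
  have : Algebra.FormallySmooth R P.Ring :=
    inferInstanceAs (Algebra.FormallySmooth R (MvPolynomial S R))
  obtain ⟨𝓟⟩ := Algebra.IsStandardEtale.nonempty_standardEtalePresentation (R := S) (S := T)
  obtain ⟨L, hLf, hLg⟩ := exists_lift_standardEtalePair (algebraMap P.Ring S)
    P.algebraMap_surjective 𝓟.P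
  let q := L.map (algebraMap P.Ring S)
  let e₁ : 𝓟.P.Ring ≃ₐ[S] q.Ring := ringEquivOfHasMap _ _
    ((hasMap_iff_of_eq 𝓟.P q hLf hLg _).mpr q.hasMap_X)
    ((hasMap_iff_of_eq 𝓟.P q hLf hLg _).mp 𝓟.P.hasMap_X)
  let 𝓛 : StandardEtalePresentation P.Ring L.Ring :=
    ⟨L, L.X, L.hasMap_X, by rw [L.lift_X_left]; exact Function.bijective_id⟩
  let e₂ : S ⊗[P.Ring] L.Ring ≃ₐ[S] q.Ring := (𝓛.baseChange (T := S)).equivRing
  let e : T ≃ₐ[S] S ⊗[P.Ring] L.Ring := 𝓟.equivRing.trans (e₁.trans e₂.symm)
  letI : Algebra R L.Ring := ((algebraMap P.Ring L.Ring).comp (algebraMap R P.Ring)).toAlgebra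
  haveI : IsScalarTower R P.Ring L.Ring := .of_algebraMap_eq' rfl
  let ι : L.Ring →ₐ[P.Ring] S ⊗[P.Ring] L.Ring := Algebra.TensorProduct.includeRight
  let π₀ : L.Ring →+* T := (e.symm : S ⊗[P.Ring] L.Ring →+* T).comp ι.toRingHom
  have hcomm : ∀ a : P.Ring,
      π₀ (algebraMap P.Ring L.Ring a) = algebraMap S T (algebraMap P.Ring S a) := by
    intro a
    change e.symm (ι (algebraMap P.Ring L.Ring a)) = _
    rw [AlgHom.commutes, IsScalarTower.algebraMap_apply P.Ring S (S ⊗[P.Ring] L.Ring),
      AlgEquiv.commutes]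
  let π : L.Ring →ₐ[R] T :=
    { π₀ with
      commutes' := fun r => by
        change π₀ (algebraMap P.Ring L.Ring (algebraMap R P.Ring r)) = _
        rw [hcomm, ← IsScalarTower.algebraMap_apply R P.Ring S,
          ← IsScalarTower.algebraMap_apply R S T] }
  have hπ : Function.Surjective π := by
    intro t
    obtain ⟨l, hl⟩ := Algebra.TensorProduct.includeRight_surjective (R := P.Ring) (S := S)
      L.Ring P.algebraMap_surjective (e t)
    exact ⟨l, by change e.symm (ι l) = t; rw [show ι l = e t from hl, AlgEquiv.symm_apply_apply]⟩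
  have hker : RingHom.ker π = Ideal.map (algebraMap P.Ring L.Ring) P.ker := by
    rw [← ker_includeRight_eq_map (A := P.Ring) (S := S) (B := L.Ring) P.algebraMap_surjective]
    ext x
    simp only [RingHom.mem_ker]
    change e.symm (ι x) = 0 ↔ ι x = 0
    rw [map_eq_zero_iff _ e.symm.injective]
  exact subsingleton_tensor_h1Cotangent_of_lift P π hπ hcomm hker


theorem subsingleton_tensor_h1Cotangent_of_etale {R S T : Type*} [CommRing R]
    [CommRing S] [CommRing T] [Algebra R S] [Algebra R T] [Algebra S T] [IsScalarTower R S T]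
    [Algebra.Etale S T] [Subsingleton (Algebra.H1Cotangent R T)] :
    Subsingleton (T ⊗[S] Algebra.H1Cotangent R S) := by
  refine subsingleton_of_forall_eq 0 fun m => ?_
  by_contra hm
  let I : Ideal T := LinearMap.ker (LinearMap.toSpanSingleton T (T ⊗[S] Algebra.H1Cotangent R S) m)
  have hI : I ≠ ⊤ := by
    intro h
    have : (1 : T) ∈ I := h ▸ Submodule.mem_top
    exact hm (by simpa [I] using this)
  obtain ⟨q, hq, hIq⟩ := Ideal.exists_le_maximal I hI
  have hqp : q.IsPrime := hq.isPrime
  have : Algebra.FormallyEtale T (Localization.AtPrime q) :=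
    Algebra.FormallyEtale.of_isLocalization q.primeCompl
  have : Algebra.IsEtaleAt S q := Algebra.FormallyEtale.comp S T (Localization.AtPrime q)
  obtain ⟨g, hgq, hg⟩ := Algebra.IsEtaleAt.exists_isStandardEtale (R := S) q
  have h1 : Subsingleton (Algebra.H1Cotangent R (Localization.Away g)) :=
    (Algebra.tensorH1CotangentOfIsLocalization R (Localization.Away g)
      (Submonoid.powers g)).symm.toEquiv.subsingleton
  have h2 : Subsingleton (Localization.Away g ⊗[S] Algebra.H1Cotangent R S) :=
    subsingleton_tensor_h1Cotangent_of_isStandardEtale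
  have h3 : Subsingleton (Localization.Away g ⊗[T] (T ⊗[S] Algebra.H1Cotangent R S)) :=
    (TensorProduct.AlgebraTensorModule.cancelBaseChange S T (Localization.Away g)
      (Localization.Away g) (Algebra.H1Cotangent R S)).toEquiv.subsingleton
  have h4 : TensorProduct.mk T (Localization.Away g) (T ⊗[S] Algebra.H1Cotangent R S) 1 m = 0 :=
    Subsingleton.elim _ _
  obtain ⟨⟨_, n, rfl⟩, hc⟩ := (IsLocalizedModule.eq_zero_iff (Submonoid.powers g)
    (TensorProduct.mk T (Localization.Away g) (T ⊗[S] Algebra.H1Cotangent R S) 1)).mp h4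
  have : g ^ n ∈ I := by
    change (LinearMap.toSpanSingleton T _ m) (g ^ n) = 0
    rw [LinearMap.toSpanSingleton_apply]
    exact hc
  exact hgq (hqp.mem_of_pow_mem n (hIq this))

theorem subsingleton_h1Cotangent_of_etale_faithfullyFlat {R S T : Type*} [CommRing R]
    [CommRing S] [CommRing T] [Algebra R S] [Algebra R T] [Algebra S T] [IsScalarTower R S T]
    [Algebra.Etale S T] [Module.FaithfullyFlat S T] [Subsingleton (Algebra.H1Cotangent R T)] :
    Subsingleton (Algebra.H1Cotangent R S) := by
  have := subsingleton_tensor_h1Cotangent_of_etale (R := R) (S := S) (T := T)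
  exact Module.FaithfullyFlat.lTensor_reflects_triviality S T _


theorem smooth_of_comp_etale_faithfullyFlat {R S T : Type*} [CommRing R]
    [CommRing S] [CommRing T] [Algebra R S] [Algebra R T] [Algebra S T] [IsScalarTower R S T]
    [Algebra.Etale S T] [Module.FaithfullyFlat S T] [Algebra.Smooth R T]
    [Algebra.FinitePresentation R S] : Algebra.Smooth R S := by
  refine ⟨?_, inferInstance⟩
  rw [Algebra.formallySmooth_iff]
  constructor
  · have e := KaehlerDifferential.tensorKaehlerEquivOfFormallyEtale R S T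
    have : Module.Projective T Ω[T⁄R] := inferInstance
    have : Module.Flat T (T ⊗[S] Ω[S⁄R]) := .of_linearEquiv e
    have : Module.Flat S Ω[S⁄R] := Module.Flat.of_flat_tensorProduct _ _ T
    exact Module.Flat.projective_of_finitePresentation
  · have : Subsingleton (Algebra.H1Cotangent R T) := inferInstance
    exact subsingleton_h1Cotangent_of_etale_faithfullyFlat (T := T)

theorem ringHom_smooth_of_comp_etale_faithfullyFlat {R A B : Type*} [CommRing R] [CommRing A]
    [CommRing B] (φ : R →+* A) (ψ : A →+* B) (hψ : ψ.Etale) (hff : ψ.FaithfullyFlat)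
    (hfp : φ.FinitePresentation) (h : (ψ.comp φ).Smooth) : φ.Smooth := by
  algebraize [φ, ψ, ψ.comp φ]
  have : Module.FaithfullyFlat A B := hff
  have : Algebra.Smooth R B := h
  exact smooth_of_comp_etale_faithfullyFlat (R := R) (S := A) (T := B)


end Groth.Agent.Helper2.SmoothDescent
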