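import Mathlib
import Groth.Prelude.Def_QuotSh

/-!
# Quotient sheaves through regular epimorphisms (helper2)
-/

set_option autoImplicit false
open CategoryTheory CategoryTheory.Limits AlgebraicGeometry

namespace Groth.Agent.Helper2.QuotRegEpi
universe u

section Generic
variable {C : Type*} [Category C] [HasPullbacks C] [HasCoequalizers C] [IsRegularEpiCategory C]

/-- In a regular epi category, an epimorphism `q` coequalizing `s, t` such that `(t, s)` maps
epimorphically onto the kernel pair of `q` is the coequalizer of `s, t`. -/
theorem isIso_coequalizer_desc {R U M P : C} (s t : R ⟶ U) (q : U ⟶ M) (w : s ≫ q = t ≫ q)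
    [Epi q] (p₁ p₂ : P ⟶ U) (hP : IsPullback p₁ p₂ q q) (j : R ⟶ P) [Epi j]
    (hj1 : j ≫ p₁ = t) (hj2 : j ≫ p₂ = s) :
    IsIso (coequalizer.desc q w) := by
  haveI : IsRegularEpi q := IsRegularEpiCategory.regularEpiOfEpi q
  have hcol : IsColimit (Cofork.ofπ q hP.w) := IsKernelPair.toCoequalizer' hP
  -- `(q, w)` is a coequalizer of `s, t`
  have hcol' : IsColimit (Cofork.ofπ q w) := by
    refine Cofork.IsColimit.mk _ (fun c => hcol.desc (Cofork.ofπ c.π ?_)) ?_ ?_
    · rw [← cancel_epi j, ← Category.assoc, ← Category.assoc, hj1, hj2]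
      exact c.condition.symm
    · intro c
      exact hcol.fac _ WalkingParallelPair.one
    · intro c m hm
      refine hcol.hom_ext ?_
      rintro (_ | _)
      · simp only [Cofork.ofπ_pt, Functor.const_obj_obj, parallelPair_obj_zero, Cofork.ofπ_ι_app,
          Category.assoc]
        have := hcol.fac (Cofork.ofπ c.π (by
          rw [← cancel_epi j, ← Category.assoc, ← Category.assoc, hj1, hj2]
          exact c.condition.symm)) WalkingParallelPair.one
        simp only [Cofork.ofπ_pt, Cofork.ofπ_ι_app] at this
        rw [this]
        exact congrArg (p₁ ≫ ·) hm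
      · have := hcol.fac (Cofork.ofπ c.π (by
          rw [← cancel_epi j, ← Category.assoc, ← Category.assoc, hj1, hj2]
          exact c.condition.symm)) WalkingParallelPair.one
        simp only [Cofork.ofπ_pt, Cofork.ofπ_ι_app] at this ⊢
        rw [this]
        exact hm
  have : coequalizer.desc q w =
      ((coequalizerIsCoequalizer s t).coconePointUniqueUpToIso hcol').hom := by
    apply coequalizer.hom_ext
    rw [coequalizer.π_desc]
    exact ((coequalizerIsCoequalizer s t).comp_coconePointUniqueUpToIso_hom hcol'
      WalkingParallelPair.one).symm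
  rw [this]
  infer_instance

end Generic

variable (K : Precoverage Scheme.{u}) {S : Scheme.{u}}

/-- The functor `V ↦ h_V` to `τ`-sheaves. -/
noncomputable def repF : Over S ⥤ QuotSh.Sh K S :=
  yoneda ⋙ (Functor.whiskeringRight _ _ _).obj uliftFunctor.{u + 1, u} ⋙
    presheafToSheaf (QuotSh.J K S) (Type (u + 1))

theorem repF_map {V W : Over S} (g : V ⟶ W) : (repF K).map g = QuotSh.repMap K g := rfl

noncomputable instance : PreservesFiniteLimits (repF K (S := S)) := by
  unfold repF
  infer_instance

end Groth.Agent.Helper2.QuotRegEpi
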