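import Mathlib

/-!
# Finite coproducts of finite morphisms of schemes (helper2)
-/

set_option autoImplicit false
open CategoryTheory CategoryTheory.Limits AlgebraicGeometry

namespace Groth.Agent.Helper2.SigmaFinite
universe u

theorem isFinite_sigmaDesc_fin : ∀ (n : ℕ) (W : Fin n → Scheme.{u}) (Z : Scheme.{u})
    (f : ∀ i, W i ⟶ Z), (∀ i, IsFinite (f i)) → IsFinite (Sigma.desc f)
  | 0, W, Z, f, _ => by
      have : IsEmpty ↥(∐ W) :=
        Function.isEmpty (Sigma.desc (fun i : Fin 0 => i.elim0) : (∐ W) ⟶ (∅ : Scheme.{u}))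
      infer_instance
  | n + 1, W, Z, f, hf => by
      let c₁ : Cofan (fun i : Fin n => W i.succ) :=
        Cofan.mk (∐ fun i : Fin n => W i.succ) (Sigma.ι _)
      let c₂ : BinaryCofan (W 0) c₁.pt := BinaryCofan.mk coprod.inl coprod.inr
      have hE : IsColimit (extendCofan c₁ c₂) :=
        extendCofanIsColimit W (coproductIsCoproduct _) (coprodIsCoprod _ _)
      let e : (∐ W) ≅ (W 0 ⨿ ∐ fun i : Fin n => W i.succ) :=
        (coproductIsCoproduct W).coconePointUniqueUpToIso hE
      have := isFinite_sigmaDesc_fin n (fun i => W i.succ) Z (fun i => f i.succ)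
        (fun i => hf i.succ)
      have := hf 0
      have h : Sigma.desc f =
          e.hom ≫ coprod.desc (f 0) (Sigma.desc (fun i : Fin n => f i.succ)) := by
        apply Sigma.hom_ext
        intro i
        rw [Sigma.ι_desc, ← Category.assoc]
        have h1 : Sigma.ι W i ≫ e.hom = (extendCofan c₁ c₂).inj i :=
          (coproductIsCoproduct W).comp_coconePointUniqueUpToIso_hom hE ⟨i⟩
        rw [h1]
        symm
        refine Fin.cases ?_ (fun j => ?_) i
        · show coprod.inl ≫ _ = _
          rw [coprod.inl_desc]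
        · show (Sigma.ι _ j ≫ coprod.inr) ≫ _ = _
          rw [Category.assoc, coprod.inr_desc, Sigma.ι_desc]
      rw [h]
      infer_instance

/-- A finite disjoint union of schemes finite over `Z` is finite over `Z`. -/
theorem isFinite_sigmaDesc {ι : Type u} [Finite ι] (W : ι → Scheme.{u}) (Z : Scheme.{u})
    (f : ∀ i, W i ⟶ Z) (hf : ∀ i, IsFinite (f i)) : IsFinite (Sigma.desc f) := by
  obtain ⟨n, ⟨e⟩⟩ := Finite.exists_equiv_fin ι
  have h1 := isFinite_sigmaDesc_fin n (fun i => W (e.symm i)) Z (fun i => f (e.symm i))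
    (fun i => hf _)
  have h2 : (Sigma.reindex e.symm W).hom ≫ Sigma.desc f =
      Sigma.desc (fun i => f (e.symm i)) := by
    apply Sigma.hom_ext
    intro i
    rw [Sigma.ι_reindex_hom_assoc, Sigma.ι_desc, Sigma.ι_desc]
  rw [← h2] at h1
  have h3 : Sigma.desc f = (Sigma.reindex e.symm W).inv ≫ (Sigma.reindex e.symm W).hom ≫
      Sigma.desc f := by rw [Iso.inv_hom_id_assoc]
  rw [h3]
  infer_instance

end Groth.Agent.Helper2.SigmaFinite
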