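import Mathlib
import Groth.Agent.Lib.Helper2.EtaleLocal

/-! Properties of morphisms of schemes that are smooth local on the source (helper2). -/

namespace Groth.Agent.Helper2.EtaleLocal
open CategoryTheory CategoryTheory.Limits AlgebraicGeometry MorphismProperty TensorProduct
universe u

instance containsIdentities_smooth :
    MorphismProperty.ContainsIdentities (@Smooth : MorphismProperty Scheme.{u}) :=
  ⟨fun _ => inferInstance⟩

set_option backward.isDefEq.respectTransparency.types false in
/-- A smooth surjective morphism onto a quasi-compact scheme is dominated by an affine one. -/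
theorem exists_affine_smooth_surjective {U X : Scheme.{u}} (a : U ⟶ X) [Smooth a] [Surjective a]
    [CompactSpace X] :
    ∃ (T : Scheme.{u}) (q : T ⟶ U), IsAffine T ∧ Smooth q ∧ Surjective (q ≫ a) := by
  obtain ⟨V, hV, e⟩ : ∃ V : U.Opens, IsCompact (V : Set U) ∧ a '' V = Set.univ :=
    a.isOpenMap.exists_opens_image_eq_of_prespectralSpace
    a.continuous (by rw [a.surjective.range_eq]) isOpen_univ isCompact_univ
  have hc : CompactSpace V := isCompact_iff_compactSpace.mp hV
  have hc' : CompactSpace (V : Scheme.{u}) := hc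
  obtain ⟨T, p, hp1, hp2, hT⟩ :=
    Scheme.exists_hom_isAffine_of_isZariskiLocalAtSource @Smooth (V : Scheme.{u})
  have : Smooth p := hp2
  refine ⟨T, p ≫ V.ι, hT, inferInstance, ⟨fun x => ?_⟩⟩
  have hx : x ∈ a '' V := e ▸ Set.mem_univ x
  obtain ⟨v, hv, rfl⟩ := hx
  obtain ⟨t, ht⟩ := hp1.surj ⟨v, hv⟩
  refine ⟨t, ?_⟩
  simp only [Scheme.Hom.comp_apply, ht]
  rfl

set_option backward.isDefEq.respectTransparency.types false in
/-- Reduction of smooth-locality on the source to commutative algebra. -/
theorem of_comp_smooth_surjective_of_ringHom {P : MorphismProperty Scheme.{u}}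
    {Q : ∀ {R S : Type u} [CommRing R] [CommRing S], (R →+* S) → Prop}
    [HasRingHomProperty P Q] [P.IsStableUnderComposition]
    (hle : ∀ {X Y : Scheme.{u}} (g : X ⟶ Y), Smooth g → P g)
    (H : ∀ {R A B : Type u} [CommRing R] [CommRing A] [CommRing B] (φ : R →+* A) (ψ : A →+* B),
      ψ.Smooth → ψ.FaithfullyFlat → Q (ψ.comp φ) → Q φ)
    {U X Y : Scheme.{u}} (a : U ⟶ X) (f : X ⟶ Y) [Smooth a] [Surjective a] (h : P (a ≫ f)) :
    P f := by
  wlog hY : IsAffine Y generalizing U X Y
  · rw [IsZariskiLocalAtTarget.iff_of_openCover (P := P) Y.affineCover]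
    intro i
    let ι := Y.affineCover.f i
    have sq1 : IsPullback (pullback.snd a (pullback.fst f ι)) (pullback.fst a (pullback.fst f ι))
        (pullback.fst f ι) a := (IsPullback.of_hasPullback a (pullback.fst f ι)).flip
    have sq2 : IsPullback (pullback.snd f ι) (pullback.fst f ι) ι f :=
      (IsPullback.of_hasPullback f ι).flip
    have sq3 := (sq1.paste_horiz sq2).flip
    have hP : P (pullback.snd a (pullback.fst f ι) ≫ pullback.snd f ι) :=
      IsZariskiLocalAtTarget.of_isPullback (iY := ι) sq3 h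
    exact this (pullback.snd a (pullback.fst f ι)) (pullback.snd f ι) hP inferInstance
  wlog hX : IsAffine X generalizing U X
  · rw [IsZariskiLocalAtSource.iff_of_openCover (P := P) X.affineCover]
    intro i
    let ι := X.affineCover.f i
    have hP : P (pullback.snd a ι ≫ ι ≫ f) := by
      rw [← Category.assoc, ← pullback.condition, Category.assoc]
      exact IsZariskiLocalAtSource.comp h _
    exact this (pullback.snd a ι) (ι ≫ f) hP inferInstance
  obtain ⟨T, q, hT, hq, hqs⟩ := exists_affine_smooth_surjective a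
  have hP : P ((q ≫ a) ≫ f) := by
    rw [Category.assoc]
    exact P.comp_mem _ _ (hle q hq) h
  rw [HasRingHomProperty.iff_of_isAffine (P := P)] at hP ⊢
  have he : Smooth (q ≫ a) := inferInstance
  rw [HasRingHomProperty.iff_of_isAffine (P := @Smooth)] at he
  have hff : (q ≫ a).appTop.hom.FaithfullyFlat :=
    (Flat.flat_and_surjective_iff_faithfullyFlat_of_isAffine (q ≫ a)).mp ⟨inferInstance, hqs⟩
  refine H f.appTop.hom (q ≫ a).appTop.hom he hff ?_
  rw [Scheme.Hom.comp_appTop] at hP
  exact hP

set_option backward.isDefEq.respectTransparency.types false in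
theorem ringHom_of_comp_smooth_faithfullyFlat {P : MorphismProperty Scheme.{u}}
    {Q : ∀ {R S : Type u} [CommRing R] [CommRing S], (R →+* S) → Prop}
    [HasRingHomProperty P Q] [P.IsStableUnderComposition]
    [P.DescendsAlong (@Surjective ⊓ @Flat ⊓ @LocallyOfFinitePresentation)]
    (hLFP : ∀ {A B : Scheme.{u}} (g : A ⟶ B), LocallyOfFinitePresentation g → P g)
    (hcancel : ∀ {A B C : Scheme.{u}} (g : A ⟶ B) (h : B ⟶ C), P (g ≫ h) →
      LocallyOfFinitePresentation h → P g)
    {R A B : Type u} [CommRing R] [CommRing A] [CommRing B] (φ : R →+* A) (ψ : A →+* B)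
    (hψ : ψ.Smooth) (hff : ψ.FaithfullyFlat) (h : Q (ψ.comp φ)) : Q φ := by
  algebraize [φ, ψ, ψ.comp φ]
  obtain ⟨A₀, B₀, _, _, hfg, het, ⟨e⟩⟩ :=
    Algebra.Smooth.exists_subalgebra_fg ℤ A B
  have hQiso : RingHom.RespectsIso @Q :=
    (HasRingHomProperty.isLocal_ringHomProperty P).respectsIso
  -- replace `B` by the tensor product
  let ψ₁ : A →+* A ⊗[A₀] B₀ := Algebra.TensorProduct.includeLeftRingHom
  have hψ₁ : ψ₁ = e.toRingEquiv.toRingHom.comp ψ := by
    ext x
    show (x ⊗ₜ[A₀] (1 : B₀)) = e (ψ x)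
    have : ψ x = algebraMap A B x := rfl
    rw [this, e.commutes]
    rfl
  have hQ₁ : Q (ψ₁.comp φ) := by
    rw [hψ₁, RingHom.comp_assoc]
    exact hQiso.left _ _ h
  have hff₁ : ψ₁.FaithfullyFlat := by
    rw [hψ₁]
    exact RingHom.FaithfullyFlat.stableUnderComposition _ _ hff
      (RingHom.FaithfullyFlat.of_bijective e.bijective)
  -- schemes
  let f : Spec (.of A) ⟶ Spec (.of R) := Spec.map (CommRingCat.ofHom φ)
  let a₁ : Spec (.of (A ⊗[A₀] B₀)) ⟶ Spec (.of A) := Spec.map (CommRingCat.ofHom ψ₁)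
  let z : Spec (.of A) ⟶ Spec (.of A₀) := Spec.map (CommRingCat.ofHom (algebraMap A₀ A))
  let w : Spec (.of B₀) ⟶ Spec (.of A₀) := Spec.map (CommRingCat.ofHom (algebraMap A₀ B₀))
  let u₀ : Spec (.of (A ⊗[A₀] B₀)) ⟶ Spec (.of B₀) :=
    Spec.map (CommRingCat.ofHom (Algebra.TensorProduct.includeRight (R := A₀) (A := A)).toRingHom)
  have sqU : IsPullback a₁ u₀ z w :=
    isPullback_SpecMap_of_isPushout _ _ _ _ (CommRingCat.isPushout_tensorProduct A₀ A B₀)
  let T : Scheme.{u} := Spec (.of (ULift.{u} ℤ))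
  have hT : IsTerminal T := specULiftZIsTerminal
  let s : Spec (.of R) ⟶ T := hT.from _
  let t : Spec (.of A₀) ⟶ T := Spec.map (CommRingCat.ofHom ((Int.castRingHom A₀).comp
    (ULift.ringEquiv.{0, u} (R := ℤ)).toRingHom))
  have ht : LocallyOfFinitePresentation t :=
    lfp_spec_of_fg ((Subalgebra.fg_iff_finiteType A₀).mp hfg)
  let π := pullback.fst s t
  let p₂ := pullback.snd s t
  let f' : Spec (.of A) ⟶ pullback s t := pullback.lift f z (hT.hom_ext _ _)
  have hw : Smooth w :=
    (HasRingHomProperty.Spec_iff (P := @Smooth)).mpr (RingHom.smooth_algebraMap.mpr het)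
  let v := pullback.fst p₂ w
  have sq1 : IsPullback (pullback.fst f' v) (pullback.snd f' v) f' v := .of_hasPullback _ _
  have sq2 : IsPullback v (pullback.snd p₂ w) p₂ w := .of_hasPullback _ _
  have sq3 := sq1.paste_vert sq2
  have hz : f' ≫ p₂ = z := pullback.lift_snd _ _ _
  rw [hz] at sq3
  let ε := sqU.isoIsPullback _ _ sq3
  have hε : ε.hom ≫ pullback.fst f' v = a₁ := sqU.isoIsPullback_hom_fst _ _ sq3
  have hP₁ : P (a₁ ≫ f) := by
    rw [← Spec.map_comp, ← CommRingCat.ofHom_comp]
    exact (HasRingHomProperty.Spec_iff (P := P)).mpr hQ₁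
  have hfπ : f' ≫ π = f := pullback.lift_fst _ _ _
  have hP₂ : P (pullback.snd f' v ≫ (v ≫ π)) := by
    have : a₁ ≫ f = ε.hom ≫ (pullback.snd f' v ≫ (v ≫ π)) := by
      rw [← hε, ← hfπ, Category.assoc, ← Category.assoc (pullback.fst f' v), pullback.condition]
      simp
    rw [this, P.cancel_left_of_respectsIso] at hP₁
    exact hP₁
  have hP₃ : P (pullback.snd f' v) := hcancel _ _ hP₂ inferInstance
  have hsurj : Surjective (pullback.fst f' v) := by
    have : pullback.fst f' v = ε.inv ≫ a₁ := by rw [← hε, Iso.inv_hom_id_assoc]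
    rw [this]
    haveI : Surjective a₁ := ((flat_and_surjective_SpecMap_iff _).mpr hff₁).2
    infer_instance
  have hP₄ : P f' :=
    of_pullback_snd_of_flat_lfp (fun j hj => hLFP j inferInstance) f' v hsurj hP₃
  have hP₅ : P f := by
    rw [← hfπ]
    exact P.comp_mem _ _ hP₄ (hLFP π inferInstance)
  exact (HasRingHomProperty.Spec_iff (P := P)).mp hP₅

set_option backward.isDefEq.respectTransparency.types false in
theorem locallyOfFiniteType_of_comp_smooth_surjective {U X Y : Scheme.{u}} (a : U ⟶ X)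
    (f : X ⟶ Y) [Smooth a] [Surjective a] (h : LocallyOfFiniteType (a ≫ f)) :
    LocallyOfFiniteType f :=
  of_comp_smooth_surjective_of_ringHom (P := @LocallyOfFiniteType)
    (fun g hg => inferInstance)
    (fun φ ψ hψ hff h => ringHom_of_comp_smooth_faithfullyFlat (P := @LocallyOfFiniteType)
      (fun g hg => inferInstance)
      (fun g h' hgh _ => by haveI := hgh; exact locallyOfFiniteType_of_comp g h') φ ψ hψ hff h)
    a f h

set_option backward.isDefEq.respectTransparency.types false in
theorem locallyOfFinitePresentation_of_comp_smooth_surjective {U X Y : Scheme.{u}} (a : U ⟶ X)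
    (f : X ⟶ Y) [Smooth a] [Surjective a] (h : LocallyOfFinitePresentation (a ≫ f)) :
    LocallyOfFinitePresentation f :=
  of_comp_smooth_surjective_of_ringHom (P := @LocallyOfFinitePresentation)
    (fun g hg => inferInstance)
    (fun φ ψ hψ hff h => ringHom_of_comp_smooth_faithfullyFlat (P := @LocallyOfFinitePresentation)
      (fun g hg => hg)
      (fun g h' hgh hh => locallyOfFinitePresentation_of_comp g h' hgh inferInstance)
      φ ψ hψ hff h)
    a f h

end Groth.Agent.Helper2.EtaleLocal
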