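import Mathlib
import Groth.Agent.Lib.Helper2.SmoothDescent

/-!
# Smoothness descends along smooth faithfully flat maps on the source (helper2)
-/

set_option autoImplicit false

namespace Groth.Agent.Helper2.SmoothDescent

open TensorProduct KaehlerDifferential

universe u

section StepA

variable (R S A B : Type u) [CommRing R] [CommRing S] [CommRing A] [CommRing B]
  [Algebra R S] [Algebra R A] [Algebra R B] [Algebra S B] [Algebra A B]
  [IsScalarTower R S B] [IsScalarTower R A B]

/-- For a pushout square, the differentials of the vertical map inject into the differentials of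
the total space. -/
theorem map_comp_mapBaseChange_eq [Algebra.IsPushout R S A B] :
    (KaehlerDifferential.map R S B B) ∘ₗ (KaehlerDifferential.mapBaseChange R A B) =
      (KaehlerDifferential.tensorKaehlerEquiv R S A B).toLinearMap := by
  apply TensorProduct.AlgebraTensorModule.curry_injective
  apply LinearMap.ext
  intro b
  apply LinearMap.ext
  intro x
  simp only [AlgebraTensorModule.curry_apply, LinearMap.restrictScalars_comp, curry_apply,
    LinearMap.coe_comp, LinearMap.coe_restrictScalars, Function.comp_apply,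
    LinearEquiv.coe_coe]
  have hx : x ∈ Submodule.span A (Set.range (KaehlerDifferential.D R A)) := by
    rw [KaehlerDifferential.span_range_derivation]; trivial
  induction hx using Submodule.span_induction generalizing b with
  | mem y hy =>
    obtain ⟨a, rfl⟩ := hy
    rw [KaehlerDifferential.mapBaseChange_tmul, KaehlerDifferential.tensorKaehlerEquiv_tmul_D,
      map_smul, KaehlerDifferential.map_D, KaehlerDifferential.map_D]
    rfl
  | zero => simp
  | add y z _ _ hy hz => rw [tmul_add, map_add, map_add, map_add, hy, hz]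
  | smul a y _ hy =>
    rw [← TensorProduct.smul_tmul]
    exact hy (a • b)

theorem mapBaseChange_injective_of_isPushout [Algebra.IsPushout R S A B] :
    Function.Injective (KaehlerDifferential.mapBaseChange R A B) := by
  have h := map_comp_mapBaseChange_eq R S A B
  intro x y hxy
  apply (KaehlerDifferential.tensorKaehlerEquiv R S A B).injective
  have hx := LinearMap.congr_fun h x
  have hy := LinearMap.congr_fun h y
  simp only [LinearMap.coe_comp, Function.comp_apply, LinearEquiv.coe_coe] at hx hy
  rw [← hx, ← hy, hxy]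

/-- For a pushout square `B = S ⊗[R] A`, the map `H¹(L_{B/R}) ⟶ H¹(L_{B/A})` is surjective. -/
theorem h1Cotangent_map_surjective_of_isPushout [Algebra.IsPushout R S A B] :
    Function.Surjective (Algebra.H1Cotangent.map R A B B) := by
  intro x
  have hδ : Algebra.H1Cotangent.δ R A B x = 0 := by
    apply mapBaseChange_injective_of_isPushout R S A B
    rw [map_zero]
    exact (Algebra.H1Cotangent.exact_δ_mapBaseChange R A B).apply_apply_eq_zero x
  exact ((Algebra.H1Cotangent.exact_map_δ R A B) x).1 hδ

end StepA

section StepC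

variable (R A R' : Type u) [CommRing R] [CommRing A] [CommRing R'] [Algebra R A] [Algebra R R']
  [Module.Flat R R']

attribute [local instance] Algebra.TensorProduct.rightAlgebra

/-- Flat base change for `H¹` of the cotangent complex, in the form of a base change along
`A ⟶ R' ⊗[R] A`. -/
theorem liftBaseChange_h1Cotangent_map_injective :
    Function.Injective
      ((Algebra.H1Cotangent.map R R' A (R' ⊗[R] A)).liftBaseChange (R' ⊗[R] A)) := by
  have key : ∀ x : R' ⊗[R] Algebra.H1Cotangent R A,
      ((Algebra.H1Cotangent.map R R' A (R' ⊗[R] A)).liftBaseChange (R' ⊗[R] A))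
        ((Algebra.IsPushout.cancelBaseChange R R' A (R' ⊗[R] A)
          (Algebra.H1Cotangent R A)).symm x) =
        Algebra.tensorH1CotangentOfFlat R A R' x := by
    intro x
    induction x with
    | zero => simp
    | add x y hx hy => simp only [map_add, hx, hy]
    | tmul s m =>
      rw [Algebra.IsPushout.cancelBaseChange_symm_tmul, LinearMap.liftBaseChange_tmul,
        Algebra.tensorH1CotangentOfFlat_tmul, algebraMap_smul]
  intro x y hxy
  obtain ⟨x, rfl⟩ := (Algebra.IsPushout.cancelBaseChange R R' A (R' ⊗[R] A)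
    (Algebra.H1Cotangent R A)).symm.surjective x
  obtain ⟨y, rfl⟩ := (Algebra.IsPushout.cancelBaseChange R R' A (R' ⊗[R] A)
    (Algebra.H1Cotangent R A)).symm.surjective y
  rw [key, key] at hxy
  rw [(Algebra.tensorH1CotangentOfFlat R A R').injective hxy]

end StepC

section StepD

variable (R A R' T : Type u) [CommRing R] [CommRing A] [CommRing R'] [CommRing T] [Algebra R A]
  [Algebra R R'] [Module.Flat R R']

attribute [local instance] Algebra.TensorProduct.rightAlgebra

/-- If `T` is étale over a flat base change `R' ⊗[R] A` of `A` and `H¹(L_{T/R}) = 0`, then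
`T ⊗[A] H¹(L_{A/R}) = 0`. -/
theorem subsingleton_tensor_h1Cotangent_of_etale_over_baseChange
    [Algebra (R' ⊗[R] A) T] [Algebra.Etale (R' ⊗[R] A) T] [Algebra A T]
    [IsScalarTower A (R' ⊗[R] A) T] [Algebra R T] [IsScalarTower R (R' ⊗[R] A) T]
    [Subsingleton (Algebra.H1Cotangent R T)] :
    Subsingleton (T ⊗[A] Algebra.H1Cotangent R A) := by
  have h1 : Subsingleton (T ⊗[R' ⊗[R] A] Algebra.H1Cotangent R (R' ⊗[R] A)) :=
    subsingleton_tensor_h1Cotangent_of_etale (R := R) (S := R' ⊗[R] A) (T := T)
  haveI : Algebra.IsPushout R A R' (R' ⊗[R] A) := Algebra.IsPushout.symm inferInstance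
  have hσ : Function.Surjective (Algebra.H1Cotangent.map R R' (R' ⊗[R] A) (R' ⊗[R] A)) :=
    h1Cotangent_map_surjective_of_isPushout R A R' (R' ⊗[R] A)
  have h2 : Subsingleton (T ⊗[R' ⊗[R] A] Algebra.H1Cotangent R' (R' ⊗[R] A)) :=
    (LinearMap.lTensor_surjective T hσ).subsingleton
  have hf := liftBaseChange_h1Cotangent_map_injective R A R'
  haveI : Module.Flat (R' ⊗[R] A) T := inferInstance
  have h3 : Subsingleton (T ⊗[R' ⊗[R] A] ((R' ⊗[R] A) ⊗[A] Algebra.H1Cotangent R A)) :=
    (Module.Flat.lTensor_preserves_injective_linearMap (M := T) _ hf).subsingleton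
  exact (TensorProduct.AlgebraTensorModule.cancelBaseChange A (R' ⊗[R] A) T T
    (Algebra.H1Cotangent R A)).symm.toEquiv.subsingleton

end StepD

section StepE

variable (R A T : Type u) [CommRing R] [CommRing A] [CommRing T] [Algebra R A] [Algebra A T]
  [Algebra R T] [IsScalarTower R A T]

attribute [local instance] Algebra.TensorProduct.rightAlgebra

/-- If `T` is étale over a polynomial ring over `A` and `H¹(L_{T/R}) = 0`, then
`T ⊗[A] H¹(L_{A/R}) = 0`. -/
theorem subsingleton_tensor_h1Cotangent_of_etale_mvPolynomial (n : ℕ)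
    (φ : MvPolynomial (Fin n) A →ₐ[A] T) (hφ : φ.toRingHom.Etale)
    [Subsingleton (Algebra.H1Cotangent R T)] :
    Subsingleton (T ⊗[A] Algebra.H1Cotangent R A) := by
  let R' := MvPolynomial (Fin n) R
  let ε₁ : R' ⊗[R] A ≃ₐ[R] A ⊗[R] R' := Algebra.TensorProduct.comm R R' A
  let ε₂ : A ⊗[R] R' ≃ₐ[A] MvPolynomial (Fin n) A := MvPolynomial.algebraTensorAlgEquiv R A
  let ρ : R' ⊗[R] A →+* T :=
    φ.toRingHom.comp (ε₂.toRingEquiv.toRingHom.comp ε₁.toRingEquiv.toRingHom)
  letI : Algebra (R' ⊗[R] A) T := ρ.toAlgebra
  have hρ : ρ.Etale :=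
    RingHom.Etale.stableUnderComposition _ _
      (RingHom.Etale.stableUnderComposition _ _
        (RingHom.Etale.of_bijective ε₁.toRingEquiv.bijective)
        (RingHom.Etale.of_bijective ε₂.toRingEquiv.bijective)) hφ
  haveI : Algebra.Etale (R' ⊗[R] A) T := RingHom.etale_algebraMap.1 hρ
  haveI : IsScalarTower A (R' ⊗[R] A) T := by
    apply IsScalarTower.of_algebraMap_eq
    intro a
    change algebraMap A T a = φ (ε₂ (ε₁ ((1 : R') ⊗ₜ[R] a)))
    have h1 : ε₁ ((1 : R') ⊗ₜ[R] a) = a ⊗ₜ[R] (1 : R') := rfl
    rw [h1]
    have h2 : ε₂ (a ⊗ₜ[R] (1 : R')) = algebraMap A (MvPolynomial (Fin n) A) a := by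
      have := ε₂.commutes a
      rw [← this]
      rfl
    rw [h2, φ.commutes]
  haveI : IsScalarTower R (R' ⊗[R] A) T := by
    refine ⟨fun r x t => ?_⟩
    have hx : (r • x) = ((1 : R') ⊗ₜ[R] (algebraMap R A r)) * x := by
      induction x with
      | zero => simp
      | add x y hx hy => rw [smul_add, mul_add, hx, hy]
      | tmul s a =>
        rw [Algebra.TensorProduct.tmul_mul_tmul, one_mul, ← Algebra.smul_def,
          TensorProduct.tmul_smul]
    have h1 : ((1 : R') ⊗ₜ[R] (algebraMap R A r)) = algebraMap A (R' ⊗[R] A) (algebraMap R A r) :=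
      rfl
    rw [hx, h1]
    calc (algebraMap A (R' ⊗[R] A) (algebraMap R A r) * x) • t
        = algebraMap (R' ⊗[R] A) T (algebraMap A (R' ⊗[R] A) (algebraMap R A r) * x) * t :=
          Algebra.smul_def _ _
      _ = algebraMap (R' ⊗[R] A) T (algebraMap A (R' ⊗[R] A) (algebraMap R A r)) *
            (algebraMap (R' ⊗[R] A) T x * t) := by rw [map_mul, mul_assoc]
      _ = algebraMap A T (algebraMap R A r) * (x • t) := by
          rw [← IsScalarTower.algebraMap_apply A (R' ⊗[R] A) T, ← Algebra.smul_def x t]
      _ = (algebraMap R A r) • (x • t) := (Algebra.smul_def _ _).symm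
      _ = r • x • t := algebraMap_smul A r (x • t)
  exact subsingleton_tensor_h1Cotangent_of_etale_over_baseChange R A R' T

end StepE

section Main

variable (R A B : Type u) [CommRing R] [CommRing A] [CommRing B] [Algebra R A] [Algebra A B]
  [Algebra R B] [IsScalarTower R A B]

/-- Vanishing of `H¹` of the cotangent complex descends along smooth faithfully flat maps on the
source. -/
theorem subsingleton_h1Cotangent_of_smooth_faithfullyFlat [Algebra.Smooth A B]
    [Module.FaithfullyFlat A B] [Subsingleton (Algebra.H1Cotangent R B)] :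
    Subsingleton (Algebra.H1Cotangent R A) := by
  suffices h : Subsingleton (B ⊗[A] Algebra.H1Cotangent R A) from
    Module.FaithfullyFlat.lTensor_reflects_triviality A B _
  obtain ⟨s, hs, hstd⟩ := Algebra.Smooth.exists_span_eq_top_isStandardSmooth A B
  refine subsingleton_of_forall_eq 0 fun m => ?_
  by_contra hm
  let I : Ideal B := LinearMap.ker (LinearMap.toSpanSingleton B (B ⊗[A] Algebra.H1Cotangent R A) m)
  have hI : I ≠ ⊤ := by
    intro h
    have : (1 : B) ∈ I := h ▸ Submodule.mem_top
    exact hm (by simpa [I] using this)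
  obtain ⟨q, hq, hIq⟩ := Ideal.exists_le_maximal I hI
  have hqp : q.IsPrime := hq.isPrime
  have hex : ∃ x ∈ s, x ∉ q := by
    by_contra hcon
    push_neg at hcon
    have h1 : Ideal.span s ≤ q := Ideal.span_le.2 hcon
    rw [hs] at h1
    exact hq.ne_top (top_le_iff.1 h1)
  obtain ⟨x, hxs, hxq⟩ := hex
  haveI : Algebra.IsStandardSmooth A (Localization.Away x) := hstd x hxs
  have h1 : Subsingleton (Algebra.H1Cotangent R (Localization.Away x)) :=
    (Algebra.tensorH1CotangentOfIsLocalization R (Localization.Away x)
      (Submonoid.powers x)).symm.toEquiv.subsingleton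
  obtain ⟨ι, σ, _, _, ⟨P⟩⟩ := (inferInstance : Algebra.IsStandardSmooth A (Localization.Away x)).out
  haveI : Algebra.IsStandardSmoothOfRelativeDimension P.dimension A (Localization.Away x) :=
    ⟨_, _, _, ‹_›, P, rfl⟩
  obtain ⟨φ, hφ⟩ := Algebra.IsStandardSmoothOfRelativeDimension.exists_etale_mvPolynomial
    P.dimension A (Localization.Away x)
  have h2 : Subsingleton (Localization.Away x ⊗[A] Algebra.H1Cotangent R A) :=
    subsingleton_tensor_h1Cotangent_of_etale_mvPolynomial R A (Localization.Away x) P.dimension φ hφ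
  have h3 : Subsingleton (Localization.Away x ⊗[B] (B ⊗[A] Algebra.H1Cotangent R A)) :=
    (TensorProduct.AlgebraTensorModule.cancelBaseChange A B (Localization.Away x)
      (Localization.Away x) (Algebra.H1Cotangent R A)).toEquiv.subsingleton
  have h4 : TensorProduct.mk B (Localization.Away x) (B ⊗[A] Algebra.H1Cotangent R A) 1 m = 0 :=
    Subsingleton.elim _ _
  obtain ⟨⟨_, n, rfl⟩, hc⟩ := (IsLocalizedModule.eq_zero_iff (Submonoid.powers x)
    (TensorProduct.mk B (Localization.Away x) (B ⊗[A] Algebra.H1Cotangent R A) 1)).mp h4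
  have : x ^ n ∈ I := by
    change (LinearMap.toSpanSingleton B _ m) (x ^ n) = 0
    rw [LinearMap.toSpanSingleton_apply]
    exact hc
  exact hxq (hqp.mem_of_pow_mem n (hIq this))

/-- **Smoothness descends along smooth faithfully flat maps on the source.** -/
theorem smooth_of_comp_smooth_faithfullyFlat [Algebra.Smooth A B] [Module.FaithfullyFlat A B]
    [Algebra.Smooth R B] [Algebra.FinitePresentation R A] : Algebra.Smooth R A := by
  refine ⟨?_, inferInstance⟩
  rw [Algebra.formallySmooth_iff]
  constructor
  · have hex := KaehlerDifferential.exact_mapBaseChange_map R A B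
    have hinj : Function.Injective (KaehlerDifferential.mapBaseChange R A B) := by
      rw [injective_iff_map_eq_zero]
      intro z hz
      obtain ⟨w, rfl⟩ := ((Algebra.H1Cotangent.exact_δ_mapBaseChange R A B) z).1 hz
      rw [Subsingleton.elim w 0, map_zero]
    have hsurj : Function.Surjective (KaehlerDifferential.map R A B B) :=
      KaehlerDifferential.map_surjective R A B
    obtain ⟨sec, hsec⟩ := Module.projective_lifting_property (KaehlerDifferential.map R A B B)
      LinearMap.id hsurj
    have h01 : (∃ l, KaehlerDifferential.map R A B B ∘ₗ l = LinearMap.id) ↔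
        (∃ l, l ∘ₗ KaehlerDifferential.mapBaseChange R A B = LinearMap.id) :=
      (hex.split_tfae hinj hsurj).out 0 1
    obtain ⟨l, hl⟩ := h01.1 ⟨sec, hsec⟩
    have hproj : Module.Projective B (B ⊗[A] Ω[A⁄R]) :=
      Module.Projective.of_split (KaehlerDifferential.mapBaseChange R A B) l hl
    have : Module.Flat B (B ⊗[A] Ω[A⁄R]) := inferInstance
    have : Module.Flat A Ω[A⁄R] := Module.Flat.of_flat_tensorProduct _ _ B
    exact Module.Flat.projective_of_finitePresentation
  · exact subsingleton_h1Cotangent_of_smooth_faithfullyFlat R A B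

theorem ringHom_smooth_of_comp_smooth_faithfullyFlat {R A B : Type u} [CommRing R] [CommRing A]
    [CommRing B] (φ : R →+* A) (ψ : A →+* B) (hψ : ψ.Smooth) (hff : ψ.FaithfullyFlat)
    (hfp : φ.FinitePresentation) (h : (ψ.comp φ).Smooth) : φ.Smooth := by
  algebraize [φ, ψ, ψ.comp φ]
  have : Module.FaithfullyFlat A B := hff
  have : Algebra.Smooth R B := h
  have : Algebra.Smooth A B := hψ
  exact smooth_of_comp_smooth_faithfullyFlat R A B

end Main

end Groth.Agent.Helper2.SmoothDescent
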