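import Mathlib
import Groth.Agent.Lib.Helper2.EtaleLocal
import Groth.Agent.Lib.Helper2.EtaleLocalSmooth
import Groth.Agent.Lib.Helper2.SmoothSource
import Groth.Agent.Lib.Helper2.SmoothDescent2

/-! Smoothness is smooth local on the source (helper2). -/

namespace Groth.Agent.Helper2.EtaleLocal
open CategoryTheory CategoryTheory.Limits AlgebraicGeometry MorphismProperty
universe u

set_option backward.isDefEq.respectTransparency.types false in
/-- **Smoothness descends along smooth surjective morphisms on the source.** -/
theorem smooth_of_comp_smooth_surjective {U X Y : Scheme.{u}} (a : U ⟶ X)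
    (f : X ⟶ Y) [Smooth a] [Surjective a] (h : Smooth (a ≫ f)) : Smooth f :=
  of_comp_smooth_surjective_of_ringHom (P := @Smooth)
    (fun g hg => hg)
    (fun φ ψ hψ hff h =>
      SmoothDescent.ringHom_smooth_of_comp_smooth_faithfullyFlat φ ψ hψ hff
        (ringHom_of_comp_smooth_faithfullyFlat (P := @LocallyOfFinitePresentation)
          (fun g hg => hg)
          (fun g h' hgh hh => locallyOfFinitePresentation_of_comp g h' hgh inferInstance)
          φ ψ hψ hff h.finitePresentation) h)
    a f h

end Groth.Agent.Helper2.EtaleLocal
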