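import Mathlib
import Groth.Agent.Lib.Helper1.LocalCrit

/-!
# Flatness over a Noetherian ring via a nilpotent ideal and the associated primes

EGA IV 11.4-style criterion: for `A` Noetherian, `J` nilpotent, `M` is flat as soon as
`M/JM` is flat over `A/J` and `M_p` is flat over `A_p` for the associated primes `p` of `A`.
-/

open TensorProduct

universe u

namespace Groth.Agent.Helper2.AssFlat

/-- Local vanishing of the `Tor₁`-type kernels at `p`. -/
def LocVanish (A : Type u) [CommRing A] (M : Type u) [AddCommGroup M] [Module A M]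
    (p : Ideal A) : Prop :=
  ∀ (N' N : Type u) [AddCommGroup N'] [Module A N'] [AddCommGroup N] [Module A N]
    (ι : N' →ₗ[A] N), Function.Injective ι → ∀ x : N' ⊗[A] M, ι.rTensor M x = 0 →
      ∃ s : A, s ∉ p ∧ s • x = 0

section

variable {A : Type u} [CommRing A] (M : Type u) [AddCommGroup M] [Module A M]

theorem locVanish_of_flat (p : Ideal A) [p.IsPrime]
    [Module.Flat (Localization.AtPrime p) (LocalizedModule p.primeCompl M)] :
    LocVanish A M p := by
  intro N' N _ _ _ _ ι hι x hx
  have hfl : Module.Flat A (LocalizedModule p.primeCompl M) :=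
    Module.Flat.trans A (Localization.AtPrime p) _
  set g := LocalizedModule.mkLinearMap p.primeCompl M with hg
  have hinj := Module.Flat.rTensor_preserves_injective_linearMap
    (M := LocalizedModule p.primeCompl M) ι hι
  have h1 : (g.lTensor N') x = 0 := by
    apply hinj
    rw [map_zero, ← LinearMap.comp_apply, LinearMap.rTensor_comp_lTensor,
      ← LinearMap.lTensor_comp_rTensor, LinearMap.comp_apply, hx, map_zero]
  have h2 : (AlgebraTensorModule.rTensor A N' g) (TensorProduct.comm A N' M x) = 0 := by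
    have : ∀ y : N' ⊗[A] M, (AlgebraTensorModule.rTensor A N' g) (TensorProduct.comm A N' M y) =
        TensorProduct.comm A N' _ ((g.lTensor N') y) := by
      intro y
      induction y using TensorProduct.induction_on with
      | zero => simp
      | tmul a b => simp
      | add a b ha hb => simp only [map_add, ha, hb]
    rw [this, h1, map_zero]
  obtain ⟨s, hs⟩ := (IsLocalizedModule.eq_zero_iff p.primeCompl
    (AlgebraTensorModule.rTensor A N' g)).1 h2
  refine ⟨s.1, s.2, ?_⟩
  apply (TensorProduct.comm A N' M).injective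
  rw [map_smul, map_zero]
  exact hs

variable (J : Ideal A) [Module.Flat (A ⧸ J) ((A ⧸ J) ⊗[A] M)]

theorem smul_injective_tensor (Q : Type u) [AddCommGroup Q] [Module A Q]
    (hQ : ∀ j ∈ J, ∀ y : Q, j • y = 0) (s : A) (hs : ∀ y : Q, s • y = 0 → y = 0)
    (z : Q ⊗[A] M) (hz : s • z = 0) : z = 0 := by
  have hQ' : Module.IsTorsionBySet A Q J := fun y a => hQ a a.2 y
  letI := hQ'.module
  haveI : IsScalarTower A (A ⧸ J) Q := hQ'.isScalarTower
  let f : Q →ₗ[A ⧸ J] Q := LinearMap.lsmul (A ⧸ J) Q (Ideal.Quotient.mk J s)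
  have hfa : ∀ y, f y = s • y := fun y => rfl
  have hf : Function.Injective f := by
    rw [injective_iff_map_eq_zero]
    intro y hy
    exact hs y (by rw [← hfa, hy])
  have h1 := Module.Flat.rTensor_preserves_injective_linearMap (M := (A ⧸ J) ⊗[A] M) f hf
  rw [Groth.Agent.Helper1.LocalCrit.rTensor_baseChange_injective_iff] at h1
  have h2 : ∀ w : Q ⊗[A] M, (f.restrictScalars A).rTensor M w = s • w := by
    intro w
    induction w using TensorProduct.induction_on with
    | zero => simp
    | tmul a b =>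
      rw [LinearMap.rTensor_tmul, LinearMap.restrictScalars_apply, hfa, TensorProduct.smul_tmul']
    | add a b ha hb => rw [map_add, ha, hb, smul_add]
  apply h1
  rw [h2, map_zero, hz]

variable [IsNoetherianRing A]

theorem rTensor_injective_of_ass
    (hloc : ∀ p ∈ associatedPrimes A A, LocVanish A M p)
    (N' N : Type u) [AddCommGroup N'] [Module A N'] [AddCommGroup N] [Module A N]
    [Module.Finite A N'] (hJ : ∀ j ∈ J, ∀ y : N', j • y = 0)
    (hAss : associatedPrimes A N' ⊆ associatedPrimes A A)
    (ι : N' →ₗ[A] N) (hι : Function.Injective ι) : Function.Injective (ι.rTensor M) := by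
  rw [injective_iff_map_eq_zero]
  intro x hx
  let 𝔟 : Ideal A := LinearMap.ker (LinearMap.toSpanSingleton A (N' ⊗[A] M) x)
  have h𝔟 : ∀ a, a ∈ 𝔟 ↔ a • x = 0 := fun a => by
    simp only [𝔟, LinearMap.mem_ker, LinearMap.toSpanSingleton_apply]
  have h1 : ¬ ((𝔟 : Set A) ⊆ ⋃ p ∈ associatedPrimes A N', ((id p : Ideal A) : Set A)) := by
    rw [Ideal.subset_union_prime_finite (associatedPrimes.finite A N') (f := id) 0 0
      (fun p hp _ _ => hp.1)]
    rintro ⟨p, hp, hle⟩
    obtain ⟨s, hsp, hs⟩ := hloc p (hAss hp) N' N ι hι x hx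
    exact hsp (hle ((h𝔟 s).2 hs))
  obtain ⟨s, hs𝔟, hsn⟩ := Set.not_subset.1 h1
  have hs : ∀ y : N', s • y = 0 → y = 0 := by
    intro y hy
    by_contra hne
    apply hsn
    show s ∈ ⋃ p ∈ associatedPrimes A N', (p : Set A)
    rw [biUnion_associatedPrimes_eq_zero_divisors A N']
    exact ⟨y, hne, hy⟩
  exact smul_injective_tensor M J N' hJ s hs x ((h𝔟 s).1 hs𝔟)

omit [Module.Flat (A ⧸ J) ((A ⧸ J) ⊗[A] M)] in
theorem ass_quotient_annihilator (𝔟 : Ideal A) :
    associatedPrimes A (A ⧸ Submodule.annihilator 𝔟) ⊆ associatedPrimes A A := by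
  intro p hp
  rw [AssociatedPrimes.mem_iff, isAssociatedPrime_iff] at hp ⊢
  obtain ⟨hprime, y, hy⟩ := hp
  obtain ⟨a, rfl⟩ := Submodule.Quotient.mk_surjective _ y
  obtain ⟨s, hs⟩ : 𝔟.FG := IsNoetherian.noetherian 𝔟
  have hmem : ∀ x, x ∈ p ↔ ∀ g ∈ s, x * (a * g) = 0 := by
    intro x
    rw [hy, Submodule.mem_colon_singleton, Submodule.mem_bot, ← Submodule.Quotient.mk_smul,
      Submodule.Quotient.mk_eq_zero, Submodule.mem_annihilator]
    constructor
    · intro h g hg
      have := h g (by rw [← hs]; exact Submodule.subset_span hg)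
      rw [smul_eq_mul, smul_eq_mul] at this
      rw [← mul_assoc]; exact this
    · intro h g hg
      rw [← hs] at hg
      refine Submodule.span_induction (p := fun g _ => (x • a) • g = 0) ?_ ?_ ?_ ?_ hg
      · intro g hg
        rw [smul_eq_mul, smul_eq_mul, mul_assoc]; exact h g hg
      · simp
      · intro u v _ _ hu hv; rw [smul_add, hu, hv, add_zero]
      · intro c u _ hu; rw [smul_comm, hu, smul_zero]
  have hle : s.inf (fun g => (⊥ : Submodule A A).colon {a * g}) ≤ p := by
    intro x hx
    rw [hmem]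
    intro g hg
    have := (Finset.inf_le hg : s.inf (fun g => (⊥ : Submodule A A).colon {a * g}) ≤ _) hx
    rw [Submodule.mem_colon_singleton, Submodule.mem_bot, smul_eq_mul] at this
    exact this
  rw [Ideal.IsPrime.inf_le' hprime] at hle
  obtain ⟨g, hg, hgp⟩ := hle
  refine ⟨hprime, a * g, le_antisymm ?_ hgp⟩
  intro x hx
  rw [Submodule.mem_colon_singleton, Submodule.mem_bot, smul_eq_mul]
  exact (hmem x).1 hx g hg

end

section Main

variable {A : Type u} [CommRing A] (M : Type u) [AddCommGroup M] [Module A M]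
variable (J : Ideal A) [Module.Flat (A ⧸ J) ((A ⧸ J) ⊗[A] M)] [IsNoetherianRing A]

/-- The filtration `J ∩ Ann(J^k)` of `J`. -/
def fil (k : ℕ) : Ideal A := J ⊓ Submodule.annihilator (J ^ k)

omit [IsNoetherianRing A] in
theorem fil_mono (k : ℕ) : fil J k ≤ fil J (k + 1) :=
  inf_le_inf_left _ (Submodule.annihilator_mono (Ideal.pow_le_pow_right (Nat.le_succ k)))

theorem step (hloc : ∀ p ∈ associatedPrimes A A, LocVanish A M p) (k : ℕ)
    (ih : Function.Injective ((fil J k).subtype.rTensor M)) :
    Function.Injective ((fil J (k + 1)).subtype.rTensor M) := by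
  have hle := fil_mono J k
  set I_k : Ideal A := Submodule.annihilator (J ^ k) with hIk
  let K : Submodule A (fil J (k + 1)) := Submodule.comap (fil J (k + 1)).subtype (fil J k)
  let π : fil J (k + 1) →ₗ[A] (↥(fil J (k + 1))) ⧸ K := K.mkQ
  let i : fil J k →ₗ[A] fil J (k + 1) := Submodule.inclusion hle
  have hex : Function.Exact i π := by
    intro y
    constructor
    · intro hy
      have : y ∈ K := (Submodule.Quotient.mk_eq_zero K).1 hy
      exact ⟨⟨y.1, Submodule.mem_comap.1 this⟩, Subtype.ext rfl⟩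
    · rintro ⟨z, rfl⟩
      exact (Submodule.Quotient.mk_eq_zero K).2 (Submodule.mem_comap.2 z.2)
  have hK : K ≤ LinearMap.ker (I_k.mkQ ∘ₗ (fil J (k + 1)).subtype) := by
    intro y hy
    rw [LinearMap.mem_ker, LinearMap.comp_apply, Submodule.mkQ_apply, Submodule.Quotient.mk_eq_zero]
    exact (Submodule.mem_comap.1 hy).2
  let ι : ((↥(fil J (k + 1))) ⧸ K) →ₗ[A] A ⧸ I_k := K.liftQ (I_k.mkQ ∘ₗ (fil J (k + 1)).subtype) hK
  have hι : Function.Injective ι := by
    rw [← LinearMap.ker_eq_bot]
    apply Submodule.ker_liftQ_eq_bot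
    intro y hy
    rw [LinearMap.mem_ker, LinearMap.comp_apply, Submodule.mkQ_apply,
      Submodule.Quotient.mk_eq_zero] at hy
    exact Submodule.mem_comap.2 ⟨y.2.1, hy⟩
  have hJQ : ∀ j ∈ J, ∀ y : (↥(fil J (k + 1))) ⧸ K, j • y = 0 := by
    intro j hj y
    obtain ⟨z, rfl⟩ := Submodule.Quotient.mk_surjective K y
    rw [← Submodule.Quotient.mk_smul, Submodule.Quotient.mk_eq_zero]
    refine Submodule.mem_comap.2 ⟨J.mul_mem_left _ z.2.1, ?_⟩
    show j • (z : A) ∈ Submodule.annihilator (J ^ k)
    rw [Submodule.mem_annihilator]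
    intro b hb
    have hz : (z : A) ∈ Submodule.annihilator (J ^ (k + 1)) := z.2.2
    have : j * b ∈ J ^ (k + 1) := by
      rw [pow_succ']
      exact Ideal.mul_mem_mul hj hb
    have h0 := Submodule.mem_annihilator.1 hz _ this
    rw [smul_eq_mul] at h0 ⊢
    rw [smul_eq_mul]
    calc j * (z : A) * b = (z : A) * (j * b) := by ring
      _ = 0 := h0
  have hAss : associatedPrimes A ((↥(fil J (k + 1))) ⧸ K) ⊆ associatedPrimes A A :=
    (associatedPrimes.subset_of_injective hι).trans (ass_quotient_annihilator (J ^ k))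
  have hG := rTensor_injective_of_ass M J hloc ((↥(fil J (k + 1))) ⧸ K) (A ⧸ I_k) hJQ hAss ι hι
  rw [injective_iff_map_eq_zero]
  intro x hx
  have h1 : π.rTensor M x = 0 := by
    apply hG
    have hcomp : ι ∘ₗ π = I_k.mkQ ∘ₗ (fil J (k + 1)).subtype := by
      ext y; rfl
    rw [map_zero, ← LinearMap.comp_apply, ← LinearMap.rTensor_comp, hcomp, LinearMap.rTensor_comp,
      LinearMap.comp_apply, hx, map_zero]
  obtain ⟨x', rfl⟩ := (rTensor_exact M hex (Submodule.mkQ_surjective K) x).1 h1
  have h2 : (fil J k).subtype.rTensor M x' = 0 := by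
    have hcomp : (fil J k).subtype = (fil J (k + 1)).subtype ∘ₗ i := by
      ext y; rfl
    rw [hcomp, LinearMap.rTensor_comp, LinearMap.comp_apply, hx]
  rw [ih (by rw [h2, map_zero] : (fil J k).subtype.rTensor M x' = (fil J k).subtype.rTensor M 0),
    map_zero]

theorem flat_of_ass (n : ℕ) (hn : J ^ n = ⊥)
    (hloc : ∀ p ∈ associatedPrimes A A, LocVanish A M p) : Module.Flat A M := by
  have hall : ∀ k, Function.Injective ((fil J k).subtype.rTensor M) := by
    intro k
    induction k with
    | zero =>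
      have : Subsingleton (fil J 0) := by
        refine ⟨fun a b => Subtype.ext ?_⟩
        have h0 : ∀ c : fil J 0, (c : A) = 0 := by
          intro c
          have h1 : (c : A) ∈ Submodule.annihilator (J ^ 0) := c.2.2
          have h2 := Submodule.mem_annihilator.1 h1 1 (by simp)
          simpa using h2
        rw [h0 a, h0 b]
      exact Function.injective_of_subsingleton _
    | succ k ih => exact step M J hloc k ih
  have hJ : fil J n = J := by
    rw [fil, hn, Submodule.annihilator_bot, inf_top_eq]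
  have h1 : Function.Injective (J.subtype.rTensor M) := by
    have := hall n
    rwa [hJ] at this
  rw [Module.Flat.iff_rTensor_injective']
  intro 𝔞
  exact Groth.Agent.Helper1.LocalCrit.rTensor_subtype_injective_of_pow_smul_le M J (A ⧸ J)
    Ideal.Quotient.mk_surjective Ideal.mk_ker h1 n 𝔞 (by rw [hn]; simp)

end Main

end Groth.Agent.Helper2.AssFlat
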