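import Mathlib
import Groth.Prelude.Def_ega3
import Groth.Agent.Lib.Helper1.FlatCxL

/-!
Base change of the rank function `dRank`.
-/

universe u

open CategoryTheory Limits

namespace Groth.Agent.Helper2.BcRank

variable {ι : Type} {c : ComplexShape ι}

section
variable {A B C : Type u} [CommRing A] [CommRing B] [CommRing C]

/-- equal ring maps give isomorphic base changes -/
noncomputable def bcCxCongr {φ ψ : A →+* B} (h : φ = ψ)
    (P : HomologicalComplex (ModuleCat.{u} A) c) : CohIII.bcCx φ P ≅ CohIII.bcCx ψ P :=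
  eqToIso (by rw [h])

/-- base change in two steps -/
noncomputable def bcCxComp (φ : A →+* B) (ψ : B →+* C)
    (P : HomologicalComplex (ModuleCat.{u} A) c) :
    CohIII.bcCx ψ (CohIII.bcCx φ P) ≅ CohIII.bcCx (ψ.comp φ) P :=
  (Functor.mapHomologicalComplexCompIso (ModuleCat.extendScalarsComp φ ψ).symm c).app P

/-- homology commutes with flat base change -/
noncomputable def homologyBcIso (ψ : B →+* C) (hψ : ψ.Flat)
    (Q : HomologicalComplex (ModuleCat.{u} B) c) (p : ι) :
    (CohIII.bcCx ψ Q).homology p ≅ (ModuleCat.extendScalars ψ).obj (Q.homology p) := by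
  haveI : PreservesFiniteLimits (ModuleCat.extendScalars.{u, u, u} ψ) :=
    ModuleCat.preservesFiniteLimits_extendScalars_of_flat hψ
  haveI : PreservesFiniteColimits (ModuleCat.extendScalars.{u, u, u} ψ) := by
    haveI := (ModuleCat.extendRestrictScalarsAdj.{u, u, u} ψ).leftAdjoint_preservesColimits
    infer_instance
  exact (Q.sc p).mapHomologyIso (ModuleCat.extendScalars.{u, u, u} ψ)

end

section Field
variable {κ κ' : Type u} [Field κ] [Field κ']

theorem finrank_extendScalars_field (ψ : κ →+* κ') (V : ModuleCat.{u} κ) :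
    Module.finrank κ' ((ModuleCat.extendScalars ψ).obj V) = Module.finrank κ V := by
  letI := ψ.toAlgebra
  have h1 := (Groth.Agent.Helper1.FlatCxL.theta (A := κ) (κ := κ') V).finrank_eq
  have h2 : Module.finrank κ' (TensorProduct κ κ' V) = Module.finrank κ V :=
    Module.finrank_baseChange
  exact h1.trans h2

theorem flat_of_field (ψ : κ →+* κ') : ψ.Flat := by
  letI := ψ.toAlgebra
  exact (inferInstance : Module.Flat κ κ')

end Field

section Main
variable {A A' : Type u} [CommRing A] [CommRing A'] [Algebra A A']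

theorem dRank_bcCx (P : HomologicalComplex (ModuleCat.{u} A) c) (p : ι)
    (x' : PrimeSpectrum A') :
    CohIII.dRank (CohIII.bcCx (algebraMap A A') P) p x' =
      CohIII.dRank P p (PrimeSpectrum.comap (algebraMap A A') x') := by
  let φ := algebraMap A A'
  let x := PrimeSpectrum.comap φ x'
  let ψ : x.asIdeal.ResidueField →+* x'.asIdeal.ResidueField :=
    Ideal.ResidueField.map x.asIdeal x'.asIdeal φ rfl
  have hcomm : (algebraMap A' x'.asIdeal.ResidueField).comp φ =
      ψ.comp (algebraMap A x.asIdeal.ResidueField) := by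
    ext r
    simp [ψ]
  let Q := CohIII.bcCx (algebraMap A x.asIdeal.ResidueField) P
  let e : CohIII.bcCx (algebraMap A' x'.asIdeal.ResidueField) (CohIII.bcCx φ P) ≅
      CohIII.bcCx ψ Q :=
    bcCxComp φ (algebraMap A' x'.asIdeal.ResidueField) P ≪≫ bcCxCongr hcomm P ≪≫
      (bcCxComp (algebraMap A x.asIdeal.ResidueField) ψ P).symm
  let e' := (HomologicalComplex.homologyFunctor _ c p).mapIso e ≪≫
    homologyBcIso ψ (flat_of_field ψ) Q p
  unfold CohIII.dRank
  rw [← finrank_extendScalars_field ψ]
  exact e'.toLinearEquiv.finrank_eq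

end Main

end Groth.Agent.Helper2.BcRank
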