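import Mathlib
import Groth.Prelude.Def_W4bk4boschfrg79
import Groth.Agent.Lib.Helper2.AdicUniv
set_option autoImplicit false
universe u

namespace Groth.Agent.Helper2.BlowupChart

open AdicRing AdicCompletion

variable {R : Type u} [CommRing R] (I : Ideal R) {A : Type u} [CommRing A] [Algebra R A]
  {ι : Type} (f : ι → A) (i : ι) {B : Type u} [CommRing B] [Algebra R B]

/-- the homomorphism from the (uncompleted) chart algebra determined by the `b j`. -/
theorem exists_chartAlg_hom (φ : A →ₐ[R] B) (b : {j : ι // j ≠ i} → B)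
    (hb : ∀ j : {j : ι // j ≠ i}, φ (f i) * b j = φ (f j.1)) :
    ∃ g : chartAlg f i →ₐ[R] B,
      (∀ a : A, g (algebraMap A (chartAlg f i) a) = φ a) ∧
      (∀ j, g (Ideal.Quotient.mk _ (MvPolynomial.X j)) = b j) := by
  let g₀ : MvPolynomial {j : ι // j ≠ i} A →ₐ[R] B := MvPolynomial.aevalTower φ b
  have hker : ∀ p ∈ Ideal.span (Set.range fun j : {j : ι // j ≠ i} =>
      MvPolynomial.C (f i) * MvPolynomial.X j - MvPolynomial.C (f j.1)), g₀ p = 0 := by
    intro p hp
    have hle : Ideal.span (Set.range fun j : {j : ι // j ≠ i} =>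
      MvPolynomial.C (f i) * MvPolynomial.X j - MvPolynomial.C (f j.1)) ≤
        RingHom.ker g₀.toRingHom := by
      rw [Ideal.span_le]
      rintro _ ⟨j, rfl⟩
      change g₀ _ = 0
      rw [map_sub, map_mul]
      simp only [g₀, MvPolynomial.aevalTower_C, MvPolynomial.aevalTower_X]
      rw [hb j, sub_self]
    exact hle hp
  refine ⟨Ideal.Quotient.liftₐ _ g₀ hker, ?_, ?_⟩
  · intro a
    change Ideal.Quotient.liftₐ _ g₀ hker (Ideal.Quotient.mk _ (MvPolynomial.C a)) = φ a
    rw [Ideal.Quotient.liftₐ_apply, Ideal.Quotient.lift_mk]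
    simp [g₀]
  · intro j
    rw [Ideal.Quotient.liftₐ_apply, Ideal.Quotient.lift_mk]
    simp [g₀]

/-- ring homomorphisms from the chart algebra are determined by their values on `A` and on the
variables. -/
theorem chartAlg_hom_ext (g g' : chartAlg f i →+* B)
    (hA : ∀ a : A, g (algebraMap A (chartAlg f i) a) = g' (algebraMap A (chartAlg f i) a))
    (hX : ∀ j, g (Ideal.Quotient.mk _ (MvPolynomial.X j)) =
      g' (Ideal.Quotient.mk _ (MvPolynomial.X j))) : g = g' := by
  apply Ideal.Quotient.ringHom_ext
  apply MvPolynomial.ringHom_ext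
  · intro a
    exact hA a
  · intro j
    exact hX j

/-- the map from `A` to the completed chart -/
theorem algebraMap_chartCompl (a : A) :
    algebraMap A (chartCompl I f i) a =
      of (I.map (algebraMap R (chartAlg f i))) (chartAlg f i) (algebraMap A (chartAlg f i) a) :=
  rfl

theorem map_map_algebraMap_chartCompl :
    ((I.map (algebraMap R (chartAlg f i))).map
      (algebraMap (chartAlg f i) (chartCompl I f i))) =
      I.map (algebraMap R (chartCompl I f i)) := by
  rw [Ideal.map_map, ← IsScalarTower.algebraMap_eq]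

/-- **Universal property of the admissible chart**. -/
theorem existsUnique_lift (hI : I.FG) [IsAdicComplete (I.map (algebraMap R B)) B]
    (φ : A →ₐ[R] B) (hnzd : φ (f i) ∈ nonZeroDivisors B)
    (hgen : (Ideal.span (Set.range f)).map φ = Ideal.span {φ (f i)}) :
    ∃! ψ : chartAdm I f i →ₐ[R] B,
      ψ.comp (IsScalarTower.toAlgHom R A (chartAdm I f i)) = φ := by
  classical
  -- the elements `b j`
  have hb : ∀ j : {j : ι // j ≠ i}, ∃ b : B, φ (f i) * b = φ (f j.1) := by
    intro j
    have h1 : φ (f j.1) ∈ (Ideal.span (Set.range f)).map φ :=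
      Ideal.mem_map_of_mem φ (Ideal.subset_span ⟨j.1, rfl⟩)
    rw [hgen, Ideal.mem_span_singleton'] at h1
    obtain ⟨b, hb⟩ := h1
    exact ⟨b, by rw [mul_comm]; exact hb⟩
  choose b hb using hb
  obtain ⟨g, hgA, hgX⟩ := exists_chartAlg_hom f i φ b hb
  set J : Ideal (chartAlg f i) := I.map (algebraMap R (chartAlg f i)) with hJdef
  set JB : Ideal B := I.map (algebraMap R B) with hJBdef
  have hJfg : J.FG := hI.map _
  have hgJ : J.map g ≤ JB := by
    rw [hJdef, hJBdef]
    change Ideal.map (g : chartAlg f i →+* B) _ ≤ _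
    rw [Ideal.map_map]
    have : (g : chartAlg f i →+* B).comp (algebraMap R (chartAlg f i)) = algebraMap R B :=
      g.comp_algebraMap
    rw [this]
  obtain ⟨χ, hχ⟩ := AdicUniv.exists_lift J JB g hgJ
  -- continuity of R-algebra maps out of the completion
  have hcont : ∀ ξ : chartCompl I f i →ₐ[R] B,
      ((J.map (algebraMap (chartAlg f i) (chartCompl I f i))).map (ξ : chartCompl I f i →+* B))
        ≤ JB := by
    intro ξ
    rw [hJdef, map_map_algebraMap_chartCompl, Ideal.map_map]
    have : (ξ : chartCompl I f i →+* B).comp (algebraMap R (chartCompl I f i)) =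
        algebraMap R B := ξ.comp_algebraMap
    rw [this]
  -- `χ` kills the torsion
  have hχA : ∀ a : A, χ (algebraMap A (chartCompl I f i) a) = φ a := by
    intro a
    rw [algebraMap_chartCompl, hχ, hgA]
  have hkill : ∀ x ∈ (⨆ n : ℕ, Submodule.torsionBy (chartCompl I f i) (chartCompl I f i)
      (algebraMap A (chartCompl I f i) (f i) ^ n) : Ideal (chartCompl I f i)), χ x = 0 := by
    intro x hx
    have hle : (⨆ n : ℕ, Submodule.torsionBy (chartCompl I f i) (chartCompl I f i)
      (algebraMap A (chartCompl I f i) (f i) ^ n) : Ideal (chartCompl I f i)) ≤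
        RingHom.ker (χ : chartCompl I f i →+* B) := by
      apply iSup_le
      intro n y hy
      rw [Submodule.mem_torsionBy_iff, smul_eq_mul] at hy
      rw [RingHom.mem_ker]
      have h1 : χ (algebraMap A (chartCompl I f i) (f i) ^ n * y) = 0 := by
        rw [hy, _root_.map_zero]
      rw [map_mul, map_pow, hχA] at h1
      have h2 : φ (f i) ^ n ∈ nonZeroDivisors B := pow_mem hnzd n
      rw [mul_comm] at h1
      exact (mul_right_mem_nonZeroDivisors_eq_zero_iff h2).mp h1
    exact hle hx
  let ψ : chartAdm I f i →ₐ[R] B := Ideal.Quotient.liftₐ _ χ hkill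
  have hψmk : ∀ x : chartCompl I f i, ψ (Ideal.Quotient.mk _ x) = χ x := by
    intro x
    rw [Ideal.Quotient.liftₐ_apply, Ideal.Quotient.lift_mk]
    rfl
  refine ⟨ψ, ?_, ?_⟩
  · ext a
    change ψ (Ideal.Quotient.mk _ (algebraMap A (chartCompl I f i) a)) = φ a
    rw [hψmk, hχA]
  · intro ψ' hψ'
    -- the composite with the quotient map
    let χ' : chartCompl I f i →ₐ[R] B := ψ'.comp (Ideal.Quotient.mkₐ R _)
    have hχ'A : ∀ a : A, χ' (algebraMap A (chartCompl I f i) a) = φ a := by
      intro a
      have := congrArg (fun h : A →ₐ[R] B => h a) hψ'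
      exact this
    -- `χ'` and `χ` agree on the chart algebra
    have hagree : ∀ c : chartAlg f i, (χ' : chartCompl I f i →+* B) (of J (chartAlg f i) c) =
        (χ : chartCompl I f i →+* B) (of J (chartAlg f i) c) := by
      have hcomp : ((χ' : chartCompl I f i →+* B).comp
          (algebraMap (chartAlg f i) (chartCompl I f i))) =
          ((χ : chartCompl I f i →+* B).comp (algebraMap (chartAlg f i) (chartCompl I f i))) := by
        apply chartAlg_hom_ext
        · intro a
          change χ' (of J (chartAlg f i) (algebraMap A (chartAlg f i) a)) =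
            χ (of J (chartAlg f i) (algebraMap A (chartAlg f i) a))
          rw [← algebraMap_chartCompl, hχ'A, hχA]
        · intro j
          change χ' (of J (chartAlg f i) (Ideal.Quotient.mk _ (MvPolynomial.X j))) =
            χ (of J (chartAlg f i) (Ideal.Quotient.mk _ (MvPolynomial.X j)))
          rw [hχ, hgX]
          -- φ (f i) * χ' (X j) = φ (f j)
          have hrel : (algebraMap A (chartAlg f i) (f i)) *
              (Ideal.Quotient.mk _ (MvPolynomial.X j)) = algebraMap A (chartAlg f i) (f j.1) := by
            change Ideal.Quotient.mk _ (MvPolynomial.C (f i)) *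
              (Ideal.Quotient.mk _ (MvPolynomial.X j)) = Ideal.Quotient.mk _ (MvPolynomial.C (f j.1))
            rw [← map_mul, Ideal.Quotient.eq]
            exact Ideal.subset_span ⟨j, rfl⟩
          have h1 : χ' (of J (chartAlg f i) ((algebraMap A (chartAlg f i) (f i)) *
              (Ideal.Quotient.mk _ (MvPolynomial.X j)))) = φ (f j.1) := by
            rw [hrel, ← algebraMap_chartCompl, hχ'A]
          have h2 : of J (chartAlg f i) ((algebraMap A (chartAlg f i) (f i)) *
              (Ideal.Quotient.mk _ (MvPolynomial.X j))) =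
              algebraMap A (chartCompl I f i) (f i) *
                of J (chartAlg f i) (Ideal.Quotient.mk _ (MvPolynomial.X j)) := by
            rw [algebraMap_chartCompl]
            exact map_mul (algebraMap (chartAlg f i) (chartCompl I f i)) _ _
          rw [h2, map_mul, hχ'A, ← hb j] at h1
          have h3 : (χ' (of J (chartAlg f i) (Ideal.Quotient.mk _ (MvPolynomial.X j))) - b j) *
              φ (f i) = 0 := by
            rw [sub_mul, mul_comm _ (φ (f i)), mul_comm _ (φ (f i)), h1, sub_self]
          exact sub_eq_zero.mp ((mul_right_mem_nonZeroDivisors_eq_zero_iff hnzd).mp h3)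
      intro c
      exact congrArg (fun h : chartAlg f i →+* B => h c) hcomp
    have hχeq : (χ' : chartCompl I f i →+* B) = (χ : chartCompl I f i →+* B) :=
      AdicUniv.lift_unique J hJfg JB _ _ (hcont χ') (hcont χ) hagree
    apply AlgHom.ext
    intro y
    obtain ⟨x, rfl⟩ := Ideal.Quotient.mk_surjective y
    rw [hψmk]
    exact congrArg (fun h : chartCompl I f i →+* B => h x) hχeq

end Groth.Agent.Helper2.BlowupChart
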