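import Mathlib

/-!
Translation invariance of the Cartier-Manin matrix.
-/

universe u

open Finset Polynomial

namespace Groth.Agent.Helper2.CartierManin

variable (k : Type u) [Field k] (p : ℕ) [Fact p.Prime] [CharP k p]

theorem lucas_cast (I i r s : ℕ) (hr : r < p) (hs : s < p) :
    ((Nat.choose (I * p + r) (i * p + s) : ℕ) : k) =
      (Nat.choose I i : k) * (Nat.choose r s : k) := by
  have h := Choose.choose_modEq_choose_mod_mul_choose_div_nat (n := I * p + r) (k := i * p + s)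
    (p := p)
  have hp : 0 < p := (Fact.out : p.Prime).pos
  have e1 : (I * p + r) % p = r := by
    rw [Nat.add_comm, Nat.add_mul_mod_self_right, Nat.mod_eq_of_lt hr]
  have e2 : (i * p + s) % p = s := by
    rw [Nat.add_comm, Nat.add_mul_mod_self_right, Nat.mod_eq_of_lt hs]
  have e3 : (I * p + r) / p = I := by
    rw [Nat.add_comm, Nat.add_mul_div_right _ _ hp, Nat.div_eq_of_lt hr, zero_add]
  have e4 : (i * p + s) / p = i := by
    rw [Nat.add_comm, Nat.add_mul_div_right _ _ hp, Nat.div_eq_of_lt hs, zero_add]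
  rw [e1, e2, e3, e4] at h
  rw [CharP.natCast_eq_natCast' k p h, Nat.cast_mul, mul_comm]

theorem sum_range_mul (t : ℕ → k) (n : ℕ) :
    ∑ l ∈ range (n * p), t l = ∑ I ∈ range n, ∑ r ∈ range p, t (I * p + r) := by
  induction n with
  | zero => simp
  | succ n ih =>
    rw [Nat.succ_mul, Finset.sum_range_add, ih, Finset.sum_range_succ]

variable {k}

theorem coeff_taylor (F : k[X]) (α : k) (m B : ℕ) (hB : F.natDegree < B) :
    (F.comp (X + C α)).coeff m =
      ∑ l ∈ range B, F.coeff l * ((Nat.choose l m : ℕ) : k) * α ^ (l - m) := by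
  rw [← taylor_apply, taylor_coeff, hasseDeriv_apply, Polynomial.sum, eval_finset_sum]
  simp only [eval_monomial]
  have h := Polynomial.sum_over_range' F (f := fun l c => ((Nat.choose l m : ℕ) : k) * c * α ^ (l - m))
    (by intro n; simp) B hB
  rw [Polynomial.sum] at h
  rw [h]
  refine Finset.sum_congr rfl fun l _ => ?_
  ring

section Main
variable {k : Type u} [Field k] (p : ℕ) [Fact p.Prime] [CharP k p]

theorem entry_eq (hp2 : p ≠ 2) (g : ℕ) (hg : g ≤ p) (f : k[X]) (hf : f.natDegree ≤ 2 * g + 2)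
    (α : k) (i j : ℕ) (_hi : i < g) (hj : j < g) :
    ((f.comp (X + C α)) ^ ((p - 1) / 2)).coeff ((i + 1) * p - (j + 1)) =
      ∑ J ∈ range g, (∑ I ∈ range g, (((Nat.choose I i : ℕ) : k) * α ^ ((I - i) * p)) *
        (f ^ ((p - 1) / 2)).coeff ((I + 1) * p - (J + 1))) *
        (((Nat.choose (p - (J + 1)) (p - (j + 1)) : ℕ) : k) * α ^ (j - J)) := by
  have hpp : p.Prime := Fact.out
  have hpodd : (p - 1) / 2 * 2 = p - 1 := by
    rcases hpp.eq_two_or_odd with h | h
    · exact absurd h hp2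
    · omega
  have hp0 : 0 < p := hpp.pos
  have hdeg : (f ^ ((p - 1) / 2)).natDegree ≤ (g + 1) * (p - 1) := by
    calc (f ^ ((p - 1) / 2)).natDegree ≤ (p - 1) / 2 * f.natDegree := natDegree_pow_le
      _ ≤ (p - 1) / 2 * (2 * g + 2) := Nat.mul_le_mul_left _ hf
      _ = (g + 1) * ((p - 1) / 2 * 2) := by ring
      _ = (g + 1) * (p - 1) := by rw [hpodd]
  have hB : (f ^ ((p - 1) / 2)).natDegree < (g + 1) * p := by
    refine lt_of_le_of_lt hdeg ?_
    exact Nat.mul_lt_mul_of_pos_left (by omega) (by omega)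
  rw [← Polynomial.pow_comp, coeff_taylor _ α _ ((g + 1) * p) hB, sum_range_mul]
  have hm : (i + 1) * p - (j + 1) = i * p + (p - 1 - j) := by
    have : (i + 1) * p = i * p + p := by ring
    omega
  rw [hm]
  -- the generic term
  have hterm : ∀ I J : ℕ, J < p →
      (f ^ ((p - 1) / 2)).coeff (I * p + (p - 1 - J)) *
        ((Nat.choose (I * p + (p - 1 - J)) (i * p + (p - 1 - j)) : ℕ) : k) *
        α ^ (I * p + (p - 1 - J) - (i * p + (p - 1 - j))) =
      (((Nat.choose I i : ℕ) : k) * α ^ ((I - i) * p)) *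
        (f ^ ((p - 1) / 2)).coeff ((I + 1) * p - (J + 1)) *
        (((Nat.choose (p - (J + 1)) (p - (j + 1)) : ℕ) : k) * α ^ (j - J)) := by
    intro I J hJ
    have e1 : I * p + (p - 1 - J) = (I + 1) * p - (J + 1) := by
      have : (I + 1) * p = I * p + p := by ring
      omega
    have e2 : p - 1 - J = p - (J + 1) := by omega
    have e3 : p - 1 - j = p - (j + 1) := by omega
    rw [lucas_cast k p I i (p - 1 - J) (p - 1 - j) (by omega) (by omega), ← e1, ← e2, ← e3]
    by_cases hIi : I < i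
    · rw [Nat.choose_eq_zero_of_lt hIi]; simp
    by_cases hJj : j < J
    · rw [Nat.choose_eq_zero_of_lt (show p - 1 - J < p - 1 - j by omega)]; simp
    have e4 : I * p + (p - 1 - J) - (i * p + (p - 1 - j)) = (I - i) * p + (j - J) := by
      have h1 : I * p = (I - i) * p + i * p := by
        rw [← Nat.add_mul, Nat.sub_add_cancel (by omega)]
      omega
    rw [e4, pow_add]
    ring
  -- reflect the inner sums
  have hrefl : ∀ I : ℕ, ∑ r ∈ range p, (f ^ ((p - 1) / 2)).coeff (I * p + r) *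
        ((Nat.choose (I * p + r) (i * p + (p - 1 - j)) : ℕ) : k) *
        α ^ (I * p + r - (i * p + (p - 1 - j))) =
      ∑ J ∈ range p, (((Nat.choose I i : ℕ) : k) * α ^ ((I - i) * p)) *
        (f ^ ((p - 1) / 2)).coeff ((I + 1) * p - (J + 1)) *
        (((Nat.choose (p - (J + 1)) (p - (j + 1)) : ℕ) : k) * α ^ (j - J)) := by
    intro I
    rw [← Finset.sum_range_reflect]
    refine Finset.sum_congr rfl fun J hJ => ?_
    exact hterm I J (Finset.mem_range.mp hJ)
  rw [Finset.sum_congr rfl fun I _ => hrefl I]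
  -- cut down the inner sums to `range g`
  have hcut : ∀ I : ℕ, ∑ J ∈ range p, (((Nat.choose I i : ℕ) : k) * α ^ ((I - i) * p)) *
        (f ^ ((p - 1) / 2)).coeff ((I + 1) * p - (J + 1)) *
        (((Nat.choose (p - (J + 1)) (p - (j + 1)) : ℕ) : k) * α ^ (j - J)) =
      ∑ J ∈ range g, (((Nat.choose I i : ℕ) : k) * α ^ ((I - i) * p)) *
        (f ^ ((p - 1) / 2)).coeff ((I + 1) * p - (J + 1)) *
        (((Nat.choose (p - (J + 1)) (p - (j + 1)) : ℕ) : k) * α ^ (j - J)) := by
    intro I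
    symm
    refine Finset.sum_subset (Finset.range_subset_range.mpr hg) fun J hJ hJg => ?_
    rw [Finset.mem_range] at hJ hJg
    rw [Nat.choose_eq_zero_of_lt (show p - (J + 1) < p - (j + 1) by omega)]
    simp
  rw [Finset.sum_congr rfl fun I _ => hcut I, Finset.sum_range_succ]
  have hlast : ∑ J ∈ range g, (((Nat.choose g i : ℕ) : k) * α ^ ((g - i) * p)) *
        (f ^ ((p - 1) / 2)).coeff ((g + 1) * p - (J + 1)) *
        (((Nat.choose (p - (J + 1)) (p - (j + 1)) : ℕ) : k) * α ^ (j - J)) = 0 := by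
    refine Finset.sum_eq_zero fun J hJ => ?_
    rw [Finset.mem_range] at hJ
    rw [coeff_eq_zero_of_natDegree_lt]
    · simp
    · refine lt_of_le_of_lt hdeg ?_
      have h1 : (g + 1) * p = (g + 1) * (p - 1) + (g + 1) := by
        rw [← Nat.mul_add_one, Nat.sub_add_cancel hp0]
      omega
  rw [hlast, add_zero, Finset.sum_comm]
  refine Finset.sum_congr rfl fun J _ => ?_
  rw [Finset.sum_mul]

theorem matrix_eq (hp2 : p ≠ 2) (g : ℕ) (hg : g ≤ p) (f : k[X]) (hf : f.natDegree ≤ 2 * g + 2)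
    (α : k) :
    (Matrix.of fun i j : Fin g =>
        ((f.comp (X + C α)) ^ ((p - 1) / 2)).coeff (((i : ℕ) + 1) * p - ((j : ℕ) + 1))) =
      (Matrix.of fun i I : Fin g =>
          (((I : ℕ).choose (i : ℕ) : ℕ) : k) * α ^ (((I : ℕ) - (i : ℕ)) * p)) *
        (Matrix.of fun i j : Fin g =>
          (f ^ ((p - 1) / 2)).coeff (((i : ℕ) + 1) * p - ((j : ℕ) + 1))) *
        (Matrix.of fun J j : Fin g =>
          (((p - ((J : ℕ) + 1)).choose (p - ((j : ℕ) + 1)) : ℕ) : k) * α ^ ((j : ℕ) - (J : ℕ))) := by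
  ext i j
  rw [Matrix.mul_apply]
  simp only [Matrix.mul_apply, Matrix.of_apply]
  rw [entry_eq p hp2 g hg f hf α i j i.2 j.2]
  rw [← Fin.sum_univ_eq_sum_range (fun J => (∑ I ∈ range g,
        (((Nat.choose I i : ℕ) : k) * α ^ ((I - i) * p)) *
        (f ^ ((p - 1) / 2)).coeff ((I + 1) * p - (J + 1))) *
        (((Nat.choose (p - (J + 1)) (p - ((j : ℕ) + 1)) : ℕ) : k) * α ^ ((j : ℕ) - J))) g]
  refine Finset.sum_congr rfl fun J _ => ?_
  rw [← Fin.sum_univ_eq_sum_range (fun I =>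
        (((Nat.choose I i : ℕ) : k) * α ^ ((I - i) * p)) *
        (f ^ ((p - 1) / 2)).coeff ((I + 1) * p - ((J : ℕ) + 1))) g]

theorem det_eq (hp2 : p ≠ 2) (g : ℕ) (hg : g ≤ p) (f : k[X]) (hf : f.natDegree ≤ 2 * g + 2)
    (α : k) :
    (Matrix.of fun i j : Fin g =>
        ((f.comp (X + C α)) ^ ((p - 1) / 2)).coeff (((i : ℕ) + 1) * p - ((j : ℕ) + 1))).det =
      (Matrix.of fun i j : Fin g =>
          (f ^ ((p - 1) / 2)).coeff (((i : ℕ) + 1) * p - ((j : ℕ) + 1))).det := by
  rw [matrix_eq p hp2 g hg f hf α, Matrix.det_mul, Matrix.det_mul]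
  have hL : (Matrix.of fun i I : Fin g =>
      (((I : ℕ).choose (i : ℕ) : ℕ) : k) * α ^ (((I : ℕ) - (i : ℕ)) * p)).det = 1 := by
    rw [Matrix.det_of_isUpperTriangular]
    · refine Finset.prod_eq_one fun i _ => ?_
      simp
    · intro i I hiI
      have h : (I : ℕ) < (i : ℕ) := hiI
      simp [Nat.choose_eq_zero_of_lt h]
  have hU : (Matrix.of fun J j : Fin g =>
      (((p - ((J : ℕ) + 1)).choose (p - ((j : ℕ) + 1)) : ℕ) : k) * α ^ ((j : ℕ) - (J : ℕ))).det
        = 1 := by
    rw [Matrix.det_of_isUpperTriangular]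
    · refine Finset.prod_eq_one fun i _ => ?_
      simp
    · intro J j hJj
      have h : (j : ℕ) < (J : ℕ) := hJj
      have hJ : (J : ℕ) < g := J.2
      simp [Nat.choose_eq_zero_of_lt (show p - ((J : ℕ) + 1) < p - ((j : ℕ) + 1) by omega)]
  rw [hL, hU, one_mul, mul_one]


end Main

end Groth.Agent.Helper2.CartierManin
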