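import Groth.Prelude.Def_W4stkcategoriessitesFib

/-!
# Helper lemmas on `FibCat.categoricalPullbackMap` (helper2)
-/

set_option autoImplicit false
open CategoryTheory CategoryTheory.Limits

universe v₉ u₉ v₈ u₈ v₇ u₇ v₆ u₆ v₅ u₅ v₄ u₄

namespace Groth.Agent.Helper2

variable {X : Type u₄} {Y : Type u₅} {Z : Type u₆} {A : Type u₇} {B : Type u₈} {C' : Type u₉}
  [Category.{v₄} X] [Category.{v₅} Y] [Category.{v₆} Z] [Category.{v₇} A] [Category.{v₈} B] [Category.{v₉} C']
  {H : X ⥤ Z} {I : Y ⥤ Z} {F : A ⥤ C'} {G : B ⥤ C'}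

theorem cpm_obj_fst (ψ : CatCospanTransform H I F G) (x : CategoricalPullback H I) :
    ((FibCat.categoricalPullbackMap ψ).obj x).fst = ψ.left.obj x.fst := rfl

theorem cpm_obj_snd (ψ : CatCospanTransform H I F G) (x : CategoricalPullback H I) :
    ((FibCat.categoricalPullbackMap ψ).obj x).snd = ψ.right.obj x.snd := rfl

theorem cpm_obj_iso_hom (ψ : CatCospanTransform H I F G) (x : CategoricalPullback H I) :
    ((FibCat.categoricalPullbackMap ψ).obj x).iso.hom =
      ψ.squareLeft.iso.inv.app x.fst ≫ ψ.base.map x.iso.hom ≫ ψ.squareRight.iso.hom.app x.snd := by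
  simp [FibCat.categoricalPullbackMap]
  rfl

theorem cpm_map_fst (ψ : CatCospanTransform H I F G) {x y : CategoricalPullback H I} (f : x ⟶ y) :
    ((FibCat.categoricalPullbackMap ψ).map f).fst = ψ.left.map f.fst := rfl

theorem cpm_map_snd (ψ : CatCospanTransform H I F G) {x y : CategoricalPullback H I} (f : x ⟶ y) :
    ((FibCat.categoricalPullbackMap ψ).map f).snd = ψ.right.map f.snd := rfl

end Groth.Agent.Helper2

namespace Groth.Agent.Helper2

variable {X : Type u₄} {Y : Type u₅} {Z : Type u₆} {A : Type u₇} {B : Type u₈} {C' : Type u₉}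
  [Category.{v₄} X] [Category.{v₅} Y] [Category.{v₆} Z] [Category.{v₇} A] [Category.{v₈} B] [Category.{v₉} C']
  {H : X ⥤ Z} {I : Y ⥤ Z} {F : A ⥤ C'} {G : B ⥤ C'}

theorem cpm_faithful (ψ : CatCospanTransform H I F G) [ψ.left.Faithful] [ψ.right.Faithful] :
    (FibCat.categoricalPullbackMap ψ).Faithful := by
  constructor
  intro x y f g h
  have h1 : ψ.left.map f.fst = ψ.left.map g.fst := congrArg (fun k => k.fst) h
  have h2 : ψ.right.map f.snd = ψ.right.map g.snd := congrArg (fun k => k.snd) h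
  exact CategoricalPullback.hom_ext (ψ.left.map_injective h1) (ψ.right.map_injective h2)

theorem cpm_base_map_left (ψ : CatCospanTransform H I F G) {x y : X} (a : x ⟶ y) :
    ψ.base.map (H.map a) =
      ψ.squareLeft.iso.hom.app x ≫ F.map (ψ.left.map a) ≫ ψ.squareLeft.iso.inv.app y := by
  have := ψ.squareLeft.iso.hom.naturality a
  simp only [Functor.comp_map] at this
  rw [← Category.assoc, ← this, Category.assoc, Iso.hom_inv_id_app, Category.comp_id]

theorem cpm_base_map_right (ψ : CatCospanTransform H I F G) {x y : Y} (b : x ⟶ y) :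
    ψ.base.map (I.map b) =
      ψ.squareRight.iso.hom.app x ≫ G.map (ψ.right.map b) ≫ ψ.squareRight.iso.inv.app y := by
  have := ψ.squareRight.iso.hom.naturality b
  simp only [Functor.comp_map] at this
  rw [← Category.assoc, ← this, Category.assoc, Iso.hom_inv_id_app, Category.comp_id]

theorem cpm_full (ψ : CatCospanTransform H I F G) [ψ.left.Full] [ψ.right.Full] [ψ.base.Faithful] :
    (FibCat.categoricalPullbackMap ψ).Full := by
  constructor
  intro x y h
  obtain ⟨a, ha⟩ := ψ.left.map_surjective (X := x.fst) (Y := y.fst) h.fst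
  obtain ⟨b, hb⟩ := ψ.right.map_surjective (X := x.snd) (Y := y.snd) h.snd
  have hw : F.map (ψ.left.map a) ≫ (ψ.squareLeft.iso.inv.app y.fst ≫ ψ.base.map y.iso.hom ≫
      ψ.squareRight.iso.hom.app y.snd) = (ψ.squareLeft.iso.inv.app x.fst ≫ ψ.base.map x.iso.hom ≫
      ψ.squareRight.iso.hom.app x.snd) ≫ G.map (ψ.right.map b) := by
    have := h.w
    rw [cpm_obj_iso_hom, cpm_obj_iso_hom] at this
    rw [ha, hb]
    exact this
  refine ⟨⟨a, b, ?_⟩, ?_⟩
  · apply ψ.base.map_injective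
    rw [Functor.map_comp, Functor.map_comp, cpm_base_map_left, cpm_base_map_right]
    simp only [Category.assoc]
    have hw' := hw =≫ ψ.squareRight.iso.inv.app y.snd
    simp only [Category.assoc, Iso.hom_inv_id_app, Functor.comp_obj, Category.comp_id] at hw'
    rw [hw']
    simp
  · apply CategoricalPullback.hom_ext
    · exact ha
    · exact hb

end Groth.Agent.Helper2

namespace Groth.Agent.Helper2

variable {X : Type u₄} {Y : Type u₅} {Z : Type u₆} {A : Type u₇} {B : Type u₈} {C' : Type u₉}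
  [Category.{v₄} X] [Category.{v₅} Y] [Category.{v₆} Z] [Category.{v₇} A] [Category.{v₈} B] [Category.{v₉} C']
  {H : X ⥤ Z} {I : Y ⥤ Z} {F : A ⥤ C'} {G : B ⥤ C'}

theorem cpm_essSurj (ψ : CatCospanTransform H I F G) [ψ.left.EssSurj] [ψ.right.EssSurj]
    [ψ.base.Full] [ψ.base.Faithful] :
    (FibCat.categoricalPullbackMap ψ).EssSurj := by
  constructor
  intro w
  let x₀ := ψ.left.objPreimage w.fst
  let e₁ : ψ.left.obj x₀ ≅ w.fst := ψ.left.objObjPreimageIso w.fst
  let y₀ := ψ.right.objPreimage w.snd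
  let e₂ : ψ.right.obj y₀ ≅ w.snd := ψ.right.objObjPreimageIso w.snd
  let θ' : ψ.base.obj (H.obj x₀) ≅ ψ.base.obj (I.obj y₀) :=
    ψ.squareLeft.iso.app x₀ ≪≫ F.mapIso e₁ ≪≫ w.iso ≪≫ G.mapIso e₂.symm ≪≫
      (ψ.squareRight.iso.app y₀).symm
  let θ : H.obj x₀ ≅ I.obj y₀ := ψ.base.preimageIso θ'
  refine ⟨⟨x₀, y₀, θ⟩, ⟨CategoricalPullback.mkIso e₁ e₂ ?_⟩⟩
  rw [cpm_obj_iso_hom]
  change F.map e₁.hom ≫ w.iso.hom = (ψ.squareLeft.iso.inv.app x₀ ≫ ψ.base.map θ.hom ≫
    ψ.squareRight.iso.hom.app y₀) ≫ G.map e₂.hom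
  have : ψ.base.map θ.hom = θ'.hom := by
    simp [θ]
  rw [this]
  simp [θ']

theorem cpm_isEquivalence (ψ : CatCospanTransform H I F G) [ψ.left.IsEquivalence]
    [ψ.right.IsEquivalence] [ψ.base.Full] [ψ.base.Faithful] :
    (FibCat.categoricalPullbackMap ψ).IsEquivalence := by
  have := cpm_faithful ψ
  have := cpm_full ψ
  have := cpm_essSurj ψ
  exact { }

end Groth.Agent.Helper2
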