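import Mathlib
import Groth.Prelude.Def_ComodDual
import Groth.Agent.Lib.Helper4.ConvHopf

universe u v w
open scoped TensorProduct

namespace Groth.Agent.Helper2.ComodDual

section Coef
variable {k : Type u} [CommRing k] {A : Type v} [AddCommGroup A] [Module k A]
  {V : Type w} [AddCommGroup V] [Module k V]
  {ι : Type*} [Fintype ι] [DecidableEq ι] (b : Module.Basis ι k V)

/-- coordinate functional on `V ⊗ A` -/
noncomputable def coordT (i : ι) : V ⊗[k] A →ₗ[k] A :=
  (TensorProduct.lid k A).toLinearMap ∘ₗ (b.coord i).rTensor A

omit [Fintype ι] [DecidableEq ι] in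
@[simp] theorem coordT_tmul (i : ι) (v : V) (a : A) : coordT b i (v ⊗ₜ[k] a) = b.repr v i • a := by
  simp [coordT]

omit [DecidableEq ι] in
theorem expand (x : V ⊗[k] A) : x = ∑ i, b i ⊗ₜ[k] coordT b i x := by
  induction x using TensorProduct.induction_on with
  | zero => simp
  | tmul v a =>
    simp only [coordT_tmul, TensorProduct.tmul_smul]
    nth_rw 1 [← b.sum_repr v]
    rw [TensorProduct.sum_tmul]
    simp only [TensorProduct.smul_tmul']
  | add x y hx hy =>
    simp only [map_add, TensorProduct.tmul_add, Finset.sum_add_distrib]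
    rw [← hx, ← hy]

theorem coordT_sum (i : ι) (f : ι → A) : coordT b i (∑ j, b j ⊗ₜ[k] f j) = f i := by
  simp [Finsupp.single_apply]

omit [DecidableEq ι] in
theorem ext_coord {x y : V ⊗[k] A} (h : ∀ i, coordT b i x = coordT b i y) : x = y := by
  rw [expand b x, expand b y]
  simp only [h]

end Coef

section Mat
variable {k : Type u} [CommRing k] {A : Type v} [CommRing A] [HopfAlgebra k A]
  {V : Type w} [AddCommGroup V] [Module k V]
  {ι : Type*} [Fintype ι] [DecidableEq ι] (b : Module.Basis ι k V) (c : HopfRep.Comod k A V)

/-- matrix coefficients of the coaction -/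
noncomputable def coef (i j : ι) : A := coordT b i (c.coact (b j))

omit [DecidableEq ι] in
theorem coact_basis (j : ι) : c.coact (b j) = ∑ i, b i ⊗ₜ[k] coef b c i j := expand b _

theorem counit_coef (i j : ι) :
    Coalgebra.counit (R := k) (coef b c i j) = if i = j then 1 else 0 := by
  have h := LinearMap.congr_fun c.counit_comp (b j)
  simp only [LinearMap.comp_apply, coact_basis b c j, map_sum, LinearMap.lTensor_tmul,
    LinearMap.flip_apply, TensorProduct.mk_apply] at h
  have h2 := congrArg (coordT b i) h
  rw [coordT_sum] at h2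
  rw [h2]
  simp [Finsupp.single_apply, eq_comm]

theorem comul_coef (i j : ι) :
    Coalgebra.comul (R := k) (coef b c i j) = ∑ l, coef b c i l ⊗ₜ[k] coef b c l j := by
  have h := LinearMap.congr_fun c.coassoc (b j)
  simp only [LinearMap.comp_apply, coact_basis b c j, map_sum, LinearMap.lTensor_tmul,
    LinearMap.rTensor_tmul, LinearEquiv.coe_coe] at h
  simp only [coact_basis b c, TensorProduct.sum_tmul, map_sum, TensorProduct.assoc_tmul] at h
  have h2 := congrArg (coordT b i) h
  rw [coordT_sum] at h2
  rw [← h2]
  rw [Finset.sum_comm]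
  simp only [← TensorProduct.tmul_sum]
  rw [coordT_sum]

/-- the contragredient coaction, on the dual basis -/
noncomputable def dualCoact : Module.Dual k V →ₗ[k] Module.Dual k V ⊗[k] A :=
  b.dualBasis.constr k
    (fun i => ∑ j, b.dualBasis j ⊗ₜ[k] HopfAlgebra.antipode k (coef b c i j))

theorem dualCoact_dualBasis (i : ι) : dualCoact b c (b.dualBasis i) =
    ∑ j, b.dualBasis j ⊗ₜ[k] HopfAlgebra.antipode k (coef b c i j) := by
  rw [dualCoact, Module.Basis.constr_basis]

theorem comul_antipode_coef (i l : ι) :
    Coalgebra.comul (R := k) (HopfAlgebra.antipode k (coef b c i l)) =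
      ∑ j, HopfAlgebra.antipode k (coef b c j l) ⊗ₜ[k] HopfAlgebra.antipode k (coef b c i j) := by
  have h := LinearMap.congr_fun (Groth.Agent.Helper4.Conv.comul_comp_antipode (k := k) (A := A))
    (coef b c i l)
  simp only [LinearMap.comp_apply] at h
  rw [h, comul_coef]
  simp

/-- the contragredient comodule -/
@[reducible] noncomputable def dualComod : HopfRep.Comod k A (Module.Dual k V) where
  coact := dualCoact b c
  coassoc := by
    refine b.dualBasis.ext fun i => ?_
    simp only [LinearMap.comp_apply, dualCoact_dualBasis, map_sum, LinearMap.rTensor_tmul,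
      LinearMap.lTensor_tmul, LinearEquiv.coe_coe, TensorProduct.sum_tmul,
      TensorProduct.assoc_tmul, comul_antipode_coef, TensorProduct.tmul_sum]
    rw [Finset.sum_comm]
  counit_comp := by
    refine b.dualBasis.ext fun i => ?_
    simp only [LinearMap.comp_apply, dualCoact_dualBasis, map_sum, LinearMap.lTensor_tmul,
      HopfAlgebra.counit_antipode, counit_coef, LinearMap.flip_apply, TensorProduct.mk_apply]
    rw [Finset.sum_eq_single i]
    · simp
    · intro j _ hj
      simp [Ne.symm hj]
    · simp

theorem isDual_dualComod : ComodTens.Comod.IsDual c (dualComod b c) := by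
  let L1 : Module.Dual k V →ₗ[k] V →ₗ[k] A := dualTensorHom k V A ∘ₗ dualCoact b c
  let L2 : Module.Dual k V →ₗ[k] V →ₗ[k] A :=
    { toFun := ComodTens.dualCoactFun c
      map_add' := ComodTens.dualCoactFun_add c
      map_smul' := ComodTens.dualCoactFun_smul c }
  have h : L1 = L2 := by
    refine b.dualBasis.ext fun i => b.ext fun j => ?_
    simp only [L1, L2, LinearMap.comp_apply, dualCoact_dualBasis, map_sum, LinearMap.coe_mk,
      AddHom.coe_mk, ComodTens.dualCoactFun_apply, coact_basis b c j, TensorProduct.map_tmul,
      TensorProduct.lid_tmul, LinearMap.sum_apply, dualTensorHom_apply]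
    simp [Finsupp.single_apply]
  intro f
  exact LinearMap.congr_fun h f

end Mat

theorem exists_isDual (k : Type u) [CommRing k] (A : Type v) [CommRing A] [HopfAlgebra k A]
    (V : Type w) [AddCommGroup V] [Module k V] [Module.Free k V] [Module.Finite k V]
    (c : HopfRep.Comod k A V) :
    ∃ d : HopfRep.Comod k A (Module.Dual k V), ComodTens.Comod.IsDual c d := by
  classical
  exact ⟨dualComod (Module.Free.chooseBasis k V) c, isDual_dualComod _ c⟩

end Groth.Agent.Helper2.ComodDual
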