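import Mathlib
import Groth.Agent.Lib.Helper2.SepMain

/-! Non-uniqueness of coefficient fields in the presence of a non-zero derivation. -/

namespace Groth.Agent.Helper2.Sep

open IsLocalRing

theorem isAdicComplete_sq {R : Type*} [CommRing R] (I : Ideal R) [IsAdicComplete I R] :
    IsAdicComplete (I ^ 2) R := by
  have hle : ∀ n : ℕ, ((I ^ 2) ^ n • ⊤ : Submodule R R) ≤ (I ^ n • ⊤ : Submodule R R) := by
    intro n
    apply Submodule.smul_mono_left
    rw [← pow_mul]
    exact Ideal.pow_le_pow_right (by omega)
  refine { haus' := ?_, prec' := ?_ }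
  · intro x hx
    apply IsHausdorff.haus (inferInstance : IsHausdorff I R) x
    intro n
    exact (hx n).mono (hle n)
  · intro f hf
    have hf' : ∀ {m n : ℕ}, m ≤ n → f m ≡ f n [SMOD (I ^ m • ⊤ : Submodule R R)] :=
      fun {m n} hmn => (hf hmn).mono (hle m)
    obtain ⟨L, hL⟩ := IsPrecomplete.prec (inferInstance : IsPrecomplete I R) hf'
    refine ⟨L, fun n => ?_⟩
    have h1 : f n ≡ f (2 * n) [SMOD ((I ^ 2) ^ n • ⊤ : Submodule R R)] := hf (by omega)
    have h2 : f (2 * n) ≡ L [SMOD ((I ^ 2) ^ n • ⊤ : Submodule R R)] := by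
      refine (hL (2 * n)).mono ?_
      apply Submodule.smul_mono_left
      rw [← pow_mul]
    exact h1.trans h2

/-- a second section of the residue map, built from a non-zero derivation of the residue field -/
theorem exists_ne_section {C : Type*} [CommRing C] [IsLocalRing C]
    [IsAdicComplete (maximalIdeal C) C] (u : ResidueField C →+* C) (hu : ∀ x, residue C (u x) = x)
    (P : Type*) [Field P] [Algebra P (ResidueField C)] [Algebra.FormallySmooth P (ResidueField C)]
    (D : ResidueField C →+ ResidueField C) (hleib : ∀ x y, D (x * y) = x * D y + y * D x)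
    (hD : ∀ a : P, D (algebraMap P (ResidueField C) a) = 0)
    (x₀ : ResidueField C) (hx₀ : D x₀ ≠ 0) (t : C) (ht : t ∈ maximalIdeal C)
    (ht2 : t ∉ maximalIdeal C ^ 2) :
    ∃ v : ResidueField C →+* C, (∀ x, residue C (v x) = x) ∧ v ≠ u := by
  letI : Algebra P C := (u.comp (algebraMap P (ResidueField C))).toAlgebra
  have hD1 : D 1 = 0 := by
    have := hleib 1 1
    simp only [mul_one, one_mul] at this
    exact left_eq_add.mp this
  haveI : IsAdicComplete (maximalIdeal C ^ 2) C := isAdicComplete_sq _
  have htt : t * t ∈ maximalIdeal C ^ 2 := by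
    rw [pow_two]; exact Ideal.mul_mem_mul ht ht
  let v₂ : ResidueField C →ₐ[P] C ⧸ maximalIdeal C ^ 2 :=
    { toFun := fun x => Ideal.Quotient.mk _ (u x + u (D x) * t)
      map_one' := by simp [hD1]
      map_mul' := by
        intro x y
        rw [← map_mul, Ideal.Quotient.eq]
        have : u (x * y) + u (D (x * y)) * t - (u x + u (D x) * t) * (u y + u (D y) * t) =
            -(u (D x) * u (D y)) * (t * t) := by
          rw [hleib]
          simp only [map_add, map_mul]
          ring
        rw [this]
        exact Ideal.mul_mem_left _ _ htt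
      map_zero' := by simp
      map_add' := by
        intro x y
        rw [← map_add]
        congr 1
        simp only [map_add]
        ring
      commutes' := by
        intro a
        rw [hD, map_zero, zero_mul, add_zero]
        rfl }
  obtain ⟨v, hv⟩ := Algebra.FormallySmooth.exists_mkₐ_comp_eq_of_isAdicComplete v₂
  have hv' : ∀ x, v x - (u x + u (D x) * t) ∈ maximalIdeal C ^ 2 := by
    intro x
    have := AlgHom.congr_fun hv x
    exact Ideal.Quotient.eq.mp this
  have hle : maximalIdeal C ^ 2 ≤ maximalIdeal C := Ideal.pow_le_self (by norm_num)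
  refine ⟨v.toRingHom, fun x => ?_, fun hvu => ?_⟩
  · have h1 : residue C (v x - (u x + u (D x) * t)) = 0 :=
      (residue_eq_zero_iff _).mpr (hle (hv' x))
    have h2 : residue C t = 0 := (residue_eq_zero_iff _).mpr ht
    rw [map_sub, map_add, map_mul, h2, mul_zero, add_zero, hu, sub_eq_zero] at h1
    exact h1
  · have h1 := hv' x₀
    have h2 : v x₀ = u x₀ := RingHom.congr_fun hvu x₀
    rw [h2] at h1
    have h3 : u (D x₀) * t ∈ maximalIdeal C ^ 2 := by
      have : u x₀ - (u x₀ + u (D x₀) * t) = -(u (D x₀) * t) := by ring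
      rw [this] at h1
      exact (Ideal.neg_mem_iff _).mp h1
    have hunit : IsUnit (u (D x₀)) := by
      by_contra hnu
      have : u (D x₀) ∈ maximalIdeal C := (mem_maximalIdeal _).mpr hnu
      have h4 := (residue_eq_zero_iff _).mpr this
      rw [hu] at h4
      exact hx₀ h4
    obtain ⟨w, hw⟩ := hunit
    apply ht2
    have : t = ↑w⁻¹ * (u (D x₀) * t) := by
      rw [← hw, ← mul_assoc, Units.inv_mul, one_mul]
    rw [this]
    exact Ideal.mul_mem_left _ _ h3

end Groth.Agent.Helper2.Sep
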