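import Mathlib

/-! Fewer than `n` polynomials in `n` variables vanishing at the origin have a common zero
different from the origin (over an algebraically closed field). -/

open MvPolynomial

namespace Groth.Agent.Helper2.CommonZero

variable (k : Type*) [Field k] (n : ℕ)

open Classical in
/-- substitution killing the variables in `Z` -/
noncomputable def sub (Z : Set (Fin n)) : MvPolynomial (Fin n) k →ₐ[k] MvPolynomial (Fin n) k :=
  aeval (fun v => if v ∈ Z then 0 else X v)

theorem sub_X_of_mem {Z : Set (Fin n)} {v} (h : v ∈ Z) : sub k n Z (X v) = 0 := by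
  simp [sub, h]

theorem sub_X_of_not_mem {Z : Set (Fin n)} {v} (h : v ∉ Z) : sub k n Z (X v) = X v := by
  simp [sub, h]

theorem sub_comp {Z Z' : Set (Fin n)} (h : Z ⊆ Z') :
    (sub k n Z').comp (sub k n Z) = sub k n Z' := by
  apply MvPolynomial.algHom_ext
  intro v
  by_cases hv : v ∈ Z
  · rw [AlgHom.comp_apply, sub_X_of_mem k n hv, sub_X_of_mem k n (h hv), map_zero]
  · rw [AlgHom.comp_apply, sub_X_of_not_mem k n hv]

/-- the prime cut out by the vanishing of the variables in `Z` -/
noncomputable def P (Z : Set (Fin n)) : Ideal (MvPolynomial (Fin n) k) :=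
  RingHom.ker (sub k n Z).toRingHom

instance (Z : Set (Fin n)) : (P k n Z).IsPrime := by
  unfold P
  exact RingHom.ker_isPrime _

theorem mem_P {Z : Set (Fin n)} (r : MvPolynomial (Fin n) k) :
    r ∈ P k n Z ↔ sub k n Z r = 0 := by
  unfold P
  rw [RingHom.mem_ker]
  rfl

theorem P_mono {Z Z' : Set (Fin n)} (h : Z ⊆ Z') : P k n Z ≤ P k n Z' := by
  intro r hr
  rw [mem_P] at hr ⊢
  rw [← sub_comp k n h, AlgHom.comp_apply, hr, map_zero]

theorem P_lt {Z Z' : Set (Fin n)} (h : Z ⊆ Z') (a : Fin n) (ha : a ∉ Z) (ha' : a ∈ Z') :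
    P k n Z < P k n Z' := by
  refine lt_of_le_of_ne (P_mono k n h) ?_
  intro heq
  have h1 : (X a : MvPolynomial (Fin n) k) ∈ P k n Z' := by
    rw [mem_P, sub_X_of_mem k n ha']
  rw [← heq, mem_P, sub_X_of_not_mem k n ha] at h1
  exact X_ne_zero _ h1

theorem height_chain (i : ℕ) (hi : i ≤ n) :
    (i : ℕ∞) ≤ (P k n {v : Fin n | v.val < i}).height := by
  induction i with
  | zero => simp
  | succ i ih =>
    have ih' := ih (by omega)
    have hlt : P k n {v : Fin n | v.val < i} < P k n {v : Fin n | v.val < i + 1} := by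
      refine P_lt k n ?_ ⟨i, by omega⟩ ?_ ?_
      · intro v hv
        simp only [Set.mem_ofPred_eq] at hv ⊢
        omega
      · simp
      · simp
    have := Ideal.height_add_one_le_of_lt_of_isPrime hlt
    calc ((i + 1 : ℕ) : ℕ∞) = (i : ℕ∞) + 1 := by push_cast; rfl
      _ ≤ (P k n {v : Fin n | v.val < i}).height + 1 := by gcongr
      _ ≤ _ := this

theorem height_top : (n : ℕ∞) ≤ (P k n Set.univ).height := by
  have h1 := height_chain k n n le_rfl
  have : {v : Fin n | v.val < n} = Set.univ := by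
    ext v; simp
  rw [this] at h1
  exact h1

/-- `sub univ` is evaluation at the origin -/
theorem sub_univ (f : MvPolynomial (Fin n) k) : sub k n Set.univ f = C (eval 0 f) := by
  have : (sub k n Set.univ) = (Algebra.ofId k _).comp (aeval (0 : Fin n → k)) := by
    apply MvPolynomial.algHom_ext
    intro p
    rw [AlgHom.comp_apply, sub_X_of_mem k n (Set.mem_univ _)]
    simp
  rw [this, AlgHom.comp_apply]
  rfl

variable [IsAlgClosed k]

theorem exists_common_zero (s : Finset (MvPolynomial (Fin n) k)) (hs : s.card < n)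
    (h0 : ∀ g ∈ s, eval 0 g = 0) : ∃ v : Fin n → k, v ≠ 0 ∧ ∀ g ∈ s, eval v g = 0 := by
  classical
  let I : Ideal (MvPolynomial (Fin n) k) := Ideal.span s
  let M : Ideal (MvPolynomial (Fin n) k) := P k n Set.univ
  have hIM : I ≤ M := by
    rw [Ideal.span_le]
    intro r hr
    show r ∈ P k n Set.univ
    rw [mem_P, sub_univ, h0 r hr, map_zero]
  have hex : ∃ N : Ideal (MvPolynomial (Fin n) k), N.IsMaximal ∧ I ≤ N ∧ N ≠ M := by
    by_contra hcon
    push Not at hcon
    have hmin : M ∈ I.minimalPrimes := by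
      refine ⟨⟨inferInstance, hIM⟩, ?_⟩
      rintro q ⟨hq, hIq⟩ -
      have : q = q.jacobson := by rw [← Ideal.radical_eq_jacobson, hq.radical]
      rw [this]
      refine le_sInf ?_
      rintro J ⟨hqJ, hJ⟩
      rw [hcon J hJ (hIq.trans hqJ)]
    have h1 := Ideal.height_le_card_of_mem_minimalPrimes_span_finset hmin
    have h2 := height_top k n
    have h4 : (n : ℕ∞) ≤ (s.card : ℕ∞) := h2.trans h1
    have h5 : n ≤ s.card := by exact_mod_cast h4
    omega
  obtain ⟨N, hNmax, hIN, hNM⟩ := hex
  obtain ⟨c0, hc0⟩ := MvPolynomial.eq_vanishingIdeal_singleton_of_isMaximal k hNmax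
  have hmem : ∀ f : MvPolynomial (Fin n) k, f ∈ N ↔ eval c0 f = 0 := by
    intro f
    rw [hc0, mem_vanishingIdeal_singleton_iff]
    rfl
  refine ⟨c0, ?_, fun g hg => (hmem g).mp (hIN (Ideal.subset_span hg))⟩
  intro h0'
  apply hNM
  have hle : N ≤ M := by
    intro f hf
    rw [hmem, h0'] at hf
    show f ∈ P k n Set.univ
    rw [mem_P, sub_univ, hf, map_zero]
  exact hNmax.eq_of_le (Ideal.IsPrime.ne_top inferInstance) hle

end Groth.Agent.Helper2.CommonZero
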