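import Mathlib
import Groth.Agent.Lib.Helper2.CompleteNoeth

/-!
# Completion of a Noetherian local ring: DVR iff
-/

open IsLocalRing

universe u

namespace Groth.Agent.Helper2.CompletionDVR

lemma isDomain_of_principal {B : Type*} [CommRing B] [IsLocalRing B] [IsNoetherianRing B] (ϖ : B)
    (hm : maximalIdeal B = Ideal.span {ϖ}) (hnil : ∀ n : ℕ, ϖ ^ n ≠ 0) : IsDomain B := by
  have key : ∀ x : B, x ≠ 0 → ∃ (n : ℕ) (u : B), IsUnit u ∧ x = ϖ ^ n * u := by
    intro x hx
    have hinf := Ideal.iInf_pow_eq_bot_of_isLocalRing (maximalIdeal B) Ideal.IsPrime.ne_top'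
    have hex : ∃ k, x ∉ maximalIdeal B ^ k := by
      by_contra hcon
      push Not at hcon
      apply hx
      have : x ∈ ⨅ k, maximalIdeal B ^ k := by
        rw [Ideal.mem_iInf]; exact hcon
      rw [hinf] at this
      exact this
    classical
    let k := Nat.find hex
    have hk : x ∉ maximalIdeal B ^ k := Nat.find_spec hex
    have hk0 : k ≠ 0 := by
      intro h0
      rw [h0, pow_zero, Ideal.one_eq_top] at hk
      exact hk trivial
    obtain ⟨n, hn⟩ := Nat.exists_eq_succ_of_ne_zero hk0
    have hxn : x ∈ maximalIdeal B ^ n := by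
      by_contra hcon
      have := Nat.find_min' hex hcon
      change k ≤ n at this
      omega
    rw [hm, Ideal.span_singleton_pow, Ideal.mem_span_singleton'] at hxn
    obtain ⟨u, hu⟩ := hxn
    refine ⟨n, u, ?_, by rw [← hu, mul_comm]⟩
    by_contra hnu
    have hum : u ∈ maximalIdeal B := (mem_maximalIdeal u).2 hnu
    rw [hm, Ideal.mem_span_singleton'] at hum
    obtain ⟨v, hv⟩ := hum
    apply hk
    rw [hn, hm, Ideal.span_singleton_pow, Ideal.mem_span_singleton']
    refine ⟨v, ?_⟩
    rw [← hu, ← hv, Nat.succ_eq_add_one, pow_succ]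
    ring
  have : NoZeroDivisors B := by
    refine ⟨fun {x y} hxy => ?_⟩
    by_contra hcon
    push Not at hcon
    obtain ⟨n, u, hu, rfl⟩ := key x hcon.1
    obtain ⟨k, v, hv, rfl⟩ := key y hcon.2
    have h1 : ϖ ^ (n + k) * (u * v) = 0 := by
      rw [← hxy, pow_add]; ring
    have h2 : ϖ ^ (n + k) = 0 := by
      have := (hu.mul hv).mul_left_eq_zero.mp h1
      exact this
    exact hnil _ h2
  exact NoZeroDivisors.to_isDomain B

theorem dvr_iff (A : Type u) [CommRing A] [IsLocalRing A] [IsNoetherianRing A] :
    (∃ _ : IsDomain A, IsDiscreteValuationRing A) ↔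
      ∃ _ : IsDomain (AdicCompletion (IsLocalRing.maximalIdeal A) A),
        IsDiscreteValuationRing (AdicCompletion (IsLocalRing.maximalIdeal A) A) := by
  have hN : IsNoetherianRing (AdicCompletion (maximalIdeal A) A) :=
    Groth.Agent.Helper2.CompleteNoeth.isNoetherianRing_adicCompletion A _
      (IsNoetherian.noetherian _)
  set B := AdicCompletion (maximalIdeal A) A
  have hff : Module.FaithfullyFlat A B := Module.FaithfullyFlat.of_flat_of_isLocalHom
  have hinj : Function.Injective (algebraMap A B) := FaithfulSMul.algebraMap_injective A B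
  have hsf : (maximalIdeal B).spanFinrank = (maximalIdeal A).spanFinrank :=
    AdicCompletion.spanFinrank_maximalIdeal_eq
  constructor
  · rintro ⟨hd, hdvr⟩
    have h1 : (maximalIdeal A).spanFinrank = 1 := by
      rw [spanFinrank_maximalIdeal_eq_finrank_cotangentSpace,
        IsLocalRing.finrank_CotangentSpace_eq_one_iff]
      exact hdvr
    obtain ⟨hp, hne⟩ := (Submodule.spanFinrank_eq_one_iff _).mp h1
    let π := Submodule.IsPrincipal.generator (maximalIdeal A)
    have hπ : maximalIdeal A = Ideal.span {π} := (Ideal.span_singleton_generator _).symm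
    have hπ0 : π ≠ 0 := by
      intro h0
      apply hne
      rw [hπ, h0, Ideal.span_singleton_eq_bot]
    have hmB : maximalIdeal B = Ideal.span {algebraMap A B π} := by
      have h2 : (maximalIdeal A).map (algebraMap A B) = (Ideal.span {π}).map (algebraMap A B) :=
        congrArg (Ideal.map (algebraMap A B)) hπ
      rw [AdicCompletion.maximalIdeal_eq_map, h2, Ideal.map_span, Set.image_singleton]
    have hdB : IsDomain B := by
      refine isDomain_of_principal (algebraMap A B π) hmB fun n => ?_
      rw [← map_pow, Ne, map_eq_zero_iff _ hinj]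
      exact pow_ne_zero n hπ0
    refine ⟨hdB, ?_⟩
    rw [← IsLocalRing.finrank_CotangentSpace_eq_one_iff,
      ← spanFinrank_maximalIdeal_eq_finrank_cotangentSpace, hsf, h1]
  · rintro ⟨hd, hdvr⟩
    have hdA : IsDomain A := hinj.isDomain
    refine ⟨hdA, ?_⟩
    have h1 : (maximalIdeal B).spanFinrank = 1 := by
      rw [spanFinrank_maximalIdeal_eq_finrank_cotangentSpace,
        IsLocalRing.finrank_CotangentSpace_eq_one_iff]
      exact hdvr
    rw [← IsLocalRing.finrank_CotangentSpace_eq_one_iff,
      ← spanFinrank_maximalIdeal_eq_finrank_cotangentSpace, ← hsf, h1]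

end Groth.Agent.Helper2.CompletionDVR
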