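import Mathlib

/-!
Exactness of adic completion under an Artin–Rees hypothesis (generalising Mathlib's
`AdicCompletion.map_injective` and `AdicCompletion.map_exact`; the proofs are those of Mathlib with
the Artin–Rees input made a hypothesis).
-/

universe u v w t

open LinearMap

namespace Groth.Agent.Helper2.CompletionFlat

open AdicCompletion

variable {R : Type u} [CommRing R] {I : Ideal R}
variable {M : Type u} [AddCommGroup M] [Module R M]
variable {N : Type u} [AddCommGroup N] [Module R N]
variable {P : Type u} [AddCommGroup P] [Module R P]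

section Injectivity

variable (I)

theorem map_injective' {f : M →ₗ[R] N} (hf : Function.Injective f)
    (hAR : ∃ k, ∀ n ≥ k, I ^ n • ⊤ ⊓ LinearMap.range f =
      I ^ (n - k) • (I ^ k • ⊤ ⊓ LinearMap.range f)) :
    Function.Injective (map I f) := by
  obtain ⟨k, hk⟩ := hAR
  rw [← LinearMap.ker_eq_bot, LinearMap.ker_eq_bot']
  intro x
  apply AdicCompletion.induction_on I M x (fun a ↦ ?_)
  intro hx
  refine AdicCompletion.mk_zero_of _ _ _ ⟨42, fun n _ ↦ ⟨n + k, by lia, n, by lia, ?_⟩⟩
  rw [← Submodule.comap_map_eq_of_injective hf (I ^ n • ⊤ : Submodule R M),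
    Submodule.map_smul'', Submodule.map_top]
  apply (_root_.smul_mono_right _ inf_le_right : I ^ n • (I ^ k • ⊤ ⊓ (range f)) ≤ _)
  nth_rw 1 [show n = n + k - k by lia]
  rw [← hk (n + k) (show n + k ≥ k by lia)]
  exact ⟨by simpa using congrArg (fun x ↦ x.val (n + k)) hx, ⟨a (n + k), rfl⟩⟩

end Injectivity

section

variable {f : M →ₗ[R] N} {g : N →ₗ[R] P} (hf : Function.Injective f)
  (hfg : Function.Exact f g) (hg : Function.Surjective g)

section

variable {k : ℕ}
  (hkn : ∀ n ≥ k, I ^ n • ⊤ ⊓ LinearMap.range f = I ^ (n - k) • (I ^ k • ⊤ ⊓ LinearMap.range f))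
  (x : AdicCauchySequence I N) (hker : ∀ (n : ℕ), g (x n) ∈ (I ^ n • ⊤ : Submodule R P))

/-- In each step, a preimage is constructed from the preimage of the previous step by
adding this delta. -/
noncomputable def mapExactAuxDelta {n : ℕ} {d : N}
    (hdmem : d ∈ (I ^ (k + n + 1) • ⊤ : Submodule R N)) {y yₙ : M}
    (hd : f y = x (k + n + 1) - d) (hyₙ : f yₙ - x (k + n) ∈ (I ^ (k + n) • ⊤ : Submodule R N)) :
    { d : (I ^ n • ⊤ : Submodule R M)
      | f (yₙ + d) - x (k + n + 1) ∈ (I ^ (k + n + 1) • ⊤ : Submodule R N) } :=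
  have h : f (y - yₙ) ∈ (I ^ (k + n) • ⊤ : Submodule R N) := by
    simp only [map_sub, hd]
    convert_to x (k + n + 1) - x (k + n) - d - (f yₙ - x (k + n)) ∈ I ^ (k + n) • ⊤
    · abel
    · refine Submodule.sub_mem _ (Submodule.sub_mem _ ?_ ?_) hyₙ
      · rw [← Submodule.Quotient.eq]
        exact AdicCauchySequence.mk_eq_mk (by lia) _
      · exact (Submodule.smul_mono_left (Ideal.pow_le_pow_right (by lia))) hdmem
  have hincl : I ^ (k + n - k) • (I ^ k • ⊤ ⊓ range f) ≤ I ^ (k + n - k) • (range f) :=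
    _root_.smul_mono_right _ inf_le_right
  have hyyₙ : y - yₙ ∈ (I ^ n • ⊤ : Submodule R M) := by
    convert_to y - yₙ ∈ (I ^ (k + n - k) • ⊤ : Submodule R M)
    · simp
    · rw [← Submodule.comap_map_eq_of_injective hf (I ^ (k + n - k) • ⊤ : Submodule R M),
        Submodule.map_smul'', Submodule.map_top]
      apply hincl
      rw [← hkn (k + n) (by lia)]
      exact ⟨h, ⟨y - yₙ, rfl⟩⟩
  ⟨⟨y - yₙ, hyyₙ⟩, by simpa [hd, Nat.succ_eq_add_one, Nat.add_assoc]⟩

open Submodule

include hfg in
/-- Inductively construct preimage of Cauchy sequence in kernel of `g.adicCompletion I`. -/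
noncomputable def mapExactAux :
    (n : ℕ) → { a : M | f a - x (k + n) ∈ (I ^ (k + n) • ⊤ : Submodule R N) }
  | .zero =>
    let d := (h2 0).choose
    let y := (h2 0).choose_spec.choose
    have hdy : f y = x (k + 0) - d := (h2 0).choose_spec.choose_spec.right
    have hdmem := (h2 0).choose_spec.choose_spec.left
    ⟨y, by simpa [hdy]⟩
  | .succ n =>
    let d := (h2 <| n + 1).choose
    let y := (h2 <| n + 1).choose_spec.choose
    have hdy : f y = x (k + (n + 1)) - d := (h2 <| n + 1).choose_spec.choose_spec.right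
    have hdmem := (h2 <| n + 1).choose_spec.choose_spec.left
    let ⟨yₙ, (hyₙ : f yₙ - x (k + n) ∈ (I ^ (k + n) • ⊤ : Submodule R N))⟩ :=
      mapExactAux n
    let ⟨d, hd⟩ := mapExactAuxDelta hf hkn x hdmem hdy hyₙ
    ⟨yₙ + d, hd⟩
where
  h1 (n : ℕ) : g (x (k + n)) ∈ Submodule.map g (I ^ (k + n) • ⊤ : Submodule R N) := by
    rw [map_smul'', Submodule.map_top, range_eq_top.mpr hg]
    exact hker (k + n)
  h2 (n : ℕ) : ∃ (d : N) (y : M),
      d ∈ (I ^ (k + n) • ⊤ : Submodule R N) ∧ f y = x (k + n) - d := by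
    obtain ⟨d, hdmem, hd⟩ := h1 n
    obtain ⟨y, hdy⟩ := (hfg (x (k + n) - d)).mp (by simp [hd])
    exact ⟨d, y, hdmem, hdy⟩

end

include hf hfg hg in
theorem map_exact' (hAR : ∃ k, ∀ n ≥ k, I ^ n • ⊤ ⊓ LinearMap.range f =
      I ^ (n - k) • (I ^ k • ⊤ ⊓ LinearMap.range f)) :
    Function.Exact (map I f) (map I g) := by
  refine LinearMap.exact_of_comp_eq_zero_of_ker_le_range ?_ (fun y ↦ ?_)
  · rw [map_comp, hfg.linearMap_comp_eq_zero, AdicCompletion.map_zero]
  · apply AdicCompletion.induction_on I N y (fun b ↦ ?_)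
    intro hz
    obtain ⟨k, hk⟩ := hAR
    have hb (n : ℕ) : g (b n) ∈ (I ^ n • ⊤ : Submodule R P) := by
      simpa using congrArg (fun x ↦ x.val n) hz
    let a := mapExactAux hf hfg hg hk b hb
    refine ⟨AdicCompletion.mk I M (AdicCauchySequence.mk I M (fun n ↦ (a n : M)) ?_), ?_⟩
    · refine fun n ↦ SModEq.symm ?_
      simp [a, mapExactAux, SModEq]
    · ext n
      suffices h : Submodule.Quotient.mk (p := (I ^ n • ⊤ : Submodule R N)) (f (a n)) =
            Submodule.Quotient.mk (p := (I ^ n • ⊤ : Submodule R N)) (b (k + n)) by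
        simp [h, AdicCauchySequence.mk_eq_mk (show n ≤ k + n by lia)]
      rw [Submodule.Quotient.eq]
      have hle : (I ^ (k + n) • ⊤ : Submodule R N) ≤ (I ^ n • ⊤ : Submodule R N) :=
        Submodule.smul_mono_left (Ideal.pow_le_pow_right (by lia))
      exact hle (a n).property

end

section Finsupp
variable {R : Type*} [CommRing R] {N : Type*} [AddCommGroup N] [Module R N] {α : Type*}

lemma smul_finsupp_submodule (𝔟 : Ideal R) (P : Submodule R N) :
    𝔟 • Finsupp.submodule (fun _ : α => P) = Finsupp.submodule (fun _ : α => 𝔟 • P) := by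
  rw [Finsupp.submodule_eq_iSup, Finsupp.submodule_eq_iSup, Submodule.smul_iSup]
  simp only [Submodule.map_smul'']

lemma inf_finsupp_submodule (P Q : Submodule R N) :
    Finsupp.submodule (fun _ : α => P) ⊓ Finsupp.submodule (fun _ : α => Q) =
      Finsupp.submodule (fun _ : α => P ⊓ Q) := by
  ext x
  simp only [Submodule.mem_inf, Finsupp.mem_submodule_iff]
  exact forall_and.symm

lemma smul_top_finsupp (𝔟 : Ideal R) :
    (𝔟 • ⊤ : Submodule R (α →₀ N)) = Finsupp.submodule (fun _ : α => 𝔟 • (⊤ : Submodule R N)) := by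
  rw [← smul_finsupp_submodule, Finsupp.submodule_top]

lemma finsupp_AR [IsNoetherianRing R] [Module.Finite R N] (I : Ideal R) (N' : Submodule R N) :
    ∃ k, ∀ n ≥ k, I ^ n • (⊤ : Submodule R (α →₀ N)) ⊓ Finsupp.submodule (fun _ : α => N') =
      I ^ (n - k) • (I ^ k • ⊤ ⊓ Finsupp.submodule (fun _ : α => N')) := by
  obtain ⟨k, hk⟩ := Ideal.exists_pow_inf_eq_pow_smul I N'
  refine ⟨k, fun n hn => ?_⟩
  rw [smul_top_finsupp, smul_top_finsupp, inf_finsupp_submodule, inf_finsupp_submodule,
    smul_finsupp_submodule, hk n hn]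

end Finsupp

section MapLin
variable {R : Type*} [CommRing R] (I : Ideal R)
variable {M : Type*} [AddCommGroup M] [Module R M]
variable {N : Type*} [AddCommGroup N] [Module R N]

lemma map_add_apply (f g : M →ₗ[R] N) (x : AdicCompletion I M) :
    map I (f + g) x = map I f x + map I g x := by
  induction x using AdicCompletion.induction_on with
  | _ a =>
    ext n
    simp

lemma map_smul_apply (c : R) (f : M →ₗ[R] N) (x : AdicCompletion I M) :
    map I (c • f) x = c • map I f x := by
  induction x using AdicCompletion.induction_on with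
  | _ a =>
    ext n
    simp [AdicCompletion.val_smul_apply]

lemma map_sum_apply {ι : Type*} (s : Finset ι) (f : ι → M →ₗ[R] N) (x : AdicCompletion I M) :
    map I (∑ i ∈ s, f i) x = ∑ i ∈ s, map I (f i) x := by
  classical
  induction s using Finset.induction_on with
  | empty => simp
  | insert i s hi ih => rw [Finset.sum_insert hi, Finset.sum_insert hi, map_add_apply, ih]

end MapLin

section Chase

variable {R : Type u} [CommRing R] [IsNoetherianRing R] (I : Ideal R) (α : Type u)
  {E G T : Type u} [AddCommGroup E] [Module R E] [AddCommGroup G] [Module R G]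
  [AddCommGroup T] [Module R T] [Module.Finite R E] [Module.Finite R T]

theorem chase (φ : E →ₗ[R] T) (κ' : G →ₗ[R] LinearMap.ker φ) (hκ' : Function.Surjective κ')
    (X : AdicCompletion I (α →₀ E))
    (hX : AdicCompletion.map I (Finsupp.mapRange.linearMap (α := α) φ) X = 0) :
    ∃ Y : AdicCompletion I (α →₀ G),
      AdicCompletion.map I (Finsupp.mapRange.linearMap (α := α)
        ((LinearMap.ker φ).subtype ∘ₗ κ')) Y = X := by
  classical
  let K : Submodule R E := LinearMap.ker φ
  let φ' : E →ₗ[R] LinearMap.range φ := φ.rangeRestrict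
  let ΙK : (α →₀ K) →ₗ[R] (α →₀ E) := Finsupp.mapRange.linearMap K.subtype
  let Φ' : (α →₀ E) →ₗ[R] (α →₀ LinearMap.range φ) := Finsupp.mapRange.linearMap φ'
  let Ι : (α →₀ LinearMap.range φ) →ₗ[R] (α →₀ T) :=
    Finsupp.mapRange.linearMap (LinearMap.range φ).subtype
  let Κ : (α →₀ G) →ₗ[R] (α →₀ K) := Finsupp.mapRange.linearMap κ'
  have hΙKinj : Function.Injective ΙK :=
    Finsupp.mapRange_injective _ (_root_.map_zero _) K.injective_subtype
  have hΙinj : Function.Injective Ι :=
    Finsupp.mapRange_injective _ (_root_.map_zero _) (LinearMap.range φ).injective_subtype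
  have hΦ'surj : Function.Surjective Φ' :=
    Finsupp.mapRange_surjective _ (_root_.map_zero _) φ.surjective_rangeRestrict
  have hΚsurj : Function.Surjective Κ := Finsupp.mapRange_surjective _ (_root_.map_zero _) hκ'
  have hrΙK : LinearMap.range ΙK = Finsupp.submodule (fun _ : α => K) := by
    rw [Finsupp.range_mapRange_linearMap _ (Submodule.ker_subtype K), Submodule.range_subtype]
  have hrΙ : LinearMap.range Ι = Finsupp.submodule (fun _ : α => LinearMap.range φ) := by
    rw [Finsupp.range_mapRange_linearMap _ (Submodule.ker_subtype _), Submodule.range_subtype]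
  have hexact : Function.Exact ΙK Φ' := by
    rw [LinearMap.exact_iff, Finsupp.ker_mapRange, hrΙK, LinearMap.ker_rangeRestrict]
  have hARK : ∃ k, ∀ n ≥ k, I ^ n • ⊤ ⊓ LinearMap.range ΙK =
      I ^ (n - k) • (I ^ k • ⊤ ⊓ LinearMap.range ΙK) := by
    rw [hrΙK]; exact finsupp_AR I K
  have hARΙ : ∃ k, ∀ n ≥ k, I ^ n • ⊤ ⊓ LinearMap.range Ι =
      I ^ (n - k) • (I ^ k • ⊤ ⊓ LinearMap.range Ι) := by
    rw [hrΙ]; exact finsupp_AR I (LinearMap.range φ)
  have hinjΙ := map_injective' I hΙinj hARΙ
  have hexK := map_exact' (I := I) hΙKinj hexact hΦ'surj hARK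
  have hsurjΚ := AdicCompletion.map_surjective I hΚsurj
  have hcomp : Finsupp.mapRange.linearMap (α := α) φ = Ι ∘ₗ Φ' := by
    rw [← Finsupp.mapRange.linearMap_comp]
    congr 1
  have h3 : AdicCompletion.map I Φ' X = 0 := by
    apply hinjΙ
    rw [AdicCompletion.map_comp_apply, ← hcomp, hX, _root_.map_zero]
  obtain ⟨W, hW⟩ := (hexK X).1 h3
  obtain ⟨Y, hY⟩ := hsurjΚ W
  refine ⟨Y, ?_⟩
  rw [Finsupp.mapRange.linearMap_comp, ← AdicCompletion.map_comp_apply, hY, hW]

end Chase

section MR
variable {R : Type*} [CommRing R] {α : Type*}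
  {M N : Type*} [AddCommGroup M] [Module R M] [AddCommGroup N] [Module R N]

lemma mr_add (f g : M →ₗ[R] N) : Finsupp.mapRange.linearMap (α := α) (f + g) =
    Finsupp.mapRange.linearMap f + Finsupp.mapRange.linearMap g := by
  ext a b c
  simp

lemma mr_smul (c : R) (f : M →ₗ[R] N) : Finsupp.mapRange.linearMap (α := α) (c • f) =
    c • Finsupp.mapRange.linearMap f := by
  ext a b d
  simp

lemma mr_zero : Finsupp.mapRange.linearMap (α := α) (0 : M →ₗ[R] N) = 0 := by
  ext a b d
  simp

lemma mr_sum {ι : Type*} (s : Finset ι) (f : ι → M →ₗ[R] N) :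
    Finsupp.mapRange.linearMap (α := α) (∑ i ∈ s, f i) =
      ∑ i ∈ s, Finsupp.mapRange.linearMap (f i) := by
  classical
  induction s using Finset.induction_on with
  | empty => simp [mr_zero]
  | insert i s hi ih => rw [Finset.sum_insert hi, Finset.sum_insert hi, mr_add, ih]

end MR

section Main

theorem flat_completion_finsupp (R : Type u) [CommRing R] [IsNoetherianRing R] (I : Ideal R)
    (α : Type u) : Module.Flat R (AdicCompletion I (α →₀ R)) := by
  classical
  apply Module.Flat.of_forall_isTrivialRelation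
  intro m f x hx
  let φ : (Fin m → R) →ₗ[R] R := ∑ i, f i • (LinearMap.proj i : (Fin m → R) →ₗ[R] R)
  have hφ : ∀ e : Fin m → R, φ e = ∑ i, f i * e i := by
    intro e; simp [φ, LinearMap.sum_apply, LinearMap.proj_apply]
  obtain ⟨s, k, hk⟩ := Submodule.fg_iff_exists_fin_generating_family.1
    (IsNoetherian.noetherian (LinearMap.ker φ))
  have hkK : ∀ l, k l ∈ LinearMap.ker φ := fun l => hk ▸ Submodule.subset_span ⟨l, rfl⟩
  let κ' : (Fin s → R) →ₗ[R] LinearMap.ker φ :=
    ∑ l, (LinearMap.proj l : (Fin s → R) →ₗ[R] R).smulRight (⟨k l, hkK l⟩ : LinearMap.ker φ)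
  have hκ'app : ∀ c : Fin s → R, ((κ' c : LinearMap.ker φ) : Fin m → R) = ∑ l, c l • k l := by
    intro c
    simp [κ', LinearMap.sum_apply]
  have hκ' : Function.Surjective κ' := by
    intro z
    have hz : (z : Fin m → R) ∈ Submodule.span R (Set.range k) := by rw [hk]; exact z.2
    obtain ⟨c, hc⟩ := (Submodule.mem_span_range_iff_exists_fun R).1 hz
    exact ⟨c, Subtype.ext (by rw [hκ'app, hc])⟩
  -- linear identities
  have hL1 : ∀ i j, (LinearMap.proj i : (Fin m → R) →ₗ[R] R) ∘ₗ
      LinearMap.single R (fun _ : Fin m => R) j = if j = i then LinearMap.id else 0 := by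
    intro i j
    ext
    by_cases h : j = i
    · subst h; simp
    · simp [h, Pi.single_apply, Ne.symm h]
  have hL2 : ∀ i, φ ∘ₗ LinearMap.single R (fun _ : Fin m => R) i = f i • LinearMap.id := by
    intro i
    ext
    simp [hφ, Pi.single_apply]
  have hL3 : ∀ i, (LinearMap.proj i : (Fin m → R) →ₗ[R] R) ∘ₗ (LinearMap.ker φ).subtype ∘ₗ κ' =
      ∑ l, k l i • (LinearMap.proj l : (Fin s → R) →ₗ[R] R) := by
    intro i
    ext c
    simp [hκ'app, LinearMap.sum_apply, mul_comm]
  -- the element `X`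
  let X : AdicCompletion I (α →₀ (Fin m → R)) :=
    ∑ i, AdicCompletion.map I
      (Finsupp.mapRange.linearMap (LinearMap.single R (fun _ : Fin m => R) i)) (x i)
  have h1 : ∀ i, AdicCompletion.map I (Finsupp.mapRange.linearMap (α := α)
      (LinearMap.proj i : (Fin m → R) →ₗ[R] R)) X = x i := by
    intro i
    simp only [X, map_sum, AdicCompletion.map_comp_apply, ← Finsupp.mapRange.linearMap_comp,
      hL1]
    rw [Finset.sum_eq_single i]
    · rw [if_pos rfl, Finsupp.mapRange.linearMap_id, AdicCompletion.map_id, LinearMap.id_apply]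
    · intro j _ hj
      rw [if_neg hj, mr_zero, AdicCompletion.map_zero, LinearMap.zero_apply]
    · simp
  have h2 : AdicCompletion.map I (Finsupp.mapRange.linearMap (α := α) φ) X = 0 := by
    simp only [X, map_sum, AdicCompletion.map_comp_apply, ← Finsupp.mapRange.linearMap_comp,
      hL2, mr_smul, map_smul_apply, Finsupp.mapRange.linearMap_id, AdicCompletion.map_id,
      LinearMap.id_apply]
    exact hx
  obtain ⟨Y, hY⟩ := chase I α φ κ' hκ' X h2
  refine ⟨s, fun i l => k l i, fun l => AdicCompletion.map I (Finsupp.mapRange.linearMap (α := α)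
      (LinearMap.proj l : (Fin s → R) →ₗ[R] R)) Y, fun i => ?_, fun l => ?_⟩
  · rw [← h1 i, ← hY, AdicCompletion.map_comp_apply, ← Finsupp.mapRange.linearMap_comp, hL3,
      mr_sum, map_sum_apply]
    simp only [mr_smul, map_smul_apply]
  · have := hkK l
    rw [LinearMap.mem_ker, hφ] at this
    exact this

end Main

end Groth.Agent.Helper2.CompletionFlat
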