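import Mathlib

/-! Finite connected limits from equalizers and pullbacks. -/

open CategoryTheory CategoryTheory.Limits

universe v u

namespace Groth.Agent.Helper2.ConnLim

variable {C : Type u} [Category.{v} C]

/-- simultaneous equalizer of finitely many parallel pairs out of one object -/
theorem exists_multiEq [HasEqualizers C] {ι : Type*} (I : Finset ι) {L : C} (B : ι → C)
    (f g : ∀ i, L ⟶ B i) :
    ∃ (L' : C) (m : L' ⟶ L), (∀ i ∈ I, m ≫ f i = m ≫ g i) ∧
      ∀ (X : C) (u : X ⟶ L), (∀ i ∈ I, u ≫ f i = u ≫ g i) → ∃! u' : X ⟶ L', u' ≫ m = u := by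
  classical
  induction I using Finset.induction_on with
  | empty =>
    refine ⟨L, 𝟙 L, by simp, ?_⟩
    intro X u _
    exact ⟨u, by simp, fun y hy => by simpa using hy⟩
  | insert i I hi ih =>
    obtain ⟨L', m, hm, hu⟩ := ih
    refine ⟨equalizer (m ≫ f i) (m ≫ g i), equalizer.ι _ _ ≫ m, ?_, ?_⟩
    · intro i' hi'
      rcases Finset.mem_insert.mp hi' with rfl | h
      · rw [Category.assoc, Category.assoc]
        exact equalizer.condition _ _
      · rw [Category.assoc, Category.assoc, hm i' h]
    · intro X u hX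
      obtain ⟨u', hu', huniq⟩ := hu X u (fun i' h => hX i' (Finset.mem_insert_of_mem h))
      have hc : u' ≫ (m ≫ f i) = u' ≫ (m ≫ g i) := by
        rw [← Category.assoc, ← Category.assoc, hu']
        exact hX i (Finset.mem_insert_self _ _)
      refine ⟨equalizer.lift u' hc, ?_, ?_⟩
      · simp only []
        rw [← Category.assoc, equalizer.lift_ι, hu']
      · intro y hy
        apply equalizer.hom_ext
        rw [equalizer.lift_ι]
        apply huniq
        rw [Category.assoc]
        exact hy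

variable {J : Type} [SmallCategory J] (F : J ⥤ C)

/-- partial cone on the full subcategory spanned by `S` -/
structure PCone (S : Set J) (X : C) where
  π : ∀ j, j ∈ S → (X ⟶ F.obj j)
  w : ∀ (a b : J) (g : a ⟶ b) (ha : a ∈ S) (hb : b ∈ S), π a ha ≫ F.map g = π b hb

/-- existence of a universal partial cone -/
def Rep (S : Set J) : Prop :=
  ∃ (L : C) (ρ : PCone F S L), ∀ (X : C) (c : PCone F S X),
    ∃! u : X ⟶ L, ∀ j hj, u ≫ ρ.π j hj = c.π j hj

theorem rep_of_weak [HasEqualizers C] [FinCategory J] (S : Set J) (L1 : C)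
    (π1 : ∀ j, j ∈ S → (L1 ⟶ F.obj j))
    (hU : ∀ (X : C) (c : PCone F S X), ∃! u : X ⟶ L1, ∀ j hj, u ≫ π1 j hj = c.π j hj) :
    Rep F S := by
  classical
  let ι := {e : Σ a b : J, (a ⟶ b) // e.1 ∈ S ∧ e.2.1 ∈ S}
  have : Fintype ι := Fintype.ofFinite ι
  obtain ⟨L', m, hm, hu⟩ := exists_multiEq (Finset.univ : Finset ι) (L := L1)
    (fun e => F.obj e.1.2.1) (fun e => π1 e.1.1 e.2.1 ≫ F.map e.1.2.2) (fun e => π1 e.1.2.1 e.2.2)
  refine ⟨L', ⟨fun j hj => m ≫ π1 j hj, ?_⟩, ?_⟩
  · intro a b g ha hb
    have := hm ⟨⟨a, b, g⟩, ha, hb⟩ (Finset.mem_univ _)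
    rw [Category.assoc]
    exact this
  · intro X c
    obtain ⟨u, hu1, hu2⟩ := hU X c
    have hcon : ∀ e ∈ (Finset.univ : Finset ι),
        u ≫ (π1 e.1.1 e.2.1 ≫ F.map e.1.2.2) = u ≫ π1 e.1.2.1 e.2.2 := by
      intro e _
      rw [← Category.assoc, hu1, hu1]
      exact c.w _ _ _ _ _
    obtain ⟨u', hu', huniq⟩ := hu X u hcon
    refine ⟨u', ?_, ?_⟩
    · intro j hj
      simp only []
      rw [← Category.assoc, hu', hu1]
    · intro y hy
      apply huniq
      apply hu2
      intro j hj
      rw [Category.assoc]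
      exact hy j hj

theorem rep_singleton [HasEqualizers C] [FinCategory J] (j0 : J) : Rep F {j0} := by
  refine rep_of_weak F {j0} (F.obj j0) (fun j hj => eqToHom (by rw [Set.mem_singleton_iff.mp hj])) ?_
  intro X c
  refine ⟨c.π j0 rfl, ?_, ?_⟩
  · intro j hj
    have := Set.mem_singleton_iff.mp hj
    subst this
    simp
  · intro y hy
    have := hy j0 rfl
    simpa using this

open Classical in
theorem rep_insert_aux [HasEqualizers C] [HasPullbacks C] [FinCategory J] (S : Set J) (L : C)
    (ρ : PCone F S L)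
    (hL : ∀ (X : C) (c : PCone F S X), ∃! u : X ⟶ L, ∀ j hj, u ≫ ρ.π j hj = c.π j hj)
    (v : J) (hv : v ∉ S) (Z : C) (α : L ⟶ Z) (β : F.obj v ⟶ Z)
    (hαβ : ∀ (X : C) (c : PCone F (insert v S) X) (u : X ⟶ L),
      (∀ j hj, u ≫ ρ.π j hj = c.π j (Set.mem_insert_of_mem v hj)) →
        u ≫ α = c.π v (Set.mem_insert v S) ≫ β) :
    Rep F (insert v S) := by
  let π1 : ∀ j, j ∈ insert v S → (pullback α β ⟶ F.obj j) := fun j hj =>
    if h : j ∈ S then pullback.fst α β ≫ ρ.π j h
    else pullback.snd α β ≫ eqToHom (by rw [(Set.mem_insert_iff.mp hj).resolve_right h])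
  have hπ1S : ∀ j (h : j ∈ S), π1 j (Set.mem_insert_of_mem v h) = pullback.fst α β ≫ ρ.π j h := by
    intro j h
    simp only [π1, dif_pos h]
  have hπ1v : π1 v (Set.mem_insert v S) = pullback.snd α β := by
    simp only [π1, dif_neg hv]
    simp
  refine rep_of_weak F (insert v S) (pullback α β) π1 ?_
  intro X c
  let c' : PCone F S X := ⟨fun j hj => c.π j (Set.mem_insert_of_mem v hj),
    fun a b g ha hb => c.w a b g _ _⟩
  obtain ⟨u0, hu0, hu0'⟩ := hL X c'
  have hcomp := hαβ X c u0 hu0
  refine ⟨pullback.lift u0 (c.π v (Set.mem_insert v S)) hcomp, ?_, ?_⟩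
  · intro j hj
    by_cases h : j ∈ S
    · rw [hπ1S j h, ← Category.assoc, pullback.lift_fst]
      exact hu0 j h
    · have : j = v := (Set.mem_insert_iff.mp hj).resolve_right h
      subst this
      rw [hπ1v, pullback.lift_snd]
  · intro y hy
    apply pullback.hom_ext
    · rw [pullback.lift_fst]
      apply hu0'
      intro j hj
      rw [Category.assoc, ← hπ1S j hj]
      exact hy j _
    · rw [pullback.lift_snd, ← hπ1v]
      exact hy v _

theorem rep_insert_out [HasEqualizers C] [HasPullbacks C] [FinCategory J] (S : Set J)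
    (h : Rep F S) (s0 v : J) (hs0 : s0 ∈ S) (hv : v ∉ S) (e0 : s0 ⟶ v) : Rep F (insert v S) := by
  obtain ⟨L, ρ, hL⟩ := h
  refine rep_insert_aux F S L ρ hL v hv (F.obj v) (ρ.π s0 hs0 ≫ F.map e0) (𝟙 _) ?_
  intro X c u hu
  rw [← Category.assoc, hu, Category.comp_id]
  exact c.w _ _ _ _ _

theorem rep_insert_in [HasEqualizers C] [HasPullbacks C] [FinCategory J] (S : Set J)
    (h : Rep F S) (s0 v : J) (hs0 : s0 ∈ S) (hv : v ∉ S) (e0 : v ⟶ s0) : Rep F (insert v S) := by
  obtain ⟨L, ρ, hL⟩ := h
  refine rep_insert_aux F S L ρ hL v hv (F.obj s0) (ρ.π s0 hs0) (F.map e0) ?_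
  intro X c u hu
  rw [hu]
  exact (c.w _ _ _ _ _).symm

theorem rep_univ [HasEqualizers C] [HasPullbacks C] [FinCategory J] [IsConnected J] :
    Rep F Set.univ := by
  classical
  have key : ∀ (n : ℕ) (S : Finset J), S.Nonempty → Rep F (↑S : Set J) → (Sᶜ).card = n →
      Rep F Set.univ := by
    intro n
    induction n with
    | zero =>
      intro S _ hS hcard
      have : S = Finset.univ := by
        rw [Finset.card_eq_zero, Finset.compl_eq_empty_iff] at hcard
        exact hcard
      rw [this, Finset.coe_univ] at hS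
      exact hS
    | succ n ih =>
      intro S hne hS hcard
      obtain ⟨j0, hj0⟩ := hne
      have hex : ∃ (a b : J) (_ : a ⟶ b), ¬ (a ∈ S ↔ b ∈ S) := by
        by_contra hcon
        push Not at hcon
        have hall : ∀ j, j ∈ (↑S : Set J) :=
          induct_on_objects (↑S : Set J) hj0 (fun {a b} g => hcon a b g)
        have : Sᶜ = ∅ := by
          rw [Finset.compl_eq_empty_iff]
          exact Finset.eq_univ_iff_forall.mpr hall
        rw [this] at hcard
        simp at hcard
      obtain ⟨a, b, g, hab⟩ := hex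
      by_cases ha : a ∈ S
      · have hb : b ∉ S := fun hb => hab ⟨fun _ => hb, fun _ => ha⟩
        have h1 := rep_insert_out F (↑S : Set J) hS a b ha hb g
        rw [← Finset.coe_insert] at h1
        refine ih (insert b S) ⟨b, Finset.mem_insert_self _ _⟩ h1 ?_
        rw [Finset.compl_insert, Finset.card_erase_of_mem (Finset.mem_compl.mpr hb), hcard]
        rfl
      · have hb : b ∈ S := by
          by_contra hb
          exact hab ⟨fun h => absurd h ha, fun h => absurd h hb⟩
        have h1 := rep_insert_in F (↑S : Set J) hS b a hb ha g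
        rw [← Finset.coe_insert] at h1
        refine ih (insert a S) ⟨a, Finset.mem_insert_self _ _⟩ h1 ?_
        rw [Finset.compl_insert, Finset.card_erase_of_mem (Finset.mem_compl.mpr ha), hcard]
        rfl
  obtain ⟨j0⟩ := (inferInstance : Nonempty J)
  have h0 := rep_singleton F j0
  rw [← Finset.coe_singleton] at h0
  exact key _ {j0} ⟨j0, Finset.mem_singleton_self _⟩ h0 rfl

theorem hasLimit_of_rep_univ (h : Rep F Set.univ) : HasLimit F := by
  obtain ⟨L, ρ, hL⟩ := h
  let cone : Cone F :=
    { pt := L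
      π := { app := fun j => ρ.π j trivial
             naturality := fun a b g => by
               simp only [Functor.const_obj_obj, Functor.const_obj_map, Category.id_comp]
               exact (ρ.w a b g trivial trivial).symm } }
  let toP : ∀ s : Cone F, PCone F Set.univ s.pt := fun s =>
    ⟨fun j _ => s.π.app j, fun a b g _ _ => s.w g⟩
  refine HasLimit.mk ⟨cone, ?_⟩
  exact
    { lift := fun s => (hL s.pt (toP s)).choose
      fac := fun s j => (hL s.pt (toP s)).choose_spec.1 j trivial
      uniq := fun s m hm => (hL s.pt (toP s)).choose_spec.2 m (fun j _ => hm j) }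

end Groth.Agent.Helper2.ConnLim
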