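import Mathlib
namespace Groth.Agent.Helper2.ConsImage
open AlgebraicGeometry CategoryTheory Limits Topology
universe u

set_option backward.isDefEq.respectTransparency.types false in
theorem sigma_lemma {ι : Type u} [Finite ι] (g : ι → Scheme.{u}) [∀ i, IsAffine (g i)]
    {Y : Scheme.{u}} (h : ∀ i, g i ⟶ Y) [∀ i, LocallyOfFinitePresentation (h i)] :
    IsAffine (∐ g) ∧ LocallyOfFinitePresentation (Sigma.desc h) ∧
      Set.range (Sigma.desc h).base = ⋃ i, Set.range (h i).base := by
  refine ⟨inferInstance, ?_, ?_⟩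
  · rw [IsZariskiLocalAtSource.iff_of_openCover (P := @LocallyOfFinitePresentation)
      (sigmaOpenCover g)]
    intro i
    change ι at i
    show LocallyOfFinitePresentation (Sigma.ι g i ≫ Limits.Sigma.desc h)
    have : Sigma.ι g i ≫ Limits.Sigma.desc h = h i := Sigma.ι_desc h i
    rw [this]
    infer_instance
  · ext y
    simp only [Set.mem_range, Set.mem_iUnion]
    constructor
    · rintro ⟨x, rfl⟩
      obtain ⟨⟨i, x'⟩, rfl⟩ := (sigmaMk g).surjective x
      refine ⟨i, x', ?_⟩
      rw [sigmaMk_mk, ← Scheme.Hom.comp_apply, Sigma.ι_desc]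
    · rintro ⟨i, x', rfl⟩
      refine ⟨Sigma.ι g i x', ?_⟩
      rw [← Scheme.Hom.comp_apply, Sigma.ι_desc]


open PrimeSpectrum in
theorem spec_step (R : CommRingCat.{u}) (s : Set (PrimeSpectrum R)) (hs : IsConstructible s) :
    ∃ (X' : Scheme.{u}) (f : X' ⟶ Spec R), IsAffine X' ∧ LocallyOfFinitePresentation f ∧
      Set.range f.base = s := by
  obtain ⟨S, rfl⟩ := exists_constructibleSetData_iff.mpr hs
  let B : S → Type u := fun i =>
    Localization.Away (Ideal.Quotient.mk (Ideal.span (Set.range i.1.g)) i.1.f)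
  let g : S → Scheme.{u} := fun i => Spec (CommRingCat.of (B i))
  let h : ∀ i, g i ⟶ Spec R := fun i => Spec.map (CommRingCat.ofHom (algebraMap R (B i)))
  have hfp : ∀ i, LocallyOfFinitePresentation (h i) := by
    intro i
    rw [HasRingHomProperty.Spec_iff (P := @LocallyOfFinitePresentation)]
    show (algebraMap R (B i)).FinitePresentation
    rw [IsScalarTower.algebraMap_eq R (R ⧸ Ideal.span (Set.range i.1.g)) (B i)]
    refine RingHom.FinitePresentation.comp ?_ ?_
    · rw [RingHom.finitePresentation_algebraMap]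
      exact IsLocalization.Away.finitePresentation
        (Ideal.Quotient.mk (Ideal.span (Set.range i.1.g)) i.1.f)
    · refine RingHom.FinitePresentation.of_surjective _ Ideal.Quotient.mk_surjective ?_
      rw [Ideal.Quotient.algebraMap_eq, Ideal.mk_ker]
      classical
      exact ⟨(Finset.univ.image i.1.g), by simp⟩
  obtain ⟨h1, h2, h3⟩ := sigma_lemma g h
  refine ⟨∐ g, Sigma.desc h, h1, h2, ?_⟩
  rw [h3, ConstructibleSetData.toSet]
  simp_rw [← Finset.mem_coe, Set.biUnion_eq_iUnion]
  refine Set.iUnion_congr fun C => ?_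
  show Set.range (comap (algebraMap R (B C))) = _
  let I := Ideal.span (Set.range C.1.g)
  let f := Ideal.Quotient.mk I C.1.f
  trans comap (Ideal.Quotient.mk I) '' (Set.range (comap (algebraMap _ (Localization.Away f))))
  · rw [← Set.range_comp]; rfl
  · rw [localization_away_comap_range _ f, ← comap_basicOpen, TopologicalSpace.Opens.coe_comap,
      ContinuousMap.coe_mk, Set.image_preimage_eq_inter_range,
      range_comap_of_surjective _ _ Ideal.Quotient.mk_surjective, BasicConstructibleSetData.toSet,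
      Set.sdiff_eq_compl_inter, basicOpen_eq_zeroLocus_compl, Ideal.mk_ker, zeroLocus_span]


theorem affine_step (Y : Scheme.{u}) [IsAffine Y] (s : Set Y) (hs : IsConstructible s) :
    ∃ (X' : Scheme.{u}) (f : X' ⟶ Y), IsAffine X' ∧ LocallyOfFinitePresentation f ∧
      Set.range f.base = s := by
  have hs' : IsConstructible (Y.isoSpec.inv.base ⁻¹' s) :=
    Y.isoSpec.inv.isConstructible_preimage hs
  obtain ⟨X', f, h1, h2, h3⟩ := spec_step Γ(Y, ⊤) _ hs'
  refine ⟨X', f ≫ Y.isoSpec.inv, h1, inferInstance, ?_⟩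
  have hsurj : Function.Surjective Y.isoSpec.inv.base := Y.isoSpec.inv.surjective
  rw [Scheme.Hom.comp_base, TopCat.coe_comp, Set.range_comp, h3, Set.image_preimage_eq _ hsurj]

theorem main (X : Scheme.{u}) [CompactSpace X] [QuasiSeparatedSpace X] (Z : Set X)
    (hZ : IsConstructible Z) :
    ∃ (X' : Scheme.{u}) (f : X' ⟶ X), IsAffine X' ∧ LocallyOfFinitePresentation f ∧ QuasiCompact f ∧
      QuasiSeparated f ∧ Set.range f.base = Z := by
  let 𝒰 := X.affineCover.finiteSubcover
  have hfin : Finite 𝒰.I₀ := inferInstance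
  have haff : ∀ i, IsAffine (𝒰.X i) := fun i => inferInstance
  have H : ∀ i, ∃ (X' : Scheme.{u}) (f : X' ⟶ 𝒰.X i), IsAffine X' ∧
      LocallyOfFinitePresentation f ∧ Set.range f.base = (𝒰.f i).base ⁻¹' Z :=
    fun i => affine_step _ _ ((𝒰.f i).isConstructible_preimage hZ)
  choose g f hg hf hr using H
  obtain ⟨h1, h2, h3⟩ := sigma_lemma g (fun i => f i ≫ 𝒰.f i)
  refine ⟨∐ g, Sigma.desc _, h1, h2, inferInstance, inferInstance, ?_⟩
  rw [h3]
  ext x
  simp only [Set.mem_iUnion, Set.mem_range]
  constructor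
  · rintro ⟨i, y, rfl⟩
    have : (f i).base y ∈ Set.range (f i).base := ⟨y, rfl⟩
    rw [hr i] at this
    exact this
  · intro hx
    obtain ⟨i, y, rfl⟩ := 𝒰.exists_eq x
    have : y ∈ Set.range (f i).base := by rw [hr i]; exact hx
    obtain ⟨z, rfl⟩ := this
    exact ⟨i, z, rfl⟩

end Groth.Agent.Helper2.ConsImage
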