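import Mathlib

universe u v w

namespace Groth.Agent.Helper2.CoxeterTheta

open Module

variable {ι : Type u} {M : Type v} {N : Type w} [AddCommGroup M] [instM : Module ℤ M]
    [AddCommGroup N] [Module ℤ N] (P : RootPairing ι ℤ M N) {n : ℕ} (e : Fin n → ι)

/-- linear combination of the chosen roots -/
noncomputable def phi : (Fin n → ℤ) →ₗ[ℤ] M :=
  Fintype.linearCombination ℤ (fun l => P.root (e l))

theorem phi_single (l : Fin n) : phi P e (Pi.single l 1) = P.root (e l) := by
  rw [phi, Fintype.linearCombination_apply_single]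
  exact @one_smul ℤ M _ instM.toDistribMulAction.toMulAction _

/-- reflection on coefficient vectors -/
noncomputable def Rl (l : Fin n) (c : Fin n → ℤ) : Fin n → ℤ :=
  c - (P.coroot' (e l) (phi P e c)) • Pi.single l 1

theorem phi_Rl (l : Fin n) (c : Fin n → ℤ) :
    phi P e (Rl P e l c) = P.reflection (e l) (phi P e c) := by
  rw [Rl, map_sub, LinearMap.map_smul, phi_single, RootPairing.reflection_apply]

theorem phi_foldl (L : List (Fin n)) (c : Fin n → ℤ) :
    phi P e (L.foldl (fun c l => Rl P e l c) c) =
      L.foldl (fun x l => P.reflection (e l) x) (phi P e c) := by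
  induction L generalizing c with
  | nil => rfl
  | cons l L ih => rw [List.foldl_cons, List.foldl_cons, ih, phi_Rl]

theorem foldl_apply (L : List (Fin n)) (j : Fin n) (hL : ∀ l ∈ L, j < l) (c : Fin n → ℤ)
    (i : Fin n) (hi : i ≤ j) : (L.foldl (fun c l => Rl P e l c) c) i = c i := by
  induction L generalizing c with
  | nil => rfl
  | cons l L ih =>
    rw [List.foldl_cons, ih (fun l' hl' => hL l' (List.mem_cons_of_mem _ hl'))]
    have hne : l ≠ i := (lt_of_le_of_lt hi (hL l List.mem_cons_self)).ne'
    simp [Rl, Pi.single_apply, hne.symm]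

/-- the coefficient vectors of the `θ`s -/
noncomputable def Theta (j : Fin n) : Fin n → ℤ :=
  ((List.finRange n).filter (fun l => j < l)).foldl (fun c l => Rl P e l c) (Pi.single j 1)

theorem phi_Theta (j : Fin n) : phi P e (Theta P e j) =
    ((List.finRange n).filter (fun l => j < l)).foldl (fun x l => P.reflection (e l) x)
      (P.root (e j)) := by
  rw [Theta, phi_foldl, phi_single]

theorem Theta_apply (j i : Fin n) (hi : i ≤ j) : Theta P e j i = if i = j then 1 else 0 := by
  rw [Theta, foldl_apply P e _ j (fun l hl => by simpa using (List.mem_filter.mp hl).2) _ i hi]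
  simp [Pi.single_apply]

theorem det_Theta : (Pi.basisFun ℤ (Fin n)).det (Theta P e) = 1 := by
  rw [Basis.det_apply]
  rw [Matrix.det_of_isLowerTriangular]
  · refine Finset.prod_eq_one fun i _ => ?_
    rw [Basis.toMatrix_apply, Pi.basisFun_repr, Theta_apply P e i i le_rfl, if_pos rfl]
  · intro i j hij
    have hij' : i < j := hij
    rw [Basis.toMatrix_apply, Pi.basisFun_repr, Theta_apply P e j i hij'.le, if_neg hij'.ne]

theorem main (b : P.Base) (e : Fin n ≃ ↥b.support) :
    LinearIndependent ℤ (fun i : Fin n =>
      ((List.finRange n).filter (fun j => i < j)).foldl (fun x j => P.reflection (e j : ι) x)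
        (P.root (e i : ι))) ∧
    Submodule.span ℤ (Set.range (fun i : Fin n =>
      ((List.finRange n).filter (fun j => i < j)).foldl (fun x j => P.reflection (e j : ι) x)
        (P.root (e i : ι)))) =
      Submodule.span ℤ (Set.range P.root) := by
  obtain rfl : instM = AddCommGroup.toIntModule M := Subsingleton.elim _ _
  set e' : Fin n → ι := fun l => (e l : ι) with he'
  have hfun : (fun i : Fin n =>
      ((List.finRange n).filter (fun j => i < j)).foldl (fun x j => P.reflection (e j : ι) x)
        (P.root (e i : ι))) = (phi P e') ∘ (Theta P e') := by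
    funext i
    exact (phi_Theta P e' i).symm
  rw [hfun]
  obtain ⟨hli, hspan⟩ := (Pi.basisFun ℤ (Fin n)).is_basis_iff_det.mpr
    (by rw [det_Theta P e']; exact isUnit_one)
  have hroot : LinearIndependent ℤ (fun l : Fin n => P.root (e' l)) := by
    have h1 : LinearIndepOn ℤ P.root (b.support : Set ι) := b.linearIndepOn_root
    rw [LinearIndepOn] at h1
    exact h1.comp e e.injective
  have hker : LinearMap.ker (phi P e') = ⊥ := by
    rw [LinearMap.ker_eq_bot']
    intro c hc
    rw [phi, Fintype.linearCombination_apply] at hc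
    funext i
    exact Fintype.linearIndependent_iff.mp hroot c hc i
  refine ⟨hli.map' _ hker, ?_⟩
  rw [Set.range_comp, ← Submodule.map_span, hspan, Submodule.map_top, phi,
    Fintype.range_linearCombination]
  refine Eq.trans ?_ b.span_int_root_support
  congr 1
  ext x
  constructor
  · rintro ⟨l, rfl⟩
    exact ⟨e l, (e l).2, rfl⟩
  · rintro ⟨i, hi, rfl⟩
    exact ⟨e.symm ⟨i, hi⟩, by simp [he']⟩

end Groth.Agent.Helper2.CoxeterTheta
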