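import Mathlib

/-! Symmetric trilinear forms and their cubic forms. -/

namespace Groth.Agent.Helper2.Cubic

variable {V : Type*} [AddCommGroup V] [Module ℂ V]

/-- a symmetric trilinear form -/
structure SymTri (V : Type*) [AddCommGroup V] [Module ℂ V] where
  T : V →ₗ[ℂ] V →ₗ[ℂ] V →ₗ[ℂ] ℂ
  s12 : ∀ u v w, T u v w = T v u w
  s23 : ∀ u v w, T u v w = T u w v

namespace SymTri

variable (S : SymTri V)

/-- the cubic form -/
def q (v : V) : ℂ := S.T v v v

theorem s13 (u v w : V) : S.T u v w = S.T w v u := by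
  rw [S.s12 u v w, S.s23 v u w, S.s12 v w u]

theorem rot (u v w : V) : S.T u v w = S.T v w u := by
  rw [S.s12 u v w, S.s23 v u w]

theorem T_lin2 (s t : ℂ) (x y w : V) :
    S.T (s • x + t • y) (s • x + t • y) w =
      s ^ 2 * S.T x x w + 2 * s * t * S.T x y w + t ^ 2 * S.T y y w := by
  simp only [map_add, map_smul, LinearMap.add_apply, LinearMap.smul_apply, smul_eq_mul]
  rw [S.s12 y x w]
  ring

theorem q_lin2 (s t : ℂ) (x y : V) :
    S.q (s • x + t • y) =
      s ^ 3 * S.q x + 3 * s ^ 2 * t * S.T x x y + 3 * s * t ^ 2 * S.T x y y + t ^ 3 * S.q y := by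
  unfold q
  simp only [map_add, map_smul, LinearMap.add_apply, LinearMap.smul_apply, smul_eq_mul]
  have e1 : S.T x y x = S.T x x y := S.s23 x y x
  have e2 : S.T y x x = S.T x x y := by rw [S.s12 y x x, e1]
  have e3 : S.T y x y = S.T x y y := S.s12 y x y
  have e4 : S.T y y x = S.T x y y := S.s13 y y x
  simp only [e1, e2, e3, e4]
  ring

theorem q_smul (s : ℂ) (x : V) : S.q (s • x) = s ^ 3 * S.q x := by
  have := S.q_lin2 s 0 x 0
  simpa using this

theorem q_add (x y : V) :
    S.q (x + y) = S.q x + 3 * S.T x x y + 3 * S.T x y y + S.q y := by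
  have := S.q_lin2 1 1 x y
  simpa using this

theorem q_sub (x y : V) :
    S.q (x - y) = S.q x - 3 * S.T x x y + 3 * S.T x y y - S.q y := by
  have := S.q_lin2 1 (-1) x y
  simp only [one_smul, neg_smul, ← sub_eq_add_neg] at this
  rw [this]
  ring

/-- polarization: if `q` vanishes on a subspace then so does `T` -/
theorem T_eq_zero_of_q (U : Submodule ℂ V) (hU : ∀ u ∈ U, S.q u = 0) :
    ∀ x ∈ U, ∀ y ∈ U, ∀ z ∈ U, S.T x y z = 0 := by
  have h2 : ∀ x ∈ U, ∀ y ∈ U, S.T x y y = 0 := by
    intro x hx y hy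
    have h1 := S.q_add x y
    have h1' := S.q_sub x y
    rw [hU _ (U.add_mem hx hy), hU _ hx, hU _ hy] at h1
    rw [hU _ (U.sub_mem hx hy), hU _ hx, hU _ hy] at h1'
    have : 6 * S.T x y y = 0 := by linear_combination (-1 : ℂ) * h1 - h1'
    simpa using this
  intro x hx y hy z hz
  have h3 := h2 x hx (y + z) (U.add_mem hy hz)
  simp only [map_add, LinearMap.add_apply] at h3
  rw [h2 x hx y hy, h2 x hx z hz, S.s23 x z y] at h3
  have : 2 * S.T x y z = 0 := by linear_combination h3
  simpa using this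

end SymTri

end Groth.Agent.Helper2.Cubic
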