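import Mathlib
import Groth.Agent.Lib.Helper2.CubicForm

set_option linter.unusedSectionVars false

namespace Groth.Agent.Helper2.Cubic

open Module

variable {V : Type*} [AddCommGroup V] [Module ℂ V]

namespace SymTri

variable (S : SymTri V)

/-- smoothness of the cubic hypersurface -/
def Smooth : Prop := ∀ v : V, v ≠ 0 → S.q v = 0 → ∃ w, S.T v v w ≠ 0

/-- Eckardt point: lies on three distinct lines of the surface -/
def Eckardt (e : V) : Prop :=
  ∃ U : Fin 3 → Submodule ℂ V, Function.Injective U ∧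
    ∀ i : Fin 3, finrank ℂ ↥(U i) = 2 ∧ e ∈ U i ∧ ∀ u ∈ U i, S.q u = 0

/-- involution with isolated fixed point `e` preserving the cubic -/
def IsInv (A : V →ₗ[ℂ] V) (e : V) : Prop :=
  A ∘ₗ A = LinearMap.id ∧ finrank ℂ ↥(LinearMap.ker (A - LinearMap.id)) = 3 ∧ A e = -e ∧
    ∃ c : ℂ, ∀ v, S.q (A v) = c * S.q v

variable {S}

theorem Eckardt.q_eq_zero {e : V} (he : S.Eckardt e) : S.q e = 0 := by
  obtain ⟨U, -, hU⟩ := he
  exact (hU 0).2.2 e (hU 0).2.1

variable [FiniteDimensional ℂ V]

theorem finrank_ker_tangent (hV : finrank ℂ V = 4) (hs : S.Smooth) {e : V} (he0 : e ≠ 0)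
    (hq : S.q e = 0) : finrank ℂ ↥(LinearMap.ker (S.T e e)) = 3 := by
  have hne : S.T e e ≠ 0 := by
    obtain ⟨w, hw⟩ := hs e he0 hq
    intro h
    rw [h] at hw
    exact hw rfl
  have := Module.Dual.finrank_ker_add_one_of_ne_zero hne
  omega

/-- two distinct planes through `e` meet in the line spanned by `e` -/
theorem inf_eq_span {U₁ U₂ : Submodule ℂ V} (h1 : finrank ℂ ↥U₁ = 2) (h2 : finrank ℂ ↥U₂ = 2)
    (hne : U₁ ≠ U₂) {e : V} (he0 : e ≠ 0) (he1 : e ∈ U₁) (he2 : e ∈ U₂) :
    U₁ ⊓ U₂ = Submodule.span ℂ {e} := by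
  have hle : Submodule.span ℂ {e} ≤ U₁ ⊓ U₂ := by
    rw [Submodule.span_singleton_le_iff_mem]
    exact ⟨he1, he2⟩
  have hlt : finrank ℂ ↥(U₁ ⊓ U₂) < 2 := by
    by_contra hcon
    rw [not_lt] at hcon
    have hle1 : finrank ℂ ↥(U₁ ⊓ U₂) ≤ 2 := h1 ▸ Submodule.finrank_mono inf_le_left
    have heq : finrank ℂ ↥(U₁ ⊓ U₂) = 2 := le_antisymm hle1 hcon
    have e1 : U₁ ⊓ U₂ = U₁ := Submodule.eq_of_le_of_finrank_eq inf_le_left (heq.trans h1.symm)
    have e2 : U₁ ⊓ U₂ = U₂ := Submodule.eq_of_le_of_finrank_eq inf_le_right (heq.trans h2.symm)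
    exact hne (e1.symm.trans e2)
  have h1' : finrank ℂ ↥(Submodule.span ℂ {e}) = 1 := finrank_span_singleton he0
  have hge : 1 ≤ finrank ℂ ↥(U₁ ⊓ U₂) := h1' ▸ Submodule.finrank_mono hle
  exact (Submodule.eq_of_le_of_finrank_eq hle (by omega)).symm

/-- a plane is spanned by two independent vectors in it -/
theorem mem_plane {U : Submodule ℂ V} (h : finrank ℂ ↥U = 2) {e u : V} (he0 : e ≠ 0) (he : e ∈ U)
    (hu : u ∈ U) (hue : u ∉ Submodule.span ℂ {e}) {y : V} (hy : y ∈ U) :
    ∃ a b : ℂ, y = a • e + b • u := by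
  have hle : Submodule.span ℂ {e, u} ≤ U := by
    rw [Submodule.span_le]
    rintro x (rfl | rfl)
    · exact he
    · exact hu
  have hlt : Submodule.span ℂ {e} < Submodule.span ℂ {e, u} := by
    refine lt_of_le_of_ne (Submodule.span_mono (by simp)) ?_
    intro heq
    apply hue
    rw [heq]
    exact Submodule.subset_span (by simp)
  have h1 : finrank ℂ ↥(Submodule.span ℂ {e}) = 1 := finrank_span_singleton he0
  have h2 := Submodule.finrank_lt_finrank_of_lt hlt
  have h3 := Submodule.finrank_mono hle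
  have heq : Submodule.span ℂ {e, u} = U := Submodule.eq_of_le_of_finrank_eq hle (by omega)
  rw [← heq, Submodule.mem_span_pair] at hy
  obtain ⟨a, b, hab⟩ := hy
  exact ⟨a, b, hab.symm⟩

/-- the polar bilinear form of an Eckardt point vanishes on the tangent plane -/
theorem Eckardt.tangent_bilin (hV : finrank ℂ V = 4) (hs : S.Smooth) {e : V} (he0 : e ≠ 0)
    (he : S.Eckardt e) : ∀ x y, S.T e e x = 0 → S.T e e y = 0 → S.T e x y = 0 := by
  have hq := he.q_eq_zero
  obtain ⟨U, hinj, hU⟩ := he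
  have hT : ∀ i, ∀ x ∈ U i, ∀ y ∈ U i, ∀ z ∈ U i, S.T x y z = 0 :=
    fun i => S.T_eq_zero_of_q (U i) (hU i).2.2
  have heU : ∀ i, e ∈ U i := fun i => (hU i).2.1
  set W := LinearMap.ker (S.T e e) with hW
  have hWrank : finrank ℂ ↥W = 3 := finrank_ker_tangent hV hs he0 hq
  have hUW : ∀ i, U i ≤ W := by
    intro i u hu
    rw [hW, LinearMap.mem_ker]
    exact hT i e (heU i) e (heU i) u hu
  have hinf : ∀ i j, i ≠ j → U i ⊓ U j = Submodule.span ℂ {e} := by
    intro i j hij
    exact inf_eq_span (hU i).1 (hU j).1 (fun h => hij (hinj h)) he0 (heU i) (heU j)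
  -- `U 0 ⊔ U 1 = W`
  have hsup : U 0 ⊔ U 1 = W := by
    have h1 := Submodule.finrank_sup_add_finrank_inf_eq (U 0) (U 1)
    rw [hinf 0 1 (by decide), finrank_span_singleton he0, (hU 0).1, (hU 1).1] at h1
    refine Submodule.eq_of_le_of_finrank_eq (sup_le (hUW 0) (hUW 1)) ?_
    omega
  -- a vector of `U 2` outside `span e`
  obtain ⟨x3, hx3, hx3e⟩ : ∃ x ∈ U 2, x ∉ Submodule.span ℂ {e} := by
    by_contra hcon
    push Not at hcon
    have hle : U 2 ≤ Submodule.span ℂ {e} := hcon
    have := Submodule.finrank_mono hle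
    rw [finrank_span_singleton he0, (hU 2).1] at this
    omega
  have hx3W : x3 ∈ U 0 ⊔ U 1 := by rw [hsup]; exact hUW 2 hx3
  obtain ⟨u0, hu0, u1, hu1, hsum⟩ := Submodule.mem_sup.mp hx3W
  have hspanle : ∀ i, Submodule.span ℂ {e} ≤ U i := fun i => by
    rw [Submodule.span_singleton_le_iff_mem]; exact heU i
  have hu0e : u0 ∉ Submodule.span ℂ {e} := by
    intro h
    apply hx3e
    rw [← hinf 2 1 (by decide)]
    refine ⟨hx3, ?_⟩
    rw [← hsum]
    exact (U 1).add_mem (hspanle 1 h) hu1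
  have hu1e : u1 ∉ Submodule.span ℂ {e} := by
    intro h
    apply hx3e
    rw [← hinf 2 0 (by decide)]
    refine ⟨hx3, ?_⟩
    rw [← hsum]
    exact (U 0).add_mem hu0 (hspanle 0 h)
  -- the key vanishing
  have hkey : S.T e u0 u1 = 0 := by
    have h1 := hT 2 e (heU 2) x3 hx3 x3 hx3
    rw [← hsum] at h1
    simp only [map_add, LinearMap.add_apply] at h1
    rw [hT 0 e (heU 0) u0 hu0 u0 hu0, hT 1 e (heU 1) u1 hu1 u1 hu1, S.s23 e u1 u0] at h1
    have : 2 * S.T e u0 u1 = 0 := by linear_combination h1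
    simpa using this
  have hcross : ∀ y0 ∈ U 0, ∀ y1 ∈ U 1, S.T e y0 y1 = 0 := by
    intro y0 hy0 y1 hy1
    obtain ⟨a, b, rfl⟩ := mem_plane (hU 0).1 he0 (heU 0) hu0 hu0e hy0
    obtain ⟨a', b', rfl⟩ := mem_plane (hU 1).1 he0 (heU 1) hu1 hu1e hy1
    simp only [map_add, map_smul, LinearMap.add_apply, LinearMap.smul_apply, smul_eq_mul]
    have e1 : S.T e e e = 0 := hq
    have e2 : S.T e e u1 = 0 := hT 1 e (heU 1) e (heU 1) u1 hu1
    have e3 : S.T e u0 e = 0 := hT 0 e (heU 0) u0 hu0 e (heU 0)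
    rw [e1, e2, e3, hkey]
    ring
  intro x y hx hy
  have hxW : x ∈ U 0 ⊔ U 1 := by rw [hsup, hW, LinearMap.mem_ker]; exact hx
  have hyW : y ∈ U 0 ⊔ U 1 := by rw [hsup, hW, LinearMap.mem_ker]; exact hy
  obtain ⟨a0, ha0, a1, ha1, rfl⟩ := Submodule.mem_sup.mp hxW
  obtain ⟨b0, hb0, b1, hb1, rfl⟩ := Submodule.mem_sup.mp hyW
  simp only [map_add, LinearMap.add_apply]
  rw [hT 0 e (heU 0) a0 ha0 b0 hb0, hT 1 e (heU 1) a1 ha1 b1 hb1, hcross a0 ha0 b1 hb1,
    S.s23 e a1 b0, hcross b0 hb0 a1 ha1]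
  ring

/-- the data attached to an Eckardt-like point: `T e x y = ℓ x * m y + m x * ℓ y`, `m e = 1` -/
structure Polar (S : SymTri V) (e : V) where
  m : V →ₗ[ℂ] ℂ
  hB : ∀ x y, S.T e x y = S.T e e x * m y + m x * S.T e e y
  hme : m e = 1

theorem exists_polar (hs : S.Smooth) {e : V} (he0 : e ≠ 0) (hq : S.q e = 0)
    (hB : ∀ x y, S.T e e x = 0 → S.T e e y = 0 → S.T e x y = 0) : Nonempty (S.Polar e) := by
  obtain ⟨w, hw⟩ := hs e he0 hq
  set z : V := (S.T e e w)⁻¹ • w with hz
  have hz1 : S.T e e z = 1 := by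
    rw [hz, map_smul, smul_eq_mul, inv_mul_cancel₀ hw]
  have hform : ∀ x y, S.T e x y =
      S.T e e y * S.T e x z + S.T e e x * S.T e z y - S.T e e x * S.T e e y * S.T e z z := by
    intro x y
    have hx0 : S.T e e (x - S.T e e x • z) = 0 := by
      rw [map_sub, map_smul, hz1, smul_eq_mul, mul_one, sub_self]
    have hy0 : S.T e e (y - S.T e e y • z) = 0 := by
      rw [map_sub, map_smul, hz1, smul_eq_mul, mul_one, sub_self]
    have := hB _ _ hx0 hy0
    simp only [map_sub, map_smul, LinearMap.sub_apply, LinearMap.smul_apply, smul_eq_mul] at this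
    linear_combination this
  refine ⟨⟨S.T e z - ((1 / 2 : ℂ) * S.T e z z) • S.T e e, ?_, ?_⟩⟩
  · intro x y
    simp only [LinearMap.sub_apply, LinearMap.smul_apply, smul_eq_mul]
    rw [hform x y, S.s23 e x z]
    ring
  · simp only [LinearMap.sub_apply, LinearMap.smul_apply, smul_eq_mul]
    have : S.T e e e = 0 := hq
    rw [S.s23 e z e, hz1, this]
    ring

namespace Polar

variable {e : V} (P : S.Polar e)

/-- the involution attached to polar data -/
noncomputable def inv : V →ₗ[ℂ] V := LinearMap.id - (2 : ℂ) • P.m.smulRight e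

theorem inv_apply (v : V) : P.inv v = v - (2 * P.m v) • e := by
  simp [inv, LinearMap.smulRight_apply, smul_smul]

theorem m_inv (v : V) : P.m (P.inv v) = - P.m v := by
  rw [inv_apply, map_sub, map_smul, P.hme, smul_eq_mul]
  ring

theorem inv_inv (v : V) : P.inv (P.inv v) = v := by
  rw [inv_apply, m_inv, inv_apply]
  module

theorem inv_comp : P.inv ∘ₗ P.inv = LinearMap.id := by
  ext v
  exact P.inv_inv v

theorem inv_e : P.inv e = -e := by
  rw [inv_apply, P.hme]
  module

theorem T_e_self (v : V) : S.T e v v = 2 * S.T e e v * P.m v := by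
  rw [P.hB v v]; ring

theorem q_inv (hq : S.q e = 0) (v : V) : S.q (P.inv v) = S.q v := by
  rw [inv_apply]
  have h := S.q_lin2 1 (-(2 * P.m v)) v e
  rw [one_smul, neg_smul, ← sub_eq_add_neg] at h
  rw [h, hq, S.s13 v v e, S.s12 v e e, S.s23 e v e, P.T_e_self v]
  ring

theorem ker_inv_sub : LinearMap.ker (P.inv - LinearMap.id) = LinearMap.ker P.m := by
  ext v
  rw [LinearMap.mem_ker, LinearMap.mem_ker, LinearMap.sub_apply, LinearMap.id_apply, inv_apply]
  constructor
  · intro h
    have h1 : (2 * P.m v) • e = 0 := by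
      have : v - (2 * P.m v) • e - v = -((2 * P.m v) • e) := by abel
      rw [this] at h
      exact neg_eq_zero.mp h
    have h2 := congrArg P.m h1
    rw [map_smul, P.hme, map_zero, smul_eq_mul, mul_one] at h2
    simpa using h2
  · intro h
    rw [h]
    simp

theorem m_ne_zero : P.m ≠ 0 := by
  intro h
  have := P.hme
  rw [h] at this
  simp at this

theorem isInv (hV : finrank ℂ V = 4) (hq : S.q e = 0) : S.IsInv P.inv e := by
  refine ⟨P.inv_comp, ?_, P.inv_e, 1, fun v => by rw [P.q_inv hq, one_mul]⟩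
  rw [P.ker_inv_sub]
  have := Module.Dual.finrank_ker_add_one_of_ne_zero P.m_ne_zero
  omega

end Polar

/-- structure of an arbitrary involution fixing a hyperplane and negating a point of the surface -/
theorem IsInv.analysis (hV : finrank ℂ V = 4) (hs : S.Smooth) {e : V} (he0 : e ≠ 0)
    (hq : S.q e = 0) {A : V →ₗ[ℂ] V} (hA : S.IsInv A e) :
    (∀ v, ∃ x ∈ LinearMap.ker (A - LinearMap.id), ∃ s : ℂ, v = s • e + x) ∧
    (∀ v, S.q (A v) = S.q v) ∧
    (∀ x ∈ LinearMap.ker (A - LinearMap.id), S.T e x x = 0) := by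
  obtain ⟨hAA, hrank, hAe, c, hc⟩ := hA
  set H := LinearMap.ker (A - LinearMap.id) with hH
  have hmemH : ∀ x, x ∈ H ↔ A x = x := by
    intro x
    rw [hH, LinearMap.mem_ker, LinearMap.sub_apply, LinearMap.id_apply, sub_eq_zero]
  -- decomposition
  have hinf : H ⊓ Submodule.span ℂ {e} = ⊥ := by
    rw [eq_bot_iff]
    rintro x ⟨hx1, hx2⟩
    obtain ⟨s, rfl⟩ := Submodule.mem_span_singleton.mp hx2
    have h1 := (hmemH _).mp hx1
    rw [map_smul, hAe, smul_neg] at h1
    have h2 : (2 : ℂ) • (s • e) = 0 := by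
      have : s • e + s • e = 0 := by
        nth_rw 1 [← h1]
        simp
      rw [two_smul]; exact this
    have h3 : s • e = 0 := by
      rcases smul_eq_zero.mp h2 with h | h
      · norm_num at h
      · exact h
    rw [Submodule.mem_bot]; exact h3
  have hsup : H ⊔ Submodule.span ℂ {e} = ⊤ := by
    apply Submodule.eq_top_of_finrank_eq
    have h1 := Submodule.finrank_sup_add_finrank_inf_eq H (Submodule.span ℂ {e})
    rw [hinf, finrank_bot, hrank, finrank_span_singleton he0] at h1
    omega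
  have hdec : ∀ v, ∃ x ∈ H, ∃ s : ℂ, v = s • e + x := by
    intro v
    have hv : v ∈ H ⊔ Submodule.span ℂ {e} := by rw [hsup]; trivial
    obtain ⟨x, hx, y, hy, rfl⟩ := Submodule.mem_sup.mp hv
    obtain ⟨s, rfl⟩ := Submodule.mem_span_singleton.mp hy
    exact ⟨x, hx, s, add_comm _ _⟩
  -- the basic identity
  have hstar : ∀ x ∈ H, ∀ s : ℂ,
      3 * s ^ 2 * S.T e e x - 3 * s * S.T e x x + S.q x =
        c * (3 * s ^ 2 * S.T e e x + 3 * s * S.T e x x + S.q x) := by
    intro x hx s
    have h1 := hc (s • e + x)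
    rw [map_add, map_smul, hAe, (hmemH x).mp hx] at h1
    have h2 := S.q_lin2 s 1 e x
    have h3 := S.q_lin2 s 1 (-e) x
    rw [one_smul] at h2 h3
    rw [h2, h3] at h1
    have h4 : S.q (-e) = 0 := by
      have := S.q_smul (-1) e
      rw [neg_one_smul, hq, mul_zero] at this
      exact this
    rw [h4, hq] at h1
    simp only [map_neg, LinearMap.neg_apply] at h1
    linear_combination h1
  -- `c ^ 2 = 1`
  have hqne : ∃ v, S.q v ≠ 0 := by
    by_contra hcon
    push Not at hcon
    obtain ⟨w, hw⟩ := hs e he0 hq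
    exact hw (S.T_eq_zero_of_q ⊤ (fun u _ => hcon u) e trivial e trivial w trivial)
  have hc2 : c ^ 2 = 1 := by
    obtain ⟨v, hv⟩ := hqne
    have h1 := hc (A v)
    have h2 : A (A v) = v := by
      have := LinearMap.congr_fun hAA v
      simpa using this
    rw [h2, hc v] at h1
    have : (c ^ 2 - 1) * S.q v = 0 := by linear_combination -h1
    rcases mul_eq_zero.mp this with h | h
    · linear_combination h
    · exact absurd h hv
  have hc1 : c = 1 := by
    have : (c - 1) * (c + 1) = 0 := by linear_combination hc2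
    rcases mul_eq_zero.mp this with h | h
    · linear_combination h
    · exfalso
      have hcm : c = -1 := by linear_combination h
      obtain ⟨w, hw⟩ := hs e he0 hq
      apply hw
      obtain ⟨x, hx, s, rfl⟩ := hdec w
      have h0 := hstar x hx 0
      have h1 := hstar x hx 1
      rw [hcm] at h0 h1
      have hqx : S.q x = 0 := by
        have : 2 * S.q x = 0 := by linear_combination h0
        simpa using this
      have hlx : S.T e e x = 0 := by
        rw [hqx] at h1
        have : 6 * S.T e e x = 0 := by linear_combination h1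
        simpa using this
      rw [map_add, map_smul, hlx]
      have : S.T e e e = 0 := hq
      rw [this]
      simp
  refine ⟨hdec, fun v => by rw [hc v, hc1, one_mul], ?_⟩
  intro x hx
  have h1 := hstar x hx 1
  rw [hc1] at h1
  have : 6 * S.T e x x = 0 := by linear_combination -h1
  simpa using this

/-- uniqueness of the involution attached to polar data -/
theorem IsInv.eq_polar_inv (hV : finrank ℂ V = 4) (hs : S.Smooth) {e : V} (he0 : e ≠ 0)
    (hq : S.q e = 0) (P : S.Polar e) {A : V →ₗ[ℂ] V} (hA : S.IsInv A e) : A = P.inv := by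
  obtain ⟨hdec, -, hQ⟩ := hA.analysis hV hs he0 hq
  obtain ⟨hAA, hrank, hAe, -⟩ := hA
  set H := LinearMap.ker (A - LinearMap.id) with hH
  have hmemH : ∀ x, x ∈ H ↔ A x = x := by
    intro x
    rw [hH, LinearMap.mem_ker, LinearMap.sub_apply, LinearMap.id_apply, sub_eq_zero]
  have hor : ∀ x ∈ H, S.T e e x = 0 ∨ P.m x = 0 := by
    intro x hx
    have := hQ x hx
    rw [P.T_e_self] at this
    rcases mul_eq_zero.mp this with h | h
    · rcases mul_eq_zero.mp h with h' | h'
      · norm_num at h'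
      · exact Or.inl h'
    · exact Or.inr h
  have heH : e ∉ H := by
    intro h
    have h1 := (hmemH e).mp h
    rw [hAe] at h1
    have : (2 : ℂ) • e = 0 := by
      rw [two_smul]
      nth_rw 1 [← h1]
      simp
    rcases smul_eq_zero.mp this with h | h
    · norm_num at h
    · exact he0 h
  have hHm : ∀ x ∈ H, P.m x = 0 := by
    by_contra hcon
    push Not at hcon
    obtain ⟨y, hy, hmy⟩ := hcon
    have hly : S.T e e y = 0 := (hor y hy).resolve_right hmy
    -- then `H ≤ ker ℓ`
    have hHl : ∀ x ∈ H, S.T e e x = 0 := by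
      intro x hx
      by_contra hlx
      have hmx : P.m x = 0 := (hor x hx).resolve_left hlx
      rcases hor (x + y) (H.add_mem hx hy) with h | h
      · rw [map_add, hly, add_zero] at h
        exact hlx h
      · rw [map_add, hmx, zero_add] at h
        exact hmy h
    have hle : H ≤ LinearMap.ker (S.T e e) := fun x hx => LinearMap.mem_ker.mpr (hHl x hx)
    have heq : H = LinearMap.ker (S.T e e) :=
      Submodule.eq_of_le_of_finrank_eq hle (by rw [hrank, finrank_ker_tangent hV hs he0 hq])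
    apply heH
    rw [heq, LinearMap.mem_ker]
    exact hq
  ext v
  obtain ⟨x, hx, s, rfl⟩ := hdec v
  rw [map_add, map_smul, hAe, (hmemH x).mp hx, P.inv_apply, map_add, map_smul, P.hme, hHm x hx]
  simp only [smul_eq_mul, mul_one, add_zero]
  module

end SymTri

end Groth.Agent.Helper2.Cubic
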