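import Mathlib
import Groth.Agent.Lib.Helper2.CubicForm
import Groth.Agent.Lib.Helper2.CubicEckardt

set_option linter.unusedSectionVars false

namespace Groth.Agent.Helper2.Cubic

open Module Polynomial

variable {V : Type*} [AddCommGroup V] [Module ℂ V] [FiniteDimensional ℂ V]

namespace SymTri

variable {S : SymTri V}

/-- a cubic polynomial over `ℂ` without multiple roots has three distinct roots -/
theorem three_roots (a b c d : ℂ) (ha : a ≠ 0)
    (hsimple : ∀ t : ℂ, a * t ^ 3 + b * t ^ 2 + c * t + d = 0 → 3 * a * t ^ 2 + 2 * b * t + c ≠ 0) :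
    ∃ t1 t2 t3 : ℂ, t1 ≠ t2 ∧ t1 ≠ t3 ∧ t2 ≠ t3 ∧
      (∀ t ∈ ({t1, t2, t3} : Set ℂ), a * t ^ 3 + b * t ^ 2 + c * t + d = 0) := by
  set P : ℂ[X] := C a * X ^ 3 + C b * X ^ 2 + C c * X + C d with hP
  have hdeg : P.natDegree = 3 := natDegree_cubic ha
  have hP0 : P ≠ 0 := by
    intro h
    rw [h] at hdeg
    simp at hdeg
  have hcard : Multiset.card P.roots = 3 := by
    rw [← hdeg]
    exact splits_iff_card_roots.mp (IsAlgClosed.splits P)
  have heval : ∀ t, P.eval t = a * t ^ 3 + b * t ^ 2 + c * t + d := by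
    intro t; simp [hP]
  have hder : ∀ t, (derivative P).eval t = 3 * a * t ^ 2 + 2 * b * t + c := by
    intro t
    simp [hP]
    ring
  have hnodup : P.roots.Nodup := by
    rw [Multiset.nodup_iff_count_le_one]
    intro t
    rw [count_roots]
    by_contra hcon
    rw [not_le] at hcon
    have := (one_lt_rootMultiplicity_iff_isRoot hP0).mp hcon
    obtain ⟨h1, h2⟩ := this
    rw [IsRoot.def, heval] at h1
    rw [IsRoot.def, hder] at h2
    exact hsimple t h1 h2
  have hfin : P.roots.toFinset.card = 3 := by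
    rw [Multiset.toFinset_card_of_nodup hnodup, hcard]
  obtain ⟨t1, t2, t3, h12, h13, h23, hset⟩ := Finset.card_eq_three.mp hfin
  refine ⟨t1, t2, t3, h12, h13, h23, ?_⟩
  intro t ht
  have : t ∈ P.roots.toFinset := by
    rw [hset]
    simpa using ht
  rw [Multiset.mem_toFinset, mem_roots hP0, IsRoot.def, heval] at this
  exact this

theorem finrank_span_pair_le (a b : V) : finrank ℂ ↥(Submodule.span ℂ {a, b}) ≤ 2 := by
  classical
  have := finrank_span_finset_le_card (R := ℂ) ({a, b} : Finset V)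
  rw [Finset.coe_insert, Finset.coe_singleton] at this
  exact this.trans Finset.card_le_two

/-- a binary cubic without multiple roots has three pairwise non-proportional roots -/
theorem three_points (K : Submodule ℂ V) (hK : finrank ℂ ↥K = 2)
    (hsimple : ∀ x ∈ K, x ≠ 0 → S.q x = 0 → ∃ k ∈ K, S.T x x k ≠ 0) :
    ∃ (k1 k2 : V) (t : Fin 3 → ℂ), k1 ∈ K ∧ k2 ∈ K ∧ k2 ∉ Submodule.span ℂ {k1} ∧ k1 ≠ 0 ∧
      Function.Injective t ∧ ∀ i, S.q (t i • k1 + k2) = 0 := by
  -- `q` is not identically zero on `K`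
  have hex : ∃ k1 ∈ K, S.q k1 ≠ 0 := by
    by_contra hcon
    push Not at hcon
    have hT := S.T_eq_zero_of_q K hcon
    have hKne : K ≠ ⊥ := by
      intro h
      rw [h, finrank_bot] at hK
      omega
    obtain ⟨x, hx, hx0⟩ := Submodule.exists_mem_ne_zero_of_ne_bot hKne
    obtain ⟨k, hk, hk'⟩ := hsimple x hx hx0 (hcon x hx)
    exact hk' (hT x hx x hx k hk)
  obtain ⟨k1, hk1, hqk1⟩ := hex
  have hk10 : k1 ≠ 0 := by
    rintro rfl
    apply hqk1
    have := S.q_smul 0 (0 : V)
    simpa using this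
  obtain ⟨k2, hk2, hk2s⟩ : ∃ x ∈ K, x ∉ Submodule.span ℂ {k1} := by
    by_contra hcon
    push Not at hcon
    have hle : K ≤ Submodule.span ℂ {k1} := hcon
    have := Submodule.finrank_mono hle
    rw [finrank_span_singleton hk10, hK] at this
    omega
  have hexp : ∀ t : ℂ, S.q (t • k1 + k2) =
      S.q k1 * t ^ 3 + (3 * S.T k1 k1 k2) * t ^ 2 + (3 * S.T k1 k2 k2) * t + S.q k2 := by
    intro t
    have := S.q_lin2 t 1 k1 k2
    rw [one_smul] at this
    rw [this]
    ring
  have hgrad : ∀ t : ℂ, 3 * S.T (t • k1 + k2) (t • k1 + k2) k1 =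
      3 * S.q k1 * t ^ 2 + 2 * (3 * S.T k1 k1 k2) * t + 3 * S.T k1 k2 k2 := by
    intro t
    have := S.T_lin2 t 1 k1 k2 k1
    rw [one_smul] at this
    rw [this, S.s23 k1 k2 k1, S.s13 k2 k2 k1]
    unfold q
    ring
  obtain ⟨t1, t2, t3, h12, h13, h23, hroots⟩ := three_roots (S.q k1) (3 * S.T k1 k1 k2)
    (3 * S.T k1 k2 k2) (S.q k2) hqk1 (by
      intro t ht hder
      rw [← hexp] at ht
      rw [← hgrad] at hder
      have hx : t • k1 + k2 ∈ K := K.add_mem (K.smul_mem _ hk1) hk2
      have hx0 : t • k1 + k2 ≠ 0 := by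
        intro h
        apply hk2s
        rw [Submodule.mem_span_singleton]
        refine ⟨-t, ?_⟩
        rw [neg_smul]
        exact (eq_neg_of_add_eq_zero_right h).symm
      obtain ⟨k, hk, hk'⟩ := hsimple _ hx hx0 ht
      apply hk'
      have h1 : S.T (t • k1 + k2) (t • k1 + k2) k1 = 0 := by
        have : (3 : ℂ) ≠ 0 := by norm_num
        exact (mul_eq_zero.mp hder).resolve_left this
      have h2 : S.T (t • k1 + k2) (t • k1 + k2) k2 = 0 := by
        have h3 : S.T (t • k1 + k2) (t • k1 + k2) (t • k1 + k2) = 0 := ht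
        rw [map_add, map_smul, h1, smul_zero, zero_add] at h3
        exact h3
      obtain ⟨a, b, rfl⟩ := mem_plane hK hk10 hk1 hk2 hk2s hk
      rw [map_add, map_smul, map_smul, h1, h2]
      simp)
  refine ⟨k1, k2, ![t1, t2, t3], hk1, hk2, hk2s, hk10, ?_, ?_⟩
  · intro i j hij
    fin_cases i <;> fin_cases j <;> simp_all
  · intro i
    rw [hexp]
    apply hroots
    fin_cases i <;> simp

/-- (S18408, abstract form) the isolated fixed point of an involution of the surface is an
Eckardt point -/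
theorem IsInv.eckardt (hV : finrank ℂ V = 4) (hs : S.Smooth) {p : V} (hp0 : p ≠ 0)
    (hq : S.q p = 0) {A : V →ₗ[ℂ] V} (hA : S.IsInv A p) : S.Eckardt p := by
  obtain ⟨hdec, -, hQ⟩ := hA.analysis hV hs hp0 hq
  obtain ⟨hAA, hrank, hAp, -⟩ := hA
  set H := LinearMap.ker (A - LinearMap.id) with hH
  have hmemH : ∀ x, x ∈ H ↔ A x = x := by
    intro x
    rw [hH, LinearMap.mem_ker, LinearMap.sub_apply, LinearMap.id_apply, sub_eq_zero]
  have hpH : p ∉ H := by
    intro h
    have h1 := (hmemH p).mp h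
    rw [hAp] at h1
    have : (2 : ℂ) • p = 0 := by
      rw [two_smul]
      nth_rw 1 [← h1]
      simp
    rcases smul_eq_zero.mp this with h | h
    · norm_num at h
    · exact hp0 h
  -- polarization of `Q_p` on `H`
  have hB : ∀ x ∈ H, ∀ y ∈ H, S.T p x y = 0 := by
    intro x hx y hy
    have h1 := hQ (x + y) (H.add_mem hx hy)
    simp only [map_add, LinearMap.add_apply] at h1
    rw [hQ x hx, hQ y hy, S.s23 p y x] at h1
    have : 2 * S.T p x y = 0 := by linear_combination h1
    simpa using this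
  set ℓ := S.T p p with hℓ
  have hℓp : ℓ p = 0 := hq
  -- `z ∈ H` with `ℓ z = 1`
  obtain ⟨z, hzH, hz1⟩ : ∃ z ∈ H, ℓ z = 1 := by
    obtain ⟨w, hw⟩ := hs p hp0 hq
    obtain ⟨x, hx, s, rfl⟩ := hdec w
    rw [map_add, map_smul] at hw
    change s • ℓ p + ℓ x ≠ 0 at hw
    rw [hℓp, smul_zero, zero_add] at hw
    refine ⟨(ℓ x)⁻¹ • x, H.smul_mem _ hx, ?_⟩
    rw [map_smul, smul_eq_mul, inv_mul_cancel₀ hw]
  set K := H ⊓ LinearMap.ker ℓ with hK
  have hKrank : finrank ℂ ↥K = 2 := by
    have h1 := Submodule.finrank_sup_add_finrank_inf_eq H (LinearMap.ker ℓ)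
    have h2 : finrank ℂ ↥(LinearMap.ker ℓ) = 3 := finrank_ker_tangent hV hs hp0 hq
    have h3 : H ⊔ LinearMap.ker ℓ = ⊤ := by
      rw [eq_top_iff]
      intro v _
      obtain ⟨x, hx, s, rfl⟩ := hdec v
      refine Submodule.add_mem _ (Submodule.mem_sup_right ?_) (Submodule.mem_sup_left hx)
      rw [LinearMap.mem_ker, map_smul, hℓp, smul_zero]
    rw [h3, finrank_top, hV, hrank, h2] at h1
    rw [hK]
    omega
  -- no multiple roots on `K`
  have hsimple : ∀ x ∈ K, x ≠ 0 → S.q x = 0 → ∃ k ∈ K, S.T x x k ≠ 0 := by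
    intro x hx hx0 hqx
    by_contra hcon
    push Not at hcon
    obtain ⟨hxH, hxl⟩ := Submodule.mem_inf.mp hx
    rw [LinearMap.mem_ker] at hxl
    have hmu : ∀ w ∈ H, S.T x x w = ℓ w * S.T x x z := by
      intro w hw
      have hk : w - ℓ w • z ∈ K := by
        refine Submodule.mem_inf.mpr ⟨H.sub_mem hw (H.smul_mem _ hzH), ?_⟩
        rw [LinearMap.mem_ker, map_sub, map_smul, hz1, smul_eq_mul, mul_one, sub_self]
      have := hcon _ hk
      rw [map_sub, map_smul, smul_eq_mul] at this
      linear_combination this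
    obtain ⟨s, hs2⟩ := IsAlgClosed.exists_pow_nat_eq (-(S.T x x z)) (n := 2) (by norm_num)
    have hv0 : s • p + x ≠ 0 := by
      intro h
      by_cases hs0 : s = 0
      · rw [hs0, zero_smul, zero_add] at h
        exact hx0 h
      · apply hpH
        have : p = (-s⁻¹) • x := by
          have h1 : s • p = -x := eq_neg_of_add_eq_zero_left h
          rw [neg_smul, ← smul_neg, ← h1, smul_smul, inv_mul_cancel₀ hs0, one_smul]
        rw [this]
        exact H.smul_mem _ hxH
    have hgrad : ∀ w, S.T (s • p + x) (s • p + x) w = 0 := by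
      intro w
      have h1 := S.T_lin2 s 1 p x w
      rw [one_smul] at h1
      rw [h1]
      obtain ⟨y, hy, r, rfl⟩ := hdec w
      simp only [map_add, map_smul, smul_eq_mul]
      have e1 : S.T p p p = 0 := hq
      have e2 : S.T p x p = 0 := by rw [S.s23 p x p]; exact hxl
      have e3 : S.T x x p = 0 := by rw [S.s13 x x p]; exact hQ x hxH
      have e4 : S.T p x y = 0 := hB x hxH y hy
      have e5 : S.T x x y = ℓ y * S.T x x z := hmu y hy
      have e6 : S.T p p y = ℓ y := rfl
      rw [e1, e2, e3, e4, e5, e6]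
      linear_combination (ℓ y) * hs2
    have hqv : S.q (s • p + x) = 0 := hgrad _
    obtain ⟨w, hw⟩ := hs _ hv0 hqv
    exact hw (hgrad w)
  obtain ⟨k1, k2, t, hk1, hk2, hk2s, hk10, htinj, hroots⟩ := three_points K hKrank hsimple
  have hxK : ∀ i, t i • k1 + k2 ∈ K := fun i => K.add_mem (K.smul_mem _ hk1) hk2
  refine ⟨fun i => Submodule.span ℂ {p, t i • k1 + k2}, ?_, ?_⟩
  · -- injectivity
    intro i j hij
    by_contra hne
    have hmem : t j • k1 + k2 ∈ Submodule.span ℂ {p, t i • k1 + k2} := by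
      simp only at hij
      rw [hij]
      exact Submodule.subset_span (by simp)
    obtain ⟨a, b, hab⟩ := Submodule.mem_span_pair.mp hmem
    have ha : a = 0 := by
      by_contra ha
      apply hpH
      have : p = a⁻¹ • ((t j • k1 + k2) - b • (t i • k1 + k2)) := by
        rw [← hab, add_sub_cancel_right, smul_smul, inv_mul_cancel₀ ha, one_smul]
      rw [this]
      exact H.smul_mem _ (H.sub_mem (hxK j).1 (H.smul_mem _ (hxK i).1))
    rw [ha, zero_smul, zero_add] at hab
    -- `b • (t i • k1 + k2) = t j • k1 + k2`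
    have hb : b = 1 := by
      by_contra hb
      apply hk2s
      rw [Submodule.mem_span_singleton]
      refine ⟨(1 - b)⁻¹ * (b * t i - t j), ?_⟩
      have h1 : (1 - b) • k2 = (b * t i - t j) • k1 := by
        have : b • (t i • k1 + k2) - (t j • k1 + k2) = 0 := sub_eq_zero.mpr hab
        rw [smul_add, smul_smul] at this
        rw [sub_smul, sub_smul, one_smul]
        rw [← sub_eq_zero]
        rw [← neg_eq_zero]
        rw [← this]
        abel
      have h1b : (1 - b) ≠ 0 := sub_ne_zero.mpr (Ne.symm hb)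
      rw [mul_smul, ← h1, smul_smul, inv_mul_cancel₀ h1b, one_smul]
    rw [hb, one_smul] at hab
    have h2 : (t i - t j) • k1 = 0 := by
      rw [sub_smul, sub_eq_zero]
      exact add_right_cancel hab
    rcases smul_eq_zero.mp h2 with h | h
    · exact hne (htinj (sub_eq_zero.mp h))
    · exact hk10 h
  · intro i
    refine ⟨?_, Submodule.subset_span (by simp), ?_⟩
    · -- rank two
      have hlt : Submodule.span ℂ {p} < Submodule.span ℂ {p, t i • k1 + k2} := by
        refine lt_of_le_of_ne (Submodule.span_mono (by simp)) ?_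
        intro heq
        have hx : t i • k1 + k2 ∈ Submodule.span ℂ {p} := by
          rw [heq]; exact Submodule.subset_span (by simp)
        obtain ⟨a, ha⟩ := Submodule.mem_span_singleton.mp hx
        have hx0 : t i • k1 + k2 ≠ 0 := by
          intro h
          apply hk2s
          rw [Submodule.mem_span_singleton]
          refine ⟨-t i, ?_⟩
          rw [neg_smul]
          exact (eq_neg_of_add_eq_zero_right h).symm
        have ha0 : a ≠ 0 := by
          rintro rfl
          rw [zero_smul] at ha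
          exact hx0 ha.symm
        apply hpH
        have : p = a⁻¹ • (t i • k1 + k2) := by
          rw [← ha, smul_smul, inv_mul_cancel₀ ha0, one_smul]
        rw [this]
        exact H.smul_mem _ (hxK i).1
      have h1 : finrank ℂ ↥(Submodule.span ℂ {p}) = 1 := finrank_span_singleton hp0
      have h2 := Submodule.finrank_lt_finrank_of_lt hlt
      have h3 : finrank ℂ ↥(Submodule.span ℂ {p, t i • k1 + k2}) ≤ 2 :=
        finrank_span_pair_le _ _
      show finrank ℂ ↥(Submodule.span ℂ {p, t i • k1 + k2}) = 2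
      omega
    · intro u hu
      obtain ⟨a, b, rfl⟩ := Submodule.mem_span_pair.mp hu
      rw [S.q_lin2, hq, hroots i]
      have e1 : S.T p p (t i • k1 + k2) = 0 := LinearMap.mem_ker.mp (hxK i).2
      have e2 : S.T p (t i • k1 + k2) (t i • k1 + k2) = 0 := hQ _ (hxK i).1
      rw [e1, e2]
      ring

end SymTri

end Groth.Agent.Helper2.Cubic
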