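import Mathlib
import Groth.Agent.Lib.Helper2.CubicForm
import Groth.Agent.Lib.Helper2.CubicEckardt
import Groth.Agent.Lib.Helper2.CubicEckardt2

set_option linter.unusedSectionVars false

namespace Groth.Agent.Helper2.Cubic

open Module

variable {V : Type*} [AddCommGroup V] [Module ℂ V] [FiniteDimensional ℂ V]

namespace SymTri

variable {S : SymTri V}

/-- Eckardt points are preserved by scaling -/
theorem Eckardt.smul {e : V} (he : S.Eckardt e) (c : ℂ) : S.Eckardt (c • e) := by
  obtain ⟨U, hinj, hU⟩ := he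
  exact ⟨U, hinj, fun i => ⟨(hU i).1, (U i).smul_mem c (hU i).2.1, (hU i).2.2⟩⟩

/-- Eckardt points are preserved by automorphisms of the cubic -/
theorem Eckardt.map {e : V} (he : S.Eckardt e) (φ : V ≃ₗ[ℂ] V) (hφ : ∀ v, S.q (φ v) = S.q v) :
    S.Eckardt (φ e) := by
  obtain ⟨U, hinj, hU⟩ := he
  refine ⟨fun i => (U i).map (φ : V →ₗ[ℂ] V), ?_, fun i => ⟨?_, ?_, ?_⟩⟩
  · intro i j hij
    apply hinj
    exact Submodule.map_injective_of_injective φ.injective hij
  · rw [LinearEquiv.finrank_map_eq]
    exact (hU i).1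
  · exact Submodule.mem_map_of_mem (hU i).2.1
  · rintro _ ⟨u, hu, rfl⟩
    show S.q (φ u) = 0
    rw [hφ]
    exact (hU i).2.2 u hu

/-- the involution of polar data as a linear equivalence -/
noncomputable def Polar.invEquiv {e : V} (P : S.Polar e) : V ≃ₗ[ℂ] V :=
  LinearEquiv.ofLinearMap P.inv P.inv P.inv_comp P.inv_comp

theorem Polar.invEquiv_apply {e : V} (P : S.Polar e) (v : V) : P.invEquiv v = P.inv v := rfl

/-- restriction of the cubic to the line through two Eckardt points -/
theorem q_on_line (e e' : V) (hq : S.q e = 0) (hq' : S.q e' = 0) (s t : ℂ) :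
    S.q (s • e + t • e') = 3 * s * t * (s * S.T e e e' + t * S.T e e' e') := by
  rw [S.q_lin2, hq, hq']
  ring

theorem not_mem_span_symm {e e' : V} (he0 : e ≠ 0) (he' : e' ∉ Submodule.span ℂ {e}) :
    e ∉ Submodule.span ℂ {e'} := by
  intro h
  obtain ⟨d, hd⟩ := Submodule.mem_span_singleton.mp h
  have hd0 : d ≠ 0 := by
    rintro rfl
    rw [zero_smul] at hd
    exact he0 hd.symm
  apply he'
  rw [Submodule.mem_span_singleton]
  exact ⟨d⁻¹, by rw [← hd, smul_smul, inv_mul_cancel₀ hd0, one_smul]⟩

/-- independence of two non-proportional vectors -/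
theorem eq_zero_of_lin {e e' : V} (he0 : e ≠ 0) (he' : e' ∉ Submodule.span ℂ {e}) {s t : ℂ}
    (h : s • e + t • e' = 0) : s = 0 ∧ t = 0 := by
  have ht : t = 0 := by
    by_contra ht
    apply he'
    rw [Submodule.mem_span_singleton]
    refine ⟨-(t⁻¹ * s), ?_⟩
    have h1 : t • e' = -(s • e) := eq_neg_of_add_eq_zero_right h
    have h2 : e' = t⁻¹ • (t • e') := by rw [smul_smul, inv_mul_cancel₀ ht, one_smul]
    rw [h2, h1, smul_neg, smul_smul, neg_smul]
  subst ht
  rw [zero_smul, add_zero] at h
  rcases smul_eq_zero.mp h with h | h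
  · exact ⟨h, rfl⟩
  · exact absurd h he0

/-- key computation for two Eckardt points `e, e'`: the numbers `a = T e e e'`, `b = T e e' e'`
vanish simultaneously -/
theorem ab_zero_iff (hV : finrank ℂ V = 4) (hs : S.Smooth) {e e' : V} (he0 : e ≠ 0) (he0' : e' ≠ 0)
    (he : S.Eckardt e) (he' : S.Eckardt e') : S.T e e e' = 0 ↔ S.T e e' e' = 0 := by
  constructor
  · intro ha
    exact he.tangent_bilin hV hs he0 e' e' ha ha
  · intro hb
    have hb' : S.T e' e' e = 0 := by rw [S.s13 e' e' e]; exact hb
    have := he'.tangent_bilin hV hs he0' e e hb' hb'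
    rw [S.s13 e' e e, S.s12 e e e'] at this
    rw [← this]

/-- the image of `e'` under the involution of `e` -/
theorem Polar.inv_other {e e' : V} (P : S.Polar e) (ha : S.T e e e' ≠ 0) :
    P.inv e' = (-(S.T e e e')⁻¹) • (S.T e e' e' • e - S.T e e e' • e') := by
  rw [P.inv_apply]
  have hb : S.T e e' e' = 2 * S.T e e e' * P.m e' := P.T_e_self e'
  have hm : P.m e' = S.T e e' e' / (2 * S.T e e e') := by
    rw [hb]
    field_simp
  rw [hm, smul_sub, smul_smul, smul_smul]
  have h1 : -(S.T e e e')⁻¹ * S.T e e e' = -1 := by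
    rw [neg_mul, inv_mul_cancel₀ ha]
  have h2 : 2 * (S.T e e' e' / (2 * S.T e e e')) = (S.T e e e')⁻¹ * S.T e e' e' := by
    field_simp
  rw [h1, h2, neg_mul]
  module

/-- (S18409, abstract form) -/
theorem line_through_two (hV : finrank ℂ V = 4) (hs : S.Smooth) {e e' : V} (he0 : e ≠ 0)
    (hne : e' ∉ Submodule.span ℂ {e}) (he : S.Eckardt e) (he' : S.Eckardt e') :
    Xor (∀ u ∈ Submodule.span ℂ {e, e'}, S.q u = 0)
      (∃ e'' : V, e'' ∈ Submodule.span ℂ {e, e'} ∧ e'' ∉ Submodule.span ℂ {e} ∧
        e'' ∉ Submodule.span ℂ {e'} ∧ S.Eckardt e'' ∧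
        ∀ u ∈ Submodule.span ℂ {e, e'}, S.q u = 0 →
          u ∈ Submodule.span ℂ {e} ∨ u ∈ Submodule.span ℂ {e'} ∨ u ∈ Submodule.span ℂ {e''}) := by
  have he0' : e' ≠ 0 := fun h => hne (h ▸ Submodule.zero_mem _)
  have hq := he.q_eq_zero
  have hq' := he'.q_eq_zero
  have hne' := not_mem_span_symm he0 hne
  by_cases ha : S.T e e e' = 0
  · have hb := (ab_zero_iff hV hs he0 he0' he he').mp ha
    have hall : ∀ u ∈ Submodule.span ℂ {e, e'}, S.q u = 0 := by
      intro u hu
      obtain ⟨s, t, rfl⟩ := Submodule.mem_span_pair.mp hu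
      rw [q_on_line e e' hq hq', ha, hb]
      ring
    refine Or.inl ⟨hall, ?_⟩
    rintro ⟨e'', -, h1, h2, -, hzeros⟩
    have hmem : ∀ c : ℂ, e + c • e' ∈ Submodule.span ℂ {e, e'} := fun c =>
      Submodule.add_mem _ (Submodule.subset_span (by simp))
        (Submodule.smul_mem _ _ (Submodule.subset_span (by simp)))
    have hnot1 : ∀ c : ℂ, c ≠ 0 → e + c • e' ∉ Submodule.span ℂ {e} := by
      intro c hc h
      obtain ⟨d, hd⟩ := Submodule.mem_span_singleton.mp h
      have : (1 - d) • e + c • e' = 0 := by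
        rw [sub_smul, one_smul, hd]; abel
      exact hc (eq_zero_of_lin he0 hne this).2
    have hnot2 : ∀ c : ℂ, e + c • e' ∉ Submodule.span ℂ {e'} := by
      intro c h
      obtain ⟨d, hd⟩ := Submodule.mem_span_singleton.mp h
      have : (1 : ℂ) • e + (c - d) • e' = 0 := by
        rw [sub_smul, one_smul, hd]; abel
      exact one_ne_zero (eq_zero_of_lin he0 hne this).1
    have h3 : ∀ c : ℂ, c ≠ 0 → e + c • e' ∈ Submodule.span ℂ {e''} := by
      intro c hc
      rcases hzeros _ (hmem c) (hall _ (hmem c)) with h | h | h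
      · exact absurd h (hnot1 c hc)
      · exact absurd h (hnot2 c)
      · exact h
    obtain ⟨l1, hl1⟩ := Submodule.mem_span_singleton.mp (h3 1 one_ne_zero)
    obtain ⟨l2, hl2⟩ := Submodule.mem_span_singleton.mp (h3 2 two_ne_zero)
    have h4 : e' = (l2 - l1) • e'' := by
      rw [sub_smul, hl1, hl2]; module
    have h5 : l2 - l1 ≠ 0 := by
      intro h
      rw [h, zero_smul] at h4
      exact he0' h4
    apply h2
    rw [Submodule.mem_span_singleton]
    exact ⟨(l2 - l1)⁻¹, by rw [h4, smul_smul, inv_mul_cancel₀ h5, one_smul]⟩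
  · have hb : S.T e e' e' ≠ 0 := fun h => ha ((ab_zero_iff hV hs he0 he0' he he').mpr h)
    have hnall : ¬ ∀ u ∈ Submodule.span ℂ {e, e'}, S.q u = 0 := by
      intro hall
      apply ha
      exact S.T_eq_zero_of_q _ hall e (Submodule.subset_span (by simp)) e
        (Submodule.subset_span (by simp)) e' (Submodule.subset_span (by simp))
    refine Or.inr ⟨?_, hnall⟩
    obtain ⟨P⟩ := exists_polar hs he0 hq (he.tangent_bilin hV hs he0)
    set a := S.T e e e' with ha_def
    set b := S.T e e' e' with hb_def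
    refine ⟨b • e - a • e', ?_, ?_, ?_, ?_, ?_⟩
    · rw [Submodule.mem_span_pair]
      exact ⟨b, -a, by rw [neg_smul, sub_eq_add_neg]⟩
    · intro h
      obtain ⟨d, hd⟩ := Submodule.mem_span_singleton.mp h
      have : (d - b) • e + a • e' = 0 := by
        rw [sub_smul, hd]; abel
      exact ha (eq_zero_of_lin he0 hne this).2
    · intro h
      obtain ⟨d, hd⟩ := Submodule.mem_span_singleton.mp h
      have : b • e + (-a - d) • e' = 0 := by
        rw [sub_smul, hd]; module
      exact hb (eq_zero_of_lin he0 hne this).1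
    · -- Eckardt
      have h1 : S.Eckardt (P.invEquiv e') := he'.map P.invEquiv (fun v => P.q_inv hq v)
      rw [P.invEquiv_apply, P.inv_other ha] at h1
      have h2 := h1.smul (-a)
      rw [smul_smul] at h2
      have : -a * -a⁻¹ = 1 := by
        rw [neg_mul_neg, mul_inv_cancel₀ ha]
      rw [this, one_smul] at h2
      exact h2
    · intro u hu hqu
      obtain ⟨s, t, rfl⟩ := Submodule.mem_span_pair.mp hu
      rw [q_on_line e e' hq hq'] at hqu
      rcases mul_eq_zero.mp hqu with h | h
      · rcases mul_eq_zero.mp h with h | h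
        · rcases mul_eq_zero.mp h with h | h
          · norm_num at h
          · right; left
            rw [h, zero_smul, zero_add]
            exact Submodule.smul_mem _ _ (Submodule.subset_span rfl)
        · left
          rw [h, zero_smul, add_zero]
          exact Submodule.smul_mem _ _ (Submodule.subset_span rfl)
      · right; right
        rw [Submodule.mem_span_singleton]
        refine ⟨s / b, ?_⟩
        have ht : t = -(s / b) * a := by
          field_simp
          linear_combination h
        rw [ht, smul_sub, smul_smul, smul_smul, div_mul_cancel₀ _ hb]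
        module

end SymTri

end Groth.Agent.Helper2.Cubic
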