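import Mathlib
import Groth.Agent.Lib.Helper2.CubicForm
import Groth.Agent.Lib.Helper2.CubicEckardt
import Groth.Agent.Lib.Helper2.CubicEckardt2
import Groth.Agent.Lib.Helper2.CubicEckardt3

set_option linter.unusedSectionVars false

namespace Groth.Agent.Helper2.Cubic

open Module

variable {V : Type*} [AddCommGroup V] [Module ℂ V] [FiniteDimensional ℂ V]

namespace SymTri

variable {S : SymTri V}

/-- if the line through two Eckardt points lies on the surface then `T e e' · = 0` -/
theorem T_mixed_eq_zero (hV : finrank ℂ V = 4) (hs : S.Smooth) {e e' : V} (he0 : e ≠ 0)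
    (hne : e' ∉ Submodule.span ℂ {e}) (he : S.Eckardt e) (he' : S.Eckardt e')
    (hL : ∀ u ∈ Submodule.span ℂ {e, e'}, S.q u = 0) : ∀ w, S.T e e' w = 0 := by
  have he0' : e' ≠ 0 := fun h => hne (h ▸ Submodule.zero_mem _)
  have hq := he.q_eq_zero
  have hq' := he'.q_eq_zero
  have hTL := S.T_eq_zero_of_q _ hL
  have heL : e ∈ Submodule.span ℂ {e, e'} := Submodule.subset_span (by simp)
  have he'L : e' ∈ Submodule.span ℂ {e, e'} := Submodule.subset_span (by simp)
  have h1 : ∀ w, S.T e e w = 0 → S.T e e' w = 0 := fun w hw =>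
    he.tangent_bilin hV hs he0 e' w (hTL e heL e heL e' he'L) hw
  have h2 : ∀ w, S.T e' e' w = 0 → S.T e e' w = 0 := fun w hw => by
    rw [S.s12 e e' w]
    exact he'.tangent_bilin hV hs he0' e w (hTL e' he'L e' he'L e heL) hw
  -- `z` with `ℓ_e z = 1`
  obtain ⟨w0, hw0⟩ := hs e he0 hq
  set z : V := (S.T e e w0)⁻¹ • w0 with hz
  have hz1 : S.T e e z = 1 := by
    rw [hz, map_smul, smul_eq_mul, inv_mul_cancel₀ hw0]
  -- `β = μ ℓ_e`
  have hβ : ∀ w, S.T e e' w = S.T e e w * S.T e e' z := by
    intro w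
    have h0 : S.T e e (w - S.T e e w • z) = 0 := by
      rw [map_sub, map_smul, hz1, smul_eq_mul, mul_one, sub_self]
    have := h1 _ h0
    rw [map_sub, map_smul, smul_eq_mul] at this
    linear_combination this
  by_cases hker : ∀ w, S.T e e w = 0 → S.T e' e' w = 0
  · -- same tangent plane: contradiction with smoothness
    exfalso
    have hℓ' : ∀ w, S.T e' e' w = S.T e e w * S.T e' e' z := by
      intro w
      have h0 : S.T e e (w - S.T e e w • z) = 0 := by
        rw [map_sub, map_smul, hz1, smul_eq_mul, mul_one, sub_self]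
      have := hker _ h0
      rw [map_sub, map_smul, smul_eq_mul] at this
      linear_combination this
    set μ := S.T e e' z
    set ν := S.T e' e' z
    obtain ⟨r, hr⟩ := IsAlgClosed.exists_pow_nat_eq (μ ^ 2 - ν) (n := 2) (by norm_num)
    set s := r - μ with hs_def
    have hsq : s ^ 2 + 2 * s * μ + ν = 0 := by
      rw [hs_def]; linear_combination hr
    have hv0 : s • e + (1 : ℂ) • e' ≠ 0 := by
      intro h
      exact one_ne_zero (eq_zero_of_lin he0 hne h).2
    have hvL : s • e + (1 : ℂ) • e' ∈ Submodule.span ℂ {e, e'} :=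
      Submodule.add_mem _ (Submodule.smul_mem _ _ heL) (Submodule.smul_mem _ _ he'L)
    obtain ⟨w, hw⟩ := hs _ hv0 (hL _ hvL)
    apply hw
    rw [S.T_lin2, hβ w, hℓ' w]
    linear_combination (S.T e e w) * hsq
  · push Not at hker
    obtain ⟨w1, hw1, hw1'⟩ := hker
    -- every `w` is a combination of `w1` and an element of `ker ℓ_e'`
    intro w
    have h0 : S.T e' e' (w - (S.T e' e' w / S.T e' e' w1) • w1) = 0 := by
      rw [map_sub, map_smul, smul_eq_mul, div_mul_cancel₀ _ hw1', sub_self]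
    have h3 := h2 _ h0
    rw [map_sub, map_smul, h1 w1 hw1, smul_zero, sub_zero] at h3
    exact h3

/-- (S18410, abstract form) -/
theorem commuting_invs (hV : finrank ℂ V = 4) (hs : S.Smooth) {e e' : V} (he0 : e ≠ 0)
    (hne : e' ∉ Submodule.span ℂ {e}) (he : S.Eckardt e) (he' : S.Eckardt e')
    (hL : ∀ u ∈ Submodule.span ℂ {e, e'}, S.q u = 0) {A A' : V →ₗ[ℂ] V}
    (hA : S.IsInv A e) (hA' : S.IsInv A' e') :
    A ∘ₗ A' = A' ∘ₗ A ∧ A e' = e' ∧ A' e = e := by
  have he0' : e' ≠ 0 := fun h => hne (h ▸ Submodule.zero_mem _)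
  have hq := he.q_eq_zero
  have hq' := he'.q_eq_zero
  have hne' := not_mem_span_symm he0 hne
  obtain ⟨P⟩ := exists_polar hs he0 hq (he.tangent_bilin hV hs he0)
  obtain ⟨P'⟩ := exists_polar hs he0' hq' (he'.tangent_bilin hV hs he0')
  have hAP : A = P.inv := hA.eq_polar_inv hV hs he0 hq P
  have hAP' : A' = P'.inv := hA'.eq_polar_inv hV hs he0' hq' P'
  have hmix := T_mixed_eq_zero hV hs he0 hne he he' hL
  have hTL := S.T_eq_zero_of_q _ hL
  have heL : e ∈ Submodule.span ℂ {e, e'} := Submodule.subset_span (by simp)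
  have he'L : e' ∈ Submodule.span ℂ {e, e'} := Submodule.subset_span (by simp)
  have hm : P.m e' = 0 := by
    obtain ⟨w, hw⟩ := hs e he0 hq
    have h1 := P.hB e' w
    rw [hmix w, hTL e heL e heL e' he'L, zero_mul, zero_add] at h1
    exact (mul_eq_zero.mp h1.symm).resolve_right hw
  have hm' : P'.m e = 0 := by
    obtain ⟨w, hw⟩ := hs e' he0' hq'
    have h1 := P'.hB e w
    have h2 : S.T e' e w = 0 := by rw [S.s12 e' e w]; exact hmix w
    rw [h2, hTL e' he'L e' he'L e heL, zero_mul, zero_add] at h1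
    exact (mul_eq_zero.mp h1.symm).resolve_right hw
  subst hAP hAP'
  refine ⟨?_, ?_, ?_⟩
  · ext v
    simp only [LinearMap.comp_apply, P.inv_apply, P'.inv_apply, map_sub, map_smul, hm, hm',
      smul_eq_mul, mul_zero, sub_zero]
    abel
  · rw [P.inv_apply, hm]; simp
  · rw [P'.inv_apply, hm']; simp

end SymTri

end Groth.Agent.Helper2.Cubic
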