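import Mathlib
import Groth.Agent.Lib.Helper2.CubicForm
import Groth.Agent.Lib.Helper2.CubicEckardt
import Groth.Agent.Lib.Helper2.CubicEckardt2
import Groth.Agent.Lib.Helper2.CubicEckardt3
import Groth.Agent.Lib.Helper2.CubicEckardt4

set_option linter.unusedSectionVars false

namespace Groth.Agent.Helper2.Cubic

open Module

variable {V : Type*} [AddCommGroup V] [Module ℂ V] [FiniteDimensional ℂ V]

namespace SymTri

variable {S : SymTri V}

theorem IsInv.of_smul {A : V →ₗ[ℂ] V} {x : V} {l : ℂ} (hl : l ≠ 0) (h : S.IsInv A (l • x)) :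
    S.IsInv A x := by
  obtain ⟨h1, h2, h3, h4⟩ := h
  refine ⟨h1, h2, ?_, h4⟩
  rw [map_smul, ← smul_neg] at h3
  exact smul_right_injective V hl h3

theorem IsInv.conj {A A' : V →ₗ[ℂ] V} {e e' : V} (hA : S.IsInv A e) (hA' : S.IsInv A' e') :
    S.IsInv (A ∘ₗ A' ∘ₗ A) (A e') := by
  obtain ⟨hAA, -, -, c, hc⟩ := hA
  obtain ⟨hAA', hrank', hAe', c', hc'⟩ := hA'
  have hA2 : ∀ v, A (A v) = v := fun v => by
    have := LinearMap.congr_fun hAA v
    simpa using this
  have hA2' : ∀ v, A' (A' v) = v := fun v => by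
    have := LinearMap.congr_fun hAA' v
    simpa using this
  refine ⟨?_, ?_, ?_, c * c' * c, ?_⟩
  · ext v
    simp only [LinearMap.comp_apply, LinearMap.id_apply, hA2, hA2']
  · let Aeq : V ≃ₗ[ℂ] V := LinearEquiv.ofLinearMap A A hAA hAA
    have : LinearMap.ker (A ∘ₗ A' ∘ₗ A - LinearMap.id) =
        (LinearMap.ker (A' - LinearMap.id)).map (Aeq : V →ₗ[ℂ] V) := by
      ext v
      rw [LinearMap.mem_ker, LinearMap.sub_apply, LinearMap.id_apply, sub_eq_zero,
        Submodule.mem_map]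
      constructor
      · intro h
        refine ⟨A v, ?_, hA2 v⟩
        rw [LinearMap.mem_ker, LinearMap.sub_apply, LinearMap.id_apply, sub_eq_zero]
        simp only [LinearMap.comp_apply] at h
        have := congrArg A h
        rw [hA2] at this
        exact this
      · rintro ⟨w, hw, rfl⟩
        rw [LinearMap.mem_ker, LinearMap.sub_apply, LinearMap.id_apply, sub_eq_zero] at hw
        show A (A' (A (A w))) = A w
        rw [hA2, hw]
    rw [this, LinearEquiv.finrank_map_eq]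
    exact hrank'
  · simp only [LinearMap.comp_apply, hA2, hAe', map_neg]
  · intro v
    simp only [LinearMap.comp_apply]
    rw [hc, hc', hc]
    ring

/-- (S18411, abstract form) -/
theorem three_collinear (hV : finrank ℂ V = 4) (hs : S.Smooth) {e e' e'' : V} (he0 : e ≠ 0)
    (hne : e' ∉ Submodule.span ℂ {e}) (h1 : e'' ∉ Submodule.span ℂ {e})
    (h2 : e'' ∉ Submodule.span ℂ {e'}) (hL'' : e'' ∈ Submodule.span ℂ {e, e'})
    (he : S.Eckardt e) (he' : S.Eckardt e') (he'' : S.Eckardt e'')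
    (hnL : ¬ ∀ u ∈ Submodule.span ℂ {e, e'}, S.q u = 0) {A A' A'' : V →ₗ[ℂ] V}
    (hA : S.IsInv A e) (hA' : S.IsInv A' e') (hA'' : S.IsInv A'' e'') :
    (¬ ∃ c : ℂ, A ∘ₗ A' = c • LinearMap.id) ∧
      (A ∘ₗ A') ∘ₗ (A ∘ₗ A') ∘ₗ (A ∘ₗ A') = LinearMap.id ∧ A'' = A ∘ₗ A' ∘ₗ A := by
  have he0' : e' ≠ 0 := fun h => hne (h ▸ Submodule.zero_mem _)
  have he0'' : e'' ≠ 0 := fun h => h1 (h ▸ Submodule.zero_mem _)
  have hq := he.q_eq_zero
  have hq' := he'.q_eq_zero
  have hq'' := he''.q_eq_zero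
  have hne' := not_mem_span_symm he0 hne
  set a := S.T e e e' with ha_def
  set b := S.T e e' e' with hb_def
  have ha : a ≠ 0 := by
    intro ha
    have hb := (ab_zero_iff hV hs he0 he0' he he').mp ha
    apply hnL
    intro u hu
    obtain ⟨s, t, rfl⟩ := Submodule.mem_span_pair.mp hu
    rw [q_on_line e e' hq hq']
    show 3 * s * t * (s * a + t * b) = 0
    have hb0 : b = 0 := hb
    rw [ha, hb0]
    ring
  have hb : b ≠ 0 := fun h => ha ((ab_zero_iff hV hs he0 he0' he he').mpr h)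
  obtain ⟨P⟩ := exists_polar hs he0 hq (he.tangent_bilin hV hs he0)
  obtain ⟨P'⟩ := exists_polar hs he0' hq' (he'.tangent_bilin hV hs he0')
  have hAP : A = P.inv := hA.eq_polar_inv hV hs he0 hq P
  have hAP' : A' = P'.inv := hA'.eq_polar_inv hV hs he0' hq' P'
  -- coordinates of `e''`
  obtain ⟨s, t, hst⟩ := Submodule.mem_span_pair.mp hL''
  have hs0 : s ≠ 0 := by
    rintro rfl
    apply h2
    rw [← hst, zero_smul, zero_add]
    exact Submodule.smul_mem _ _ (Submodule.subset_span rfl)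
  have ht0 : t ≠ 0 := by
    rintro rfl
    apply h1
    rw [← hst, zero_smul, add_zero]
    exact Submodule.smul_mem _ _ (Submodule.subset_span rfl)
  have hrel : s * a + t * b = 0 := by
    have := hq''
    rw [← hst, q_on_line e e' hq hq'] at this
    rcases mul_eq_zero.mp this with h | h
    · exfalso
      rcases mul_eq_zero.mp h with h | h
      · rcases mul_eq_zero.mp h with h | h
        · norm_num at h
        · exact hs0 h
      · exact ht0 h
    · exact h
  -- `e''` is proportional to `A e'` and to `A' e`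
  have hx : e'' = (-(s * a / b)) • A e' := by
    rw [hAP, P.inv_other ha, ← hst, smul_smul]
    have ht : t = -(s / b) * a := by
      field_simp
      linear_combination hrel
    rw [ht]
    have : -(s * a / b) * -a⁻¹ = s / b := by
      field_simp
    rw [this, smul_sub, smul_smul, smul_smul, div_mul_cancel₀ _ hb]
    module
  have ha' : S.T e' e' e = b := S.s13 e' e' e
  have hb' : S.T e' e e = a := by rw [S.s13 e' e e, S.s12 e e e']
  have hx' : e'' = (-(t * b / a)) • A' e := by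
    have hb'ne : S.T e' e' e ≠ 0 := by rw [ha']; exact hb
    rw [hAP', P'.inv_other hb'ne, ha', hb', ← hst, smul_smul]
    have hs' : s = -(t / a) * b := by
      field_simp
      linear_combination hrel
    rw [hs']
    have : -(t * b / a) * -b⁻¹ = t / a := by
      field_simp
    rw [this, smul_sub, smul_smul, smul_smul, div_mul_cancel₀ _ ha]
    module
  have hl : -(s * a / b) ≠ 0 := by
    rw [neg_ne_zero]
    exact div_ne_zero (mul_ne_zero hs0 ha) hb
  have hl' : -(t * b / a) ≠ 0 := by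
    rw [neg_ne_zero]
    exact div_ne_zero (mul_ne_zero ht0 hb) ha
  obtain ⟨P''⟩ := exists_polar hs he0'' hq'' (he''.tangent_bilin hV hs he0'')
  have hA''P : A'' = P''.inv := hA''.eq_polar_inv hV hs he0'' hq'' P''
  -- the two conjugates are also involutions attached to `e''`
  have hB : S.IsInv (A ∘ₗ A' ∘ₗ A) e'' := by
    have h := hA.conj hA'
    obtain ⟨k1, k2, k3, k4⟩ := h
    refine ⟨k1, k2, ?_, k4⟩
    rw [hx, map_smul, k3, smul_neg]
  have hB' : S.IsInv (A' ∘ₗ A ∘ₗ A') e'' := by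
    have h := hA'.conj hA
    obtain ⟨k1, k2, k3, k4⟩ := h
    refine ⟨k1, k2, ?_, k4⟩
    rw [hx', map_smul, k3, smul_neg]
  have hBP : A ∘ₗ A' ∘ₗ A = P''.inv := hB.eq_polar_inv hV hs he0'' hq'' P''
  have hBP' : A' ∘ₗ A ∘ₗ A' = P''.inv := hB'.eq_polar_inv hV hs he0'' hq'' P''
  refine ⟨?_, ?_, hA''P.trans hBP.symm⟩
  · rintro ⟨c, hc⟩
    have h3 := LinearMap.congr_fun hc e'
    rw [LinearMap.comp_apply, hA'.2.2.1, map_neg, LinearMap.smul_apply, LinearMap.id_apply] at h3
    -- `A e' = -c • e'`, so `e'' ∈ span e'`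
    apply h2
    rw [hx, Submodule.mem_span_singleton]
    refine ⟨-(s * a / b) * -c, ?_⟩
    rw [mul_smul, neg_smul c, ← h3, neg_neg]
  · have : (A ∘ₗ A') ∘ₗ (A ∘ₗ A') ∘ₗ (A ∘ₗ A') = (A ∘ₗ A' ∘ₗ A) ∘ₗ (A' ∘ₗ A ∘ₗ A') := by
      ext v; simp only [LinearMap.comp_apply]
    rw [this, hBP, hBP', P''.inv_comp]

end SymTri

end Groth.Agent.Helper2.Cubic
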