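import Mathlib
import Groth.Agent.Lib.Helper2.CubicForm
import Groth.Agent.Lib.Helper2.CubicEckardt

/-! From cubic polynomials to symmetric trilinear forms. -/

namespace Groth.Agent.Helper2.Cubic

open MvPolynomial

variable {n : ℕ}

theorem pderiv_comm {σ : Type*} (i j : σ) (f : MvPolynomial σ ℂ) :
    pderiv i (pderiv j f) = pderiv j (pderiv i f) := by
  classical
  induction f using MvPolynomial.induction_on with
  | C a => simp
  | add p q hp hq => simp [hp, hq]
  | mul_X p k hp =>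
    simp only [pderiv_mul, map_add, hp]
    by_cases hik : i = k
    · subst hik
      by_cases hjk : j = i
      · subst hjk
        ring
      · rw [pderiv_X_self, pderiv_X_of_ne (Ne.symm hjk)]
        simp
    · rw [pderiv_X_of_ne (Ne.symm hik)]
      by_cases hjk : j = k
      · subst hjk
        rw [pderiv_X_self]
        simp
      · rw [pderiv_X_of_ne (Ne.symm hjk)]
        simp

/-- Euler's identity, evaluated -/
theorem euler_eval {g : MvPolynomial (Fin n) ℂ} {d : ℕ} (hg : g.IsHomogeneous d) (v : Fin n → ℂ) :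
    ∑ i, v i * eval v (pderiv i g) = d * eval v g := by
  have := congrArg (eval v) hg.sum_X_mul_pderiv
  simp only [map_sum, map_mul, eval_X, nsmul_eq_mul, map_natCast] at this
  exact this

/-- third partial derivatives of a cubic -/
noncomputable def d3 (f : MvPolynomial (Fin n) ℂ) (i j k : Fin n) : ℂ :=
  coeff 0 (pderiv i (pderiv j (pderiv k f)))

theorem d3_spec {f : MvPolynomial (Fin n) ℂ} (hf : f.IsHomogeneous 3) (i j k : Fin n) :
    pderiv i (pderiv j (pderiv k f)) = C (d3 f i j k) := by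
  have h : (pderiv i (pderiv j (pderiv k f))).IsHomogeneous 0 := hf.pderiv.pderiv.pderiv
  have h0 : (pderiv i (pderiv j (pderiv k f))).totalDegree = 0 :=
    Nat.le_zero.mp h.totalDegree_le
  exact totalDegree_eq_zero_iff_eq_C.mp h0

theorem d3_symm12 (f : MvPolynomial (Fin n) ℂ) (i j k : Fin n) : d3 f i j k = d3 f j i k := by
  unfold d3
  rw [pderiv_comm i j]

theorem d3_symm23 (f : MvPolynomial (Fin n) ℂ) (i j k : Fin n) : d3 f i j k = d3 f i k j := by
  unfold d3
  rw [pderiv_comm j k]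

theorem eval_pderiv2 {f : MvPolynomial (Fin n) ℂ} (hf : f.IsHomogeneous 3) (v : Fin n → ℂ)
    (j k : Fin n) : eval v (pderiv j (pderiv k f)) = ∑ i, v i * d3 f i j k := by
  have h := euler_eval ((hf.pderiv (i := k)).pderiv (i := j)) v
  simp only [d3_spec hf, eval_C] at h
  rw [h]
  norm_num

theorem eval_pderiv1 {f : MvPolynomial (Fin n) ℂ} (hf : f.IsHomogeneous 3) (v : Fin n → ℂ)
    (k : Fin n) : 2 * eval v (pderiv k f) = ∑ j, v j * ∑ i, v i * d3 f i j k := by
  have h := euler_eval (hf.pderiv (i := k)) v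
  simp only [eval_pderiv2 hf] at h
  rw [h]
  norm_num

theorem eval_cubic {f : MvPolynomial (Fin n) ℂ} (hf : f.IsHomogeneous 3) (v : Fin n → ℂ) :
    6 * eval v f = ∑ k, v k * ∑ j, v j * ∑ i, v i * d3 f i j k := by
  have h := euler_eval hf v
  have h2 : ∀ k, v k * eval v (pderiv k f) =
      (1 / 2 : ℂ) * (v k * ∑ j, v j * ∑ i, v i * d3 f i j k) := by
    intro k
    rw [← eval_pderiv1 hf v k]
    ring
  simp only [h2, ← Finset.mul_sum] at h
  push_cast at h
  linear_combination (-2 : ℂ) * h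

/-- the symmetric trilinear form of a cubic -/
noncomputable def triOf (f : MvPolynomial (Fin n) ℂ) :
    (Fin n → ℂ) →ₗ[ℂ] (Fin n → ℂ) →ₗ[ℂ] (Fin n → ℂ) →ₗ[ℂ] ℂ :=
  ∑ k, (Matrix.toLinearMap₂' ℂ (Matrix.of fun i j => d3 f i j k / 6)).compr₂
    (LinearMap.toSpanSingleton ℂ ((Fin n → ℂ) →ₗ[ℂ] ℂ) (LinearMap.proj k))

theorem triOf_apply (f : MvPolynomial (Fin n) ℂ) (u v w : Fin n → ℂ) :
    triOf f u v w = ∑ k, ∑ i, ∑ j, d3 f i j k / 6 * u i * v j * w k := by
  unfold triOf
  simp only [LinearMap.sum_apply, LinearMap.compr₂_apply, LinearMap.toSpanSingleton_apply,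
    LinearMap.smul_apply, LinearMap.proj_apply, smul_eq_mul]
  refine Finset.sum_congr rfl (fun k _ => ?_)
  rw [Matrix.toLinearMap₂'_apply, Finset.sum_mul]
  refine Finset.sum_congr rfl (fun i _ => ?_)
  rw [Finset.sum_mul]
  refine Finset.sum_congr rfl (fun j _ => ?_)
  simp only [smul_eq_mul, Matrix.of_apply]
  ring

/-- the symmetric trilinear form attached to a homogeneous cubic polynomial -/
noncomputable def symTriOf (f : MvPolynomial (Fin n) ℂ) : SymTri (Fin n → ℂ) where
  T := triOf f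
  s12 := by
    intro u v w
    rw [triOf_apply, triOf_apply]
    refine Finset.sum_congr rfl (fun k _ => ?_)
    rw [Finset.sum_comm]
    refine Finset.sum_congr rfl (fun i _ => Finset.sum_congr rfl (fun j _ => ?_))
    rw [d3_symm12]
    ring
  s23 := by
    intro u v w
    rw [triOf_apply, triOf_apply]
    have : ∀ (F : Fin n → Fin n → Fin n → ℂ), ∑ k, ∑ i, ∑ j, F k i j = ∑ j, ∑ i, ∑ k, F k i j := by
      intro F
      calc ∑ k, ∑ i, ∑ j, F k i j = ∑ i, ∑ k, ∑ j, F k i j := Finset.sum_comm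
        _ = ∑ i, ∑ j, ∑ k, F k i j := Finset.sum_congr rfl (fun i _ => Finset.sum_comm)
        _ = ∑ j, ∑ i, ∑ k, F k i j := Finset.sum_comm
    rw [this]
    refine Finset.sum_congr rfl (fun k _ => Finset.sum_congr rfl (fun i _ =>
      Finset.sum_congr rfl (fun j _ => ?_)))
    rw [d3_symm23]
    ring

theorem symTriOf_q {f : MvPolynomial (Fin n) ℂ} (hf : f.IsHomogeneous 3) (v : Fin n → ℂ) :
    (symTriOf f).q v = eval v f := by
  show triOf f v v v = eval v f
  rw [triOf_apply]
  have h := eval_cubic hf v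
  have : eval v f = (1 / 6 : ℂ) * ∑ k, v k * ∑ j, v j * ∑ i, v i * d3 f i j k := by
    rw [← h]; ring
  rw [this]
  simp only [Finset.mul_sum]
  refine Finset.sum_congr rfl (fun k _ => ?_)
  rw [Finset.sum_comm]
  refine Finset.sum_congr rfl (fun j _ => Finset.sum_congr rfl (fun i _ => ?_))
  ring

theorem symTriOf_pderiv {f : MvPolynomial (Fin n) ℂ} (hf : f.IsHomogeneous 3) (v : Fin n → ℂ)
    (l : Fin n) : eval v (pderiv l f) = 3 * (symTriOf f).T v v (Pi.single l 1) := by
  show eval v (pderiv l f) = 3 * triOf f v v (Pi.single l 1)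
  rw [triOf_apply]
  have h := eval_pderiv1 hf v l
  have : eval v (pderiv l f) = (1 / 2 : ℂ) * ∑ j, v j * ∑ i, v i * d3 f i j l := by
    rw [← h]; ring
  rw [this]
  have hs : ∀ k, ∑ i, ∑ j, d3 f i j k / 6 * v i * v j * (Pi.single l 1 : Fin n → ℂ) k =
      if k = l then ∑ i, ∑ j, d3 f i j l / 6 * v i * v j else 0 := by
    intro k
    by_cases hk : k = l
    · subst hk
      simp
    · simp [hk]
  simp only [hs, Finset.sum_ite_eq', Finset.mem_univ, if_true, Finset.mul_sum]
  rw [Finset.sum_comm]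
  refine Finset.sum_congr rfl (fun j _ => Finset.sum_congr rfl (fun i _ => ?_))
  ring

theorem symTriOf_smooth {f : MvPolynomial (Fin n) ℂ} (hf : f.IsHomogeneous 3)
    (hsm : ∀ v : Fin n → ℂ, v ≠ 0 → eval v f = 0 → ∃ i : Fin n, eval v (pderiv i f) ≠ 0) :
    (symTriOf f).Smooth := by
  intro v hv hq
  rw [symTriOf_q hf] at hq
  obtain ⟨i, hi⟩ := hsm v hv hq
  rw [symTriOf_pderiv hf] at hi
  exact ⟨Pi.single i 1, fun h => hi (by rw [h, mul_zero])⟩

theorem symTriOf_eckardt {f : MvPolynomial (Fin n) ℂ} (hf : f.IsHomogeneous 3) (e : Fin n → ℂ) :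
    (symTriOf f).Eckardt e ↔
      ∃ U : Fin 3 → Submodule ℂ (Fin n → ℂ), Function.Injective U ∧
        ∀ i : Fin 3, Module.finrank ℂ ↥(U i) = 2 ∧ e ∈ U i ∧ ∀ u ∈ U i, eval u f = 0 := by
  unfold SymTri.Eckardt
  simp only [symTriOf_q hf]

/-- linear substitution and evaluation -/
theorem eval_subst (A : Matrix (Fin n) (Fin n) ℂ) (f : MvPolynomial (Fin n) ℂ) (v : Fin n → ℂ) :
    eval v (aeval (fun i : Fin n => ∑ j : Fin n, C (A i j) * X j) f) = eval (A.mulVec v) f := by
  have h := eval₂Hom_bind₁ (RingHom.id ℂ) v (fun i : Fin n => ∑ j : Fin n, C (A i j) * X j) f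
  have e1 : (eval₂Hom (RingHom.id ℂ) v) = eval v := rfl
  rw [e1] at h
  rw [show (aeval (fun i : Fin n => ∑ j : Fin n, C (A i j) * X j) f) =
    bind₁ (fun i : Fin n => ∑ j : Fin n, C (A i j) * X j) f from rfl, h]
  have e2 : (fun i => eval v (∑ j : Fin n, C (A i j) * X j)) = A.mulVec v := by
    funext i
    simp [Matrix.mulVec, dotProduct]
  rw [e2]
  rfl

theorem symTriOf_isInv {f : MvPolynomial (Fin n) ℂ} (hf : f.IsHomogeneous 3)
    (A : Matrix (Fin n) (Fin n) ℂ) (e : Fin n → ℂ) :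
    (symTriOf f).IsInv (Matrix.toLin' A) e ↔
      (A * A = 1 ∧
        Module.finrank ℂ ↥(LinearMap.ker (Matrix.toLin' A - LinearMap.id)) = 3 ∧
        A.mulVec e = -e ∧
        ∃ c : ℂ, aeval (fun i : Fin n => ∑ j : Fin n, C (A i j) * X j) f = C c * f) := by
  unfold SymTri.IsInv
  have h1 : Matrix.toLin' A ∘ₗ Matrix.toLin' A = LinearMap.id ↔ A * A = 1 := by
    rw [← Matrix.toLin'_mul, ← Matrix.toLin'_one]
    exact (Matrix.toLin' (R := ℂ)).injective.eq_iff
  have h2 : Matrix.toLin' A e = -e ↔ A.mulVec e = -e := by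
    rw [Matrix.toLin'_apply]
  have h3 : (∃ c : ℂ, ∀ v, (symTriOf f).q (Matrix.toLin' A v) = c * (symTriOf f).q v) ↔
      ∃ c : ℂ, aeval (fun i : Fin n => ∑ j : Fin n, C (A i j) * X j) f = C c * f := by
    refine exists_congr (fun c => ?_)
    constructor
    · intro h
      apply MvPolynomial.funext
      intro v
      rw [eval_subst, map_mul, eval_C, ← symTriOf_q hf, ← symTriOf_q hf, ← Matrix.toLin'_apply]
      exact h v
    · intro h v
      rw [symTriOf_q hf, symTriOf_q hf, Matrix.toLin'_apply, ← eval_subst, h, map_mul, eval_C]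
  rw [h1, h2, h3]

end Groth.Agent.Helper2.Cubic
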