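import Mathlib

/-!
An endomorphism of a bounded object of the derived category inducing zero on all cohomology
objects is nilpotent.
-/

open CategoryTheory Limits Pretriangulated DerivedCategory

namespace Groth.Agent.Helper2

universe w v u

variable {A : Type u} [Category.{v} A] [Abelian A] [HasDerivedCategory.{w} A]

theorem mono_homology_truncLTι (X : DerivedCategory A) (b i : ℤ) :
    Mono ((homologyFunctor A i).map ((TStructure.t.truncLTι b).app X)) := by
  by_cases hi : i < b
  · have h := HomologySequence.mono_homologyMap_mor₁_iff _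
      (TStructure.t.triangleLTGE_distinguished b X) (i - 1) i (by lia)
    have h0 : HomologySequence.δ ((TStructure.t.triangleLTGE b).obj X) (i - 1) i (by lia) = 0 := by
      apply IsZero.eq_of_src
      exact isZero_of_isGE _ b (i - 1) (by lia)
    exact h.mpr h0
  · have hz : IsZero ((homologyFunctor A i).obj ((TStructure.t.truncLT b).obj X)) :=
      isZero_of_isLE _ (b - 1) i (by lia)
    exact ⟨fun g h _ => hz.eq_of_tgt g h⟩

theorem epi_homology_truncGEπ (X : DerivedCategory A) (b i : ℤ) :
    Epi ((homologyFunctor A i).map ((TStructure.t.truncGEπ b).app X)) := by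
  by_cases hi : b ≤ i
  · have h := HomologySequence.epi_homologyMap_mor₂_iff _
      (TStructure.t.triangleLTGE_distinguished b X) i (i + 1) rfl
    have h0 : HomologySequence.δ ((TStructure.t.triangleLTGE b).obj X) i (i + 1) rfl = 0 := by
      apply IsZero.eq_of_tgt
      exact isZero_of_isLE _ (b - 1) (i + 1) (by lia)
    exact h.mpr h0
  · have hz : IsZero ((homologyFunctor A i).obj ((TStructure.t.truncGE b).obj X)) :=
      isZero_of_isGE _ b i (by lia)
    exact ⟨fun g h _ => hz.eq_of_src g h⟩

/-- An endomorphism of an object with cohomology in a single degree inducing zero on that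
cohomology is zero. -/
theorem eq_zero_of_single_degree (X : DerivedCategory A) (a : ℤ)
    (hX : ∀ i : ℤ, i ≠ a → IsZero ((homologyFunctor A i).obj X))
    (f : X ⟶ X) (hf : (homologyFunctor A a).map f = 0) : f = 0 := by
  haveI : X.IsGE a := (isGE_iff X a).mpr fun i hi => hX i (by lia)
  haveI : X.IsLE a := (isLE_iff X a).mpr fun i hi => hX i (by lia)
  obtain ⟨Y, ⟨e⟩⟩ := exists_iso_singleFunctor_obj_of_isGE_of_isLE X a
  obtain ⟨φ, hφ⟩ := (singleFunctor A a).map_surjective (e.inv ≫ f ≫ e.hom)
  have h1 : (homologyFunctor A a).map ((singleFunctor A a).map φ) = 0 := by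
    rw [hφ, Functor.map_comp, Functor.map_comp, hf, zero_comp, comp_zero]
  have h2 := NatIso.naturality_1 (singleFunctorCompHomologyFunctorIso A a) φ
  dsimp at h2
  rw [h1, zero_comp, comp_zero] at h2
  have h3 : e.inv ≫ f ≫ e.hom = 0 := by
    rw [← hφ, ← h2, Functor.map_zero]
  have : f = e.hom ≫ (e.inv ≫ f ≫ e.hom) ≫ e.inv := by simp
  rw [this, h3, zero_comp, comp_zero]

theorem pow_comp_eq {X Y : DerivedCategory A} (f : End X) (f' : End Y) (g : X ⟶ Y)
    (h : (show X ⟶ X from f) ≫ g = g ≫ (show Y ⟶ Y from f')) (k : ℕ) :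
    (show X ⟶ X from f ^ k) ≫ g = g ≫ (show Y ⟶ Y from f' ^ k) := by
  induction k with
  | zero =>
    simp only [pow_zero, End.one_def]
    rw [Category.id_comp, Category.comp_id]
  | succ k ih =>
    rw [pow_succ, pow_succ, End.mul_def, End.mul_def, Category.assoc, ih, ← Category.assoc, h,
      Category.assoc]

theorem end_pow_eq_zero (n : ℕ) : ∀ (X : DerivedCategory A) (a : ℤ)
    (_ : ∀ i : ℤ, i < a ∨ a + n < i → IsZero ((homologyFunctor A i).obj X))
    (f : End X) (_ : ∀ i : ℤ, (homologyFunctor A i).map f = 0),
    f ^ (n + 1) = 0 := by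
  induction n with
  | zero =>
    intro X a hX f hf
    rw [zero_add, pow_one]
    exact eq_zero_of_single_degree X a (fun i hi => hX i (by
      rcases lt_or_gt_of_ne hi with h | h
      · exact Or.inl h
      · exact Or.inr (by simpa using h))) f (hf a)
  | succ n ih =>
    intro X a hX f hf
    let b := a + 1
    let ι := (TStructure.t.truncLTι b).app X
    let π := (TStructure.t.truncGEπ b).app X
    let f₁ : End ((TStructure.t.truncLT b).obj X) := (TStructure.t.truncLT b).map f
    let f₃ : End ((TStructure.t.truncGE b).obj X) := (TStructure.t.truncGE b).map f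
    have hι : f₁ ≫ ι = ι ≫ f := (TStructure.t.truncLTι b).naturality f
    have hπ : f ≫ π = π ≫ f₃ := (TStructure.t.truncGEπ b).naturality f
    -- f₁ = 0
    have hf₁ : f₁ = 0 := by
      apply eq_zero_of_single_degree _ a
      · intro i hi
        rcases lt_or_gt_of_ne hi with h | h
        · haveI := mono_homology_truncLTι X b i
          exact IsZero.of_mono ((homologyFunctor A i).map ι) (hX i (Or.inl h))
        · exact isZero_of_isLE _ (b - 1) i (by lia)
      · haveI := mono_homology_truncLTι X b a
        rw [← cancel_mono ((homologyFunctor A a).map ι), zero_comp, ← Functor.map_comp, hι,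
          Functor.map_comp, hf a, comp_zero]
    -- f₃ ^ (n+1) = 0
    have hf₃ : f₃ ^ (n + 1) = 0 := by
      apply ih _ b
      · intro i hi
        rcases hi with h | h
        · exact isZero_of_isGE _ b i h
        · haveI := epi_homology_truncGEπ X b i
          exact IsZero.of_epi ((homologyFunctor A i).map π) (hX i (Or.inr (by
            push_cast at h ⊢; lia)))
      · intro i
        haveI := epi_homology_truncGEπ X b i
        rw [← cancel_epi ((homologyFunctor A i).map π), comp_zero, ← Functor.map_comp, ← hπ,
          Functor.map_comp, hf i, zero_comp]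
    have h1 : ι ≫ f = 0 := by rw [← hι, hf₁, zero_comp]
    obtain ⟨g, hg⟩ := Triangle.yoneda_exact₂ _ (TStructure.t.triangleLTGE_distinguished b X) f h1
    have h2 : (show X ⟶ X from f ^ (n + 1)) ≫ π = 0 := by
      rw [pow_comp_eq f f₃ π hπ (n + 1), hf₃]
      exact comp_zero
    have hg' : (show X ⟶ X from f) = π ≫ (show (TStructure.t.truncGE b).obj X ⟶ X from g) := hg
    have h3 : (show X ⟶ X from f ^ (n + 1)) ≫ (show X ⟶ X from f) = 0 := by
      generalize (show X ⟶ X from f ^ (n + 1)) = P at h2 ⊢
      rw [hg', ← Category.assoc, h2, zero_comp]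
    rw [pow_succ', End.mul_def]
    exact h3

end Groth.Agent.Helper2
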