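import Mathlib
import Groth.Agent.Lib.Helper7.SubmHom

set_option autoImplicit false
universe u
open CategoryTheory CategoryTheory.Limits AlgebraicGeometry

/-! Descent of morphisms into an etale scheme along a surjective morphism whose base change to the
relevant etale scheme is a quotient map (adapted from helper7's `exists_descent_subm`). -/

namespace Groth.Agent.Helper2.DescEt

open Groth.Agent.Helper7.SubmHom Groth.Agent.Helper7.SubmDesc Groth.Agent.Helper7.TopInv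

theorem exists_descent_of_isQuotientMap {X Y Y' S : Scheme.{u}} (p : X ⟶ S) [Etale p] (y : Y ⟶ S)
    (π : Y' ⟶ Y) (hπsurj : Surjective π)
    (hπQ : Topology.IsQuotientMap (pullback.fst (pullback.fst y p) π).base)
    (ψ₀ : Y' ⟶ X) (hψ : ψ₀ ≫ p = π ≫ y)
    (hcoc : ∀ {T : Scheme.{u}} (b₁ b₂ : T ⟶ Y'), b₁ ≫ π = b₂ ≫ π → b₁ ≫ ψ₀ = b₂ ≫ ψ₀) :
    ∃ φ : Y ⟶ X, φ ≫ p = y ∧ π ≫ φ = ψ₀ := by
  obtain ⟨q, hq⟩ : ∃ q : pullback y p ⟶ Y, q = pullback.fst y p := ⟨_, rfl⟩
  obtain ⟨r, hr⟩ : ∃ r : pullback y p ⟶ X, r = pullback.snd y p := ⟨_, rfl⟩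
  have hqr : q ≫ y = r ≫ p := by rw [hq, hr]; exact pullback.condition
  have hqet : Etale q := by rw [hq]; infer_instance
  have hext : ∀ {T : Scheme.{u}} (c₁ c₂ : T ⟶ pullback y p), c₁ ≫ q = c₂ ≫ q → c₁ ≫ r = c₂ ≫ r →
      c₁ = c₂ := by
    intro T c₁ c₂ h1 h2
    rw [hq] at h1; rw [hr] at h2
    exact pullback.hom_ext h1 h2
  obtain ⟨γ, hγq, hγr⟩ : ∃ γ : Y' ⟶ pullback y p, γ ≫ q = π ∧ γ ≫ r = ψ₀ :=
    ⟨pullback.lift π ψ₀ hψ.symm, by rw [hq]; exact pullback.lift_fst _ _ _,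
      by rw [hr]; exact pullback.lift_snd _ _ _⟩
  obtain ⟨a, ha⟩ : ∃ a : pullback q π ⟶ pullback y p, a = pullback.fst q π := ⟨_, rfl⟩
  obtain ⟨q', hq'⟩ : ∃ q' : pullback q π ⟶ Y', q' = pullback.snd q π := ⟨_, rfl⟩
  have haq : a ≫ q = q' ≫ π := by rw [ha, hq']; exact pullback.condition
  have hext' : ∀ {T : Scheme.{u}} (c₁ c₂ : T ⟶ pullback q π), c₁ ≫ a = c₂ ≫ a →
      c₁ ≫ q' = c₂ ≫ q' → c₁ = c₂ := by
    intro T c₁ c₂ h1 h2
    rw [ha] at h1; rw [hq'] at h2
    exact pullback.hom_ext h1 h2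
  have haS : Topology.IsQuotientMap a.base := by
    subst hq
    rw [ha]; exact hπQ
  have hq'et : Etale q' := by rw [hq']; infer_instance
  obtain ⟨σ, hσa, hσq'⟩ : ∃ σ : Y' ⟶ pullback q π, σ ≫ a = γ ∧ σ ≫ q' = 𝟙 Y' :=
    ⟨pullback.lift γ (𝟙 Y') (by rw [hγq, Category.id_comp]),
      by rw [ha]; exact pullback.lift_fst _ _ _, by rw [hq']; exact pullback.lift_snd _ _ _⟩
  -- the comparison map to `P ×_Y P`
  obtain ⟨l, hl1, hl2⟩ : ∃ l : pullback q π ⟶ pullback q q,
      l ≫ pullback.fst q q = a ∧ l ≫ pullback.snd q q = q' ≫ γ :=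
    ⟨pullback.lift a (q' ≫ γ) (by rw [Category.assoc, hγq, haq]), pullback.lift_fst _ _ _,
      pullback.lift_snd _ _ _⟩
  obtain ⟨E, hE⟩ : ∃ E : (pullback q π).Opens, E = l ⁻¹ᵁ (pullback.diagonal q).opensRange :=
    ⟨_, rfl⟩
  -- on `E` the two maps agree
  have hEeq : E.ι ≫ a = E.ι ≫ q' ≫ γ := by
    have hrange : Set.range (E.ι ≫ l).base ⊆ Set.range (pullback.diagonal q).base := by
      rintro _ ⟨z, rfl⟩
      have hz : (E.ι z) ∈ E := z.2
      have hz' : (E.ι z) ∈ l ⁻¹ᵁ (pullback.diagonal q).opensRange := by rw [← hE]; exact hz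
      rw [Scheme.Hom.comp_apply]
      exact hz'
    have h1 : IsOpenImmersion.lift (pullback.diagonal q) (E.ι ≫ l) hrange ≫ pullback.diagonal q
        = E.ι ≫ l := IsOpenImmersion.lift_fac _ _ _
    have h2 := congrArg (· ≫ pullback.fst q q) h1
    have h3 := congrArg (· ≫ pullback.snd q q) h1
    simp only [Category.assoc, pullback.diagonal_fst, pullback.diagonal_snd, Category.comp_id,
      hl1, hl2] at h2 h3
    rw [← h2, ← h3]
  -- the two pullbacks of `l` to `P' ×_P P'` agree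
  have hsat : pullback.fst a a ≫ l = pullback.snd a a ≫ l := by
    apply pullback.hom_ext
    · rw [Category.assoc, Category.assoc, hl1, pullback.condition]
    · rw [Category.assoc, Category.assoc, hl2]
      have hb : (pullback.fst a a ≫ q') ≫ π = (pullback.snd a a ≫ q') ≫ π := by
        rw [Category.assoc, Category.assoc, ← haq, ← Category.assoc, ← Category.assoc,
          pullback.condition]
      apply hext
      · rw [Category.assoc, Category.assoc, Category.assoc, Category.assoc, hγq]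
        simpa only [Category.assoc] using hb
      · rw [Category.assoc, Category.assoc, Category.assoc, Category.assoc, hγr]
        simpa only [Category.assoc] using hcoc _ _ hb
  have hsat' : ∀ z₁ z₂ : ↥(pullback q π), z₁ ∈ E → a z₁ = a z₂ → z₂ ∈ E := by
    intro z₁ z₂ hz₁ hz
    obtain ⟨w, hw1, hw2⟩ := Scheme.Pullback.exists_preimage_pullback z₁ z₂ hz
    rw [hE] at hz₁ ⊢
    change l z₂ ∈ (pullback.diagonal q).opensRange
    change l z₁ ∈ (pullback.diagonal q).opensRange at hz₁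
    have : l z₂ = l z₁ := by
      rw [← hw1, ← hw2, ← Scheme.Hom.comp_apply, ← Scheme.Hom.comp_apply, hsat]
    rw [this]
    exact hz₁
  have hpre : a ⁻¹' (a '' (E : Set ↥(pullback q π))) = (E : Set ↥(pullback q π)) := by
    apply Set.Subset.antisymm
    · rintro z₂ ⟨z₁, hz₁, hz⟩
      exact hsat' z₁ z₂ hz₁ hz
    · exact Set.subset_preimage_image _ _
  have hUopen : IsOpen (a '' (E : Set ↥(pullback q π))) := by
    rw [← haS.isOpen_preimage, hpre]
    exact E.2
  obtain ⟨U, hUdef⟩ : ∃ U : (pullback y p).Opens,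
      (U : Set ↥(pullback y p)) = a '' (E : Set ↥(pullback q π)) := ⟨⟨_, hUopen⟩, rfl⟩
  have hU : a ⁻¹ᵁ U = E := by
    refine TopologicalSpace.Opens.ext ?_
    rw [Scheme.Hom.coe_preimage, hUdef, hpre]
  have hσl : σ ≫ l = γ ≫ pullback.diagonal q := by
    apply pullback.hom_ext
    · rw [Category.assoc, Category.assoc, hl1, pullback.diagonal_fst, Category.comp_id, hσa]
    · rw [Category.assoc, Category.assoc, hl2, pullback.diagonal_snd, Category.comp_id,
        ← Category.assoc, hσq', Category.id_comp]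
  have hσE : ∀ y' : ↥Y', σ y' ∈ E := by
    intro y'
    rw [hE]
    change l (σ y') ∈ (pullback.diagonal q).opensRange
    rw [← Scheme.Hom.comp_apply, hσl, Scheme.Hom.comp_apply]
    exact ⟨_, rfl⟩
  have hσrange : Set.range σ.base ⊆ Set.range E.ι.base := by
    rintro _ ⟨y', rfl⟩
    rw [Scheme.Opens.range_ι]
    exact hσE y'
  obtain ⟨s, hs⟩ : ∃ s : Y' ⟶ E, s ≫ E.ι = σ :=
    ⟨IsOpenImmersion.lift E.ι σ hσrange, IsOpenImmersion.lift_fac _ _ _⟩
  have hs1 : s ≫ (E.ι ≫ q') = 𝟙 Y' := by rw [← Category.assoc, hs, hσq']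
  have hs2 : (E.ι ≫ q') ≫ s = 𝟙 _ := by
    rw [← cancel_mono E.ι, Category.assoc, hs, Category.id_comp]
    apply hext'
    · rw [Category.assoc, Category.assoc, hσa, hEeq]
    · rw [Category.assoc, Category.assoc, hσq', Category.comp_id]
  have hEiso : IsIso (E.ι ≫ q') := ⟨s, hs2, hs1⟩
  -- the pullback square
  have hsq : IsPullback (a ∣_ U) ((a ⁻¹ᵁ U).ι ≫ q') (U.ι ≫ q) π := by
    have hbot : IsPullback a q' q π := by
      rw [ha, hq']; exact IsPullback.of_hasPullback q π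
    exact (isPullback_morphismRestrict a U).paste_vert hbot
  have hleft : IsIso ((a ⁻¹ᵁ U).ι ≫ q') := by
    have : (a ⁻¹ᵁ U).ι = ((pullback q π).isoOfEq hU).hom ≫ E.ι :=
      (Scheme.isoOfEq_hom_ι _ hU).symm
    rw [this, Category.assoc]
    infer_instance
  have hu₀inj : UniversallyInjective (U.ι ≫ q) := universallyInjective_of_isPullback hsq.flip
  have hγrange : Set.range γ.base ⊆ Set.range U.ι.base := by
    rintro _ ⟨y', rfl⟩
    rw [Scheme.Opens.range_ι, hUdef]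
    refine ⟨σ y', hσE y', ?_⟩
    rw [← Scheme.Hom.comp_apply, hσa]
  obtain ⟨γU, hγU⟩ : ∃ γU : Y' ⟶ U, γU ≫ U.ι = γ :=
    ⟨IsOpenImmersion.lift U.ι γ hγrange, IsOpenImmersion.lift_fac _ _ _⟩
  have hfac : γU ≫ (U.ι ≫ q) = π := by rw [← Category.assoc, hγU, hγq]
  have hu₀surj : Surjective (U.ι ≫ q) := by
    have : Surjective (γU ≫ (U.ι ≫ q)) := by rw [hfac]; exact hπsurj
    exact Surjective.of_comp γU (U.ι ≫ q)
  have huiso : IsIso (U.ι ≫ q) := isIso_of_etale_of_surjective_of_universallyInjective _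
  refine ⟨inv (U.ι ≫ q) ≫ U.ι ≫ r, ?_, ?_⟩
  · rw [Category.assoc, Category.assoc, ← hqr, ← Category.assoc U.ι, IsIso.inv_hom_id_assoc]
  · rw [← hfac, Category.assoc, IsIso.hom_inv_id_assoc, ← Category.assoc, hγU, hγr]


end Groth.Agent.Helper2.DescEt
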