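import Mathlib

/-!
# Integrality and faithfully flat base change to a reduced quotient

For a domain `A` and a faithfully flat `A`-algebra `B`, with `C = B_red`:
`A → C` is injective, nonzero elements become nonzerodivisors, and an element of `Frac A`
integral over `C` (in the total fraction ring of `C`) is integral over `A`.
-/

open Polynomial

universe u

namespace Groth.Agent.Helper2.FFIntegral

section parts12

variable {A B : Type u} [CommRing A] [IsDomain A] [CommRing B] [Algebra A B]
  [Module.FaithfullyFlat A B]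

theorem algebraMap_injective_red :
    Function.Injective (algebraMap A (B ⧸ nilradical B)) := by
  rw [injective_iff_map_eq_zero]
  intro a ha
  have key : algebraMap A (B ⧸ nilradical B) a = Ideal.Quotient.mk _ (algebraMap A B a) := rfl
  rw [key, Ideal.Quotient.eq_zero_iff_mem, mem_nilradical] at ha
  obtain ⟨n, hn⟩ := ha
  rw [← map_pow] at hn
  have : a ^ n = 0 := (FaithfulSMul.algebraMap_injective A B) (by rw [hn, map_zero])
  exact pow_eq_zero_iff (by rintro rfl; simp at this) |>.1 this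

theorem algebraMap_mem_nonZeroDivisors_red (a : A) (ha : a ≠ 0) :
    algebraMap A (B ⧸ nilradical B) a ∈ nonZeroDivisors (B ⧸ nilradical B) := by
  rw [mem_nonZeroDivisors_iff_right]
  intro z hz
  obtain ⟨c, rfl⟩ := Ideal.Quotient.mk_surjective z
  have key : algebraMap A (B ⧸ nilradical B) a = Ideal.Quotient.mk _ (algebraMap A B a) := rfl
  rw [key, ← map_mul, Ideal.Quotient.eq_zero_iff_mem, mem_nilradical] at hz
  obtain ⟨n, hn⟩ := hz
  rw [Ideal.Quotient.eq_zero_iff_mem, mem_nilradical]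
  refine ⟨n, ?_⟩
  have hreg : IsSMulRegular B (a ^ n) :=
    Module.Flat.isSMulRegular_of_nonZeroDivisors (mem_nonZeroDivisors_of_ne_zero (pow_ne_zero n ha))
  apply hreg
  show a ^ n • c ^ n = a ^ n • (0 : B)
  rw [smul_zero, Algebra.smul_def, map_pow, ← mul_pow, mul_comm]
  exact hn

end parts12

section P3a

variable {A K : Type*} [CommRing A] [IsDomain A] [Field K] [Algebra A K] [IsFractionRing A K]

/-- span of `1, x, …, x^k` -/
noncomputable def Npow (x : K) (k : ℕ) : Submodule A K :=
  Submodule.span A (Set.range fun i : Fin (k + 1) => x ^ (i : ℕ))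

omit [IsDomain A] [IsFractionRing A K] in
theorem pow_mem_Npow (x : K) {i k : ℕ} (h : i ≤ k) : x ^ i ∈ Npow (A := A) x k :=
  Submodule.subset_span ⟨⟨i, Nat.lt_succ_of_le h⟩, rfl⟩

omit [IsDomain A] [IsFractionRing A K] in
theorem Npow_mono (x : K) {k l : ℕ} (h : k ≤ l) : Npow (A := A) x k ≤ Npow x l := by
  rw [Npow, Submodule.span_le]
  rintro _ ⟨i, rfl⟩
  exact pow_mem_Npow x (le_trans (Nat.le_of_lt_succ i.2) h)

omit [IsDomain A] [IsFractionRing A K] in
theorem mul_mem_Npow_succ (x : K) {k : ℕ} {z : K} (hz : z ∈ Npow (A := A) x k) :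
    x * z ∈ Npow (A := A) x (k + 1) := by
  refine Submodule.span_induction (p := fun z _ => x * z ∈ Npow (A := A) x (k + 1)) ?_ ?_ ?_ ?_ hz
  · rintro _ ⟨i, rfl⟩
    rw [← pow_succ']
    exact pow_mem_Npow x (Nat.succ_le_succ (Nat.le_of_lt_succ i.2))
  · simp
  · intro u v _ _ hu hv
    rw [mul_add]; exact add_mem hu hv
  · intro c u _ hu
    rw [mul_smul_comm]; exact Submodule.smul_mem _ c hu

omit [IsDomain A] [IsFractionRing A K] in
theorem exists_mem_Npow (x : K) (a s : A) (hx : algebraMap A K s * x = algebraMap A K a) :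
    ∀ (k : ℕ) (y : A), y ∈ (Ideal.span {a, s} : Ideal A) ^ k →
      ∃ z ∈ Npow (A := A) x k, algebraMap A K y = (algebraMap A K s) ^ k * z := by
  intro k
  induction k with
  | zero =>
    intro y _
    refine ⟨algebraMap A K y, ?_, by simp⟩
    rw [Algebra.algebraMap_eq_smul_one]
    exact Submodule.smul_mem _ _ (by simpa using pow_mem_Npow (A := A) x (le_refl 0))
  | succ k ih =>
    intro y hy
    rw [pow_succ] at hy
    refine Submodule.mul_induction_on hy ?_ ?_
    · intro y₁ hy₁ c hc
      obtain ⟨z₁, hz₁, h1⟩ := ih y₁ hy₁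
      obtain ⟨α, β, rfl⟩ := Ideal.mem_span_pair.1 hc
      refine ⟨algebraMap A K α * (x * z₁) + algebraMap A K β * z₁, ?_, ?_⟩
      · refine add_mem ?_ ?_
        · rw [← Algebra.smul_def]
          exact Submodule.smul_mem _ _ (mul_mem_Npow_succ x hz₁)
        · rw [← Algebra.smul_def]
          exact Submodule.smul_mem _ _ (Npow_mono x (Nat.le_succ k) hz₁)
      · rw [map_mul, map_add, map_mul, map_mul, h1, ← hx]
        ring
    · rintro u v ⟨zu, hzu, hu⟩ ⟨zv, hzv, hv⟩
      exact ⟨zu + zv, add_mem hzu hzv, by rw [map_add, hu, hv, mul_add]⟩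

theorem isIntegral_of_pow_mem (x : K) (a s : A) (hs : s ≠ 0)
    (hx : algebraMap A K s * x = algebraMap A K a) (m : ℕ) (hm : 1 ≤ m)
    (h : a ^ m ∈ Ideal.span {s} * (Ideal.span {a, s} : Ideal A) ^ (m - 1)) : IsIntegral A x := by
  have hσ : algebraMap A K s ≠ 0 := by
    rwa [Ne, map_eq_zero_iff _ (IsFractionRing.injective A K)]
  obtain ⟨y, hy, hya⟩ := Ideal.mem_span_singleton_mul.1 h
  obtain ⟨z, hz, hyz⟩ := exists_mem_Npow x a s hx (m - 1) y hy
  have hxm : x ^ m = z := by
    have h1 : algebraMap A K (a ^ m) = algebraMap A K s * ((algebraMap A K s) ^ (m - 1) * z) := by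
      rw [← hya, map_mul, hyz]
    rw [map_pow, ← hx, mul_pow] at h1
    have h2 : (algebraMap A K s) ^ m = algebraMap A K s * (algebraMap A K s) ^ (m - 1) := by
      rw [← pow_succ']; congr 1; omega
    rw [h2, mul_assoc] at h1
    have h3 := mul_left_cancel₀ hσ h1
    exact mul_left_cancel₀ (pow_ne_zero _ hσ) h3
  refine isIntegral_of_smul_mem_submodule (M := K) (Npow (A := A) x (m - 1)) ?_ ?_ x ?_
  · intro h0
    have : (1 : K) ∈ Npow (A := A) x (m - 1) := by
      simpa using pow_mem_Npow (A := A) x (Nat.zero_le (m - 1))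
    rw [h0, Submodule.mem_bot] at this
    exact one_ne_zero this
  · exact Submodule.fg_span (Set.finite_range _)
  · intro n hn
    refine Submodule.span_induction (p := fun n _ => x • n ∈ Npow (A := A) x (m - 1)) ?_ ?_ ?_ ?_ hn
    · rintro _ ⟨i, rfl⟩
      rw [smul_eq_mul, ← pow_succ']
      by_cases hi : (i : ℕ) + 1 ≤ m - 1
      · exact pow_mem_Npow x hi
      · have : (i : ℕ) + 1 = m := by have := i.2; omega
        rw [this, hxm]; exact hz
    · simp
    · intro u v _ _ hu hv
      rw [smul_add]; exact add_mem hu hv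
    · intro c u _ hu
      rw [smul_comm]; exact Submodule.smul_mem _ c hu

end P3a

section P3b

variable {A B : Type*} [CommRing A] [CommRing B] [Algebra A B]

theorem pow_mul_pow_mem (a s : A) (i j : ℕ) :
    s ^ i * a ^ j ∈ (Ideal.span {a, s} : Ideal A) ^ (i + j) := by
  rw [pow_add]
  refine Ideal.mul_mem_mul (Ideal.pow_mem_pow (Ideal.subset_span (by simp)) _)
    (Ideal.pow_mem_pow (Ideal.subset_span (by simp)) _)

theorem eval_scaleRoots_sub_mem (a s : A) (P : B[X]) (hP : P.Monic) (n : ℕ) (hn : P.natDegree = n)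
    (hn1 : 1 ≤ n) :
    eval (algebraMap A B a) (scaleRoots P (algebraMap A B s)) - (algebraMap A B a) ^ n ∈
      (Ideal.span {s} * (Ideal.span {a, s} : Ideal A) ^ (n - 1)).map (algebraMap A B) := by
  rw [eval_eq_sum_range, natDegree_scaleRoots, hn, Finset.sum_range_succ, coeff_scaleRoots, hn,
    Nat.sub_self, pow_zero, mul_one, ← hn, hP.coeff_natDegree, one_mul, add_sub_cancel_right]
  refine Ideal.sum_mem _ fun i hi => ?_
  rw [Finset.mem_range] at hi
  rw [coeff_scaleRoots]
  have h1 : P.natDegree - i = 1 + (P.natDegree - 1 - i) := by omega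
  have h2 : P.coeff i * algebraMap A B s ^ (P.natDegree - i) * algebraMap A B a ^ i =
      P.coeff i * (algebraMap A B (s * (s ^ (P.natDegree - 1 - i) * a ^ i))) := by
    rw [h1, pow_add, pow_one, map_mul, map_mul, map_pow, map_pow]; ring
  rw [h2]
  refine Ideal.mul_mem_left _ _ (Ideal.mem_map_of_mem _ ?_)
  refine Ideal.mul_mem_mul (Ideal.subset_span rfl) ?_
  have := pow_mul_pow_mem a s (P.natDegree - 1 - i) i
  rwa [show P.natDegree - 1 - i + i = P.natDegree - 1 by omega] at this

theorem pow_mem_of_eval_scaleRoots_nilpotent [Module.FaithfullyFlat A B] (a s : A) (P : B[X])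
    (hP : P.Monic) (n : ℕ) (hn : P.natDegree = n) (hn1 : 1 ≤ n) (N : ℕ) (hN : 1 ≤ N)
    (hE : eval (algebraMap A B a) (scaleRoots P (algebraMap A B s)) ^ N = 0) :
    a ^ (n * N) ∈ Ideal.span {s} * (Ideal.span {a, s} : Ideal A) ^ (n * N - 1) := by
  set φ := algebraMap A B with hφ
  set 𝔠 : Ideal A := Ideal.span {a, s} with h𝔠
  set E := eval (φ a) (scaleRoots P (φ s)) with hEdef
  set u := (φ a) ^ n with hu
  have h1 : E - u ∈ (Ideal.span {s} * 𝔠 ^ (n - 1)).map φ := eval_scaleRoots_sub_mem a s P hP n hn hn1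
  have hle : Ideal.span {s} * 𝔠 ^ (n - 1) ≤ 𝔠 ^ n := by
    have : 𝔠 ^ n = 𝔠 * 𝔠 ^ (n - 1) := by rw [← pow_succ']; congr 1; omega
    rw [this]
    exact Ideal.mul_mono_left (Ideal.span_mono (by simp))
  have hu𝔠 : u ∈ (𝔠 ^ n).map φ := by
    rw [hu, ← map_pow]
    exact Ideal.mem_map_of_mem _ (Ideal.pow_mem_pow (Ideal.subset_span (by simp)) _)
  have hE𝔠 : E ∈ (𝔠 ^ n).map φ := by
    have : E = (E - u) + u := by ring
    rw [this]
    exact add_mem (Ideal.map_mono hle h1) hu𝔠
  have h2 : u ^ N - E ^ N ∈ ((𝔠 ^ n) ^ (N - 1) * (Ideal.span {s} * 𝔠 ^ (n - 1))).map φ := by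
    rw [← geom_sum₂_mul, Ideal.map_mul, Ideal.map_pow]
    refine Ideal.mul_mem_mul (Ideal.sum_mem _ fun i hi => ?_) ?_
    · rw [Finset.mem_range] at hi
      have : Ideal.map φ (𝔠 ^ n) ^ (N - 1) =
          Ideal.map φ (𝔠 ^ n) ^ i * Ideal.map φ (𝔠 ^ n) ^ (N - 1 - i) := by
        rw [← pow_add]; congr 1; omega
      rw [this]
      exact Ideal.mul_mem_mul (Ideal.pow_mem_pow hu𝔠 _) (Ideal.pow_mem_pow hE𝔠 _)
    · have : u - E = -(E - u) := by ring
      rw [this]
      exact neg_mem h1
  rw [hE, sub_zero] at h2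
  have h3 : (𝔠 ^ n) ^ (N - 1) * (Ideal.span {s} * 𝔠 ^ (n - 1)) =
      Ideal.span {s} * 𝔠 ^ (n * N - 1) := by
    rw [← pow_mul, mul_left_comm, ← pow_add]
    congr 2
    have : n * N = n * (N - 1) + n := by
      conv_lhs => rw [show N = N - 1 + 1 by omega]
      ring
    omega
  rw [h3, hu, ← pow_mul, ← map_pow] at h2
  have h4 := Ideal.comap_map_eq_self_of_faithfullyFlat (B := B) (Ideal.span {s} * 𝔠 ^ (n * N - 1))
  rw [← h4]
  exact Ideal.mem_comap.2 h2

end P3b

section main

variable {A B : Type u} [CommRing A] [IsDomain A] [CommRing B] [Algebra A B]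
  [Module.FaithfullyFlat A B]

theorem isIntegral_of_isIntegral_red
    (R : Type u) [CommRing R] [Algebra (B ⧸ nilradical B) R] [IsFractionRing (B ⧸ nilradical B) R]
    [Algebra A R] [IsScalarTower A (B ⧸ nilradical B) R] [Algebra (FractionRing A) R]
    [IsScalarTower A (FractionRing A) R] (x : FractionRing A)
    (h : IsIntegral (B ⧸ nilradical B) (algebraMap (FractionRing A) R x)) : IsIntegral A x := by
  haveI : Nontrivial B := (FaithfulSMul.algebraMap_injective A B).nontrivial
  have hnil : nilradical B ≠ ⊤ := by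
    intro h1
    have : (1 : B) ∈ nilradical B := by rw [h1]; trivial
    rw [mem_nilradical] at this
    obtain ⟨n, hn⟩ := this
    rw [one_pow] at hn
    exact one_ne_zero hn
  haveI : Nontrivial (B ⧸ nilradical B) := Ideal.Quotient.nontrivial_iff.mpr hnil
  obtain ⟨⟨a, s⟩, hxs⟩ := IsLocalization.surj (nonZeroDivisors A) x
  have hs : (s : A) ≠ 0 := nonZeroDivisors.ne_zero s.2
  have hx' : algebraMap A (FractionRing A) s * x = algebraMap A (FractionRing A) a := by
    rw [mul_comm]; exact hxs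
  obtain ⟨p, hpm, hp⟩ := h
  set f := algebraMap (B ⧸ nilradical B) R with hf
  set ξ := algebraMap (FractionRing A) R x with hξ
  -- make the degree positive
  let p' := p * X
  have hp'm : p'.Monic := hpm.mul monic_X
  have hp'0 : eval₂ f ξ p' = 0 := by rw [eval₂_mul, hp, zero_mul]
  have hp'deg : 1 ≤ p'.natDegree := by
    rw [natDegree_mul_X hpm.ne_zero]; omega
  -- the key relation in R
  have hσξ : f (algebraMap A (B ⧸ nilradical B) s) * ξ = f (algebraMap A (B ⧸ nilradical B) a) := by
    rw [hf, ← IsScalarTower.algebraMap_apply A (B ⧸ nilradical B) R,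
      ← IsScalarTower.algebraMap_apply A (B ⧸ nilradical B) R,
      IsScalarTower.algebraMap_apply A (FractionRing A) R,
      IsScalarTower.algebraMap_apply A (FractionRing A) R, hξ, ← map_mul, hx']
  have hq0 : eval (algebraMap A (B ⧸ nilradical B) a)
      (scaleRoots p' (algebraMap A (B ⧸ nilradical B) s)) = 0 := by
    apply IsFractionRing.injective (B ⧸ nilradical B) R
    rw [map_zero, ← hf, ← eval₂_at_apply, ← hσξ, scaleRoots_eval₂_mul, hp'0, mul_zero]
  -- lift to B
  have hl : p' ∈ lifts (Ideal.Quotient.mk (nilradical B)) :=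
    (mem_lifts _).2 (map_surjective _ Ideal.Quotient.mk_surjective p')
  obtain ⟨P, hPmap, hPdeg, hPm⟩ := lifts_and_degree_eq_and_monic hl hp'm
  have hPn : P.natDegree = p'.natDegree := natDegree_eq_of_degree_eq hPdeg
  set E := eval (algebraMap A B a) (scaleRoots P (algebraMap A B s)) with hE
  have hEnil : E ∈ nilradical B := by
    rw [← Ideal.Quotient.eq_zero_iff_mem, hE, ← eval₂_at_apply, ← eval_map, map_scaleRoots, hPmap]
    · exact hq0
    · rw [hPm.leadingCoeff, map_one]; exact one_ne_zero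
  obtain ⟨N, hN⟩ := mem_nilradical.1 hEnil
  have hN' : E ^ (N + 1) = 0 := by rw [pow_succ, hN, zero_mul]
  have key := pow_mem_of_eval_scaleRoots_nilpotent a s P hPm P.natDegree rfl (hPn ▸ hp'deg) (N + 1)
    (Nat.le_add_left 1 N) hN'
  refine isIntegral_of_pow_mem x a s hs hx' (P.natDegree * (N + 1)) ?_ key
  exact Nat.mul_pos (hPn ▸ hp'deg) (Nat.succ_pos N)

end main

end Groth.Agent.Helper2.FFIntegral
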