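import Mathlib

universe u v

namespace Groth.Agent.Helper2.FinLen

open Module

/-- a finite module over a Noetherian ring with support dimension `≤ 0` is Artinian -/
theorem isArtinian_of_supportDim_le_zero {R : Type u} [CommRing R] [IsNoetherianRing R]
    {N : Type v} [AddCommGroup N] [Module R N] [Module.Finite R N]
    (h : supportDim R N ≤ 0) : IsArtinian R N := by
  rw [supportDim_eq_ringKrullDim_quotient_annihilator] at h
  have : Ring.KrullDimLE 0 (R ⧸ annihilator R N) := by
    rw [Ring.KrullDimLE, Order.krullDimLE_iff]
    exact h
  have : IsArtinianRing (R ⧸ annihilator R N) := isArtinianRing_iff_krullDimLE_zero.mpr inferInstance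
  let _ : Module (R ⧸ annihilator R N) N := Module.quotientAnnihilator
  have : IsScalarTower R (R ⧸ annihilator R N) N := by
    refine ⟨fun r s x => ?_⟩
    obtain ⟨s, rfl⟩ := Ideal.Quotient.mk_surjective s
    have h1 : ∀ (b : R) (y : N), (Ideal.Quotient.mk (annihilator R N) b) • y = b • y :=
      fun b y => (Module.isTorsionBySet_annihilator R N).mk_smul b y
    rw [Algebra.smul_def, Ideal.Quotient.algebraMap_eq, ← map_mul, h1, h1, mul_smul]
  have : Module.Finite (R ⧸ annihilator R N) N := Module.Finite.of_restrictScalars_finite R _ N
  have : IsArtinian (R ⧸ annihilator R N) N := inferInstance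
  exact isArtinian_of_surjective_algebraMap (S := R) (R := R ⧸ annihilator R N)
    Ideal.Quotient.mk_surjective

theorem isFiniteLength_of_supportDim_le_zero {R : Type u} [CommRing R] [IsNoetherianRing R]
    {N : Type v} [AddCommGroup N] [Module R N] [Module.Finite R N]
    (h : supportDim R N ≤ 0) : IsFiniteLength R N := by
  rw [isFiniteLength_iff_isNoetherian_isArtinian]
  exact ⟨inferInstance, isArtinian_of_supportDim_le_zero h⟩

/-- For `p` minimal in the support of a finite module `M`, the support of `M_p` over `R_p` is
contained in the closed point. -/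
theorem asIdeal_eq_maximalIdeal_of_mem_support_localized {R : Type u} [CommRing R]
    {M : Type v} [AddCommGroup M] [Module R M] [Module.Finite R M]
    (p : PrimeSpectrum R) (hp : ∀ q ∈ support R M, q ≤ p → q = p)
    (q' : PrimeSpectrum (Localization.AtPrime p.asIdeal))
    (hq' : q' ∈ support (Localization.AtPrime p.asIdeal)
      (LocalizedModule p.asIdeal.primeCompl M)) :
    q'.asIdeal = IsLocalRing.maximalIdeal (Localization.AtPrime p.asIdeal) := by
  have h1 := Module.annihilator_le_of_mem_support hq'
  set q : PrimeSpectrum R := PrimeSpectrum.comap (algebraMap R (Localization.AtPrime p.asIdeal)) q'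
    with hq
  have hqs : q ∈ support R M := by
    rw [Module.mem_support_iff_of_finite]
    intro a ha
    change algebraMap R (Localization.AtPrime p.asIdeal) a ∈ q'.asIdeal
    apply h1
    rw [Module.mem_annihilator]
    intro x
    rw [algebraMap_smul]
    induction x using LocalizedModule.induction_on with
    | h m s =>
      rw [LocalizedModule.smul'_mk, (Module.mem_annihilator.mp ha) m, LocalizedModule.zero_mk]
  have hqp : q ≤ p := by
    change Ideal.comap _ q'.asIdeal ≤ p.asIdeal
    calc Ideal.comap _ q'.asIdeal
        ≤ Ideal.comap (algebraMap R (Localization.AtPrime p.asIdeal))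
          (IsLocalRing.maximalIdeal (Localization.AtPrime p.asIdeal)) :=
          Ideal.comap_mono (IsLocalRing.le_maximalIdeal q'.isPrime.ne_top)
      _ = p.asIdeal := Localization.AtPrime.under_maximalIdeal
  have hqe := hp q hqs hqp
  have h2 : Ideal.map (algebraMap R (Localization.AtPrime p.asIdeal))
      (Ideal.comap (algebraMap R (Localization.AtPrime p.asIdeal)) q'.asIdeal) = q'.asIdeal :=
    IsLocalization.map_under p.asIdeal.primeCompl _ _
  have h3 : Ideal.comap (algebraMap R (Localization.AtPrime p.asIdeal)) q'.asIdeal = p.asIdeal :=
    congrArg PrimeSpectrum.asIdeal hqe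
  rw [← h2, h3]
  exact IsLocalization.AtPrime.map_eq_maximalIdeal p.asIdeal _

/-- For `p` minimal in the support of a finite module `M` over a Noetherian ring, `M_p` is
Artinian over `R_p`. -/
theorem isArtinian_localized_of_minimal {R : Type u} [CommRing R] [IsNoetherianRing R]
    {M : Type v} [AddCommGroup M] [Module R M] [Module.Finite R M]
    (p : PrimeSpectrum R) (hp : ∀ q ∈ support R M, q ≤ p → q = p) :
    IsArtinian (Localization.AtPrime p.asIdeal) (LocalizedModule p.asIdeal.primeCompl M) := by
  have : IsNoetherianRing (Localization.AtPrime p.asIdeal) :=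
    IsLocalization.isNoetherianRing p.asIdeal.primeCompl _ inferInstance
  have : Module.Finite (Localization.AtPrime p.asIdeal) (LocalizedModule p.asIdeal.primeCompl M) :=
    Module.Finite.of_isLocalizedModule p.asIdeal.primeCompl
      (LocalizedModule.mkLinearMap p.asIdeal.primeCompl M)
  apply isArtinian_of_supportDim_le_zero
  rw [supportDim, Order.krullDim_nonpos_iff_forall_isMax]
  intro x y hxy
  have hx := asIdeal_eq_maximalIdeal_of_mem_support_localized p hp x.1 x.2
  have hy := asIdeal_eq_maximalIdeal_of_mem_support_localized p hp y.1 y.2
  have : x = y := Subtype.ext (PrimeSpectrum.ext (hx.trans hy.symm))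
  exact this ▸ le_refl _

/-- For `p` minimal in the support of a finite module `M` over a Noetherian ring and `χ` an
injective endomorphism, `p` is not in the support of `M ⧸ χ M`. -/
theorem notMem_support_quotient_range_of_minimal {R : Type u} [CommRing R] [IsNoetherianRing R]
    {M : Type v} [AddCommGroup M] [Module R M] [Module.Finite R M]
    (p : PrimeSpectrum R) (hp : ∀ q ∈ support R M, q ≤ p → q = p)
    (χ : M →ₗ[R] M) (hχ : Function.Injective χ) :
    p ∉ support R (M ⧸ LinearMap.range χ) := by
  rw [Module.notMem_support_iff]
  have hA := isArtinian_localized_of_minimal p hp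
  set S := p.asIdeal.primeCompl with hS
  let χp : LocalizedModule S M →ₗ[Localization.AtPrime p.asIdeal] LocalizedModule S M :=
    (LocalizedModule.map S χ).extendScalarsOfIsLocalization S (Localization.AtPrime p.asIdeal)
  have hinj : Function.Injective χp := LocalizedModule.map_injective S χ hχ
  have hsurj : Function.Surjective χp := IsArtinian.surjective_of_injective_endomorphism χp hinj
  have hex : Function.Exact χ (LinearMap.range χ).mkQ := by
    rw [LinearMap.exact_iff]
    simp
  have hex' := LocalizedModule.map_exact S χ (LinearMap.range χ).mkQ hex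
  have hs2 := LocalizedModule.map_surjective S (LinearMap.range χ).mkQ
    (Submodule.mkQ_surjective _)
  refine ⟨fun a b => ?_⟩
  have h0 : ∀ y : LocalizedModule S (M ⧸ LinearMap.range χ), y = 0 := by
    intro y
    obtain ⟨x, rfl⟩ := hs2 y
    obtain ⟨x', rfl⟩ := hsurj x
    exact (hex' _).mpr ⟨x', rfl⟩
  rw [h0 a, h0 b]

/-- `M` finite of support dimension `≤ 1` over a Noetherian ring and `χ` an injective
endomorphism: `M ⧸ χ M` has finite length. -/
theorem isFiniteLength_quotient_range {R : Type u} [CommRing R] [IsNoetherianRing R]
    {M : Type v} [AddCommGroup M] [Module R M] [Module.Finite R M]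
    (hdim : supportDim R M ≤ 1)
    (χ : M →ₗ[R] M) (hχ : Function.Injective χ) :
    IsFiniteLength R (M ⧸ LinearMap.range χ) := by
  apply isFiniteLength_of_supportDim_le_zero
  rw [supportDim, Order.krullDim_nonpos_iff_forall_isMax]
  intro x y hxy
  by_contra hne
  have hlt : x < y := lt_of_le_not_ge hxy hne
  have hsub : support R (M ⧸ LinearMap.range χ) ⊆ support R M :=
    Module.support_subset_of_surjective _ (Submodule.mkQ_surjective (LinearMap.range χ))
  have hmin : ∀ q ∈ support R M, q ≤ x.1 → q = x.1 := by
    intro q hq hqx
    by_contra hqne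
    have hqlt : q < x.1 := lt_of_le_of_ne hqx hqne
    let a : support R M := ⟨q, hq⟩
    let b : support R M := ⟨x.1, hsub x.2⟩
    let c : support R M := ⟨y.1, hsub y.2⟩
    have hab : a < b := hqlt
    have hbc : b < c := hlt
    let s : LTSeries (support R M) :=
      { length := 2
        toFun := ![a, b, c]
        step := by
          intro i
          fin_cases i
          · exact hab
          · exact hbc }
    have h2 : (2 : WithBot ℕ∞) ≤ supportDim R M := by
      have := Order.LTSeries.length_le_krullDim s
      exact this
    have h3 : (2 : WithBot ℕ∞) ≤ 1 := h2.trans hdim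
    exact absurd h3 (by decide)
  exact notMem_support_quotient_range_of_minimal x.1 hmin χ hχ x.2

end Groth.Agent.Helper2.FinLen
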