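import Mathlib
namespace Groth.Agent.Helper2.FiniteAffine
open AlgebraicGeometry CategoryTheory Limits Topology TopologicalSpace
universe u

theorem exists_basicOpen_finset {X : Scheme.{u}} {U : X.Opens} (hU : IsAffineOpen U) (W : X.Opens)
    (T : Finset X) (hTU : ∀ t ∈ T, t ∈ U) (hTW : ∀ t ∈ T, t ∈ W) :
    ∃ c : Γ(X, U), X.basicOpen c ≤ W ∧ ∀ t ∈ T, t ∈ X.basicOpen c := by
  classical
  rcases T.eq_empty_or_nonempty with rfl | ⟨t₀, ht₀⟩
  · refine ⟨0, ?_, by simp⟩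
    rw [Scheme.basicOpen_zero]
    exact bot_le
  let W' : (Spec Γ(X, U)).Opens := hU.fromSpec ⁻¹ᵁ W
  obtain ⟨I, hI⟩ : ∃ I : Ideal Γ(X, U),
      ((W' : Set (Spec Γ(X, U))) : Set (PrimeSpectrum Γ(X, U)))ᶜ = PrimeSpectrum.zeroLocus I :=
    (PrimeSpectrum.isClosed_iff_zeroLocus_ideal _).mp W'.isOpen.isClosed_compl
  let P : X → Ideal Γ(X, U) := fun t =>
    if h : t ∈ U then (hU.primeIdealOf ⟨t, h⟩).asIdeal else ⊤
  have hPt : ∀ t (h : t ∈ U), P t = (hU.primeIdealOf ⟨t, h⟩).asIdeal := fun t h => dif_pos h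
  have hP : ∀ t ∈ T, (P t).IsPrime := by
    intro t ht
    rw [hPt t (hTU t ht)]
    exact (hU.primeIdealOf ⟨t, hTU t ht⟩).2
  have hnot : ∀ t ∈ T, ¬ I ≤ P t := by
    intro t ht hle
    rw [hPt t (hTU t ht)] at hle
    have h1 : hU.primeIdealOf ⟨t, hTU t ht⟩ ∈ PrimeSpectrum.zeroLocus (I : Set Γ(X, U)) := hle
    rw [← hI] at h1
    apply h1
    show hU.fromSpec (hU.primeIdealOf ⟨t, hTU t ht⟩) ∈ W
    rw [hU.fromSpec_primeIdealOf]
    exact hTW t ht
  have hav : ¬ ((I : Set Γ(X, U)) ⊆ ⋃ i ∈ (↑T : Set X), P i) := by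
    rw [Ideal.subset_union_prime t₀ t₀ (fun i hi _ _ => hP i hi)]
    rintro ⟨i, hi, hle⟩
    exact hnot i hi hle
  rw [Set.not_subset] at hav
  obtain ⟨c, hcI, hc⟩ := hav
  simp only [Set.mem_iUnion, not_exists] at hc
  refine ⟨c, ?_, ?_⟩
  · rw [← hU.fromSpec_image_basicOpen]
    rintro _ ⟨p, hp, rfl⟩
    have : p ∉ PrimeSpectrum.zeroLocus (I : Set Γ(X, U)) := fun h => hp (h hcI)
    rw [← hI] at this
    exact not_not.mp this
  · intro t ht
    rw [← hU.fromSpec_image_basicOpen]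
    refine ⟨hU.primeIdealOf ⟨t, hTU t ht⟩, ?_, hU.fromSpec_primeIdealOf _⟩
    have := hc t (by simpa using ht)
    rw [hPt t (hTU t ht)] at this
    exact this


theorem main {X Y : Scheme.{u}} (f : X ⟶ Y) [IsAffine Y] [IsSeparated f] [LocallyQuasiFinite f]
    [LocallyOfFiniteType f] (T : Finset ↑X) :
    ∃ U : X.Opens, IsAffineOpen U ∧ ∀ x ∈ T, x ∈ U := by
  classical
  have hex : ∀ x : X, ∃ V : X.Opens, IsAffineOpen V ∧ x ∈ V := fun x => by
    obtain ⟨V, hV, hxV, -⟩ := exists_isAffineOpen_mem_and_subset (x := x) (U := ⊤) trivial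
    exact ⟨V, hV, hxV⟩
  choose V hV hxV using hex
  let X₀ : X.Opens := ⨆ t ∈ T, V t
  have hTX₀ : ∀ t ∈ T, t ∈ X₀ := fun t ht =>
    (le_iSup₂ (f := fun t (_ : t ∈ T) => V t) t ht) (hxV t)
  have hc : IsCompact (X₀ : Set X) := by
    have : (X₀ : Set X) = ⋃ t ∈ T, (V t : Set X) := by simp [X₀]
    rw [this]
    exact T.isCompact_biUnion fun t _ => (hV t).isCompact
  have : CompactSpace X₀ := isCompact_iff_compactSpace.mp hc
  let g : (X₀ : Scheme) ⟶ Y := X₀.ι ≫ f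
  have : QuasiCompact g := inferInstance
  have : IsSeparated g := inferInstance
  have : LocallyQuasiFinite g := inferInstance
  have : LocallyOfFiniteType g := inferInstance
  let j := g.toNormalization
  have hj : IsOpenImmersion j := inferInstance
  have : IsAffine g.normalization := isAffine_of_isAffineHom g.fromNormalization
  let T' : Finset g.normalization := T.attach.image (fun t => j.base ⟨t.1, hTX₀ t.1 t.2⟩)
  obtain ⟨c, hcW, hcT⟩ := exists_basicOpen_finset (isAffineOpen_top g.normalization) j.opensRange T'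
    (fun _ _ => trivial) (by
      intro t ht
      simp only [T', Finset.mem_image] at ht
      obtain ⟨t', -, rfl⟩ := ht
      exact ⟨_, rfl⟩)
  have hD : IsAffineOpen (g.normalization.basicOpen c) := (isAffineOpen_top _).basicOpen c
  have h1 : IsAffineOpen (j ⁻¹ᵁ (g.normalization.basicOpen c)) :=
    hD.preimage_of_isOpenImmersion j hcW
  have h2 : IsAffineOpen (X₀.ι ''ᵁ (j ⁻¹ᵁ (g.normalization.basicOpen c))) :=
    h1.image_of_isOpenImmersion X₀.ι
  refine ⟨_, h2, fun x hx => ?_⟩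
  refine ⟨⟨x, hTX₀ x hx⟩, ?_, rfl⟩
  apply hcT
  simp only [T', Finset.mem_image]
  exact ⟨⟨x, hx⟩, Finset.mem_attach _ _, rfl⟩

end Groth.Agent.Helper2.FiniteAffine
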