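import Mathlib
set_option autoImplicit false
universe u

namespace Groth.Agent.Helper2.AdicFS

/-- bijectivity modulo `J` implies bijectivity, for a complete source and a flat Hausdorff target -/
theorem bijective_of_flat_of_bijective_mod {A : Type*} [CommRing A] (J : Ideal A)
    {M N : Type*} [AddCommGroup M] [Module A M] [AddCommGroup N] [Module A N]
    [IsHausdorff J M] [IsAdicComplete J N] [Module.Flat A M] (u : N →ₗ[A] M)
    (hsurj : ∀ m : M, ∃ n : N, m - u n ∈ (J • ⊤ : Submodule A M))
    (hinj : ∀ n : N, u n ∈ (J • ⊤ : Submodule A M) → n ∈ (J • ⊤ : Submodule A N)) :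
    Function.Bijective u := by
  constructor
  · -- injectivity
    have step : ∀ k : ℕ, ∀ n : N, n ∈ (J ^ k • ⊤ : Submodule A N) → u n = 0 →
        n ∈ (J ^ (k + 1) • ⊤ : Submodule A N) := by
      intro k n hn hun
      have hn' : n ∈ J ^ k • Submodule.span A (Set.range (id : N → N)) := by
        rw [Set.range_id, Submodule.span_univ]; exact hn
      obtain ⟨a, ha, rfl⟩ := (Submodule.mem_ideal_smul_span_iff_exists_sum _ _ _).mp hn'
      -- the relation
      have hrel : ∑ i : a.support, a i.1 • u (i.1 : N) = 0 := by
        rw [← hun, Finsupp.sum, map_sum, Finset.sum_coe_sort a.support (fun i => a i • u i)]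
        refine Finset.sum_congr rfl fun i _ => ?_
        rw [map_smul, id]
      obtain ⟨κ, b, y, hy, hb⟩ := Module.Flat.isTrivialRelation_of_sum_smul_eq_zero
        (f := fun i : a.support => a i.1) (x := fun i : a.support => u (i.1 : N)) hrel
      simp only at hy hb
      choose n' hn' using fun j => hsurj (y j)
      have hmem : ∀ i : a.support, (i.1 : N) - ∑ j, b i j • n' j ∈ (J • ⊤ : Submodule A N) := by
        intro i
        apply hinj
        rw [map_sub, hy i, map_sum, ← Finset.sum_sub_distrib]
        refine Submodule.sum_mem _ fun j _ => ?_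
        rw [map_smul, ← smul_sub]
        exact Submodule.smul_mem _ _ (hn' j)
      have hsplit : (a.sum fun i c => c • id i) =
          ∑ i : a.support, a i.1 • ((i.1 : N) - ∑ j, b i j • n' j) := by
        have h1 : ∑ i : a.support, a i.1 • ∑ j, b i j • n' j = 0 := by
          simp_rw [Finset.smul_sum, smul_smul]
          rw [Finset.sum_comm]
          refine Finset.sum_eq_zero fun j _ => ?_
          rw [← Finset.sum_smul, hb j, zero_smul]
        simp_rw [smul_sub]
        rw [Finset.sum_sub_distrib, h1, sub_zero, Finsupp.sum, ← Finset.sum_coe_sort]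
        rfl
      rw [hsplit]
      refine Submodule.sum_mem _ fun i _ => ?_
      rw [pow_succ, Submodule.mul_smul]
      exact Submodule.smul_mem_smul (ha i.1) (hmem i)
    rw [injective_iff_map_eq_zero]
    intro n hn
    have hall : ∀ k : ℕ, n ∈ (J ^ k • ⊤ : Submodule A N) := by
      intro k
      induction k with
      | zero => simp
      | succ k ih => exact step k n ih hn
    apply IsHausdorff.haus (inferInstance : IsHausdorff J N) n
    intro k
    rw [SModEq.zero]
    exact hall k
  · -- surjectivity
    apply surjective_of_mkQ_comp_surjective (I := J)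
    intro q
    obtain ⟨m, rfl⟩ := Submodule.mkQ_surjective _ q
    obtain ⟨n, hn⟩ := hsurj m
    refine ⟨n, ?_⟩
    change Submodule.Quotient.mk (u n) = Submodule.Quotient.mk m
    rw [Submodule.Quotient.eq]
    have := Submodule.neg_mem _ hn
    rwa [neg_sub] at this

end Groth.Agent.Helper2.AdicFS
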