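import Mathlib
import Groth.Prelude.Def_ega3

/-!
Homological functors `T_p(M) = H_p(P ⊗ M)` of a chain complex of flat modules: the long exact
sequence and first consequences.
-/

universe u

open CategoryTheory Limits MonoidalCategory

namespace Groth.Agent.Helper2.FlatCx

variable {A : Type u} [CommRing A] {ι : Type} {c : ComplexShape ι}
variable (P : HomologicalComplex (ModuleCat.{u} A) c)

theorem tensorMap_comp {M N L : ModuleCat.{u} A} (f : M ⟶ N) (g : N ⟶ L) :
    CohIII.tensorMap P (f ≫ g) = CohIII.tensorMap P f ≫ CohIII.tensorMap P g := by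
  have e : (tensoringRight (ModuleCat.{u} A)).map (f ≫ g) =
      (tensoringRight _).map f ≫ (tensoringRight _).map g :=
    (tensoringRight (ModuleCat.{u} A)).map_comp f g
  unfold CohIII.tensorMap
  rw [e, NatTrans.mapHomologicalComplex_comp, NatTrans.comp_app]

theorem tensorMap_zero (M N : ModuleCat.{u} A) :
    CohIII.tensorMap P (0 : M ⟶ N) = 0 := by
  ext i : 1
  change P.X i ◁ (0 : M ⟶ N) = 0
  exact MonoidalPreadditive.whiskerLeft_zero

theorem tensorMap_f {M N : ModuleCat.{u} A} (f : M ⟶ N) (i : ι) :
    (CohIII.tensorMap P f).f i = P.X i ◁ f := rfl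

/-- The short complex of complexes `P ⊗ M' ⟶ P ⊗ M ⟶ P ⊗ M''`. -/
noncomputable def tensorSC (S : ShortComplex (ModuleCat.{u} A)) :
    ShortComplex (HomologicalComplex (ModuleCat.{u} A) c) :=
  ShortComplex.mk (CohIII.tensorMap P S.f) (CohIII.tensorMap P S.g) (by
    rw [← tensorMap_comp, S.zero, tensorMap_zero])

theorem tensorSC_shortExact (hP : ∀ i, Module.Flat A (P.X i))
    (S : ShortComplex (ModuleCat.{u} A)) (hS : S.ShortExact) :
    (tensorSC P S).ShortExact := by
  apply HomologicalComplex.shortExact_of_degreewise_shortExact
  intro i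
  haveI := hP i
  exact hS.map_of_exact (tensorLeft (P.X i))

section LES
variable {P}
variable (hP : ∀ i, Module.Flat A (P.X i)) (p q : ι) (hpq : c.Rel p q)
include hP hpq

/-- `T_p` takes surjections to surjections iff `T_q` takes injections to injections (`p → q`). -/
theorem preservesEpi_iff_preservesMono :
    (CohIII.TFun P p).PreservesEpimorphisms ↔ (CohIII.TFun P q).PreservesMonomorphisms := by
  constructor
  · intro h
    refine ⟨fun {M' M} f hf => ?_⟩
    have hS : (ShortComplex.mk f (cokernel.π f) (cokernel.condition f)).ShortExact :=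
      { exact := ShortComplex.exact_cokernel f }
    have hT := tensorSC_shortExact P hP _ hS
    have e3 := hT.homology_exact₃ p q hpq
    have e1 := hT.homology_exact₁ p q hpq
    haveI : Epi (HomologicalComplex.homologyMap (tensorSC P
        (ShortComplex.mk f (cokernel.π f) (cokernel.condition f))).g p) :=
      h.preserves (cokernel.π f)
    have hδ : hT.δ p q hpq = 0 := by
      rw [← cancel_epi (HomologicalComplex.homologyMap (tensorSC P
        (ShortComplex.mk f (cokernel.π f) (cokernel.condition f))).g p), hT.comp_δ, comp_zero]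
    exact e1.mono_g hδ
  · intro h
    refine ⟨fun {M M''} g hg => ?_⟩
    have hS : (ShortComplex.mk (kernel.ι g) g (kernel.condition g)).ShortExact :=
      { exact := ShortComplex.exact_kernel g }
    have hT := tensorSC_shortExact P hP _ hS
    have e3 := hT.homology_exact₃ p q hpq
    haveI : Mono (HomologicalComplex.homologyMap (tensorSC P
        (ShortComplex.mk (kernel.ι g) g (kernel.condition g))).f q) :=
      h.preserves (kernel.ι g)
    have hδ : hT.δ p q hpq = 0 := by
      rw [← cancel_mono (HomologicalComplex.homologyMap (tensorSC P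
        (ShortComplex.mk (kernel.ι g) g (kernel.condition g))).f q), hT.δ_comp, zero_comp]
    exact e3.epi_f hδ

end LES

end Groth.Agent.Helper2.FlatCx
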