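import Mathlib
import Groth.Prelude.Def_ega3
import Groth.Agent.Lib.Helper2.FlatCx

/-!
Concrete (elementwise) description of `T_p(M) = H_p(P ⊗ M)`.
-/

universe u

open CategoryTheory Limits MonoidalCategory

namespace Groth.Agent.Helper2.FlatCx

variable {A : Type u} [CommRing A] {ι : Type} {c : ComplexShape ι}
variable (P : HomologicalComplex (ModuleCat.{u} A) c) (r p q : ι)

/-- The three term complex `P_r ⊗ M ⟶ P_p ⊗ M ⟶ P_q ⊗ M`. -/
noncomputable abbrev scM (M : ModuleCat.{u} A) : ShortComplex (ModuleCat.{u} A) :=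
  (CohIII.tensorObj P M).sc' r p q

/-- The map of three term complexes induced by `g : M ⟶ N`. -/
noncomputable abbrev scMap {M N : ModuleCat.{u} A} (g : M ⟶ N) : scM P r p q M ⟶ scM P r p q N :=
  (HomologicalComplex.shortComplexFunctor' _ _ r p q).map (CohIII.tensorMap P g)

/-- cycles of `P ⊗ M` in degree `p`, concretely -/
noncomputable abbrev Zc (M : ModuleCat.{u} A) := LinearMap.ker (scM P r p q M).g.hom

theorem mem_Zc_iff (M : ModuleCat.{u} A) (z : (P.X p ⊗ M : ModuleCat.{u} A)) :
    z ∈ Zc P r p q M ↔ (P.d p q ▷ M).hom z = 0 := Iff.rfl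

theorem whiskerLeft_mem_Zc {M N : ModuleCat.{u} A} (g : M ⟶ N)
    (z : (P.X p ⊗ M : ModuleCat.{u} A)) (hz : z ∈ Zc P r p q M) :
    (P.X p ◁ g).hom z ∈ Zc P r p q N := by
  rw [mem_Zc_iff] at hz ⊢
  have h : (P.X p ◁ g) ≫ (P.d p q ▷ N) = (P.d p q ▷ M) ≫ (P.X q ◁ g) :=
    whisker_exchange (P.d p q) g
  have h' := congrArg (fun φ => φ.hom z) h
  simp only [ModuleCat.hom_comp, LinearMap.comp_apply] at h'
  rw [h', hz, map_zero]

variable (hr : c.prev p = r) (hq : c.next p = q)

/-- The isomorphism of `T_p(M)` with the concrete homology. -/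
noncomputable def TIso (M : ModuleCat.{u} A) :
    CohIII.T P p M ≅ (scM P r p q M).moduleCatLeftHomologyData.H :=
  (CohIII.tensorObj P M).homologyIsoSc' r p q hr hq ≪≫ (scM P r p q M).moduleCatHomologyIso

/-- The class of a cycle. -/
noncomputable def cls (M : ModuleCat.{u} A) : Zc P r p q M →ₗ[A] CohIII.T P p M :=
  (TIso P r p q hr hq M).inv.hom ∘ₗ (LinearMap.range (scM P r p q M).moduleCatToCycles).mkQ

theorem cls_surjective (M : ModuleCat.{u} A) : Function.Surjective (cls P r p q hr hq M) := by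
  have h1 : Function.Surjective (TIso P r p q hr hq M).inv.hom :=
    (ModuleCat.epi_iff_surjective _).mp inferInstance
  exact h1.comp (Submodule.mkQ_surjective _)

theorem cls_eq_zero_iff (M : ModuleCat.{u} A) (z : Zc P r p q M) :
    cls P r p q hr hq M z = 0 ↔ ∃ y : (scM P r p q M).X₁, (scM P r p q M).f.hom y = z.1 := by
  have h1 : Function.Injective (TIso P r p q hr hq M).inv.hom :=
    (ModuleCat.mono_iff_injective _).mp inferInstance
  unfold cls
  rw [LinearMap.comp_apply, ← map_zero (TIso P r p q hr hq M).inv.hom, h1.eq_iff]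
  constructor
  · intro h
    have h' : z ∈ LinearMap.range (scM P r p q M).moduleCatToCycles :=
      (Submodule.Quotient.mk_eq_zero _).mp h
    obtain ⟨y, hy⟩ := h'
    exact ⟨y, congrArg Subtype.val hy⟩
  · rintro ⟨y, hy⟩
    exact (Submodule.Quotient.mk_eq_zero _).mpr ⟨y, Subtype.ext hy⟩

section Naturality
variable {M N : ModuleCat.{u} A} (g : M ⟶ N)

/-- The map induced on concrete cycles. -/
noncomputable def ZcMap : Zc P r p q M →ₗ[A] Zc P r p q N :=
  ((P.X p ◁ g).hom.comp (Zc P r p q M).subtype).codRestrict (Zc P r p q N)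
    (fun z => whiskerLeft_mem_Zc P r p q g z.1 z.2)

@[simp] theorem ZcMap_coe (z : Zc P r p q M) :
    ((ZcMap P r p q g z : Zc P r p q N) : (scM P r p q N).X₂) = (P.X p ◁ g).hom z.1 := rfl

theorem ZcMap_toCycles (y : (scM P r p q M).X₁) :
    ZcMap P r p q g ((scM P r p q M).moduleCatToCycles y) =
      (scM P r p q N).moduleCatToCycles ((P.X r ◁ g).hom y) := by
  apply Subtype.ext
  change (P.X p ◁ g).hom ((P.d r p ▷ M).hom y) = (P.d r p ▷ N).hom ((P.X r ◁ g).hom y)
  have h := congrArg (fun φ => φ.hom y) (whisker_exchange (P.d r p) g)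
  simp only [ModuleCat.hom_comp, LinearMap.comp_apply] at h
  exact h.symm

/-- The left homology map data for `scMap g`. -/
noncomputable def mapData : ShortComplex.LeftHomologyMapData (scMap P r p q g)
    (scM P r p q M).moduleCatLeftHomologyData (scM P r p q N).moduleCatLeftHomologyData where
  φK := ModuleCat.ofHom (ZcMap P r p q g)
  φH := ModuleCat.ofHom (Submodule.mapQ _ _ (ZcMap P r p q g) (by
    rintro _ ⟨y, rfl⟩
    exact ⟨(P.X r ◁ g).hom y, (ZcMap_toCycles P r p q g y).symm⟩))
  commi := by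
    ext z
    rfl
  commf' := by
    ext y
    exact ZcMap_toCycles P r p q g y
  commπ := by
    ext z
    rfl

include hr hq in
theorem TFun_map_cls (z : Zc P r p q M) :
    ((CohIII.TFun P p).map g).hom (cls P r p q hr hq M z) =
      cls P r p q hr hq N (ZcMap P r p q g z) := by
  let φ : CohIII.T P p M ⟶ CohIII.T P p N := (CohIII.TFun P p).map g
  change φ.hom _ = _
  have hnat : (HomologicalComplex.shortComplexFunctor _ _ p).map (CohIII.tensorMap P g) ≫
      ((CohIII.tensorObj P N).isoSc' r p q hr hq).hom =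
      ((CohIII.tensorObj P M).isoSc' r p q hr hq).hom ≫ scMap P r p q g :=
    (HomologicalComplex.natIsoSc' (ModuleCat.{u} A) c r p q hr hq).hom.naturality
      (CohIII.tensorMap P g)
  have hA : φ ≫ ((CohIII.tensorObj P N).homologyIsoSc' r p q hr hq).hom =
      ((CohIII.tensorObj P M).homologyIsoSc' r p q hr hq).hom ≫
        ShortComplex.homologyMap (scMap P r p q g) := by
    change ShortComplex.homologyMap ((HomologicalComplex.shortComplexFunctor _ _ p).map
      (CohIII.tensorMap P g)) ≫ ShortComplex.homologyMap _ =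
      ShortComplex.homologyMap _ ≫ ShortComplex.homologyMap _
    rw [← ShortComplex.homologyMap_comp, ← ShortComplex.homologyMap_comp, hnat]
  have hB : ShortComplex.homologyMap (scMap P r p q g) ≫
      (scM P r p q N).moduleCatHomologyIso.hom =
      (scM P r p q M).moduleCatHomologyIso.hom ≫ (mapData P r p q g).φH :=
    (mapData P r p q g).homologyMap_comm
  have hC : φ ≫ (TIso P r p q hr hq N).hom =
      (TIso P r p q hr hq M).hom ≫ (mapData P r p q g).φH := by
    unfold TIso
    simp only [Iso.trans_hom]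
    rw [← Category.assoc, hA, Category.assoc, hB, Category.assoc]
  have hD : (TIso P r p q hr hq M).inv ≫ φ =
      (mapData P r p q g).φH ≫ (TIso P r p q hr hq N).inv := by
    rw [Iso.inv_comp_eq, ← Category.assoc, ← hC, Category.assoc, Iso.hom_inv_id, Category.comp_id]
  have hE := congrArg (fun ψ => ψ.hom
    ((LinearMap.range (scM P r p q M).moduleCatToCycles).mkQ z)) hD
  simp only [ModuleCat.hom_comp, LinearMap.comp_apply] at hE
  exact hE

end Naturality

section Criteria
variable {M N : ModuleCat.{u} A} (g : M ⟶ N)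
include hr hq

omit hr hq in
theorem whiskerRight_hom {X Y : ModuleCat.{u} A} (f : X ⟶ Y) (M : ModuleCat.{u} A) :
    (f ▷ M).hom = f.hom.rTensor M := rfl

omit hr hq in
theorem whiskerLeft_hom (X : ModuleCat.{u} A) {M N : ModuleCat.{u} A} (g : M ⟶ N) :
    (X ◁ g).hom = g.hom.lTensor X := rfl

/-- Surjectivity of `T_p(g)` in elementwise terms. -/
theorem surjective_map_iff :
    Function.Surjective ((CohIII.TFun P p).map g).hom ↔
      ∀ z' : Zc P r p q N, ∃ (z : Zc P r p q M) (y : (scM P r p q N).X₁),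
        (scM P r p q N).f.hom y = (z' - ZcMap P r p q g z).1 := by
  constructor
  · intro h z'
    obtain ⟨t, ht⟩ := h (cls P r p q hr hq N z')
    obtain ⟨z, rfl⟩ := cls_surjective P r p q hr hq M t
    rw [TFun_map_cls P r p q hr hq g z] at ht
    have h0 : cls P r p q hr hq N (z' - ZcMap P r p q g z) = 0 := by
      rw [map_sub, ht, sub_self]
    obtain ⟨y, hy⟩ := (cls_eq_zero_iff P r p q hr hq N _).mp h0
    exact ⟨z, y, hy⟩
  · intro h t'
    obtain ⟨z', rfl⟩ := cls_surjective P r p q hr hq N t'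
    obtain ⟨z, y, hy⟩ := h z'
    refine ⟨cls P r p q hr hq M z, ?_⟩
    rw [TFun_map_cls P r p q hr hq g z]
    have h0 : cls P r p q hr hq N (z' - ZcMap P r p q g z) = 0 :=
      (cls_eq_zero_iff P r p q hr hq N _).mpr ⟨y, hy⟩
    rw [map_sub, sub_eq_zero] at h0
    exact h0.symm

/-- Injectivity of `T_p(g)` in elementwise terms. -/
theorem injective_map_iff :
    Function.Injective ((CohIII.TFun P p).map g).hom ↔
      ∀ z : Zc P r p q M, (∃ y' : (scM P r p q N).X₁,
        (scM P r p q N).f.hom y' = (ZcMap P r p q g z).1) →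
        ∃ y : (scM P r p q M).X₁, (scM P r p q M).f.hom y = z.1 := by
  constructor
  · intro h z ⟨y', hy'⟩
    apply (cls_eq_zero_iff P r p q hr hq M z).mp
    have h0 : ((CohIII.TFun P p).map g).hom (cls P r p q hr hq M z) = 0 := by
      rw [TFun_map_cls P r p q hr hq g z]
      exact (cls_eq_zero_iff P r p q hr hq N _).mpr ⟨y', hy'⟩
    exact h (h0.trans (map_zero _).symm)
  · intro h
    rw [injective_iff_map_eq_zero]
    intro t ht
    obtain ⟨z, rfl⟩ := cls_surjective P r p q hr hq M t
    rw [TFun_map_cls P r p q hr hq g z] at ht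
    obtain ⟨y', hy'⟩ := (cls_eq_zero_iff P r p q hr hq N _).mp ht
    exact (cls_eq_zero_iff P r p q hr hq M z).mpr (h z ⟨y', hy'⟩)

end Criteria

end Groth.Agent.Helper2.FlatCx
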