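import Mathlib
import Groth.Prelude.Def_ega3
import Groth.Agent.Lib.Helper2.FlatCxConcrete

/-!
`T_q` takes injections to injections iff the cokernel of `P_p ⟶ P_q` is flat.
-/

universe u

open CategoryTheory Limits MonoidalCategory TensorProduct

namespace Groth.Agent.Helper2.FlatCx

variable {A : Type u} [CommRing A] {ι : Type} {c : ComplexShape ι}
variable (P : HomologicalComplex (ModuleCat.{u} A) c) (p q s : ι)
variable (hp : c.prev q = p) (hs : c.next q = s)

/-- The cokernel of `P_p ⟶ P_q`. -/
abbrev Wq : Type u := P.X q ⧸ LinearMap.range (P.d p q).hom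

theorem scM_f_hom (M : ModuleCat.{u} A) : (scM P p q s M).f.hom = (P.d p q).hom.rTensor M := rfl

theorem scM_g_hom (M : ModuleCat.{u} A) : (scM P p q s M).g.hom = (P.d q s).hom.rTensor M := rfl

theorem ZcMap_val {M N : ModuleCat.{u} A} (g : M ⟶ N) (z : Zc P p q s M) :
    (ZcMap P p q s g z).1 = g.hom.lTensor (P.X q) z.1 := rfl

theorem exact_rTensor_mkQ (M : Type u) [AddCommGroup M] [Module A M] :
    Function.Exact ((P.d p q).hom.rTensor M)
      ((LinearMap.range (P.d p q).hom).mkQ.rTensor M) :=
  rTensor_exact M (LinearMap.exact_map_mkQ_range (P.d p q).hom) (Submodule.mkQ_surjective _)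

include hp hs in
theorem preservesMono_of_flat_coker [Module.Flat A (Wq P p q)] :
    (CohIII.TFun P q).PreservesMonomorphisms := by
  refine ⟨fun {M N} g hg => ?_⟩
  rw [ModuleCat.mono_iff_injective] at hg ⊢
  rw [injective_map_iff P p q s hp hs g]
  rintro z ⟨y', hy'⟩
  rw [scM_f_hom, ZcMap_val] at hy'
  rw [scM_f_hom]
  apply (exact_rTensor_mkQ P p q M z.1).mp
  have hinj : Function.Injective (g.hom.lTensor (Wq P p q)) :=
    Module.Flat.lTensor_preserves_injective_linearMap g.hom hg
  apply hinj
  rw [map_zero]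
  have h1 : g.hom.lTensor (Wq P p q) ((LinearMap.range (P.d p q).hom).mkQ.rTensor M z.1) =
      (LinearMap.range (P.d p q).hom).mkQ.rTensor N (g.hom.lTensor (P.X q) z.1) := by
    rw [← LinearMap.comp_apply, ← LinearMap.comp_apply, LinearMap.lTensor_comp_rTensor,
      LinearMap.rTensor_comp_lTensor]
  rw [h1, ← hy']
  exact (exact_rTensor_mkQ P p q N _).mpr ⟨y', rfl⟩

include hp hs in
theorem flat_coker_of_preservesMono (hPs : Module.Flat A (P.X s))
    (h : (CohIII.TFun P q).PreservesMonomorphisms) : Module.Flat A (Wq P p q) := by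
  rw [Module.Flat.iff_lTensor_preserves_injective_linearMap]
  intro M N _ _ _ _ g hg
  rw [injective_iff_map_eq_zero]
  intro w hw
  let g' : ModuleCat.of A M ⟶ ModuleCat.of A N := ModuleCat.ofHom g
  haveI : Mono g' := (ModuleCat.mono_iff_injective g').mpr hg
  have hT : Function.Injective ((CohIII.TFun P q).map g').hom :=
    (ModuleCat.mono_iff_injective _).mp (h.preserves g')
  rw [injective_map_iff P p q s hp hs g'] at hT
  obtain ⟨x, rfl⟩ := LinearMap.rTensor_surjective M
    (Submodule.mkQ_surjective (LinearMap.range (P.d p q).hom)) w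
  have h1 : (LinearMap.range (P.d p q).hom).mkQ.rTensor N (g.lTensor (P.X q) x) = 0 := by
    rw [← hw, ← LinearMap.comp_apply, ← LinearMap.comp_apply, LinearMap.lTensor_comp_rTensor,
      LinearMap.rTensor_comp_lTensor]
  obtain ⟨y', hy'⟩ := (exact_rTensor_mkQ P p q N _).mp h1
  -- x is a cycle
  have hx : x ∈ Zc P p q s (ModuleCat.of A M) := by
    change (P.d q s).hom.rTensor M x = 0
    have hinj : Function.Injective (g.lTensor (P.X s)) :=
      Module.Flat.lTensor_preserves_injective_linearMap g hg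
    apply hinj
    rw [map_zero, ← LinearMap.comp_apply, LinearMap.lTensor_comp_rTensor,
      ← LinearMap.rTensor_comp_lTensor, LinearMap.comp_apply, ← hy', ← LinearMap.comp_apply,
      ← LinearMap.rTensor_comp]
    have : (P.d q s).hom ∘ₗ (P.d p q).hom = 0 := by
      rw [← ModuleCat.hom_comp, P.d_comp_d]
      rfl
    rw [this, LinearMap.rTensor_zero, LinearMap.zero_apply]
  obtain ⟨y, hy⟩ := hT ⟨x, hx⟩ ⟨y', hy'⟩
  rw [scM_f_hom] at hy
  exact (exact_rTensor_mkQ P p q M _).mpr ⟨y, hy⟩

end Groth.Agent.Helper2.FlatCx
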