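import Mathlib
import Groth.Prelude.Def_ega3
import Groth.Agent.Lib.Helper2.FlatCxFlat

/-!
Local case: `T_p(A) → T_p(k)` surjective implies the cokernel of `P_p ⟶ P_q` is free.
-/

universe u

open CategoryTheory Limits MonoidalCategory TensorProduct

namespace Groth.Agent.Helper2.FlatCx

variable {A : Type u} [CommRing A] [IsLocalRing A] {ι : Type} {c : ComplexShape ι}
variable (P : HomologicalComplex (ModuleCat.{u} A) c) (r p q : ι)
variable (hr : c.prev p = r) (hq : c.next p = q)

/-- The map `A ⟶ k` in `ModuleCat`. -/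
noncomputable abbrev toRes : ModuleCat.of A A ⟶ ModuleCat.of A (IsLocalRing.ResidueField A) :=
  ModuleCat.ofHom (Algebra.linearMap A (IsLocalRing.ResidueField A))

include hr hq in
theorem free_coker_of_surjective [Module.Finite A (P.X p)] [Module.Finite A (P.X q)]
    [Module.Free A (P.X q)]
    (h : Function.Surjective ((CohIII.TFun P p).map (toRes (A := A))).hom) :
    Module.Free A (Wq P p q) := by
  let k := IsLocalRing.ResidueField A
  let π : A →ₗ[A] k := Algebra.linearMap A k
  let d : P.X p →ₗ[A] P.X q := (P.d p q).hom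
  let B : Submodule A (P.X q) := LinearMap.range d
  let d' : P.X p →ₗ[A] B := d.rangeRestrict
  have hd' : B.subtype ∘ₗ d' = d := LinearMap.subtype_comp_codRestrict _ _ _
  have hdd : d' ∘ₗ (P.d r p).hom = 0 := by
    apply LinearMap.ext
    intro x
    apply Subtype.ext
    change (P.d p q).hom ((P.d r p).hom x) = 0
    rw [← LinearMap.comp_apply, ← ModuleCat.hom_comp, P.d_comp_d]
    rfl
  haveI : Module.Finite A B := Module.Finite.range d
  refine Module.free_of_lTensor_residueField_injective B.subtype B.mkQ
    (Submodule.mkQ_surjective _) (LinearMap.exact_subtype_mkQ B) ?_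
  rw [LinearMap.lTensor_inj_iff_rTensor_inj, injective_iff_map_eq_zero]
  intro β hβ
  obtain ⟨x, rfl⟩ := LinearMap.rTensor_surjective k (LinearMap.surjective_rangeRestrict d) β
  have hx : x ∈ Zc P r p q (ModuleCat.of A k) := by
    change d.rTensor k x = 0
    rw [← hd', LinearMap.rTensor_comp, LinearMap.comp_apply]
    exact hβ
  rw [surjective_map_iff P r p q hr hq (toRes (A := A))] at h
  obtain ⟨z, y, hy⟩ := h ⟨x, hx⟩
  have hy' : (P.d r p).hom.rTensor k y = x - π.lTensor (P.X p) z.1 := hy
  have h1 := congrArg (d'.rTensor k) hy'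
  rw [← LinearMap.comp_apply, ← LinearMap.rTensor_comp, hdd, LinearMap.rTensor_zero,
    LinearMap.zero_apply, map_sub] at h1
  have h2 : d'.rTensor k (π.lTensor (P.X p) z.1) = π.lTensor B (d'.rTensor A z.1) := by
    rw [← LinearMap.comp_apply, ← LinearMap.comp_apply, LinearMap.rTensor_comp_lTensor,
      LinearMap.lTensor_comp_rTensor]
  have h3 : d'.rTensor A z.1 = 0 := by
    have hinj : Function.Injective (B.subtype.rTensor A) :=
      Module.Flat.rTensor_preserves_injective_linearMap B.subtype Subtype.val_injective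
    apply hinj
    rw [map_zero, ← LinearMap.comp_apply, ← LinearMap.rTensor_comp, hd']
    exact z.2
  rw [h2, h3, map_zero, sub_zero] at h1
  exact h1.symm

end Groth.Agent.Helper2.FlatCx
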