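import Mathlib
import Groth.Prelude.Def_ega3
import Groth.Agent.Lib.Helper2.FlatCxNoeth

/-!
Artin–Rees argument: surjectivity of `T_p(A/m^(n+1)) → T_p(k)` for large `n` gives surjectivity of
`T_p(A) → T_p(k)`.
-/

universe u

open CategoryTheory Limits MonoidalCategory TensorProduct

namespace Groth.Agent.Helper2.FlatCx

section AR
variable {A : Type u} [CommRing A] [IsNoetherianRing A] (I : Ideal A)
variable {X₂ X₃ : Type u} [AddCommGroup X₂] [Module A X₂] [AddCommGroup X₃] [Module A X₃]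
variable [Module.Finite A X₃]

/-- Artin–Rees in lifting form. -/
theorem exists_lift_of_mem_pow_smul (d : X₂ →ₗ[A] X₃) :
    ∃ c : ℕ, ∀ n ≥ c, ∀ x : X₂, d x ∈ I ^ (n + 1) • (⊤ : Submodule A X₃) →
      ∃ y ∈ I • (⊤ : Submodule A X₂), d x = d y := by
  obtain ⟨c, hc⟩ := Ideal.exists_pow_inf_eq_pow_smul I (LinearMap.range d)
  refine ⟨c, fun n hn x hx => ?_⟩
  have h1 : d x ∈ I ^ (n + 1) • ⊤ ⊓ LinearMap.range d := ⟨hx, ⟨x, rfl⟩⟩
  rw [hc (n + 1) (by omega)] at h1
  have h2 : I ^ (n + 1 - c) • (I ^ c • ⊤ ⊓ LinearMap.range d) ≤ I • LinearMap.range d := by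
    exact Submodule.smul_mono (Ideal.pow_le_self (by omega)) inf_le_right
  have h3 := h2 h1
  rw [LinearMap.range_eq_map, ← Submodule.map_smul''] at h3
  obtain ⟨y, hy, hyx⟩ := h3
  exact ⟨y, hy, hyx.symm⟩

end AR

section Tensor
variable {A : Type u} [CommRing A] (I : Ideal A)
variable (X : Type u) [AddCommGroup X] [Module A X]

theorem mem_smul_top_of_lTensor_mkQ_eq_zero (t : X ⊗[A] A)
    (ht : (Submodule.mkQ I).lTensor X t = 0) : t ∈ I • (⊤ : Submodule A (X ⊗[A] A)) := by
  have h1 : TensorProduct.rid A X t ∈ I • (⊤ : Submodule A X) := by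
    have h := congrArg (fun φ => φ t) (TensorProduct.tensorQuotEquivQuotSMul_comp_mkQ_lTensor
      (M := X) I)
    simp only [LinearMap.comp_apply, LinearEquiv.coe_coe] at h
    have ht' : (Submodule.mkQ I).lTensor X t = 0 := ht
    rw [ht', map_zero] at h
    exact (Submodule.Quotient.mk_eq_zero _).mp h.symm
  have h2 : (I • (⊤ : Submodule A X)).map (TensorProduct.rid A X).symm.toLinearMap ≤
      I • (⊤ : Submodule A (X ⊗[A] A)) := by
    rw [Submodule.map_smul'']
    exact Submodule.smul_mono le_rfl le_top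
  have h3 := h2 (Submodule.mem_map_of_mem h1)
  simpa using h3

theorem lTensor_eq_zero_of_mem_smul_top {K : Type u} [AddCommGroup K] [Module A K]
    (hK : ∀ a ∈ I, ∀ c : K, a • c = 0) (π : A →ₗ[A] K)
    (t : X ⊗[A] A) (ht : t ∈ I • (⊤ : Submodule A (X ⊗[A] A))) : π.lTensor X t = 0 := by
  refine Submodule.smul_induction_on ht ?_ ?_
  · intro a ha s _
    rw [map_smul]
    induction (π.lTensor X s) using TensorProduct.induction_on with
    | zero => simp
    | tmul x c => rw [TensorProduct.smul_tmul', TensorProduct.smul_tmul, hK a ha, tmul_zero]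
    | add u v hu hv => rw [smul_add, hu, hv, add_zero]
  · intro u v hu hv
    rw [map_add, hu, hv, add_zero]

end Tensor

section Main
variable {A : Type u} [CommRing A] [IsLocalRing A] [IsNoetherianRing A]
variable (P : ChainComplex (ModuleCat.{u} A) ℤ)

open IsLocalRing in
theorem exists_forall_surjective_toRes
    (hP : ∀ i, Module.Finite A (P.X i) ∧ Module.Flat A (P.X i)) (p : ℤ) :
    ∃ c : ℕ, ∀ n ≥ c, ∀ (g : ModuleCat.of A (A ⧸ maximalIdeal A ^ (n + 1)) ⟶
        ModuleCat.of A (ResidueField A)),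
      (∀ a : A, g.hom (Submodule.mkQ (maximalIdeal A ^ (n + 1)) a) = residue A a) →
      Function.Surjective ((CohIII.TFun P p).map g).hom →
      Function.Surjective ((CohIII.TFun P p).map (toRes (A := A))).hom := by
  haveI : ∀ i, Module.Finite A (P.X i) := fun i => (hP i).1
  obtain ⟨c, hc⟩ := exists_lift_of_mem_pow_smul (maximalIdeal A)
    ((P.d p (p - 1)).hom.rTensor A)
  refine ⟨c, fun n hn g hg hsurj => ?_⟩
  have hr : (ComplexShape.down ℤ).prev p = p + 1 := by simp
  have hq : (ComplexShape.down ℤ).next p = p - 1 := by simp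
  rw [surjective_map_iff P (p + 1) p (p - 1) hr hq] at hsurj ⊢
  intro zb
  obtain ⟨zn, yb, hy⟩ := hsurj zb
  let I : Ideal A := maximalIdeal A ^ (n + 1)
  let qn : A →ₗ[A] A ⧸ I := Submodule.mkQ I
  let π : A →ₗ[A] ResidueField A := Algebra.linearMap A (ResidueField A)
  have hgq : g.hom ∘ₗ qn = π := by
    apply LinearMap.ext
    intro a
    exact hg a
  obtain ⟨x, hx⟩ := LinearMap.lTensor_surjective (P.X p) (Submodule.mkQ_surjective I) zn.1
  have h1 : qn.lTensor (P.X (p - 1)) ((P.d p (p - 1)).hom.rTensor A x) = 0 := by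
    rw [← LinearMap.comp_apply, LinearMap.lTensor_comp_rTensor, ← LinearMap.rTensor_comp_lTensor,
      LinearMap.comp_apply]
    have hx' : qn.lTensor (P.X p) x = zn.1 := hx
    rw [hx']
    exact zn.2
  have h2 := mem_smul_top_of_lTensor_mkQ_eq_zero I (P.X (p - 1)) _ h1
  obtain ⟨y, hy1, hy2⟩ := hc n hn x h2
  have hz : x - y ∈ Zc P (p + 1) p (p - 1) (ModuleCat.of A A) := by
    change (P.d p (p - 1)).hom.rTensor A (x - y) = 0
    rw [map_sub, hy2, sub_self]
  refine ⟨⟨x - y, hz⟩, yb, ?_⟩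
  rw [hy]
  apply congrArg (fun t => zb.1 - t)
  change g.hom.lTensor (P.X p) zn.1 = π.lTensor (P.X p) (x - y)
  have h3 : π.lTensor (P.X p) y = 0 :=
    lTensor_eq_zero_of_mem_smul_top (maximalIdeal A) (P.X p) (fun a ha c => by
      obtain ⟨b, rfl⟩ := residue_surjective c
      change residue A (a • b) = 0
      rw [smul_eq_mul, map_mul, (residue_eq_zero_iff a).mpr ha, zero_mul]) π y hy1
  rw [map_sub, h3, sub_zero, ← hgq, LinearMap.lTensor_comp, LinearMap.comp_apply]
  congr 1
  exact hx.symm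

end Main

end Groth.Agent.Helper2.FlatCx
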