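import Mathlib
import Groth.Prelude.Def_ega3
import Groth.Agent.Lib.Helper2.FlatCxFlat
import Groth.Agent.Lib.Helper9.FlatKernel

/-!
If the cokernel of `P_p ⟶ P_q` is flat then `T_p(M) ≅ H_p(P) ⊗ M` naturally in `M`.
-/

universe u

open CategoryTheory Limits MonoidalCategory TensorProduct

namespace Groth.Agent.Helper2.FlatCx

variable {A : Type u} [CommRing A] {ι : Type} {c : ComplexShape ι}
variable (P : HomologicalComplex (ModuleCat.{u} A) c) (r p q : ι)

/-- cycles of `P` in degree `p` -/
abbrev Zp : Submodule A (P.X p) := LinearMap.ker (P.d p q).hom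

theorem d_comp_d_hom : (P.d p q).hom ∘ₗ (P.d r p).hom = 0 := by
  rw [← ModuleCat.hom_comp, P.d_comp_d]
  rfl

/-- `P_r ⟶ Z_p` -/
noncomputable def dZ : P.X r →ₗ[A] Zp P p q :=
  (P.d r p).hom.codRestrict (Zp P p q) (fun y => by
    change (P.d p q).hom ((P.d r p).hom y) = 0
    rw [← LinearMap.comp_apply, d_comp_d_hom]
    rfl)

/-- `H_p(P)`, concretely -/
abbrev Hp : Type u := Zp P p q ⧸ LinearMap.range (dZ P r p q)

/-- `Z_p ⊗ M ⟶ Z_p(M)` -/
noncomputable def θ (M : ModuleCat.{u} A) : Zp P p q ⊗[A] M →ₗ[A] Zc P r p q M :=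
  ((Zp P p q).subtype.rTensor M).codRestrict (Zc P r p q M) (fun t => by
    change (P.d p q).hom.rTensor M ((Zp P p q).subtype.rTensor M t) = 0
    rw [← LinearMap.comp_apply, ← LinearMap.rTensor_comp]
    have : (P.d p q).hom ∘ₗ (Zp P p q).subtype = 0 := by
      apply LinearMap.ext
      intro z
      exact z.2
    rw [this, LinearMap.rTensor_zero, LinearMap.zero_apply])

theorem θ_val (M : ModuleCat.{u} A) (t : Zp P p q ⊗[A] M) :
    (θ P r p q M t).1 = (Zp P p q).subtype.rTensor M t := rfl

variable (hr : c.prev p = r) (hq : c.next p = q)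

theorem cls_θ_dZ (M : ModuleCat.{u} A) (y : P.X r) (m : M) :
    cls P r p q hr hq M (θ P r p q M (dZ P r p q y ⊗ₜ m)) = 0 := by
  rw [cls_eq_zero_iff]
  exact ⟨y ⊗ₜ m, rfl⟩

/-- The comparison map `H_p(P) ⊗ M ⟶ T_p(M)`. -/
noncomputable def η (M : ModuleCat.{u} A) : Hp P r p q ⊗[A] M →ₗ[A] CohIII.T P p M :=
  TensorProduct.lift ((LinearMap.range (dZ P r p q)).liftQ
    (TensorProduct.curry (cls P r p q hr hq M ∘ₗ θ P r p q M)) (by
      rintro _ ⟨y, rfl⟩
      apply LinearMap.ext
      intro m
      exact cls_θ_dZ P r p q hr hq M y m))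

theorem η_mk_tmul (M : ModuleCat.{u} A) (z : Zp P p q) (m : M) :
    η P r p q hr hq M (Submodule.Quotient.mk z ⊗ₜ m) =
      cls P r p q hr hq M (θ P r p q M (z ⊗ₜ m)) := rfl

theorem η_comp_rTensor_mkQ (M : ModuleCat.{u} A) (t : Zp P p q ⊗[A] M) :
    η P r p q hr hq M ((LinearMap.range (dZ P r p q)).mkQ.rTensor M t) =
      cls P r p q hr hq M (θ P r p q M t) := by
  induction t using TensorProduct.induction_on with
  | zero => simp
  | tmul z m => rfl
  | add t t' ht ht' => simp only [map_add, ht, ht']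

section Flat
variable [Module.Flat A (P.X q)] [Module.Flat A (Wq P p q)]

/-- the image of `P_p ⟶ P_q` is flat -/
theorem flat_range : Module.Flat A (LinearMap.range (P.d p q).hom) :=
  Groth.Agent.Helper9.flat_of_exact_of_flat (LinearMap.range (P.d p q).hom).subtype
    (LinearMap.range (P.d p q).hom).mkQ Subtype.val_injective
    (LinearMap.exact_subtype_mkQ _) (Submodule.mkQ_surjective _)

theorem range_subtype_rTensor_injective (M : Type u) [AddCommGroup M] [Module A M] :
    Function.Injective ((LinearMap.range (P.d p q).hom).subtype.rTensor M) :=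
  Groth.Agent.Helper9.rTensor_injective_of_exact_of_flat (LinearMap.range (P.d p q).hom).subtype
    (LinearMap.range (P.d p q).hom).mkQ Subtype.val_injective
    (LinearMap.exact_subtype_mkQ _) (Submodule.mkQ_surjective _) M

theorem Zp_subtype_rTensor_injective (M : Type u) [AddCommGroup M] [Module A M] :
    Function.Injective ((Zp P p q).subtype.rTensor M) := by
  haveI := flat_range P p q
  exact Groth.Agent.Helper9.rTensor_injective_of_exact_of_flat (Zp P p q).subtype
    (P.d p q).hom.rangeRestrict Subtype.val_injective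
    (by
      intro x
      constructor
      · intro hx
        exact ⟨⟨x, congrArg Subtype.val hx⟩, rfl⟩
      · rintro ⟨z, rfl⟩
        exact Subtype.ext z.2)
    (LinearMap.surjective_rangeRestrict _) M

theorem θ_surjective (M : ModuleCat.{u} A) : Function.Surjective (θ P r p q M) := by
  intro ζ
  let B := LinearMap.range (P.d p q).hom
  let d' : P.X p →ₗ[A] B := (P.d p q).hom.rangeRestrict
  have hd' : B.subtype ∘ₗ d' = (P.d p q).hom := LinearMap.subtype_comp_codRestrict _ _ _
  have h1 : d'.rTensor M ζ.1 = 0 := by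
    apply range_subtype_rTensor_injective P p q M
    rw [map_zero, ← LinearMap.comp_apply, ← LinearMap.rTensor_comp, hd']
    exact ζ.2
  have hex : Function.Exact (Zp P p q).subtype d' := by
    intro x
    constructor
    · intro hx
      exact ⟨⟨x, congrArg Subtype.val hx⟩, rfl⟩
    · rintro ⟨z, rfl⟩
      exact Subtype.ext z.2
  obtain ⟨t, ht⟩ := (rTensor_exact M hex (LinearMap.surjective_rangeRestrict _) ζ.1).mp h1
  exact ⟨t, Subtype.ext ht⟩

include hr hq in
theorem η_bijective (M : ModuleCat.{u} A) : Function.Bijective (η P r p q hr hq M) := by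
  constructor
  · rw [injective_iff_map_eq_zero]
    intro t ht
    obtain ⟨τ, rfl⟩ := LinearMap.rTensor_surjective M
      (Submodule.mkQ_surjective (LinearMap.range (dZ P r p q))) t
    rw [η_comp_rTensor_mkQ, cls_eq_zero_iff] at ht
    obtain ⟨y, hy⟩ := ht
    have h1 : τ = (dZ P r p q).rTensor M y := by
      apply Zp_subtype_rTensor_injective P p q M
      rw [← LinearMap.comp_apply, ← LinearMap.rTensor_comp]
      exact hy.symm
    rw [h1, ← LinearMap.comp_apply, ← LinearMap.rTensor_comp]
    have : (LinearMap.range (dZ P r p q)).mkQ ∘ₗ dZ P r p q = 0 := by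
      apply LinearMap.ext
      intro y
      exact (Submodule.Quotient.mk_eq_zero _).mpr ⟨y, rfl⟩
    rw [this, LinearMap.rTensor_zero, LinearMap.zero_apply]
  · intro t
    obtain ⟨ζ, rfl⟩ := cls_surjective P r p q hr hq M t
    obtain ⟨τ, rfl⟩ := θ_surjective P r p q M ζ
    exact ⟨(LinearMap.range (dZ P r p q)).mkQ.rTensor M τ, η_comp_rTensor_mkQ P r p q hr hq M τ⟩

end Flat

section NatIso
variable [Module.Flat A (P.X q)] [Module.Flat A (Wq P p q)]

include hr hq in
theorem η_naturality {M M' : ModuleCat.{u} A} (g : M ⟶ M') (t : Hp P r p q ⊗[A] M) :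
    η P r p q hr hq M' (g.hom.lTensor (Hp P r p q) t) =
      ((CohIII.TFun P p).map g).hom (η P r p q hr hq M t) := by
  let φ : CohIII.T P p M →ₗ[A] CohIII.T P p M' := ((CohIII.TFun P p).map g).hom
  have key : η P r p q hr hq M' ∘ₗ g.hom.lTensor (Hp P r p q) = φ ∘ₗ η P r p q hr hq M := by
    apply TensorProduct.ext'
    intro h m
    obtain ⟨z, rfl⟩ := Submodule.Quotient.mk_surjective _ h
    change η P r p q hr hq M' (Submodule.Quotient.mk z ⊗ₜ g.hom m) =
      ((CohIII.TFun P p).map g).hom (η P r p q hr hq M (Submodule.Quotient.mk z ⊗ₜ m))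
    rw [η_mk_tmul, η_mk_tmul, TFun_map_cls]
    rfl
  exact LinearMap.congr_fun key t

/-- The component of the natural isomorphism. -/
noncomputable def ηIso (M : ModuleCat.{u} A) :
    (tensorLeft (ModuleCat.of A (Hp P r p q))).obj M ≅ (CohIII.TFun P p).obj M :=
  (LinearEquiv.ofBijective (η P r p q hr hq M) (η_bijective P r p q hr hq M)).toModuleIso

/-- If the cokernel of `P_p ⟶ P_q` is flat, `T_p ≅ H_p(P) ⊗ -`. -/
noncomputable def tensorLeftIso :
    CohIII.TFun P p ≅ tensorLeft (ModuleCat.of A (Hp P r p q)) :=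
  (NatIso.ofComponents (fun M => ηIso P r p q hr hq M) (by
    intro M M' g
    ext t
    exact η_naturality P r p q hr hq g t)).symm

end NatIso

end Groth.Agent.Helper2.FlatCx
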