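import Mathlib
import Groth.Prelude.Def_ega3
import Groth.Agent.Lib.Helper2.FlatCxTensor

/-!
Chain complexes of flat modules: `T_p` right exact iff `T_p ≅ N ⊗ -`.
-/

universe u

open CategoryTheory Limits MonoidalCategory TensorProduct

namespace Groth.Agent.Helper2.FlatCx

variable {A : Type u} [CommRing A]
variable (P : ChainComplex (ModuleCat.{u} A) ℤ)

theorem flat_Wq_of_preservesEpi (hP : ∀ i, Module.Flat A (P.X i)) (p : ℤ)
    (h : (CohIII.TFun P p).PreservesEpimorphisms) : Module.Flat A (Wq P p (p - 1)) := by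
  have hmono : (CohIII.TFun P (p - 1)).PreservesMonomorphisms :=
    (preservesEpi_iff_preservesMono hP p (p - 1) (by simp)).mp h
  exact flat_coker_of_preservesMono P p (p - 1) (p - 1 - 1) (by simp) (by simp) (hP _) hmono

theorem preservesEpi_of_flat_Wq (hP : ∀ i, Module.Flat A (P.X i)) (p : ℤ)
    (h : Module.Flat A (Wq P p (p - 1))) : (CohIII.TFun P p).PreservesEpimorphisms := by
  have hmono : (CohIII.TFun P (p - 1)).PreservesMonomorphisms :=
    preservesMono_of_flat_coker P p (p - 1) (p - 1 - 1) (by simp) (by simp)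
  exact (preservesEpi_iff_preservesMono hP p (p - 1) (by simp)).mpr hmono

/-- the canonical iso `T_p ≅ H_p(P) ⊗ -` when `T_p` is right exact -/
noncomputable def tensorLeftIsoOfPreservesEpi (hP : ∀ i, Module.Flat A (P.X i)) (p : ℤ)
    (h : (CohIII.TFun P p).PreservesEpimorphisms) :
    CohIII.TFun P p ≅ tensorLeft (ModuleCat.of A (Hp P (p + 1) p (p - 1))) :=
  haveI := flat_Wq_of_preservesEpi P hP p h
  haveI := hP (p - 1)
  tensorLeftIso P (p + 1) p (p - 1) (by simp) (by simp)

theorem preservesEpi_tensorLeft (N : ModuleCat.{u} A) : (tensorLeft N).PreservesEpimorphisms :=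
  Functor.preservesEpimorphisms_of_adjunction (ihom.adjunction N)

theorem preservesEpi_iff_exists_tensorLeft (hP : ∀ i, Module.Flat A (P.X i)) (p : ℤ) :
    (CohIII.TFun P p).PreservesEpimorphisms ↔
      ∃ N : ModuleCat.{u} A, Nonempty (CohIII.TFun P p ≅ tensorLeft N) := by
  constructor
  · intro h
    exact ⟨_, ⟨tensorLeftIsoOfPreservesEpi P hP p h⟩⟩
  · rintro ⟨N, ⟨e⟩⟩
    exact (Functor.PreservesEpimorphisms.iso_iff e).mpr (preservesEpi_tensorLeft N)

theorem flat_of_preservesMono_tensorLeft (N : ModuleCat.{u} A)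
    (h : (tensorLeft N).PreservesMonomorphisms) : Module.Flat A N := by
  rw [Module.Flat.iff_lTensor_preserves_injective_linearMap]
  intro M M' _ _ _ _ g hg
  let g' : ModuleCat.of A M ⟶ ModuleCat.of A M' := ModuleCat.ofHom g
  haveI : Mono g' := (ModuleCat.mono_iff_injective g').mpr hg
  exact (ModuleCat.mono_iff_injective _).mp (h.preserves g')

theorem exact_iff_exists_flat_tensorLeft (hP : ∀ i, Module.Flat A (P.X i)) (p : ℤ) :
    ((CohIII.TFun P p).PreservesMonomorphisms ∧ (CohIII.TFun P p).PreservesEpimorphisms) ↔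
      ∃ N : ModuleCat.{u} A, Module.Flat A N ∧ Nonempty (CohIII.TFun P p ≅ tensorLeft N) := by
  constructor
  · rintro ⟨hm, he⟩
    refine ⟨_, ?_, ⟨tensorLeftIsoOfPreservesEpi P hP p he⟩⟩
    apply flat_of_preservesMono_tensorLeft
    exact (Functor.PreservesMonomorphisms.iso_iff (tensorLeftIsoOfPreservesEpi P hP p he)).mp hm
  · rintro ⟨N, hN, ⟨e⟩⟩
    exact ⟨(Functor.PreservesMonomorphisms.iso_iff e).mpr inferInstance,
      (Functor.PreservesEpimorphisms.iso_iff e).mpr (preservesEpi_tensorLeft N)⟩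

end Groth.Agent.Helper2.FlatCx
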