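import Mathlib
import Groth.Prelude.Def_ega3
import Groth.Agent.Lib.Helper2.FlatCxTensor

/-!
`H_p(P) ⊗ M ≅ T_p(M)` for flat `M`; extensions of flat modules are flat.
-/

universe u

open CategoryTheory Limits MonoidalCategory TensorProduct

namespace Groth.Agent.Helper2.FlatCx

section Ext
variable {R : Type u} [CommRing R] {M' M M'' : Type u}
  [AddCommGroup M'] [Module R M'] [AddCommGroup M] [Module R M] [AddCommGroup M''] [Module R M'']

/-- An extension of flat modules is flat. -/
theorem flat_of_exact_of_flat_of_flat (i : M' →ₗ[R] M) (π : M →ₗ[R] M'')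
    (hi : Function.Injective i) (hex : Function.Exact i π) (hπ : Function.Surjective π)
    [Module.Flat R M'] [Module.Flat R M''] : Module.Flat R M := by
  rw [Module.Flat.iff_rTensor_injective']
  intro I
  rw [injective_iff_map_eq_zero]
  intro x hx
  -- image in I ⊗ M'' is zero
  have h1 : π.lTensor I x = 0 := by
    apply Module.Flat.rTensor_preserves_injective_linearMap (M := M'') I.subtype
      I.injective_subtype
    rw [map_zero, ← LinearMap.comp_apply, LinearMap.rTensor_comp_lTensor,
      ← LinearMap.lTensor_comp_rTensor, LinearMap.comp_apply, hx, map_zero]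
  have hex' : Function.Exact (i.lTensor I) (π.lTensor I) := lTensor_exact I hex hπ
  obtain ⟨x', rfl⟩ := (hex' x).mp h1
  have h2 : I.subtype.rTensor M' x' = 0 := by
    apply Module.Flat.lTensor_preserves_injective_linearMap (M := R) i hi
    rw [map_zero, ← LinearMap.comp_apply, LinearMap.lTensor_comp_rTensor,
      ← LinearMap.rTensor_comp_lTensor, LinearMap.comp_apply, hx]
  have h3 : x' = 0 := by
    apply Module.Flat.rTensor_preserves_injective_linearMap (M := M') I.subtype
      I.injective_subtype
    rw [h2, map_zero]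
  rw [h3, map_zero]

end Ext

section Eta
variable {A : Type u} [CommRing A] {ι : Type} {c : ComplexShape ι}
variable (P : HomologicalComplex (ModuleCat.{u} A) c) (r p q : ι)
variable (hr : c.prev p = r) (hq : c.next p = q)

include hr hq in
theorem η_bijective_of (M : ModuleCat.{u} A)
    (hinj : Function.Injective ((Zp P p q).subtype.rTensor M))
    (hθ : Function.Surjective (θ P r p q M)) : Function.Bijective (η P r p q hr hq M) := by
  constructor
  · rw [injective_iff_map_eq_zero]
    intro t ht
    obtain ⟨τ, rfl⟩ := LinearMap.rTensor_surjective M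
      (Submodule.mkQ_surjective (LinearMap.range (dZ P r p q))) t
    rw [η_comp_rTensor_mkQ, cls_eq_zero_iff] at ht
    obtain ⟨y, hy⟩ := ht
    have h1 : τ = (dZ P r p q).rTensor M y := by
      apply hinj
      rw [← LinearMap.comp_apply, ← LinearMap.rTensor_comp]
      exact hy.symm
    rw [h1, ← LinearMap.comp_apply, ← LinearMap.rTensor_comp]
    have : (LinearMap.range (dZ P r p q)).mkQ ∘ₗ dZ P r p q = 0 := by
      apply LinearMap.ext
      intro y
      exact (Submodule.Quotient.mk_eq_zero _).mpr ⟨y, rfl⟩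
    rw [this, LinearMap.rTensor_zero, LinearMap.zero_apply]
  · intro t
    obtain ⟨ζ, rfl⟩ := cls_surjective P r p q hr hq M t
    obtain ⟨τ, rfl⟩ := hθ ζ
    exact ⟨(LinearMap.range (dZ P r p q)).mkQ.rTensor M τ, η_comp_rTensor_mkQ P r p q hr hq M τ⟩

include hr hq in
theorem η_bijective_of_flat (M : ModuleCat.{u} A) [Module.Flat A M] :
    Function.Bijective (η P r p q hr hq M) := by
  apply η_bijective_of
  · exact Module.Flat.rTensor_preserves_injective_linearMap _ Subtype.val_injective
  · intro ζ
    have hex : Function.Exact (Zp P p q).subtype (P.d p q).hom := by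
      intro x
      constructor
      · intro hx
        exact ⟨⟨x, hx⟩, rfl⟩
      · rintro ⟨z, rfl⟩
        exact z.2
    have h1 : (P.d p q).hom.rTensor M ζ.1 = 0 := ζ.2
    obtain ⟨t, ht⟩ := (Module.Flat.rTensor_exact M hex ζ.1).mp h1
    exact ⟨t, Subtype.ext ht⟩

/-- `T_p(A) ≃ H_p(P)`. -/
noncomputable def TAEquivHp :
    CohIII.T P p (ModuleCat.of A A) ≃ₗ[A] Hp P r p q :=
  ((TensorProduct.rid A (Hp P r p q)).symm ≪≫ₗ
    LinearEquiv.ofBijective (η P r p q hr hq (ModuleCat.of A A))
      (η_bijective_of_flat P r p q hr hq (ModuleCat.of A A))).symm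

end Eta

section Seq
variable {A : Type u} [CommRing A] {ι : Type} {c : ComplexShape ι}
variable (P : HomologicalComplex (ModuleCat.{u} A) c) (r p q : ι)

/-- `H_p(P) ⟶ coker(P_r ⟶ P_p)` -/
noncomputable def HpToWq : Hp P r p q →ₗ[A] Wq P r p :=
  Submodule.mapQ _ _ (Zp P p q).subtype (by
    rintro _ ⟨y, rfl⟩
    exact ⟨y, rfl⟩)

/-- `coker(P_r ⟶ P_p) ⟶ im(P_p ⟶ P_q)` -/
noncomputable def WqToRange : Wq P r p →ₗ[A] LinearMap.range (P.d p q).hom :=
  Submodule.liftQ _ (P.d p q).hom.rangeRestrict (by
    rintro _ ⟨y, rfl⟩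
    apply Subtype.ext
    change (P.d p q).hom ((P.d r p).hom y) = 0
    rw [← LinearMap.comp_apply, d_comp_d_hom]
    rfl)

theorem HpToWq_injective : Function.Injective (HpToWq P r p q) := by
  rw [injective_iff_map_eq_zero]
  intro h hh
  obtain ⟨z, rfl⟩ := Submodule.Quotient.mk_surjective _ h
  change Submodule.Quotient.mk (z : P.X p) = 0 at hh
  rw [Submodule.Quotient.mk_eq_zero] at hh ⊢
  obtain ⟨y, hy⟩ := hh
  exact ⟨y, Subtype.ext hy⟩

theorem WqToRange_surjective : Function.Surjective (WqToRange P r p q) := by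
  rintro ⟨_, x, rfl⟩
  exact ⟨Submodule.Quotient.mk x, rfl⟩

theorem exact_HpToWq_WqToRange : Function.Exact (HpToWq P r p q) (WqToRange P r p q) := by
  intro w
  obtain ⟨x, rfl⟩ := Submodule.Quotient.mk_surjective _ w
  constructor
  · intro h
    have hx : (P.d p q).hom x = 0 := congrArg Subtype.val h
    exact ⟨Submodule.Quotient.mk ⟨x, hx⟩, rfl⟩
  · rintro ⟨h, hh⟩
    obtain ⟨z, rfl⟩ := Submodule.Quotient.mk_surjective _ h
    rw [← hh]
    apply Subtype.ext
    exact z.2

/-- If `H_p(P)` and the cokernel of `P_p ⟶ P_q` are flat then so is the cokernel of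
`P_r ⟶ P_p`. -/
theorem flat_Wq_of_flat_Hp_of_flat_Wq [Module.Flat A (P.X q)] [Module.Flat A (Wq P p q)]
    [Module.Flat A (Hp P r p q)] : Module.Flat A (Wq P r p) := by
  haveI := flat_range P p q
  exact flat_of_exact_of_flat_of_flat (HpToWq P r p q) (WqToRange P r p q)
    (HpToWq_injective P r p q) (exact_HpToWq_WqToRange P r p q) (WqToRange_surjective P r p q)

end Seq

end Groth.Agent.Helper2.FlatCx
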