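import Mathlib
import Groth.Prelude.Def_ega3
import Groth.Agent.Lib.Helper2.FlatCxTensor2
import Groth.Agent.Lib.Helper2.FlatCxChain

/-!
Bounded below complexes of flat modules: exactness of all `T_q`, `q ≤ p`, in terms of flatness of
the `T_q(A)`.
-/

universe u

open CategoryTheory Limits MonoidalCategory TensorProduct

namespace Groth.Agent.Helper2.FlatCx

variable {A : Type u} [CommRing A]
variable (P : ChainComplex (ModuleCat.{u} A) ℤ)

theorem flat_TA_of_exact (hP : ∀ i, Module.Flat A (P.X i)) (q : ℤ)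
    (h : (CohIII.TFun P q).PreservesMonomorphisms ∧ (CohIII.TFun P q).PreservesEpimorphisms) :
    Module.Flat A ((CohIII.TFun P q).obj (ModuleCat.of A A)) := by
  obtain ⟨N, hN, ⟨e⟩⟩ := (exact_iff_exists_flat_tensorLeft P hP q).mp h
  exact Module.Flat.of_linearEquiv
    ((e.app (ModuleCat.of A A)).toLinearEquiv ≪≫ₗ TensorProduct.rid A N)

theorem flat_Wq_of_flat_TA (hP : ∀ i, Module.Flat A (P.X i)) (i₀ : ℤ)
    (hb : ∀ i < i₀, IsZero (P.X i)) (p : ℤ)
    (h : ∀ q ≤ p, Module.Flat A ((CohIII.TFun P q).obj (ModuleCat.of A A))) :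
    ∀ (n : ℕ) (q r : ℤ), r = q + 1 → q ≤ p → q < i₀ + n → Module.Flat A (Wq P r q) := by
  intro n
  induction n with
  | zero =>
    intro q r _ _ hq
    haveI : Subsingleton (P.X q) := ModuleCat.subsingleton_of_isZero (hb q (by simpa using hq))
    infer_instance
  | succ n ih =>
    intro q r hr hqp hq
    subst hr
    haveI : Module.Flat A (Wq P q (q - 1)) := ih (q - 1) q (by ring) (by omega) (by push_cast at hq ⊢; omega)
    haveI := hP (q - 1)
    haveI : Module.Flat A (Hp P (q + 1) q (q - 1)) :=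
      @Module.Flat.of_linearEquiv _ _ _ _ _ _ _ _ (h q hqp)
        (TAEquivHp P (q + 1) q (q - 1) (by simp) (by simp)).symm
    exact flat_Wq_of_flat_Hp_of_flat_Wq P (q + 1) q (q - 1)

theorem exact_upTo_iff_flat (hP : ∀ i, Module.Flat A (P.X i)) (i₀ : ℤ)
    (hb : ∀ i < i₀, IsZero (P.X i)) (p : ℤ) :
    (∀ q ≤ p, (CohIII.TFun P q).PreservesMonomorphisms ∧
        (CohIII.TFun P q).PreservesEpimorphisms) ↔
      ∀ q ≤ p, Module.Flat A ((CohIII.TFun P q).obj (ModuleCat.of A A)) := by
  constructor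
  · intro h q hq
    exact flat_TA_of_exact P hP q (h q hq)
  · intro h q hq
    have key := flat_Wq_of_flat_TA P hP i₀ hb p h
    have hn : ∃ n : ℕ, q < i₀ + n := ⟨(q - i₀ + 1).toNat, by omega⟩
    obtain ⟨n, hn⟩ := hn
    haveI h1 : Module.Flat A (Wq P (q + 1) q) := key n q (q + 1) rfl hq hn
    have h2 : Module.Flat A (Wq P q (q - 1)) := key n (q - 1) q (by ring) (by omega) (by omega)
    exact ⟨preservesMono_of_flat_coker P (q + 1) q (q - 1) (by simp) (by simp),
      preservesEpi_of_flat_Wq P hP q h2⟩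

end Groth.Agent.Helper2.FlatCx
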