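import Mathlib

/-!
# Flatness from flatness of the quotients by powers of an element of the maximal ideal
-/

open TensorProduct

universe u

namespace Groth.Agent.Helper2.FlatQuotPow

theorem flat_of_quot {A B : Type u} [CommRing A] [CommRing B]
    [IsNoetherianRing A] [IsNoetherianRing B] [IsLocalRing A] [IsLocalRing B] [Algebra A B]
    [IsLocalHom (algebraMap A B)] (M : Type u) [AddCommGroup M] [Module B M] [Module A M]
    [IsScalarTower A B M] [Module.Finite B M] (f : B) (hf : f ∈ IsLocalRing.maximalIdeal B)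
    (hflat : ∀ n : ℕ, Module.Flat A (M ⧸ (Ideal.span {f ^ (n + 1)} • (⊤ : Submodule B M)))) :
    Module.Flat A M := by
  classical
  rw [Module.Flat.iff_lTensor_injective']
  intro 𝔞
  -- `M ⊗[A] 𝔞` is a finite `B`-module
  have hfin : Module.Finite B (M ⊗[A] 𝔞) := by
    obtain ⟨s, hs⟩ := (Module.finite_def (R := B) (M := M)).1 inferInstance
    obtain ⟨t, ht⟩ := (Module.finite_def (R := A) (M := 𝔞)).1 inferInstance
    refine ⟨⟨Finset.image₂ (fun m a => m ⊗ₜ[A] a) s t, ?_⟩⟩
    rw [eq_top_iff]
    intro z hz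
    clear hz
    induction z using TensorProduct.induction_on with
    | zero => exact zero_mem _
    | add x y hx hy => exact add_mem hx hy
    | tmul m a =>
      have hm : m ∈ Submodule.span B (s : Set M) := by rw [hs]; trivial
      have ha : a ∈ Submodule.span A (t : Set 𝔞) := by rw [ht]; trivial
      refine Submodule.span_induction (p := fun m _ => m ⊗ₜ[A] a ∈ _) ?_ ?_ ?_ ?_ hm
      · intro m hm
        refine Submodule.span_induction (p := fun a _ => m ⊗ₜ[A] a ∈ _) ?_ ?_ ?_ ?_ ha
        · intro a ha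
          exact Submodule.subset_span (by
            rw [Finset.coe_image₂]; exact ⟨m, hm, a, ha, rfl⟩)
        · rw [tmul_zero]; exact zero_mem _
        · intro x y _ _ hx hy; rw [tmul_add]; exact add_mem hx hy
        · intro c x _ hx
          rw [tmul_smul, ← algebraMap_smul B c (m ⊗ₜ[A] x)]
          exact Submodule.smul_mem _ _ hx
      · rw [zero_tmul]; exact zero_mem _
      · intro x y _ _ hx hy; rw [add_tmul]; exact add_mem hx hy
      · intro c x _ hx
        rw [← smul_tmul']; exact Submodule.smul_mem _ _ hx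
  rw [injective_iff_map_eq_zero]
  intro x hx
  -- `x` lies in every `f ^ (n+1) • ⊤`
  have hmem : ∀ n : ℕ, x ∈ (Ideal.span {f} ^ (n + 1) • ⊤ : Submodule B (M ⊗[A] 𝔞)) := by
    intro n
    let Nn : Submodule B M := Ideal.span {f ^ (n + 1)} • ⊤
    let q : M →ₗ[A] (M ⧸ Nn) := (Nn.mkQ).restrictScalars A
    have hinj := (Module.Flat.iff_lTensor_injective' (R := A) (M := M ⧸ Nn)).1 (hflat n) 𝔞
    have h1 : (𝔞.subtype.lTensor (M ⧸ Nn)) (q.rTensor 𝔞 x) = 0 := by
      rw [← LinearMap.comp_apply, LinearMap.lTensor_comp_rTensor, ← LinearMap.rTensor_comp_lTensor,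
        LinearMap.comp_apply, hx, map_zero]
    have h2 : q.rTensor 𝔞 x = 0 := hinj (by rw [h1, map_zero])
    have hexq : Function.Exact (Nn.restrictScalars A).subtype q := by
      rw [LinearMap.exact_iff]
      ext y
      simp only [LinearMap.mem_ker, LinearMap.mem_range, Submodule.subtype_apply, q,
        LinearMap.restrictScalars_apply, Submodule.mkQ_apply, Submodule.Quotient.mk_eq_zero]
      constructor
      · intro hy; exact ⟨⟨y, hy⟩, rfl⟩
      · rintro ⟨⟨z, hz⟩, rfl⟩; exact hz
    have hqsurj : Function.Surjective q := Submodule.mkQ_surjective Nn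
    obtain ⟨w, rfl⟩ := (rTensor_exact 𝔞 hexq hqsurj x).1 h2
    clear h1 h2 hx
    rw [Ideal.span_singleton_pow]
    induction w using TensorProduct.induction_on with
    | zero => rw [map_zero]; exact zero_mem _
    | add x y hx hy => rw [map_add]; exact add_mem hx hy
    | tmul m a =>
      rw [LinearMap.rTensor_tmul]
      obtain ⟨m, hm⟩ := m
      change m ⊗ₜ[A] a ∈ _
      have hm' : m ∈ (Ideal.span {f ^ (n + 1)} • ⊤ : Submodule B M) := hm
      refine Submodule.smul_induction_on hm' ?_ ?_
      · intro r hr m' _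
        rw [← smul_tmul']
        exact Submodule.smul_mem_smul hr Submodule.mem_top
      · intro x y hx hy; rw [add_tmul]; exact add_mem hx hy
  have hne : Ideal.span {f} ≠ ⊤ := by
    intro h
    have : (1 : B) ∈ Ideal.span {f} := by rw [h]; trivial
    have h2 : Ideal.span {f} ≤ IsLocalRing.maximalIdeal B := (Ideal.span_singleton_le_iff_mem _).2 hf
    exact (IsLocalRing.maximalIdeal.isMaximal B).ne_top ((Ideal.eq_top_iff_one _).2 (h2 this))
  have hkrull := Ideal.iInf_pow_smul_eq_bot_of_isLocalRing (M := M ⊗[A] 𝔞) (Ideal.span {f}) hne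
  have : x ∈ (⨅ i : ℕ, Ideal.span {f} ^ i • ⊤ : Submodule B (M ⊗[A] 𝔞)) := by
    rw [Submodule.mem_iInf]
    intro i
    cases i with
    | zero => simp
    | succ n => exact hmem n
  rw [hkrull] at this
  exact this

end Groth.Agent.Helper2.FlatQuotPow
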