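import Mathlib
open TensorProduct

namespace Groth.Agent.Helper2.WE

universe u

/-- a weakly étale algebra is formally unramified -/
theorem formallyUnramified_of_weaklyEtale (R S : Type*) [CommRing R] [CommRing S] [Algebra R S]
    [Algebra.WeaklyEtale R S] : Algebra.FormallyUnramified R S := by
  have hflat := Algebra.WeaklyEtale.flat_lmul' R S
  letI alg : Algebra (S ⊗[R] S) S := (Algebra.TensorProduct.lmul' R (S := S)).toRingHom.toAlgebra
  have hflat' : Module.Flat (S ⊗[R] S) S := hflat
  have hsurj : Function.Surjective (Algebra.ofId (S ⊗[R] S) S) := by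
    intro s
    exact ⟨s ⊗ₜ 1, by
      change Algebra.TensorProduct.lmul' R (S := S) (s ⊗ₜ 1) = s
      simp⟩
  let e := Ideal.quotientKerAlgEquivOfSurjective hsurj
  have hker : RingHom.ker (Algebra.ofId (S ⊗[R] S) S) = KaehlerDifferential.ideal R S := rfl
  haveI : (KaehlerDifferential.ideal R S).Pure := by
    rw [← hker]
    exact Module.Flat.of_linearEquiv e.toLinearEquiv
  have hidem := Ideal.isIdempotentElem_of_pure (KaehlerDifferential.ideal R S)
  rw [Algebra.formallyUnramified_iff]
  exact (Ideal.cotangent_subsingleton_iff _).mpr hidem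

/-- weak étaleness descends to intermediate fields -/
theorem weaklyEtale_of_tower (K F L : Type*) [Field K] [Field F] [Field L] [Algebra K F] [Algebra K L]
    [Algebra F L] [IsScalarTower K F L] [Algebra.WeaklyEtale K L] : Algebra.WeaklyEtale K F := by
  refine ⟨inferInstance, ?_⟩
  have hL := Algebra.WeaklyEtale.flat_lmul' K L
  let ι : F →ₐ[K] L := IsScalarTower.toAlgHom K F L
  have hι : ι.toRingHom.Flat := RingHom.Flat.of_isField (Field.toIsField F) _
  have hιι : (Algebra.TensorProduct.map ι ι).toRingHom.Flat :=
    RingHom.Flat.tensorProductMap hι hι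
  have hcomp : ((Algebra.TensorProduct.lmul' K (S := L)).toRingHom.comp
      (Algebra.TensorProduct.map ι ι).toRingHom).Flat := RingHom.Flat.comp hιι hL
  have heq : (Algebra.TensorProduct.lmul' K (S := L)).toRingHom.comp
      (Algebra.TensorProduct.map ι ι).toRingHom =
      ι.toRingHom.comp (Algebra.TensorProduct.lmul' K (S := F)).toRingHom := by
    have : (Algebra.TensorProduct.lmul' K (S := L)).comp (Algebra.TensorProduct.map ι ι) =
        ι.comp (Algebra.TensorProduct.lmul' K (S := F)) := by
      ext <;> simp
    exact congrArg AlgHom.toRingHom this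
  rw [heq] at hcomp
  -- module structures
  letI algF : Algebra (F ⊗[K] F) F := (Algebra.TensorProduct.lmul' K (S := F)).toRingHom.toAlgebra
  letI algL : Algebra (F ⊗[K] F) L :=
    (ι.toRingHom.comp (Algebra.TensorProduct.lmul' K (S := F)).toRingHom).toAlgebra
  haveI : IsScalarTower (F ⊗[K] F) F L := IsScalarTower.of_algebraMap_eq' rfl
  have hflatL : Module.Flat (F ⊗[K] F) L := hcomp
  obtain ⟨ρ, hρ⟩ := LinearMap.exists_leftInverse_of_injective (Algebra.linearMap F L)
    (LinearMap.ker_eq_bot.mpr (algebraMap F L).injective)
  have : Module.Flat (F ⊗[K] F) F := by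
    refine Module.Flat.of_retract ((Algebra.linearMap F L).restrictScalars (F ⊗[K] F))
      (ρ.restrictScalars (F ⊗[K] F)) ?_
    ext x
    exact LinearMap.congr_fun hρ x
  exact this


/-- a weakly étale field extension is separable algebraic -/
theorem isSeparable_of_weaklyEtale (K L : Type u) [Field K] [Field L] [Algebra K L]
    [Algebra.WeaklyEtale K L] : Algebra.IsSeparable K L := by
  refine ⟨fun a => ?_⟩
  haveI : Algebra.WeaklyEtale K (IntermediateField.adjoin K {a}) :=
    weaklyEtale_of_tower K (IntermediateField.adjoin K {a}) L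
  haveI : Algebra.FormallyUnramified K (IntermediateField.adjoin K {a}) :=
    formallyUnramified_of_weaklyEtale K _
  haveI : Algebra.EssFiniteType K (IntermediateField.adjoin K {a}) := by
    rw [IntermediateField.essFiniteType_iff]
    exact IntermediateField.fg_adjoin_of_finite (Set.finite_singleton a)
  have hsep : Algebra.IsSeparable K (IntermediateField.adjoin K {a}) :=
    Algebra.FormallyUnramified.isSeparable K _
  exact (IntermediateField.isSeparable_adjoin_simple_iff_isSeparable K L).mp hsep

end Groth.Agent.Helper2.WE
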