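import Mathlib

/-! Functional equation `F(x + y F(x)) = F(x) F(y)` for rational functions. -/

open Polynomial

universe u

namespace Groth.Agent.Helper2.FunEq


/-- Stage 1: the final polynomial argument. -/
theorem stage1 {k : Type*} [Field k] (P Q : k[X]) (hQ : Q.Monic) (hc : IsCoprime P Q)
    (r : k) (hr : r ≠ 0) (hP0 : P.eval 0 = r) (hQ0 : Q.eval 0 = r)
    (E1 : P ^ P.natDegree * C r = P * Q ^ P.natDegree)
    (E2 : P ^ Q.natDegree * C r = Q ^ (Q.natDegree + 1)) :
    Q = 1 ∧ ∃ a : k, P = 1 + C a * X := by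
  have hQ1 : Q = 1 := by
    have h1 : Q ∣ P ^ Q.natDegree * C r := by
      rw [E2, pow_succ]; exact dvd_mul_left _ _
    have h2 : IsCoprime Q (P ^ Q.natDegree) := (hc.symm).pow_right
    have h3 : Q ∣ C r := h2.dvd_of_dvd_mul_left h1
    have h4 : IsUnit Q := isUnit_of_dvd_unit h3 (isUnit_C.mpr (isUnit_iff_ne_zero.mpr hr))
    exact hQ.eq_one_of_isUnit h4
  refine ⟨hQ1, ?_⟩
  subst hQ1
  have hr1 : r = 1 := by rw [← hQ0]; simp
  subst hr1
  simp only [map_one, mul_one, one_pow] at E1
  have hP : P ≠ 0 := by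
    rintro rfl
    simp at hP0
  have hd : P.natDegree ≤ 1 := by
    by_contra hcon
    rw [not_le] at hcon
    have h5 : (P ^ P.natDegree).natDegree = P.natDegree := by rw [E1]
    rw [natDegree_pow] at h5
    nlinarith
  refine ⟨P.coeff 1, ?_⟩
  have h6 := eq_X_add_C_of_natDegree_le_one hd
  have h7 : P.coeff 0 = 1 := by rw [coeff_zero_eq_eval_zero, hP0]
  rw [h7] at h6
  refine h6.trans ?_
  simp [add_comm]



/-- Stage 2: comparing `A(s + cY)` with `A(Y)`. -/
theorem stage2 {K : Type*} [Field K] (A B : K[X]) (hc : IsCoprime A B)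
    (s c p q : K) (hc0 : c ≠ 0) (hp : p ≠ 0) (hq : q ≠ 0) (hA0 : A.eval 0 ≠ 0)
    (h : A.comp (C s + C c * X) * (C q * B) = (C p * A) * B.comp (C s + C c * X)) :
    c ^ A.natDegree * A.eval 0 = A.eval s := by
  set ℓ : K[X] := C s + C c * X with hℓ
  have hℓdeg : ℓ.natDegree = 1 := by
    rw [hℓ, add_comm]
    exact natDegree_linear hc0
  have hℓlc : ℓ.leadingCoeff = c := by
    rw [hℓ, add_comm]
    exact leadingCoeff_linear hc0
  have hA : A ≠ 0 := by
    rintro rfl
    simp at hA0
  -- coprimality after substitution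
  have hc' : IsCoprime (A.comp ℓ) (B.comp ℓ) := by
    have := hc.map (compRingHom ℓ)
    simpa using this
  have hCp : IsUnit (C p : K[X]) := isUnit_C.mpr (isUnit_iff_ne_zero.mpr hp)
  have hCq : IsUnit (C q : K[X]) := isUnit_C.mpr (isUnit_iff_ne_zero.mpr hq)
  have d1 : A.comp ℓ ∣ A := by
    have h1 : A.comp ℓ ∣ (C p * A) * B.comp ℓ := by rw [← h]; exact dvd_mul_right _ _
    have h2 : A.comp ℓ ∣ C p * A := hc'.dvd_of_dvd_mul_right h1
    exact (hCp.dvd_mul_left).mp h2
  have d2 : A ∣ A.comp ℓ := by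
    have h1 : A ∣ A.comp ℓ * (C q * B) := by rw [h, mul_assoc]; exact Dvd.dvd.mul_left (dvd_mul_right _ _) _
    have h2 : IsCoprime A (C q * B) := (isCoprime_mul_unit_left_right hCq A B).mpr hc
    exact h2.dvd_of_dvd_mul_right h1
  obtain ⟨w, hw⟩ := associated_of_dvd_dvd d2 d1
  obtain ⟨lam, hlam, hlamw⟩ := Polynomial.isUnit_iff.mp w.isUnit
  rw [← hlamw] at hw
  -- evaluate at 0
  have e0 : A.eval 0 * lam = A.eval s := by
    have := congrArg (Polynomial.eval 0) hw
    simpa [hℓ] using this
  -- leading coefficients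
  have e1 : A.leadingCoeff * lam = A.leadingCoeff * c ^ A.natDegree := by
    have := congrArg Polynomial.leadingCoeff hw
    rw [leadingCoeff_mul, leadingCoeff_C, leadingCoeff_comp (by rw [hℓdeg]; exact one_ne_zero), hℓlc] at this
    exact this
  have e2 : lam = c ^ A.natDegree := mul_left_cancel₀ (leadingCoeff_ne_zero.mpr hA) e1
  rw [← e0, e2, mul_comm]



theorem evalT {k K : Type u} [Field k] [Field K] [Algebra k K] (P : k[X]) (T : K[X]) :
    P.eval₂ (algebraMap k (RatFunc K)) (algebraMap K[X] (RatFunc K) T) =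
      algebraMap K[X] (RatFunc K) ((P.map (algebraMap k K)).comp T) := by
  rw [Polynomial.comp, eval₂_map, hom_eval₂]
  congr 1

/-- Stage 3: the functional equation in `K(Y)` gives a polynomial identity in `K[Y]`. -/
theorem stage3 {k K : Type u} [Field k] [Field K] [Algebra k K] (F : RatFunc k) (x : K)
    (hp : (F.num.map (algebraMap k K)).eval x ≠ 0)
    (hq : (F.denom.map (algebraMap k K)).eval x ≠ 0)
    (hFE : RatFunc.eval (algebraMap k (RatFunc K))
        (RatFunc.C x + RatFunc.X * RatFunc.eval (algebraMap k (RatFunc K)) (RatFunc.C x) F) F =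
      RatFunc.eval (algebraMap k (RatFunc K)) (RatFunc.C x) F *
        RatFunc.eval (algebraMap k (RatFunc K)) RatFunc.X F) :
    (F.num.map (algebraMap k K)).comp
        (C x + C ((F.num.map (algebraMap k K)).eval x / (F.denom.map (algebraMap k K)).eval x) * X) *
        (C ((F.denom.map (algebraMap k K)).eval x) * F.denom.map (algebraMap k K)) =
      (C ((F.num.map (algebraMap k K)).eval x) * F.num.map (algebraMap k K)) *
        (F.denom.map (algebraMap k K)).comp
        (C x + C ((F.num.map (algebraMap k K)).eval x / (F.denom.map (algebraMap k K)).eval x) * X) := by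
  set A := F.num.map (algebraMap k K) with hA
  set B := F.denom.map (algebraMap k K) with hB
  set p := A.eval x with hpdef
  set q := B.eval x with hqdef
  set c := p / q with hcdef
  set ℓ : K[X] := C x + C c * X with hℓ
  have hc0 : c ≠ 0 := div_ne_zero hp hq
  have hℓdeg : ℓ.natDegree = 1 := by
    rw [hℓ, add_comm]
    exact natDegree_linear hc0
  have hBne : B ≠ 0 := by
    rintro h0
    rw [h0] at hqdef
    simp at hqdef
    exact hq hqdef
  have hBℓ : B.comp ℓ ≠ 0 := by
    intro h0
    rcases Polynomial.comp_eq_zero_iff.mp h0 with h1 | ⟨_, h2⟩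
    · exact hBne h1
    · rw [h2, natDegree_C] at hℓdeg
      exact zero_ne_one hℓdeg
  have inj := RatFunc.algebraMap_injective K
  -- the three evaluations
  have e1 : RatFunc.eval (algebraMap k (RatFunc K)) (RatFunc.C x) F =
      algebraMap K[X] (RatFunc K) (C p) / algebraMap K[X] (RatFunc K) (C q) := by
    rw [RatFunc.eval, ← RatFunc.algebraMap_C, evalT, evalT, comp_C, comp_C]
  have e2 : RatFunc.eval (algebraMap k (RatFunc K)) RatFunc.X F =
      algebraMap K[X] (RatFunc K) A / algebraMap K[X] (RatFunc K) B := by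
    rw [RatFunc.eval, ← RatFunc.algebraMap_X, evalT, evalT, comp_X, comp_X]
  have e3 : RatFunc.C x + RatFunc.X * RatFunc.eval (algebraMap k (RatFunc K)) (RatFunc.C x) F =
      algebraMap K[X] (RatFunc K) ℓ := by
    rw [e1, hℓ, map_add, map_mul, RatFunc.algebraMap_C, RatFunc.algebraMap_C, RatFunc.algebraMap_C,
      RatFunc.algebraMap_C, RatFunc.algebraMap_X, hcdef, map_div₀, mul_comm]
  have e4 : RatFunc.eval (algebraMap k (RatFunc K)) (algebraMap K[X] (RatFunc K) ℓ) F =
      algebraMap K[X] (RatFunc K) (A.comp ℓ) / algebraMap K[X] (RatFunc K) (B.comp ℓ) := by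
    rw [RatFunc.eval, evalT, evalT]
  rw [e3, e4, e1, e2, div_mul_div_comm, div_eq_div_iff] at hFE
  · apply inj
    rw [map_mul, map_mul, map_mul, map_mul]
    exact hFE
  · exact fun h => hBℓ (inj (h.trans (map_zero _).symm))
  · refine mul_ne_zero ?_ ?_
    · intro h
      rw [RatFunc.algebraMap_C] at h
      exact hq ((map_eq_zero _).mp h)
    · exact fun h => hBne (inj (h.trans (map_zero _).symm))


section Emb

variable (k : Type u) [Field k]



/-- the inner embedding `k[x] → k(x)` -/
noncomputable def jHom : MvPolynomial (Fin 1) k →+* RatFunc k :=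
  (algebraMap k[X] (RatFunc k)).comp (MvPolynomial.uniqueAlgEquiv k (Fin 1) : MvPolynomial (Fin 1) k →+* k[X])

theorem jHom_injective : Function.Injective (jHom k) := by
  unfold jHom
  rw [RingHom.coe_comp]
  exact (RatFunc.algebraMap_injective k).comp (MvPolynomial.uniqueAlgEquiv k (Fin 1)).injective

/-- the embedding `k[x,y] → k(x)[Y]` -/
noncomputable def gHom : MvPolynomial (Fin 2) k →+* (RatFunc k)[X] :=
  (Polynomial.mapRingHom (jHom k)).comp
    (((MvPolynomial.finSuccEquiv k 1 : MvPolynomial (Fin 2) k ≃ₐ[k] _) : MvPolynomial (Fin 2) k →+* _).comp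
      (MvPolynomial.rename (Equiv.swap (0 : Fin 2) 1) : MvPolynomial (Fin 2) k →ₐ[k] MvPolynomial (Fin 2) k).toRingHom)

theorem gHom_injective : Function.Injective (gHom k) := by
  unfold gHom
  rw [RingHom.coe_comp, RingHom.coe_comp]
  refine (Polynomial.map_injective _ (jHom_injective k)).comp ?_
  refine (MvPolynomial.finSuccEquiv k 1).injective.comp ?_
  exact MvPolynomial.rename_injective _ (Equiv.swap (0 : Fin 2) 1).injective

theorem gHom_X0 : gHom k (MvPolynomial.X 0) = C RatFunc.X := by
  simp only [gHom, jHom, RingHom.comp_apply, AlgHom.toRingHom_eq_coe, RingHom.coe_coe, MvPolynomial.rename_X, Equiv.swap_apply_left]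
  have : (1 : Fin 2) = Fin.succ 0 := rfl
  rw [this]
  erw [MvPolynomial.finSuccEquiv_X_succ]
  simp

theorem gHom_X1 : gHom k (MvPolynomial.X 1) = X := by
  simp only [gHom, jHom, RingHom.comp_apply, AlgHom.toRingHom_eq_coe, RingHom.coe_coe, MvPolynomial.rename_X, Equiv.swap_apply_right]
  erw [MvPolynomial.finSuccEquiv_X_zero]
  simp

theorem gHom_C (r : k) : gHom k (MvPolynomial.C r) = C (algebraMap k (RatFunc k) r) := by
  simp only [gHom, jHom, RingHom.comp_apply, AlgHom.toRingHom_eq_coe, RingHom.coe_coe, MvPolynomial.rename_C]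
  erw [MvPolynomial.finSuccEquiv_apply]
  simp


/-- the field embedding `Frac k[x,y] → k(x)(Y)` -/
noncomputable def theta : FractionRing (MvPolynomial (Fin 2) k) →+* RatFunc (RatFunc k) :=
  IsFractionRing.lift (A := MvPolynomial (Fin 2) k) (K := FractionRing (MvPolynomial (Fin 2) k))
    (g := (algebraMap (RatFunc k)[X] (RatFunc (RatFunc k))).comp (gHom k))
    (by
      rw [RingHom.coe_comp]
      exact (RatFunc.algebraMap_injective (RatFunc k)).comp (gHom_injective k))

theorem theta_algebraMap (p : MvPolynomial (Fin 2) k) :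
    theta k (algebraMap (MvPolynomial (Fin 2) k) (FractionRing (MvPolynomial (Fin 2) k)) p) = algebraMap (RatFunc k)[X] (RatFunc (RatFunc k)) (gHom k p) := by
  unfold theta
  rw [IsFractionRing.lift_algebraMap]
  rfl

theorem theta_x : theta k (algebraMap (MvPolynomial (Fin 2) k) (FractionRing (MvPolynomial (Fin 2) k)) (MvPolynomial.X 0)) =
      (RatFunc.C (RatFunc.X : RatFunc k) : RatFunc (RatFunc k)) := by
  rw [theta_algebraMap, gHom_X0, RatFunc.algebraMap_C]

theorem theta_y : theta k (algebraMap (MvPolynomial (Fin 2) k) (FractionRing (MvPolynomial (Fin 2) k)) (MvPolynomial.X 1)) =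
      (RatFunc.X : RatFunc (RatFunc k)) := by
  rw [theta_algebraMap, gHom_X1, RatFunc.algebraMap_X]

theorem theta_comp : (theta k).comp (algebraMap k (FractionRing (MvPolynomial (Fin 2) k))) =
    algebraMap k (RatFunc (RatFunc k)) := by
  ext r
  rw [RingHom.comp_apply, IsScalarTower.algebraMap_apply k (MvPolynomial (Fin 2) k)
    (FractionRing (MvPolynomial (Fin 2) k)), MvPolynomial.algebraMap_eq, theta_algebraMap, gHom_C,
    RatFunc.algebraMap_C]
  rfl

end Emb

theorem map_ratFunc_eval {k L M : Type u} [Field k] [Field L] [Field M] (θ : L →+* M) (f : k →+* L)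
    (a : L) (F : RatFunc k) : θ (RatFunc.eval f a F) = RatFunc.eval (θ.comp f) (θ a) F := by
  unfold RatFunc.eval
  rw [map_div₀, hom_eval₂, hom_eval₂]

end Groth.Agent.Helper2.FunEq
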