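import Mathlib

/-!
The determinant of the generic matrix is irreducible.
-/

universe u

open MvPolynomial Matrix

namespace Groth.Agent.Helper2.GenericDet

variable (k : Type u) [Field k]

/-- injective renaming preserves primality -/
theorem prime_rename_of_injective {σ τ : Type*} (φ : σ → τ) (hφ : Function.Injective φ)
    {q : MvPolynomial σ k} (hq : Prime q) : Prime (rename φ q) := by
  let e : σ ≃ Set.range φ := Equiv.ofInjective φ hφ
  have h1 : rename φ q = rename ((↑) : Set.range φ → τ) (rename e q) := by
    rw [rename_rename]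
    rfl
  rw [h1, prime_rename_iff]
  exact (MulEquiv.prime_iff (renameEquiv k e).toMulEquiv).mpr hq

theorem submatrix_mvPolynomialX {m n m' n' : Type*} (f : m' → m) (g : n' → n) :
    (mvPolynomialX m n k).submatrix f g =
      (mvPolynomialX m' n' k).map (rename (Prod.map f g)) := by
  ext i j
  simp [mvPolynomialX_apply]

theorem det_submatrix_mvPolynomialX {m m' : Type*} [Fintype m'] [DecidableEq m']
    (f g : m' → m) :
    ((mvPolynomialX m m k).submatrix f g).det =
      rename (Prod.map f g) (mvPolynomialX m' m' k).det := by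
  rw [submatrix_mvPolynomialX, AlgHom.map_det]
  rfl

theorem rename_mem_supported {σ τ : Type*} (φ : σ → τ) (q : MvPolynomial σ k) (S : Set τ)
    (h : ∀ x, φ x ∈ S) : rename φ q ∈ supported k S := by
  classical
  rw [mem_supported]
  intro v hv
  have h1 := vars_rename φ q (Finset.mem_coe.mp hv)
  obtain ⟨x, _, rfl⟩ := Finset.mem_image.mp h1
  exact h x

/-- the test matrix: the swap of the first two indices -/
def swapMat (n : ℕ) : Matrix (Fin (n + 2)) (Fin (n + 2)) k :=
  (Equiv.swap (0 : Fin (n + 2)) 1).permMatrix k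

theorem irreducible_det_succ (n : ℕ) (ih : Irreducible (mvPolynomialX (Fin (n + 1)) (Fin (n + 1)) k).det) :
    Irreducible (mvPolynomialX (Fin (n + 2)) (Fin (n + 2)) k).det := by
  let D' := (mvPolynomialX (Fin (n + 1)) (Fin (n + 1)) k).det
  let Cf : MvPolynomial (Fin (n + 2) × Fin (n + 2)) k := rename (Prod.map Fin.succ Fin.succ) D'
  let r : MvPolynomial (Fin (n + 2) × Fin (n + 2)) k :=
    ∑ j : Fin (n + 1), (-1) ^ ((j.succ : Fin (n + 2)) : ℕ) * X ((0 : Fin (n + 2)), j.succ) *
      rename (Prod.map Fin.succ (j.succ).succAbove) D'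
  have hD : (mvPolynomialX (Fin (n + 2)) (Fin (n + 2)) k).det = Cf * X (0, 0) + r := by
    rw [Matrix.det_succ_row_zero, Fin.sum_univ_succ]
    simp only [det_submatrix_mvPolynomialX, mvPolynomialX_apply, Fin.succAbove_zero]
    simp only [Fin.val_zero, pow_zero, one_mul]
    rw [mul_comm]
  have hCprime : Prime Cf :=
    prime_rename_of_injective k _ (Function.Injective.prodMap (Fin.succ_injective _)
      (Fin.succ_injective _)) ih.prime
  have hS : ∀ q : MvPolynomial (Fin (n + 2) × Fin (n + 2)) k,
      q ∈ supported k {v : Fin (n + 2) × Fin (n + 2) | v ≠ (0, 0)} → (0, 0) ∉ q.vars := by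
    intro q hq h0
    exact (mem_supported.mp hq (Finset.mem_coe.mpr h0)) rfl
  have hif : ((0 : Fin (n + 2)), (0 : Fin (n + 2))) ∉ Cf.vars := by
    apply hS
    apply rename_mem_supported
    intro x hx
    exact Fin.succ_ne_zero _ (congrArg Prod.fst hx)
  have hig : ((0 : Fin (n + 2)), (0 : Fin (n + 2))) ∉ r.vars := by
    apply hS
    refine Subalgebra.sum_mem _ fun j _ => ?_
    refine Subalgebra.mul_mem _ (Subalgebra.mul_mem _ ?_ ?_) ?_
    · exact Subalgebra.pow_mem _ (Subalgebra.neg_mem _ (Subalgebra.one_mem _)) _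
    · rw [X_mem_supported]
      intro hx
      exact Fin.succ_ne_zero _ (congrArg Prod.snd hx)
    · apply rename_mem_supported
      intro x hx
      exact Fin.succ_ne_zero _ (congrArg Prod.fst hx)
  have hrel : IsRelPrime Cf r := by
    rw [hCprime.irreducible.isRelPrime_iff_not_dvd]
    intro hdvd
    let M := swapMat k n
    let ev := MvPolynomial.eval (fun ij : Fin (n + 2) × Fin (n + 2) => M ij.1 ij.2)
    have h1 : ev (mvPolynomialX (Fin (n + 2)) (Fin (n + 2)) k).det = -1 := by
      have h01 : (0 : Fin (n + 2)) ≠ 1 := by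
        intro h
        have := congrArg Fin.val h
        simp at this
      change MvPolynomial.eval _ _ = _
      rw [eval_det_mvPolynomialX]
      change M.det = -1
      change ((Equiv.swap (0 : Fin (n + 2)) 1).permMatrix k).det = -1
      rw [Matrix.det_permutation, Equiv.Perm.sign_swap h01]
      simp
    have h2 : ev Cf = 0 := by
      change MvPolynomial.eval _ (rename _ _) = _
      rw [eval_rename, eval_det_mvPolynomialX]
      apply Matrix.det_eq_zero_of_row_eq_zero (0 : Fin (n + 1))
      intro j
      change M (Fin.succ 0) (Fin.succ j) = 0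
      change (Equiv.swap (0 : Fin (n + 2)) 1).permMatrix k (Fin.succ 0) (Fin.succ j) = 0
      rw [Equiv.Perm.permMatrix, PEquiv.toMatrix_apply]
      have : (Fin.succ (0 : Fin (n + 1)) : Fin (n + 2)) = 1 := rfl
      rw [this]
      simp [Equiv.toPEquiv_apply, Fin.succ_ne_zero, eq_comm]
    have h3 : ev r = -1 := by
      have := congrArg ev hD
      rw [h1, map_add, map_mul, h2, zero_mul, zero_add] at this
      exact this.symm
    have h4 := map_dvd ev hdvd
    rw [h2, h3, zero_dvd_iff] at h4
    exact absurd h4 (by simp)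
  rw [hD]
  exact irreducible_mul_X_add Cf r (0, 0) hCprime.ne_zero hif hig hrel


theorem irreducible_det_succ' : ∀ n : ℕ,
    Irreducible (mvPolynomialX (Fin (n + 1)) (Fin (n + 1)) k).det
  | 0 => by
    rw [Matrix.det_fin_one, mvPolynomialX_apply]
    exact (X_prime).irreducible
  | n + 1 => irreducible_det_succ k n (irreducible_det_succ' n)

theorem irreducible_det (n : ℕ) (hn : 1 ≤ n) :
    Irreducible (mvPolynomialX (Fin n) (Fin n) k).det := by
  obtain ⟨m, rfl⟩ : ∃ m, n = m + 1 := ⟨n - 1, by omega⟩
  exact irreducible_det_succ' k m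


end Groth.Agent.Helper2.GenericDet
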