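import Mathlib
namespace Groth.Agent.Helper2.GenericImage
open TensorProduct

theorem exists_lift_primes {A B : Type*} [CommRing A] [CommRing B] [Algebra A B]
    [Algebra.FiniteType A B] (p₀ : Ideal A) [hp₀ : p₀.IsPrime]
    (q₀ : Ideal B) [hq₀ : q₀.IsPrime] (h₀ : q₀.comap (algebraMap A B) = p₀) :
    ∃ s : A, s ∉ p₀ ∧ ∀ p : Ideal A, p.IsPrime → p₀ ≤ p → s ∉ p →
      ∃ q : Ideal B, q.IsPrime ∧ q.comap (algebraMap A B) = p := by
  classical
  let κ := p₀.ResidueField
  let R := p₀.Fiber B
  have hne : Nonempty (PrimeSpectrum R) :=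
    ⟨PrimeSpectrum.preimageEquivFiber A B ⟨p₀, hp₀⟩ ⟨⟨q₀, hq₀⟩, by
      ext1; exact h₀⟩⟩
  obtain ⟨q'⟩ := hne
  obtain ⟨m, hm, -⟩ := Ideal.exists_le_maximal q'.asIdeal q'.2.ne_top
  let L := R ⧸ m
  letI : Field L := Ideal.Quotient.field m
  have h1 : Algebra.FiniteType κ R := inferInstance
  have h2 : Algebra.FiniteType κ L :=
    .of_surjective (Ideal.Quotient.mkₐ κ m) (Ideal.Quotient.mkₐ_surjective _ _)
  have h3 : Module.Finite κ L := finite_of_finite_type_of_isJacobsonRing κ L
  have h4 : Algebra.IsIntegral κ L := inferInstance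
  let φ : B →ₐ[A] L := (IsScalarTower.toAlgHom A R L).comp Algebra.TensorProduct.includeRight
  have h5 : ∀ b : B, ∃ a : A, a ∉ p₀ ∧ IsIntegral A (algebraMap A L a * φ b) := by
    intro b
    have hb : IsIntegral κ (φ b) := Algebra.IsIntegral.isIntegral _
    have hs : Function.Surjective (algebraMap (Localization.AtPrime p₀) κ) :=
      Ideal.Quotient.mk_surjective
    have : Algebra.IsIntegral (Localization.AtPrime p₀) κ := Algebra.isIntegral_of_surjective hs
    have hb' : IsIntegral (Localization.AtPrime p₀) (φ b) := isIntegral_trans _ hb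
    obtain ⟨⟨a, ha⟩, hi⟩ := IsIntegral.exists_multiple_integral_of_isLocalization p₀.primeCompl
      (φ b) hb'
    refine ⟨a, ha, ?_⟩
    rwa [Submonoid.smul_def, Algebra.smul_def] at hi
  obtain ⟨t, ht⟩ := (Algebra.FiniteType.out : (⊤ : Subalgebra A B).FG)
  choose a ha hai using h5
  let s : A := ∏ b ∈ t, a b
  have hs : s ∉ p₀ := by
    intro h
    obtain ⟨b, -, hb⟩ := (Ideal.IsPrime.prod_mem_iff).mp h
    exact ha b hb
  have hsi : ∀ b ∈ t, IsIntegral A (algebraMap A L s * φ b) := by
    intro b hb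
    have : s = a b * ∏ x ∈ t.erase b, a x := (Finset.mul_prod_erase t a hb).symm
    rw [this, map_mul, mul_right_comm]
    exact (hai b).mul isIntegral_algebraMap
  have hker : ∀ x : A, algebraMap A L x = 0 → x ∈ p₀ := by
    intro x hx
    rw [IsScalarTower.algebraMap_apply A κ L] at hx
    have := (algebraMap κ L).injective (hx.trans (map_zero _).symm)
    exact (Ideal.algebraMap_residueField_eq_zero).mp this
  refine ⟨s, hs, fun p hp hle hsp => ?_⟩
  let As := Localization.Away s
  have hsL : IsUnit (algebraMap A L s) := by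
    rw [isUnit_iff_ne_zero]
    exact fun h => hs (hker s h)
  let g : As →+* L := IsLocalization.Away.lift s hsL
  letI : Algebra As L := g.toAlgebra
  haveI : IsScalarTower A As L := IsScalarTower.of_algebraMap_eq
    (fun x => (IsLocalization.Away.lift_eq s hsL x).symm)
  let D : Subalgebra As L := integralClosure As L
  have hφD : ∀ b, φ b ∈ D := by
    have : (⊤ : Subalgebra A B) ≤ (D.restrictScalars A).comap φ := by
      rw [← ht]
      apply Algebra.adjoin_le
      intro b hb
      show IsIntegral As (φ b)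
      have h1 : IsIntegral As (algebraMap A L s * φ b) := (hsi b hb).tower_top
      have h2 : φ b = algebraMap As L (IsLocalization.Away.invSelf s) * (algebraMap A L s * φ b) := by
        rw [← mul_assoc, IsScalarTower.algebraMap_apply A As L, ← map_mul, mul_comm _ (algebraMap A As s),
          IsLocalization.Away.mul_invSelf, map_one, one_mul]
      rw [h2]
      exact isIntegral_algebraMap.mul h1
    intro b
    exact this Algebra.mem_top
  let ψ : B →+* D := (φ : B →+* L).codRestrict D hφD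
  have hdisj : Disjoint (Submonoid.powers s : Set A) (p : Set A) := by
    rw [Set.disjoint_left]
    rintro _ ⟨n, rfl⟩ hn
    exact hsp (hp.mem_of_pow_mem n hn)
  let P' : Ideal As := p.map (algebraMap A As)
  have hP' : P'.IsPrime := IsLocalization.isPrime_of_isPrime_disjoint (Submonoid.powers s) As p hp hdisj
  have hP'c : P'.comap (algebraMap A As) = p :=
    IsLocalization.under_map_of_isPrime_disjoint (Submonoid.powers s) As hp hdisj
  have hkerD : (⊥ : Ideal D).comap (algebraMap As D) ≤ P' := by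
    intro x hx
    rw [Ideal.mem_comap, Ideal.mem_bot] at hx
    have hx' : algebraMap As L x = 0 := by
      exact congrArg (Subtype.val) hx
    obtain ⟨⟨a', ⟨_, n, rfl⟩⟩, rfl⟩ := IsLocalization.mk'_surjective (Submonoid.powers s) x
    have h0 : algebraMap A L a' = 0 := by
      have := IsLocalization.mk'_spec As a' (⟨s ^ n, n, rfl⟩ : Submonoid.powers s)
      have h2 := congrArg (algebraMap As L) this
      rw [map_mul, hx', zero_mul, ← IsScalarTower.algebraMap_apply] at h2
      exact h2.symm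
    have : a' ∈ p := hle (hker a' h0)
    exact (IsLocalization.mk'_mem_map_algebraMap_iff (Submonoid.powers s) As p a' _).mpr
      ⟨1, one_mem _, by simpa using this⟩
  obtain ⟨Q, -, hQ, hQc⟩ := Ideal.exists_ideal_over_prime_of_isIntegral P' (⊥ : Ideal D) hkerD
  refine ⟨Q.comap ψ, inferInstance, ?_⟩
  have hcomp : ψ.comp (algebraMap A B) = (algebraMap As D).comp (algebraMap A As) := by
    ext x
    show φ (algebraMap A B x) = algebraMap As L (algebraMap A As x)
    rw [φ.commutes, ← IsScalarTower.algebraMap_apply]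
  rw [Ideal.comap_comap, hcomp, ← Ideal.comap_comap, hQc, hP'c]

section scheme
open AlgebraicGeometry CategoryTheory
universe u

theorem generic_mem_interior {X Y : Scheme.{u}} (f : X ⟶ Y)
    [LocallyOfFiniteType f] [IrreducibleSpace Y] (h : genericPoint Y ∈ Set.range f.base) :
    genericPoint Y ∈ interior (Set.range f.base) := by
  obtain ⟨x, hx⟩ := h
  obtain ⟨V, hV, hyV, -⟩ := exists_isAffineOpen_mem_and_subset (x := f.base x) (U := ⊤) trivial
  have hxV : x ∈ f ⁻¹ᵁ V := hyV
  obtain ⟨U, hU, hxU, hUV⟩ := exists_isAffineOpen_mem_and_subset (x := x) (U := f ⁻¹ᵁ V) hxV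
  have e : U ≤ f ⁻¹ᵁ V := hUV
  let φ : Γ(Y, V) →+* Γ(X, U) := (f.appLE V U e).hom
  let _ : Algebra Γ(Y, V) Γ(X, U) := φ.toAlgebra
  have hft : Algebra.FiniteType Γ(Y, V) Γ(X, U) :=
    HasRingHomProperty.appLE @LocallyOfFiniteType f inferInstance ⟨V, hV⟩ ⟨U, hU⟩ e
  let P₀ := hV.primeIdealOf ⟨f x, hyV⟩
  let Q₀ := hU.primeIdealOf ⟨x, hxU⟩
  have h₀ : Q₀.asIdeal.comap (algebraMap Γ(Y, V) Γ(X, U)) = P₀.asIdeal :=
    congrArg PrimeSpectrum.asIdeal (IsAffineOpen.comap_primeIdealOf_appLE (f := f) V hV U hU e hxU)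
  obtain ⟨s, hs, H⟩ := exists_lift_primes P₀.asIdeal Q₀.asIdeal h₀
  have hP₀ : hV.fromSpec P₀ = f x := hV.fromSpec_primeIdealOf ⟨f x, hyV⟩
  rw [mem_interior]
  refine ⟨Y.basicOpen s, ?_, (Y.basicOpen s).isOpen, ?_⟩
  · intro y hy
    rw [← hV.fromSpec_image_basicOpen] at hy
    obtain ⟨P, hP, rfl⟩ := hy
    have hsP : s ∉ P.asIdeal := hP
    have hle : P₀ ≤ (P : PrimeSpectrum Γ(Y, V)) := by
      refine (PrimeSpectrum.le_iff_specializes P₀ P).mpr ?_
      refine (hV.fromSpec.isOpenEmbedding.isInducing.specializes_iff).mp ?_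
      rw [hP₀, hx]
      exact genericPoint_specializes _
    obtain ⟨q, hq, hqp⟩ := H P.asIdeal P.2 hle hsP
    let Q : ↥(Spec Γ(X, U)) := (⟨q, hq⟩ : PrimeSpectrum Γ(X, U))
    refine ⟨hU.fromSpec Q, ?_⟩
    have : (Spec.map (f.appLE V U e) ≫ hV.fromSpec) Q = (hU.fromSpec ≫ f) Q := by
      rw [IsAffineOpen.SpecMap_appLE_fromSpec]
    rw [Scheme.Hom.comp_apply, Scheme.Hom.comp_apply] at this
    refine this.symm.trans ?_
    congr 1
    exact PrimeSpectrum.ext hqp
  · rw [← hx, ← hP₀, ← hV.fromSpec_image_basicOpen]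
    exact ⟨P₀, hs, rfl⟩

end scheme

end Groth.Agent.Helper2.GenericImage
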