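import Mathlib.RingTheory.Henselian
import Mathlib.Algebra.Polynomial.Identities
import Mathlib.Tactic

/-!
# Helper lemmas on Henselian pairs (helper2)

Newton iteration in a ring where the derivative is a unit, and the "root is as close as the value"
lemma, used for several statements on `HenselianRing`.
-/

set_option autoImplicit false

namespace Groth.Agent.Helper2.Hensel

open Polynomial

universe u
variable {A : Type u} [CommRing A]

/-- A unit modulo an ideal contained in the Jacobson radical is a unit. -/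
theorem isUnit_of_isUnit_mk {I : Ideal A} (hI : I ≤ Ideal.jacobson ⊥) {x : A}
    (h : IsUnit (Ideal.Quotient.mk I x)) : IsUnit x := by
  haveI := isLocalHom_of_le_jacobson_bot I hI
  exact IsUnit.of_map (Ideal.Quotient.mk I) x h

/-- A unit plus an element of the Jacobson radical is a unit. -/
theorem isUnit_add_of_mem_jacobson {u x : A} (hu : IsUnit u)
    (hx : x ∈ Ideal.jacobson (⊥ : Ideal A)) : IsUnit (u + x) := by
  apply isUnit_of_isUnit_mk (I := Ideal.jacobson (⊥ : Ideal A)) le_rfl
  have : Ideal.Quotient.mk (Ideal.jacobson (⊥ : Ideal A)) (u + x)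
      = Ideal.Quotient.mk (Ideal.jacobson (⊥ : Ideal A)) u := by
    rw [map_add, Ideal.Quotient.eq_zero_iff_mem.2 hx, add_zero]
  rw [this]
  exact hu.map _

/-- Values of a polynomial at two points congruent modulo the Jacobson radical are units together. -/
theorem isUnit_eval_of_sub_mem (g : A[X]) {a b : A} (hab : a - b ∈ Ideal.jacobson (⊥ : Ideal A))
    (hu : IsUnit (g.eval b)) : IsUnit (g.eval a) := by
  obtain ⟨z, hz⟩ := g.evalSubFactor a b
  have : g.eval a = g.eval b + z * (a - b) := by rw [← hz]; ring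
  rw [this]
  exact isUnit_add_of_mem_jacobson hu (Ideal.mul_mem_left _ _ hab)

/-- Elements of an ideal at which the ring is Henselian lie in the Jacobson radical. -/
theorem mem_jacobson_of_mem {I : Ideal A} (hI : I ≤ Ideal.jacobson ⊥) {x : A} (hx : x ∈ I) :
    x ∈ Ideal.jacobson (⊥ : Ideal A) := hI hx

/-- Newton iteration: if `f' a₀` is a unit and `f a₀` lies in the Jacobson radical, then for every
`k` there is `a ≡ a₀` modulo `(f a₀)` with `f a ∈ (f a₀ ^ (k+1))`. -/
theorem newton (f : A[X]) (a₀ : A) (hε : f.eval a₀ ∈ Ideal.jacobson (⊥ : Ideal A))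
    (hu : IsUnit (f.derivative.eval a₀)) (k : ℕ) :
    ∃ a : A, a - a₀ ∈ Ideal.span ({f.eval a₀} : Set A) ∧
      f.eval a ∈ Ideal.span ({f.eval a₀ ^ (k + 1)} : Set A) := by
  induction k with
  | zero =>
    refine ⟨a₀, by simp, ?_⟩
    simpa using Ideal.subset_span (Set.mem_singleton _)
  | succ k ih =>
    obtain ⟨a, ha1, ha2⟩ := ih
    have hspan : Ideal.span ({f.eval a₀} : Set A) ≤ Ideal.jacobson ⊥ := by
      rw [Ideal.span_le]
      intro x hx
      rw [Set.mem_singleton_iff] at hx
      subst hx
      exact hε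
    have hua : IsUnit (f.derivative.eval a) := isUnit_eval_of_sub_mem _ (hspan ha1) hu
    obtain ⟨v, hv⟩ := hua.exists_right_inv
    obtain ⟨c, hc⟩ := Ideal.mem_span_singleton'.1 ha2
    refine ⟨a - f.eval a * v, ?_, ?_⟩
    · have : a - f.eval a * v - a₀ = (a - a₀) - f.eval a * v := by ring
      rw [this]
      refine Ideal.sub_mem _ ha1 (Ideal.mul_mem_right _ _ ?_)
      rw [← hc, pow_succ]
      exact Ideal.mul_mem_left _ _ (Ideal.mul_mem_left _ _ (Ideal.subset_span (Set.mem_singleton _)))
    · obtain ⟨t, ht⟩ := f.binomExpansion a (-(f.eval a * v))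
      have e : a - f.eval a * v = a + -(f.eval a * v) := by ring
      rw [e, ht]
      have : f.eval a + f.derivative.eval a * -(f.eval a * v) + t * (-(f.eval a * v)) ^ 2
          = f.eval a * (1 - f.derivative.eval a * v) + t * v ^ 2 * (f.eval a) ^ 2 := by ring
      rw [this, hv, sub_self, mul_zero, zero_add, ← hc]
      rw [Ideal.mem_span_singleton']
      refine ⟨t * v ^ 2 * c ^ 2 * f.eval a₀ ^ k, ?_⟩
      ring

/-- If `a` is a root of `f` congruent to `a₀` modulo the Jacobson radical and `f' a₀` is a unit,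
then `a - a₀` is a multiple of `f a₀`. -/
theorem sub_mem_span_of_root (f : A[X]) {a a₀ : A} (hroot : f.eval a = 0)
    (hab : a - a₀ ∈ Ideal.jacobson (⊥ : Ideal A)) (hu : IsUnit (f.derivative.eval a₀)) :
    a - a₀ ∈ Ideal.span ({f.eval a₀} : Set A) := by
  have hua : IsUnit (f.derivative.eval a) := isUnit_eval_of_sub_mem _ hab hu
  obtain ⟨t, ht⟩ := f.binomExpansion a (a₀ - a)
  have e : a + (a₀ - a) = a₀ := by ring
  rw [e, hroot, zero_add] at ht
  have hab' : a₀ - a ∈ Ideal.jacobson (⊥ : Ideal A) := by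
    have : a₀ - a = -(a - a₀) := by ring
    rw [this]; exact Ideal.neg_mem_iff _ |>.2 hab
  have hw : IsUnit (f.derivative.eval a + t * (a₀ - a)) :=
    isUnit_add_of_mem_jacobson hua (Ideal.mul_mem_left _ _ hab')
  obtain ⟨w', hw'⟩ := hw.exists_right_inv
  rw [Ideal.mem_span_singleton']
  refine ⟨-w', ?_⟩
  rw [ht]
  have : -w' * (f.derivative.eval a * (a₀ - a) + t * (a₀ - a) ^ 2)
      = -((f.derivative.eval a + t * (a₀ - a)) * w') * (a₀ - a) := by ring
  rw [this, hw']
  ring

end Groth.Agent.Helper2.Hensel
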