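import Mathlib
import Groth.Prelude.Def_W4c5monodromycubicsHesse

/-! Flexes of the Hesse cubic. -/

namespace Groth.Agent.Helper2.Hesse

open MvPolynomial

/-- the Hesse cubic as a function -/
def H (k : ℂ) (u : Fin 3 → ℂ) : ℂ := u 0 ^ 3 + u 1 ^ 3 + u 2 ^ 3 - 3 * k * (u 0 * u 1 * u 2)

/-- a third of the derivative of `H` at `v` in the direction `w` -/
def G (k : ℂ) (v w : Fin 3 → ℂ) : ℂ :=
  (v 0 ^ 2 - k * v 1 * v 2) * w 0 + (v 1 ^ 2 - k * v 0 * v 2) * w 1 + (v 2 ^ 2 - k * v 0 * v 1) * w 2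

theorem eval_form (k : ℂ) (u : Fin 3 → ℂ) : eval u (HesseCubic.form k) = H k u := by
  simp [HesseCubic.form, H]

theorem H_expand (k : ℂ) (v w : Fin 3 → ℂ) (t : ℂ) :
    H k (v + t • w) = H k v + 3 * t * G k v w + 3 * t ^ 2 * G k w v + t ^ 3 * H k w := by
  simp only [H, G, Pi.add_apply, Pi.smul_apply, smul_eq_mul]
  ring

/-- the flex condition in terms of `G` -/
theorem flex_iff (k : ℂ) (v w : Fin 3 → ℂ) (hv : H k v = 0) :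
    (∀ t : ℂ, H k (v + t • w) = t ^ 3 * H k w) ↔ G k v w = 0 ∧ G k w v = 0 := by
  constructor
  · intro h
    have h1 := h 1
    have h2 := h (-1)
    rw [H_expand, hv] at h1 h2
    constructor
    · have : 6 * G k v w = 0 := by linear_combination h1 - h2
      simpa using this
    · have : 6 * G k w v = 0 := by linear_combination h1 + h2
      simpa using this
  · rintro ⟨h1, h2⟩ t
    rw [H_expand, hv, h1, h2]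
    ring

/-- the "Hessian" matrix -/
noncomputable def M (k : ℂ) (v : Fin 3 → ℂ) : Matrix (Fin 3) (Fin 3) ℂ :=
  !![v 0, -(k * v 2 / 2), -(k * v 1 / 2);
     -(k * v 2 / 2), v 1, -(k * v 0 / 2);
     -(k * v 1 / 2), -(k * v 0 / 2), v 2]

theorem det_M (k : ℂ) (v : Fin 3 → ℂ) :
    (M k v).det = v 0 * v 1 * v 2 * (1 - k ^ 3) - k ^ 2 / 4 * H k v := by
  rw [Matrix.det_fin_three]
  simp [M, H]
  ring

/-- bilinear form of `M` -/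
theorem M_bilin (k : ℂ) (v a b : Fin 3 → ℂ) :
    dotProduct a ((M k v).mulVec b) =
      v 0 * a 0 * b 0 + v 1 * a 1 * b 1 + v 2 * a 2 * b 2
        - k / 2 * (v 0 * (a 1 * b 2 + a 2 * b 1) + v 1 * (a 0 * b 2 + a 2 * b 0)
          + v 2 * (a 0 * b 1 + a 1 * b 0)) := by
  simp [dotProduct, Matrix.mulVec, M, Fin.sum_univ_three]
  ring

theorem cert0 (k v0 v1 v2 w0 w1 w2 : ℂ) (hH : (v0 ^ 3 + v1 ^ 3 + v2 ^ 3 - 3 * k * (v0 * v1 * v2)) = 0)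
    (h1 : ((v0 ^ 2 - k * v1 * v2) * w0 + (v1 ^ 2 - k * v0 * v2) * w1 + (v2 ^ 2 - k * v0 * v1) * w2) = 0)
    (h2 : ((w0 ^ 2 - k * w1 * w2) * v0 + (w1 ^ 2 - k * w0 * w2) * v1 + (w2 ^ 2 - k * w0 * w1) * v2) = 0) :
    (v0 * v1 * v2 * (1 - k ^ 3) - k ^ 2 / 4 * (v0 ^ 3 + v1 ^ 3 + v2 ^ 3 - 3 * k * (v0 * v1 * v2))) * (v1 * w2 - v2 * w1) ^ 2 = 0 := by
  linear_combination (((w0 ^ 2 - k * w1 * w2) * v0 + (w1 ^ 2 - k * w0 * w2) * v1 + (w2 ^ 2 - k * w0 * w1) * v2) * (v0 * 1 * 1 + v1 * 0 * 0 + v2 * 0 * 0 - k / 2 * (v0 * (0 * 0 + 0 * 0) + v1 * (1 * 0 + 0 * 1) + v2 * (1 * 0 + 0 * 1))) - (v0 * w0 * 1 + v1 * w1 * 0 + v2 * w2 * 0 - k / 2 * (v0 * (w1 * 0 + w2 * 0) + v1 * (w0 * 0 + w2 * 1) + v2 * (w0 * 0 + w1 * 1))) ^ 2) * hH +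
    (-((v0 ^ 2 - k * v1 * v2) * w0 + (v1 ^ 2 - k * v0 * v2) * w1 + (v2 ^ 2 - k * v0 * v1) * w2) * (v0 * 1 * 1 + v1 * 0 * 0 + v2 * 0 * 0 - k / 2 * (v0 * (0 * 0 + 0 * 0) + v1 * (1 * 0 + 0 * 1) + v2 * (1 * 0 + 0 * 1))) + 2 * (v0 * w0 * 1 + v1 * w1 * 0 + v2 * w2 * 0 - k / 2 * (v0 * (w1 * 0 + w2 * 0) + v1 * (w0 * 0 + w2 * 1) + v2 * (w0 * 0 + w1 * 1))) * (v0 * v0 * 1 + v1 * v1 * 0 + v2 * v2 * 0 - k / 2 * (v0 * (v1 * 0 + v2 * 0) + v1 * (v0 * 0 + v2 * 1) + v2 * (v0 * 0 + v1 * 1)))) * h1 + (-(v0 * v0 * 1 + v1 * v1 * 0 + v2 * v2 * 0 - k / 2 * (v0 * (v1 * 0 + v2 * 0) + v1 * (v0 * 0 + v2 * 1) + v2 * (v0 * 0 + v1 * 1))) ^ 2) * h2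

theorem cert1 (k v0 v1 v2 w0 w1 w2 : ℂ) (hH : (v0 ^ 3 + v1 ^ 3 + v2 ^ 3 - 3 * k * (v0 * v1 * v2)) = 0)
    (h1 : ((v0 ^ 2 - k * v1 * v2) * w0 + (v1 ^ 2 - k * v0 * v2) * w1 + (v2 ^ 2 - k * v0 * v1) * w2) = 0)
    (h2 : ((w0 ^ 2 - k * w1 * w2) * v0 + (w1 ^ 2 - k * w0 * w2) * v1 + (w2 ^ 2 - k * w0 * w1) * v2) = 0) :
    (v0 * v1 * v2 * (1 - k ^ 3) - k ^ 2 / 4 * (v0 ^ 3 + v1 ^ 3 + v2 ^ 3 - 3 * k * (v0 * v1 * v2))) * (v2 * w0 - v0 * w2) ^ 2 = 0 := by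
  linear_combination (((w0 ^ 2 - k * w1 * w2) * v0 + (w1 ^ 2 - k * w0 * w2) * v1 + (w2 ^ 2 - k * w0 * w1) * v2) * (v0 * 0 * 0 + v1 * 1 * 1 + v2 * 0 * 0 - k / 2 * (v0 * (1 * 0 + 0 * 1) + v1 * (0 * 0 + 0 * 0) + v2 * (0 * 1 + 1 * 0))) - (v0 * w0 * 0 + v1 * w1 * 1 + v2 * w2 * 0 - k / 2 * (v0 * (w1 * 0 + w2 * 1) + v1 * (w0 * 0 + w2 * 0) + v2 * (w0 * 1 + w1 * 0))) ^ 2) * hH +
    (-((v0 ^ 2 - k * v1 * v2) * w0 + (v1 ^ 2 - k * v0 * v2) * w1 + (v2 ^ 2 - k * v0 * v1) * w2) * (v0 * 0 * 0 + v1 * 1 * 1 + v2 * 0 * 0 - k / 2 * (v0 * (1 * 0 + 0 * 1) + v1 * (0 * 0 + 0 * 0) + v2 * (0 * 1 + 1 * 0))) + 2 * (v0 * w0 * 0 + v1 * w1 * 1 + v2 * w2 * 0 - k / 2 * (v0 * (w1 * 0 + w2 * 1) + v1 * (w0 * 0 + w2 * 0) + v2 * (w0 * 1 + w1 * 0))) * (v0 * v0 * 0 + v1 * v1 * 1 + v2 * v2 * 0 - k / 2 * (v0 * (v1 * 0 + v2 * 1) + v1 * (v0 * 0 + v2 * 0) +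 v2 * (v0 * 1 + v1 * 0)))) * h1 + (-(v0 * v0 * 0 + v1 * v1 * 1 + v2 * v2 * 0 - k / 2 * (v0 * (v1 * 0 + v2 * 1) + v1 * (v0 * 0 + v2 * 0) + v2 * (v0 * 1 + v1 * 0))) ^ 2) * h2

theorem cert2 (k v0 v1 v2 w0 w1 w2 : ℂ) (hH : (v0 ^ 3 + v1 ^ 3 + v2 ^ 3 - 3 * k * (v0 * v1 * v2)) = 0)
    (h1 : ((v0 ^ 2 - k * v1 * v2) * w0 + (v1 ^ 2 - k * v0 * v2) * w1 + (v2 ^ 2 - k * v0 * v1) * w2) = 0)
    (h2 : ((w0 ^ 2 - k * w1 * w2) * v0 + (w1 ^ 2 - k * w0 * w2) * v1 + (w2 ^ 2 - k * w0 * w1) * v2) = 0) :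
    (v0 * v1 * v2 * (1 - k ^ 3) - k ^ 2 / 4 * (v0 ^ 3 + v1 ^ 3 + v2 ^ 3 - 3 * k * (v0 * v1 * v2))) * (v0 * w1 - v1 * w0) ^ 2 = 0 := by
  linear_combination (((w0 ^ 2 - k * w1 * w2) * v0 + (w1 ^ 2 - k * w0 * w2) * v1 + (w2 ^ 2 - k * w0 * w1) * v2) * (v0 * 0 * 0 + v1 * 0 * 0 + v2 * 1 * 1 - k / 2 * (v0 * (0 * 1 + 1 * 0) + v1 * (0 * 1 + 1 * 0) + v2 * (0 * 0 + 0 * 0))) - (v0 * w0 * 0 + v1 * w1 * 0 + v2 * w2 * 1 - k / 2 * (v0 * (w1 * 1 + w2 * 0) + v1 * (w0 * 1 + w2 * 0) + v2 * (w0 * 0 + w1 * 0))) ^ 2) * hH +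
    (-((v0 ^ 2 - k * v1 * v2) * w0 + (v1 ^ 2 - k * v0 * v2) * w1 + (v2 ^ 2 - k * v0 * v1) * w2) * (v0 * 0 * 0 + v1 * 0 * 0 + v2 * 1 * 1 - k / 2 * (v0 * (0 * 1 + 1 * 0) + v1 * (0 * 1 + 1 * 0) + v2 * (0 * 0 + 0 * 0))) + 2 * (v0 * w0 * 0 + v1 * w1 * 0 + v2 * w2 * 1 - k / 2 * (v0 * (w1 * 1 + w2 * 0) + v1 * (w0 * 1 + w2 * 0) + v2 * (w0 * 0 + w1 * 0))) * (v0 * v0 * 0 + v1 * v1 * 0 + v2 * v2 * 1 - k / 2 * (v0 * (v1 * 1 + v2 * 0) + v1 * (v0 * 1 + v2 * 0) + v2 * (v0 * 0 + v1 * 0)))) * h1 + (-(v0 * v0 * 0 + v1 * v1 * 0 + v2 * v2 * 1 - k / 2 * (v0 * (v1 * 1 + v2 * 0) + v1 * (v0 * 1 + v2 * 0) + v2 * (v0 * 0 + v1 * 0))) ^ 2) * h2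

/-- a flex of the Hesse cubic lies on a coordinate line -/
theorem flex_coord (k : ℂ) (hk : k ^ 3 ≠ 1) (v w : Fin 3 → ℂ) (hv : v ≠ 0)
    (hind : LinearIndependent ℂ ![v, w]) (hH : H k v = 0) (h1 : G k v w = 0) (h2 : G k w v = 0) :
    v 0 * v 1 * v 2 = 0 := by
  have hdet : v 0 * v 1 * v 2 * (1 - k ^ 3) - k ^ 2 / 4 * H k v = 0 := by
    have c0 := cert0 k (v 0) (v 1) (v 2) (w 0) (w 1) (w 2) hH h1 h2
    have c1 := cert1 k (v 0) (v 1) (v 2) (w 0) (w 1) (w 2) hH h1 h2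
    have c2 := cert2 k (v 0) (v 1) (v 2) (w 0) (w 1) (w 2) hH h1 h2
    by_contra hne
    have hc0 : v 1 * w 2 - v 2 * w 1 = 0 := by
      rcases mul_eq_zero.mp c0 with h | h
      · exact absurd h hne
      · exact pow_eq_zero_iff (by norm_num) |>.mp h
    have hc1 : v 2 * w 0 - v 0 * w 2 = 0 := by
      rcases mul_eq_zero.mp c1 with h | h
      · exact absurd h hne
      · exact pow_eq_zero_iff (by norm_num) |>.mp h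
    have hc2 : v 0 * w 1 - v 1 * w 0 = 0 := by
      rcases mul_eq_zero.mp c2 with h | h
      · exact absurd h hne
      · exact pow_eq_zero_iff (by norm_num) |>.mp h
    -- `v` and `w` are dependent
    rw [LinearIndependent.pair_iff] at hind
    have hex : ∃ i, v i ≠ 0 := by
      by_contra hcon
      push Not at hcon
      exact hv (funext hcon)
    obtain ⟨i, hi⟩ := hex
    have hdep : (-(w i)) • v + (v i) • w = 0 := by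
      funext j
      simp only [Pi.add_apply, Pi.smul_apply, smul_eq_mul, Pi.zero_apply]
      fin_cases i <;> fin_cases j <;> simp <;>
        first
        | ring1
        | linear_combination hc0
        | linear_combination -hc0
        | linear_combination hc1
        | linear_combination -hc1
        | linear_combination hc2
        | linear_combination -hc2
    exact hi (hind _ _ hdep).2
  unfold H at hH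
  rw [show H k v = 0 from hH] at hdet
  have h3 : v 0 * v 1 * v 2 * (1 - k ^ 3) = 0 := by linear_combination hdet
  rcases mul_eq_zero.mp h3 with h | h
  · exact h
  · exact absurd (by linear_combination -h : k ^ 3 = 1) hk

end Groth.Agent.Helper2.Hesse
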