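import Mathlib
import Groth.Agent.Lib.Helper2.CubicForm
import Groth.Agent.Lib.Helper2.CubicEckardt
import Groth.Agent.Lib.Helper2.CubicPoly
import Groth.Agent.Lib.Helper2.CommonZero

/-! Existence of a flex on a smooth plane cubic. -/

set_option linter.unusedSectionVars false

namespace Groth.Agent.Helper2.Cubic

open MvPolynomial Module

/-- expansion of a vector in the standard basis -/
theorem vec_eq_sum (v : Fin 3 → ℂ) : v = ∑ k, v k • (Pi.single k (1 : ℂ) : Fin 3 → ℂ) := by
  funext j
  simp [Finset.sum_apply, Pi.single_apply]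

/-- the Hessian polynomial of a symmetric trilinear form on `ℂ³` -/
noncomputable def hessMat (S : SymTri (Fin 3 → ℂ)) :
    Matrix (Fin 3) (Fin 3) (MvPolynomial (Fin 3) ℂ) :=
  Matrix.of fun i j => ∑ k, C (S.T (Pi.single k 1) (Pi.single i 1) (Pi.single j 1)) * X k

theorem eval_hessMat (S : SymTri (Fin 3 → ℂ)) (v : Fin 3 → ℂ) (i j : Fin 3) :
    eval v (hessMat S i j) = S.T v (Pi.single i 1) (Pi.single j 1) := by
  simp only [hessMat, Matrix.of_apply, map_sum, map_mul, eval_C, eval_X]
  conv_rhs => rw [vec_eq_sum v]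
  simp only [map_sum, map_smul, LinearMap.sum_apply, LinearMap.smul_apply, smul_eq_mul]
  refine Finset.sum_congr rfl (fun k _ => ?_)
  ring

theorem eval_det_hessMat (S : SymTri (Fin 3 → ℂ)) (v : Fin 3 → ℂ) :
    eval v (hessMat S).det =
      (Matrix.of fun i j => S.T v (Pi.single i 1) (Pi.single j 1) : Matrix (Fin 3) (Fin 3) ℂ).det := by
  rw [RingHom.map_det]
  congr 1
  ext i j
  simp only [RingHom.mapMatrix_apply, Matrix.map_apply, Matrix.of_apply]
  exact eval_hessMat S v i j

/-- existence of a flex, in the strong form: a point `p` of the curve and a direction `u`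
with `T p u · = 0` -/
theorem exists_flex (f : MvPolynomial (Fin 3) ℂ) (hf : f.IsHomogeneous 3)
    (hs : (symTriOf f).Smooth) :
    ∃ p u : Fin 3 → ℂ, p ≠ 0 ∧ (symTriOf f).q p = 0 ∧ u ∉ Submodule.span ℂ {p} ∧
      ∀ w, (symTriOf f).T p u w = 0 := by
  classical
  set S := symTriOf f with hS
  obtain ⟨p, hp0, hp⟩ := CommonZero.exists_common_zero ℂ 3 {f, (hessMat S).det}
    (lt_of_le_of_lt (Finset.card_insert_le _ _) (by simp)) (by
      intro g hg
      rcases Finset.mem_insert.mp hg with rfl | hg
      · rw [← symTriOf_q hf]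
        show S.T 0 0 0 = 0
        simp
      · rw [Finset.mem_singleton.mp hg, eval_det_hessMat]
        have : (Matrix.of fun i j => S.T 0 (Pi.single i 1) (Pi.single j 1) :
            Matrix (Fin 3) (Fin 3) ℂ) = 0 := by
          ext i j; simp
        rw [this, Matrix.det_zero])
  have hqp : S.q p = 0 := by
    rw [symTriOf_q hf]
    exact hp f (Finset.mem_insert_self _ _)
  have hdet := hp (hessMat S).det (Finset.mem_insert_of_mem (Finset.mem_singleton_self _))
  rw [eval_det_hessMat] at hdet
  obtain ⟨u, hu0, hu⟩ := Matrix.exists_mulVec_eq_zero_iff.mpr hdet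
  have hu' : ∀ i, S.T p (Pi.single i 1) u = 0 := by
    intro i
    have := congrFun hu i
    simp only [Matrix.mulVec, dotProduct, Matrix.of_apply, Pi.zero_apply] at this
    conv_lhs => rw [vec_eq_sum u]
    simp only [map_sum, map_smul, smul_eq_mul]
    rw [← this]
    refine Finset.sum_congr rfl (fun k _ => ?_)
    ring
  have hall : ∀ w, S.T p u w = 0 := by
    intro w
    rw [S.s23 p u w]
    conv_lhs => rw [vec_eq_sum w]
    simp only [map_sum, map_smul, LinearMap.sum_apply, LinearMap.smul_apply, smul_eq_mul, hu',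
      mul_zero, Finset.sum_const_zero]
  refine ⟨p, u, hp0, hqp, ?_, hall⟩
  intro hmem
  obtain ⟨l, hl⟩ := Submodule.mem_span_singleton.mp hmem
  have hl0 : l ≠ 0 := by
    rintro rfl
    rw [zero_smul] at hl
    exact hu0 hl.symm
  obtain ⟨w, hw⟩ := hs p hp0 hqp
  apply hw
  have := hall w
  rw [← hl, map_smul, LinearMap.smul_apply, smul_eq_mul] at this
  exact (mul_eq_zero.mp this).resolve_left hl0

end Groth.Agent.Helper2.Cubic
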