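import Mathlib
import Groth.Agent.Lib.Helper2.CubicForm
import Groth.Agent.Lib.Helper2.CubicEckardt

/-! Weierstrass form of a smooth plane cubic with a flex. -/

set_option linter.unusedSectionVars false

namespace Groth.Agent.Helper2.Cubic

open Module

variable {V : Type*} [AddCommGroup V] [Module ℂ V] [FiniteDimensional ℂ V]

namespace SymTri

variable {S : SymTri V}

theorem span3 (hV : finrank ℂ V = 3) (b : Fin 3 → V) (hb : LinearIndependent ℂ b) (v : V) :
    ∃ c : Fin 3 → ℂ, v = ∑ i, c i • b i := by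
  let B := basisOfLinearIndependentOfCardEqFinrank hb (by simp [hV])
  refine ⟨fun i => B.repr v i, ?_⟩
  have := B.sum_repr v
  simp only [B, coe_basisOfLinearIndependentOfCardEqFinrank] at this
  exact this.symm

theorem indep3 {u p r : V} (hp0 : p ≠ 0) (hu : u ∉ Submodule.span ℂ {p}) (ℓ : V →ₗ[ℂ] ℂ)
    (hℓp : ℓ p = 0) (hℓu : ℓ u = 0) (hℓr : ℓ r ≠ 0) : LinearIndependent ℂ ![u, p, r] := by
  rw [Fintype.linearIndependent_iff]
  intro c hc
  simp only [Fin.sum_univ_three, Matrix.cons_val_zero, Matrix.cons_val_one, Matrix.cons_val_two,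
    Matrix.head_cons, Matrix.tail_cons] at hc
  have h2 : c 2 = 0 := by
    have := congrArg ℓ hc
    simp only [map_add, map_smul, hℓp, hℓu, smul_eq_mul, mul_zero, zero_add, map_zero] at this
    exact (mul_eq_zero.mp this).resolve_right hℓr
  have hc' : c 0 • u + c 1 • p = 0 := by
    have : c 2 • r = 0 := by rw [h2, zero_smul]
    rw [← hc]
    simp [this]
  have h0 : c 0 = 0 := by
    by_contra h0
    apply hu
    rw [Submodule.mem_span_singleton]
    refine ⟨-((c 0)⁻¹ * c 1), ?_⟩
    have h1 : c 0 • u = -(c 1 • p) := eq_neg_of_add_eq_zero_left hc'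
    have h3 : u = (c 0)⁻¹ • (c 0 • u) := by rw [smul_smul, inv_mul_cancel₀ h0, one_smul]
    rw [h3, h1, smul_neg, smul_smul, neg_smul]
  have h1 : c 1 = 0 := by
    rw [h0, zero_smul, zero_add] at hc'
    exact (smul_eq_zero.mp hc').resolve_right hp0
  intro i
  fin_cases i
  · exact h0
  · exact h1
  · exact h2

/-- expansion of the cubic in a frame adapted to a flex -/
theorem q_frame {u p : V} (hq : S.q p = 0) (hpu : ∀ w, S.T p u w = 0) (r : V) (x y z : ℂ) :
    S.q (x • u + y • p + z • r) =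
      x ^ 3 * S.q u + 3 * x ^ 2 * z * S.T u u r + 3 * x * z ^ 2 * S.T u r r + z ^ 3 * S.q r
        + 3 * y ^ 2 * z * S.T p p r + 3 * y * z ^ 2 * S.T p r r := by
  have e : x • u + y • p + z • r = (1 : ℂ) • (x • u + z • r) + y • p := by
    rw [one_smul]; abel
  rw [e, S.q_lin2, hq, S.q_lin2]
  have e1 : S.T (x • u + z • r) (x • u + z • r) p = z ^ 2 * S.T p r r := by
    rw [S.T_lin2]
    have h1 : S.T u u p = 0 := by rw [S.s13 u u p]; exact hpu u
    have h2 : S.T u r p = 0 := by rw [S.s13 u r p, S.s23 p r u]; exact hpu r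
    rw [h1, h2, S.s13 r r p]
    ring
  have e2 : S.T (x • u + z • r) p p = z * S.T p p r := by
    rw [map_add, map_smul, map_smul, LinearMap.add_apply, LinearMap.add_apply,
      LinearMap.smul_apply, LinearMap.smul_apply, LinearMap.smul_apply, LinearMap.smul_apply]
    have h1 : S.T u p p = 0 := by rw [S.s12 u p p]; exact hpu p
    rw [h1, S.s13 r p p]
    simp
  rw [e1, e2]
  ring

/-- `q u ≠ 0` for the flex direction `u` -/
theorem q_flexdir_ne_zero (hV : finrank ℂ V = 3) (hs : S.Smooth) {u p : V} (hp0 : p ≠ 0)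
    (hq : S.q p = 0) (hu : u ∉ Submodule.span ℂ {p}) (hpu : ∀ w, S.T p u w = 0) : S.q u ≠ 0 := by
  intro hqu
  obtain ⟨w0, hw0⟩ := hs p hp0 hq
  have hpp_u : S.T p p u = 0 := by rw [S.s23 p p u]; exact hpu p
  have hpp_p : S.T p p p = 0 := hq
  have hind := indep3 hp0 hu (S.T p p) hpp_p hpp_u hw0
  -- `q` vanishes on `span {u, p}`
  have hline : ∀ x y : ℂ, S.q (x • u + y • p) = 0 := by
    intro x y
    have := q_frame hq hpu (0 : V) x y 0
    simp only [zero_smul, add_zero] at this
    rw [this, hqu]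
    ring
  have hTL := S.T_eq_zero_of_q (Submodule.span ℂ {u, p}) (by
    intro v hv
    obtain ⟨x, y, rfl⟩ := Submodule.mem_span_pair.mp hv
    exact hline x y)
  have huL : u ∈ Submodule.span ℂ {u, p} := Submodule.subset_span (by simp)
  have hpL : p ∈ Submodule.span ℂ {u, p} := Submodule.subset_span (by simp)
  -- a singular point on the line
  obtain ⟨x, y, hxy, hsing⟩ : ∃ x y : ℂ, (x ≠ 0 ∨ y ≠ 0) ∧
      S.T (x • u + y • p) (x • u + y • p) w0 = 0 := by
    by_cases ht : S.T u u w0 = 0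
    · refine ⟨1, 0, Or.inl one_ne_zero, ?_⟩
      simp [ht]
    · obtain ⟨x, hx⟩ := IsAlgClosed.exists_pow_nat_eq (-(S.T p p w0) / S.T u u w0) (n := 2)
        (by norm_num)
      refine ⟨x, 1, Or.inr one_ne_zero, ?_⟩
      rw [S.T_lin2, S.s12 u p w0, hpu w0, hx]
      field_simp
      ring
  have hv0 : x • u + y • p ≠ 0 := by
    intro h
    have h3 : ![x, y, 0] = 0 := by
      have := Fintype.linearIndependent_iff.mp hind ![x, y, 0] (by
        simp [Fin.sum_univ_three, h])
      funext i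
      exact this i
    have hx : x = 0 := by simpa using congrFun h3 0
    have hy : y = 0 := by simpa using congrFun h3 1
    rcases hxy with h | h
    · exact h hx
    · exact h hy
  have hvL : x • u + y • p ∈ Submodule.span ℂ {u, p} :=
    Submodule.add_mem _ (Submodule.smul_mem _ _ huL) (Submodule.smul_mem _ _ hpL)
  obtain ⟨w, hw⟩ := hs _ hv0 (hline x y)
  apply hw
  obtain ⟨c, rfl⟩ := span3 hV _ hind w
  have k1 := hTL _ hvL _ hvL u huL
  have k2 := hTL _ hvL _ hvL p hpL
  generalize x • u + y • p = v at k1 k2 hsing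
  simp only [Fin.sum_univ_three, Matrix.cons_val_zero, Matrix.cons_val_one, Matrix.cons_val_two,
    Matrix.head_cons, Matrix.tail_cons, map_add, map_smul, smul_eq_mul]
  rw [k1, k2, hsing]
  ring

/-- Weierstrass form of a smooth plane cubic with a flex -/
theorem exists_weierstrass (hV : finrank ℂ V = 3) (hs : S.Smooth) {u p : V} (hp0 : p ≠ 0)
    (hq : S.q p = 0) (hu : u ∉ Submodule.span ℂ {p}) (hpu : ∀ w, S.T p u w = 0) :
    ∃ (r : V) (μ a b : ℂ), μ ≠ 0 ∧ LinearIndependent ℂ ![u, p, r] ∧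
      ∀ x y z : ℂ, S.q (x • u + y • p + z • r) =
        μ * (y ^ 2 * z - x ^ 3 - a * x * z ^ 2 - b * z ^ 3) := by
  have hc3 := q_flexdir_ne_zero hV hs hp0 hq hu hpu
  obtain ⟨w0, hw0⟩ := hs p hp0 hq
  have hpp_u : S.T p p u = 0 := by rw [S.s23 p p u]; exact hpu p
  have hpp_p : S.T p p p = 0 := hq
  have hpup : S.T p u p = 0 := hpu p
  set g0 := S.T p p w0 with hg0
  set c3 := S.q u with hc3def
  set ε := S.T p w0 w0 / (2 * g0) with hε
  set ε' := S.T u u w0 / c3 with hε'
  set lam := -c3 / (3 * g0) with hlam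
  have hlam0 : lam ≠ 0 := by
    rw [hlam]
    exact div_ne_zero (neg_ne_zero.mpr hc3) (mul_ne_zero (by norm_num) hw0)
  set r' := w0 - ε • p - ε' • u with hr'
  have h1 : S.T p p r' = g0 := by
    rw [hr', map_sub, map_sub, map_smul, map_smul, hpp_p, hpp_u, smul_zero, smul_zero, sub_zero,
      sub_zero]
  have h2 : S.T p r' r' = 0 := by
    have e1 : S.T p r' = S.T p w0 - ε • S.T p p := by
      rw [hr', map_sub, map_sub, map_smul, map_smul]
      have : S.T p u = 0 := by ext w; exact hpu w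
      rw [this]; simp
    rw [e1, LinearMap.sub_apply, LinearMap.smul_apply, h1, hr', map_sub, map_sub, map_smul,
      map_smul, S.s23 p w0 p, ← hg0, S.s23 p w0 u, hpu w0, smul_eq_mul, smul_eq_mul, hε]
    field_simp
    ring
  have h3 : S.T u u r' = 0 := by
    rw [hr', map_sub, map_sub, map_smul, map_smul]
    have e1 : S.T u u p = 0 := by rw [S.s13 u u p]; exact hpu u
    have e2 : S.T u u u = c3 := rfl
    rw [e1, e2, smul_eq_mul, smul_eq_mul, hε']
    field_simp
    ring
  refine ⟨lam • r', -c3, 3 * S.T u (lam • r') (lam • r') / c3, S.q (lam • r') / c3,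
    neg_ne_zero.mpr hc3, ?_, ?_⟩
  · refine indep3 hp0 hu (S.T p p) hpp_p hpp_u ?_
    rw [map_smul, h1, smul_eq_mul]
    exact mul_ne_zero hlam0 hw0
  · intro x y z
    rw [q_frame hq hpu]
    have k1 : S.T u u (lam • r') = 0 := by rw [map_smul, h3, smul_zero]
    have k2 : S.T p (lam • r') (lam • r') = 0 := by
      simp only [map_smul, LinearMap.smul_apply, h2, smul_zero]
    have k3 : S.T p p (lam • r') = -c3 / 3 := by
      rw [map_smul, h1, smul_eq_mul, hlam]
      field_simp
    rw [k1, k2, k3]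
    field_simp
    ring

end SymTri

end Groth.Agent.Helper2.Cubic
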