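import Mathlib
import Groth.Agent.Lib.Helper2.CubicForm
import Groth.Agent.Lib.Helper2.CubicEckardt
import Groth.Agent.Lib.Helper2.HesseWeier

/-! From the Weierstrass form to the Hesse form of a smooth plane cubic. -/

set_option linter.unusedSectionVars false

namespace Groth.Agent.Helper2.Cubic

open Module

variable {V : Type*} [AddCommGroup V] [Module ℂ V] [FiniteDimensional ℂ V]

namespace SymTri

variable {S : SymTri V}

theorem indep_of_det {b : Fin 3 → V} (hb : LinearIndependent ℂ b)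
    (M : Matrix (Fin 3) (Fin 3) ℂ) (hM : M.det ≠ 0) :
    LinearIndependent ℂ (fun j => ∑ i, M i j • b i) := by
  rw [Fintype.linearIndependent_iff] at hb ⊢
  intro c hc
  have h1 : ∑ i, (M.mulVec c) i • b i = 0 := by
    rw [← hc]
    simp only [Matrix.mulVec, dotProduct, Finset.sum_smul, Finset.smul_sum, smul_smul]
    rw [Finset.sum_comm]
    refine Finset.sum_congr rfl fun j _ => Finset.sum_congr rfl fun i _ => ?_
    rw [mul_comm]
  have h0 := hb _ h1
  have h2 : M.mulVec c = 0 := funext h0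
  have h3 := Matrix.eq_zero_of_mulVec_eq_zero hM h2
  intro i; rw [h3]; rfl

/-- a singular point of the Weierstrass cubic contradicts smoothness -/
theorem weier_sing (hV : finrank ℂ V = 3) (hs : S.Smooth) {u p r : V}
    (hind : LinearIndependent ℂ ![u, p, r]) {μ a b : ℂ}
    (hq : ∀ x y z : ℂ, S.q (x • u + y • p + z • r) =
      μ * (y ^ 2 * z - x ^ 3 - a * x * z ^ 2 - b * z ^ 3))
    (x0 y0 z0 : ℂ) (hne : ¬ (x0 = 0 ∧ y0 = 0 ∧ z0 = 0))
    (h1 : 3 * x0 ^ 2 + a * z0 ^ 2 = 0) (h2 : y0 * z0 = 0)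
    (h3 : y0 ^ 2 - 2 * a * x0 * z0 - 3 * b * z0 ^ 2 = 0) : False := by
  have hv0 : x0 • u + y0 • p + z0 • r ≠ 0 := by
    intro h
    have h3 : ![x0, y0, z0] = 0 := by
      have := Fintype.linearIndependent_iff.mp hind ![x0, y0, z0] (by
        simpa [Fin.sum_univ_three] using h)
      funext i
      exact this i
    apply hne
    refine ⟨by simpa using congrFun h3 0, by simpa using congrFun h3 1,
      by simpa using congrFun h3 2⟩
  have hqv : S.q (x0 • u + y0 • p + z0 • r) = 0 := by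
    rw [hq]
    linear_combination (μ / 3) * (-x0 * h1 + 2 * y0 * h2 + z0 * h3)
  obtain ⟨w, hw⟩ := hs _ hv0 hqv
  apply hw
  obtain ⟨c, rfl⟩ := span3 hV _ hind w
  simp only [Fin.sum_univ_three, Matrix.cons_val_zero, Matrix.cons_val_one, Matrix.cons_val_two,
    Matrix.head_cons, Matrix.tail_cons]
  have ka := S.q_add (x0 • u + y0 • p + z0 • r) (c 0 • u + c 1 • p + c 2 • r)
  have ks := S.q_sub (x0 • u + y0 • p + z0 • r) (c 0 • u + c 1 • p + c 2 • r)
  have ea : x0 • u + y0 • p + z0 • r + (c 0 • u + c 1 • p + c 2 • r) =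
      (x0 + c 0) • u + (y0 + c 1) • p + (z0 + c 2) • r := by module
  have es : x0 • u + y0 • p + z0 • r - (c 0 • u + c 1 • p + c 2 • r) =
      (x0 - c 0) • u + (y0 - c 1) • p + (z0 - c 2) • r := by module
  rw [ea, hq, hq, hq] at ka
  rw [es, hq, hq, hq] at ks
  linear_combination (-1 / 6 : ℂ) * ka + (1 / 6 : ℂ) * ks
    + (μ / 3) * (-(c 0) * h1 + 2 * c 1 * h2 + c 2 * h3)

theorem exists_alpha (hV : finrank ℂ V = 3) (hs : S.Smooth) {u p r : V}
    (hind : LinearIndependent ℂ ![u, p, r]) {μ a b : ℂ}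
    (hq : ∀ x y z : ℂ, S.q (x • u + y • p + z • r) =
      μ * (y ^ 2 * z - x ^ 3 - a * x * z ^ 2 - b * z ^ 3)) :
    ∃ α : ℂ, 3 * α ^ 4 + 6 * a * α ^ 2 + 12 * b * α - a ^ 2 = 0 ∧ 3 * α ^ 2 + a ≠ 0 := by
  by_cases ha : a = 0
  · subst ha
    have hb : b ≠ 0 := by
      intro hb
      refine weier_sing hV hs hind hq 0 0 1 (by simp) (by ring) (by ring) ?_
      rw [hb]; ring
    obtain ⟨α, hα⟩ := IsAlgClosed.exists_pow_nat_eq (-4 * b) (n := 3) (by norm_num)
    have hα0 : α ≠ 0 := by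
      intro h
      rw [h] at hα
      have : (4 : ℂ) * b = 0 := by linear_combination hα
      rcases mul_eq_zero.mp this with h4 | h4
      · norm_num at h4
      · exact hb h4
    refine ⟨α, ?_, ?_⟩
    · linear_combination (3 * α) * hα
    · rw [add_zero]
      exact mul_ne_zero (by norm_num) (pow_ne_zero 2 hα0)
  · let P : Polynomial ℂ := Polynomial.C 3 * Polynomial.X ^ 4 + Polynomial.C (6 * a) * Polynomial.X ^ 2
      + Polynomial.C (12 * b) * Polynomial.X - Polynomial.C (a ^ 2)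
    have hdeg : P.natDegree = 4 := by
      simp only [P]
      compute_degree!
    have hdeg' : P.degree ≠ 0 := by
      intro h
      have := Polynomial.natDegree_eq_of_degree_eq_some h
      rw [hdeg] at this
      norm_num at this
    obtain ⟨α, hα⟩ := IsAlgClosed.exists_root P hdeg'
    have hα' : 3 * α ^ 4 + 6 * a * α ^ 2 + 12 * b * α - a ^ 2 = 0 := by
      have := hα
      simp only [P, Polynomial.IsRoot.def, Polynomial.eval_add, Polynomial.eval_sub,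
        Polynomial.eval_mul, Polynomial.eval_C, Polynomial.eval_pow, Polynomial.eval_X] at this
      exact this
    refine ⟨α, hα', ?_⟩
    intro h
    have hα0 : α ≠ 0 := by
      intro h0
      rw [h0] at h
      apply ha
      linear_combination h
    have ha' : a = -3 * α ^ 2 := by linear_combination h
    have hb' : b = 2 * α ^ 3 := by
      have h12 : 12 * α * (b - 2 * α ^ 3) = 0 := by
        rw [ha'] at hα'
        linear_combination hα'
      have := (mul_eq_zero.mp h12).resolve_left (mul_ne_zero (by norm_num) hα0)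
      linear_combination this
    refine weier_sing hV hs hind hq α 0 1 (by simp) ?_ (by ring) ?_
    · linear_combination h
    · rw [ha', hb']; ring

theorem lemmaA (A β X Y Z : ℂ) (hA : A ≠ 0) (hβ : β ≠ 0) :
    (A * (Y - Z) / (2 * β)) ^ 2 * (A * X / (2 * β ^ 2))
      - (X + Y + Z + (A * (A ^ 2 / (12 * β ^ 2)) / (2 * β ^ 2)) * X) ^ 3
      - (-A - 3 * (A ^ 2 / (12 * β ^ 2)) ^ 2)
          * (X + Y + Z + (A * (A ^ 2 / (12 * β ^ 2)) / (2 * β ^ 2)) * X) * (A * X / (2 * β ^ 2)) ^ 2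
      - (β ^ 2 + 2 * (A ^ 2 / (12 * β ^ 2)) ^ 3 + A * (A ^ 2 / (12 * β ^ 2)))
          * (A * X / (2 * β ^ 2)) ^ 3
      = -(X + Y + Z) ^ 3 - (A ^ 3 / (2 * β ^ 4)) * (X * Y * Z) := by
  field_simp
  ring

theorem lemmaS1 (A β : ℂ) (hA : A ≠ 0) (hβ : β ≠ 0) :
    3 * (3 + A * (A ^ 2 / (12 * β ^ 2)) / (2 * β ^ 2)) ^ 2
      + (-A - 3 * (A ^ 2 / (12 * β ^ 2)) ^ 2) * (A / (2 * β ^ 2)) ^ 2
      = 27 + A ^ 3 / (2 * β ^ 4) := by
  field_simp
  ring

theorem lemmaS3 (A β : ℂ) (hA : A ≠ 0) (hβ : β ≠ 0) :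
    (0 : ℂ) ^ 2 - 2 * (-A - 3 * (A ^ 2 / (12 * β ^ 2)) ^ 2)
        * (3 + A * (A ^ 2 / (12 * β ^ 2)) / (2 * β ^ 2)) * (A / (2 * β ^ 2))
      - 3 * (β ^ 2 + 2 * (A ^ 2 / (12 * β ^ 2)) ^ 3 + A * (A ^ 2 / (12 * β ^ 2)))
        * (A / (2 * β ^ 2)) ^ 2
      = (A / (2 * β ^ 2)) * A / 6 * (27 + A ^ 3 / (2 * β ^ 4)) := by
  field_simp
  ring

theorem lemmaB (ω a b c : ℂ) (hω : ω ^ 2 + ω + 1 = 0) :
    (a + b + c) * (a + ω ^ 2 * b + ω * c) * (a + ω * b + ω ^ 2 * c)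
      = a ^ 3 + b ^ 3 + c ^ 3 - 3 * (a * b * c) := by
  linear_combination ((a + b + c) * ((a * b + a * c) + (ω - 1) * (b ^ 2 + c ^ 2)
    + (ω ^ 2 - ω + 1) * (b * c))) * hω

theorem exists_hesse_of_weier (hV : finrank ℂ V = 3) (hs : S.Smooth) {u p r : V}
    (hind : LinearIndependent ℂ ![u, p, r]) {μ a b : ℂ} (hμ : μ ≠ 0)
    (hq : ∀ x y z : ℂ, S.q (x • u + y • p + z • r) =
      μ * (y ^ 2 * z - x ^ 3 - a * x * z ^ 2 - b * z ^ 3)) :
    ∃ (e0 e1 e2 : V) (k c : ℂ), LinearIndependent ℂ ![e0, e1, e2] ∧ k ^ 3 ≠ 1 ∧ c ≠ 0 ∧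
      ∀ x y z : ℂ, S.q (x • e0 + y • e1 + z • e2) =
        c * (x ^ 3 + y ^ 3 + z ^ 3 - 3 * k * (x * y * z)) := by
  obtain ⟨α, hψ, hA0⟩ := exists_alpha hV hs hind hq
  obtain ⟨A, hAdef⟩ : ∃ A : ℂ, A = -(3 * α ^ 2 + a) := ⟨_, rfl⟩
  have hA : A ≠ 0 := by rw [hAdef]; exact neg_ne_zero.mpr hA0
  obtain ⟨β, hβ⟩ := IsAlgClosed.exists_pow_nat_eq (α ^ 3 + a * α + b) (n := 2) (by norm_num)
  have hrel : 12 * α * β ^ 2 = A ^ 2 := by rw [hβ, hAdef]; linear_combination hψ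
  have hβ0 : β ≠ 0 := by
    intro h
    rw [h] at hrel
    apply hA
    have : A ^ 2 = 0 := by rw [← hrel]; ring
    exact (pow_eq_zero_iff two_ne_zero).mp this
  have hα : α = A ^ 2 / (12 * β ^ 2) := by
    field_simp
    linear_combination hrel
  have ha : a = -A - 3 * α ^ 2 := by rw [hAdef]; ring
  have hb : b = β ^ 2 + 2 * α ^ 3 + A * α := by rw [hβ, hAdef]; ring
  clear hψ hA0 hAdef hβ hrel
  subst ha
  subst hb
  subst hα
  have h2β : (2 : ℂ) * β ^ 2 ≠ 0 := mul_ne_zero two_ne_zero (pow_ne_zero 2 hβ0)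
  have hδ0 : A ^ 3 / (2 * β ^ 4) ≠ 0 :=
    div_ne_zero (pow_ne_zero 3 hA) (mul_ne_zero two_ne_zero (pow_ne_zero 4 hβ0))
  have hδ : 27 + A ^ 3 / (2 * β ^ 4) ≠ 0 := by
    intro h
    refine weier_sing hV hs hind hq (3 + A * (A ^ 2 / (12 * β ^ 2)) / (2 * β ^ 2)) 0
      (A / (2 * β ^ 2)) ?_ ?_ (by ring) ?_
    · rintro ⟨-, -, h3⟩
      exact (div_ne_zero hA h2β) h3
    · rw [lemmaS1 A β hA hβ0, h]
    · rw [lemmaS3 A β hA hβ0, h, mul_zero]
  set δ := A ^ 3 / (2 * β ^ 4) with hδdef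
  set κ := A * (A ^ 2 / (12 * β ^ 2)) / (2 * β ^ 2) with hκ
  -- first frame
  obtain ⟨e0, he0⟩ : ∃ e0 : V, e0 = (1 + κ) • u + (A / (2 * β ^ 2)) • r := ⟨_, rfl⟩
  obtain ⟨e1, he1⟩ : ∃ e1 : V, e1 = u + (A / (2 * β)) • p := ⟨_, rfl⟩
  obtain ⟨e2, he2⟩ : ∃ e2 : V, e2 = u - (A / (2 * β)) • p := ⟨_, rfl⟩
  have hind1 : LinearIndependent ℂ ![e0, e1, e2] := by
    have hdet : (!![1 + κ, 1, 1; 0, A / (2 * β), -(A / (2 * β)); A / (2 * β ^ 2), 0, 0] :
        Matrix (Fin 3) (Fin 3) ℂ).det ≠ 0 := by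
      have : (A / (2 * β)) ≠ 0 := div_ne_zero hA (mul_ne_zero two_ne_zero hβ0)
      have h3 : (A / (2 * β ^ 2)) ≠ 0 := div_ne_zero hA h2β
      have e : (!![1 + κ, 1, 1; 0, A / (2 * β), -(A / (2 * β)); A / (2 * β ^ 2), 0, 0] :
          Matrix (Fin 3) (Fin 3) ℂ).det = -2 * ((A / (2 * β)) * (A / (2 * β ^ 2))) := by
        rw [Matrix.det_fin_three]
        simp
        ring
      rw [e]
      exact mul_ne_zero (by norm_num) (mul_ne_zero this h3)
    have := indep_of_det hind _ hdet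
    convert this using 1
    funext j
    fin_cases j
    · simp [Fin.sum_univ_three, he0]
    · simp [Fin.sum_univ_three, he1]
    · simp [Fin.sum_univ_three, he2, sub_eq_add_neg]
  have hq1 : ∀ X Y Z : ℂ, S.q (X • e0 + Y • e1 + Z • e2) =
      μ * (-(X + Y + Z) ^ 3 - δ * (X * Y * Z)) := by
    intro X Y Z
    have e : X • e0 + Y • e1 + Z • e2 = (X + Y + Z + κ * X) • u + (A * (Y - Z) / (2 * β)) • p
        + (A * X / (2 * β ^ 2)) • r := by
      rw [he0, he1, he2]; module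
    rw [e, hq, lemmaA A β X Y Z hA hβ0]
  -- second frame
  obtain ⟨s, hs3⟩ := IsAlgClosed.exists_pow_nat_eq (-3 : ℂ) (n := 2) (by norm_num)
  obtain ⟨ω, hωdef⟩ : ∃ ω : ℂ, ω = (-1 + s) / 2 := ⟨_, rfl⟩
  have hω : ω ^ 2 + ω + 1 = 0 := by
    rw [hωdef]
    linear_combination (1 / 4 : ℂ) * hs3
  obtain ⟨k, hk⟩ := IsAlgClosed.exists_pow_nat_eq (δ / (27 + δ)) (n := 3) (by norm_num)
  have hk' : k ^ 3 * (27 + δ) = δ := by rw [hk]; field_simp
  have hk0 : k ≠ 0 := by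
    intro h
    rw [h] at hk'
    apply hδ0
    rw [← hk']; ring
  have hω0 : ω ≠ 0 := by
    intro h; rw [h] at hω; norm_num at hω
  have hω1 : ω - 1 ≠ 0 := by
    intro h
    have : ω = 1 := by linear_combination h
    rw [this] at hω; norm_num at hω
  have hω2 : ω + 2 ≠ 0 := by
    intro h
    have : ω = -2 := by linear_combination h
    rw [this] at hω; norm_num at hω
  refine ⟨k • (e0 + e1 + e2), e0 + ω ^ 2 • e1 + ω • e2, e0 + ω • e1 + ω ^ 2 • e2, k, -μ * δ,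
    ?_, ?_, ?_, ?_⟩
  · have hdet : (!![k, 1, 1; k, ω ^ 2, ω; k, ω, ω ^ 2] : Matrix (Fin 3) (Fin 3) ℂ).det ≠ 0 := by
      have e : (!![k, 1, 1; k, ω ^ 2, ω; k, ω, ω ^ 2] : Matrix (Fin 3) (Fin 3) ℂ).det
          = k * ω * (ω - 1) ^ 2 * (ω + 2) := by
        rw [Matrix.det_fin_three]
        simp
        ring
      rw [e]
      exact mul_ne_zero (mul_ne_zero (mul_ne_zero hk0 hω0) (pow_ne_zero 2 hω1)) hω2
    have := indep_of_det hind1 _ hdet
    convert this using 1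
    funext j
    fin_cases j
    · simp [Fin.sum_univ_three, smul_add]
    · simp [Fin.sum_univ_three]
    · simp [Fin.sum_univ_three]
  · intro h
    rw [h, one_mul] at hk'
    have : (27 : ℂ) = 0 := by linear_combination hk'
    norm_num at this
  · exact mul_ne_zero (neg_ne_zero.mpr hμ) hδ0
  · intro x y z
    have e : x • k • (e0 + e1 + e2) + y • (e0 + ω ^ 2 • e1 + ω • e2)
        + z • (e0 + ω • e1 + ω ^ 2 • e2)
        = (k * x + y + z) • e0 + (k * x + ω ^ 2 * y + ω * z) • e1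
          + (k * x + ω * y + ω ^ 2 * z) • e2 := by module
    rw [e, hq1]
    have hsum : (k * x + y + z) + (k * x + ω ^ 2 * y + ω * z) + (k * x + ω * y + ω ^ 2 * z)
        = 3 * k * x := by linear_combination (y + z) * hω
    have hprod := lemmaB ω (k * x) y z hω
    rw [hsum, hprod]
    linear_combination (-μ * x ^ 3) * hk'

end SymTri

end Groth.Agent.Helper2.Cubic
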