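import Mathlib
import Groth.Prelude.Def_W4c5monodromycubicsHesse
import Groth.Agent.Lib.Helper2.CubicPoly
import Groth.Agent.Lib.Helper2.HesseFlex
import Groth.Agent.Lib.Helper2.HesseFlexExists
import Groth.Agent.Lib.Helper2.HesseWeier
import Groth.Agent.Lib.Helper2.HesseNormal

/-! Hesse normal form of a smooth plane cubic. -/

namespace Groth.Agent.Helper2.Cubic

open MvPolynomial Module

/-- the matrix whose columns are three given vectors -/
theorem mulVec_cols (e0 e1 e2 v : Fin 3 → ℂ) :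
    (Matrix.of fun i j => (![e0, e1, e2] : Fin 3 → Fin 3 → ℂ) j i).mulVec v
      = v 0 • e0 + v 1 • e1 + v 2 • e2 := by
  funext i
  simp [Matrix.mulVec, dotProduct, Fin.sum_univ_three]
  ring

theorem isUnit_det_cols (e0 e1 e2 : Fin 3 → ℂ) (h : LinearIndependent ℂ ![e0, e1, e2]) :
    IsUnit (Matrix.of fun i j => (![e0, e1, e2] : Fin 3 → Fin 3 → ℂ) j i).det := by
  rw [← Matrix.isUnit_iff_isUnit_det, ← Matrix.linearIndependent_cols_iff_isUnit]
  have e : (Matrix.of fun i j => (![e0, e1, e2] : Fin 3 → Fin 3 → ℂ) j i).col = ![e0, e1, e2] := by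
    funext j i
    rfl
  rw [e]
  exact h

theorem exists_hesse_form (f : MvPolynomial (Fin 3) ℂ) (hf : f.IsHomogeneous 3)
    (hsm : ∀ v : Fin 3 → ℂ, v ≠ 0 → eval v f = 0 → ∃ i : Fin 3, eval v (pderiv i f) ≠ 0) :
    ∃ (A : Matrix (Fin 3) (Fin 3) ℂ) (k c : ℂ), IsUnit A.det ∧ k ^ 3 ≠ 1 ∧ c ≠ 0 ∧
      aeval (fun i : Fin 3 => ∑ j : Fin 3, C (A i j) * X j) f = C c * HesseCubic.form k := by
  have hs := symTriOf_smooth hf hsm
  obtain ⟨p, u, hp0, hqp, hu, hpu⟩ := exists_flex f hf hs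
  have hV : finrank ℂ (Fin 3 → ℂ) = 3 := by simp
  obtain ⟨r, μ, a, b, hμ, hind, hq⟩ := SymTri.exists_weierstrass hV hs hp0 hqp hu hpu
  obtain ⟨e0, e1, e2, k, c, hind', hk, hc, hq'⟩ := SymTri.exists_hesse_of_weier hV hs hind hμ hq
  refine ⟨Matrix.of fun i j => (![e0, e1, e2] : Fin 3 → Fin 3 → ℂ) j i, k, c,
    isUnit_det_cols e0 e1 e2 hind', hk, hc, ?_⟩
  apply MvPolynomial.funext
  intro v
  rw [eval_subst, ← symTriOf_q hf, map_mul, eval_C, Hesse.eval_form, mulVec_cols, hq']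
  rfl

end Groth.Agent.Helper2.Cubic
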