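import Mathlib
import Groth.Prelude.Def_W4c5monodromycubicsHesse
import Groth.Agent.Lib.Helper2.CubicPoly
import Groth.Agent.Lib.Helper2.HesseFlex
import Groth.Agent.Lib.Helper2.HesseNormalForm
import Groth.Agent.S18404

/-! Automorphisms of the Hesse cubic and transitivity on flexes. -/

namespace Groth.Agent.Helper2.Cubic

open MvPolynomial Module

/-- flex of the cubic "function" `F` -/
def IsFlex (F : (Fin 3 → ℂ) → ℂ) (v : Fin 3 → ℂ) : Prop :=
  ∃ w : Fin 3 → ℂ, LinearIndependent ℂ ![v, w] ∧ ∀ t : ℂ, F (v + t • w) = t ^ 3 * F w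

theorem mulVec_inv_cancel {A : Matrix (Fin 3) (Fin 3) ℂ} (hA : IsUnit A.det) (v : Fin 3 → ℂ) :
    A.mulVec (A⁻¹.mulVec v) = v := by
  rw [Matrix.mulVec_mulVec, Matrix.mul_nonsing_inv _ hA, Matrix.one_mulVec]

theorem inv_mulVec_cancel {A : Matrix (Fin 3) (Fin 3) ℂ} (hA : IsUnit A.det) (v : Fin 3 → ℂ) :
    A⁻¹.mulVec (A.mulVec v) = v := by
  rw [Matrix.mulVec_mulVec, Matrix.nonsing_inv_mul _ hA, Matrix.one_mulVec]

theorem flex_transport {F G : (Fin 3 → ℂ) → ℂ} {A : Matrix (Fin 3) (Fin 3) ℂ} {c : ℂ}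
    (hc : c ≠ 0) (hA : IsUnit A.det) (hFG : ∀ z, F (A.mulVec z) = c * G z) (x : Fin 3 → ℂ)
    (h : IsFlex F (A.mulVec x)) : IsFlex G x := by
  obtain ⟨w, hind, hw⟩ := h
  refine ⟨A⁻¹.mulVec w, ?_, ?_⟩
  · have e : (A.mulVecLin ∘ ![x, A⁻¹.mulVec w]) = ![A.mulVec x, w] := by
      funext j
      fin_cases j
      · rfl
      · simp [mulVec_inv_cancel hA]
    rw [← e] at hind
    exact LinearIndependent.of_comp A.mulVecLin hind
  · intro t
    have h1 : A.mulVec (x + t • A⁻¹.mulVec w) = A.mulVec x + t • w := by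
      rw [Matrix.mulVec_add, Matrix.mulVec_smul, mulVec_inv_cancel hA]
    have h2 := hFG (x + t • A⁻¹.mulVec w)
    rw [h1, hw t] at h2
    have h3 := hFG (A⁻¹.mulVec w)
    rw [mulVec_inv_cancel hA] at h3
    rw [h3] at h2
    have : c * (G (x + t • A⁻¹.mulVec w) - t ^ 3 * G (A⁻¹.mulVec w)) = 0 := by
      linear_combination -h2
    have := (mul_eq_zero.mp this).resolve_left hc
    linear_combination this

open Hesse in
/-- each of the nine flexes of the Hesse cubic is the image of the base flex `(0,1,-1)` under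
an automorphism of the Hesse cubic -/
theorem hesse_aut (k : ℂ) (γ c : ℂ) (hγ : γ ^ 3 = 1) (x : Fin 3 → ℂ)
    (hx : x = c • ![0, 1, -γ] ∨ x = c • ![-γ, 0, 1] ∨ x = c • ![1, -γ, 0]) :
    ∃ B : Matrix (Fin 3) (Fin 3) ℂ, IsUnit B.det ∧ (∀ y, H k (B.mulVec y) = H k y) ∧
      x = c • B.mulVec ![0, 1, -1] := by
  rcases hx with hx | hx | hx
  · refine ⟨!![γ ^ 2, 0, 0; 0, 1, 0; 0, 0, γ], ?_, ?_, ?_⟩
    · have : (!![γ ^ 2, 0, 0; 0, 1, 0; 0, 0, γ] : Matrix (Fin 3) (Fin 3) ℂ).det = 1 := by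
        rw [Matrix.det_fin_three]
        simp
        linear_combination hγ
      rw [this]; exact isUnit_one
    · intro y
      simp only [H, Matrix.mulVec, dotProduct, Fin.sum_univ_three]
      simp
      linear_combination ((γ ^ 3 + 1) * y 0 ^ 3 + y 2 ^ 3 - 3 * k * (y 0 * y 1 * y 2)) * hγ
    · rw [hx]
      congr 1
      funext i
      fin_cases i <;> simp [Matrix.mulVec, dotProduct, Fin.sum_univ_three]
  · refine ⟨!![0, 0, γ; γ ^ 2, 0, 0; 0, 1, 0], ?_, ?_, ?_⟩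
    · have : (!![0, 0, γ; γ ^ 2, 0, 0; 0, 1, 0] : Matrix (Fin 3) (Fin 3) ℂ).det = 1 := by
        rw [Matrix.det_fin_three]
        simp
        linear_combination hγ
      rw [this]; exact isUnit_one
    · intro y
      simp only [H, Matrix.mulVec, dotProduct, Fin.sum_univ_three]
      simp
      linear_combination ((γ ^ 3 + 1) * y 0 ^ 3 + y 2 ^ 3 - 3 * k * (y 0 * y 1 * y 2)) * hγ
    · rw [hx]
      congr 1
      funext i
      fin_cases i <;> simp [Matrix.mulVec, dotProduct, Fin.sum_univ_three]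
  · refine ⟨!![0, 1, 0; 0, 0, γ; γ ^ 2, 0, 0], ?_, ?_, ?_⟩
    · have : (!![0, 1, 0; 0, 0, γ; γ ^ 2, 0, 0] : Matrix (Fin 3) (Fin 3) ℂ).det = 1 := by
        rw [Matrix.det_fin_three]
        simp
        linear_combination hγ
      rw [this]; exact isUnit_one
    · intro y
      simp only [H, Matrix.mulVec, dotProduct, Fin.sum_univ_three]
      simp
      linear_combination ((γ ^ 3 + 1) * y 0 ^ 3 + y 2 ^ 3 - 3 * k * (y 0 * y 1 * y 2)) * hγ
    · rw [hx]
      congr 1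
      funext i
      fin_cases i <;> simp [Matrix.mulVec, dotProduct, Fin.sum_univ_three]

open Hesse in
theorem flex_transitive (f : MvPolynomial (Fin 3) ℂ) (hf : f.IsHomogeneous 3)
    (hsm : ∀ v : Fin 3 → ℂ, v ≠ 0 → eval v f = 0 → ∃ i : Fin 3, eval v (pderiv i f) ≠ 0)
    (v v' : Fin 3 → ℂ) (hv : v ≠ 0) (hv' : v' ≠ 0) (hfv : eval v f = 0) (hfv' : eval v' f = 0)
    (hflex : IsFlex (fun y => eval y f) v) (hflex' : IsFlex (fun y => eval y f) v') :
    ∃ (A : Matrix (Fin 3) (Fin 3) ℂ) (c d : ℂ), IsUnit A.det ∧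
      aeval (fun i : Fin 3 => ∑ j : Fin 3, C (A i j) * X j) f = C c * f ∧
      A.mulVec v = d • v' := by
  obtain ⟨A0, k, c0, hA0, hk, hc0, hform⟩ := exists_hesse_form f hf hsm
  have hFG : ∀ z, eval (A0.mulVec z) f = c0 * eval z (HesseCubic.form k) := by
    intro z
    rw [← eval_subst, hform, map_mul, eval_C]
  have key : ∀ v : Fin 3 → ℂ, v ≠ 0 → eval v f = 0 → IsFlex (fun y => eval y f) v →
      ∃ (B : Matrix (Fin 3) (Fin 3) ℂ) (c : ℂ), IsUnit B.det ∧
        (∀ y, H k (B.mulVec y) = H k y) ∧ c ≠ 0 ∧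
        A0⁻¹.mulVec v = c • B.mulVec ![0, 1, -1] := by
    intro v hv hfv hflex
    set x := A0⁻¹.mulVec v with hx
    have hAx : A0.mulVec x = v := mulVec_inv_cancel hA0 v
    have hx0 : x ≠ 0 := by
      intro h
      apply hv
      rw [← hAx, h, Matrix.mulVec_zero]
    have hHx : eval x (HesseCubic.form k) = 0 := by
      have := hFG x
      rw [hAx, hfv] at this
      exact (mul_eq_zero.mp this.symm).resolve_left hc0
    have hfl : IsFlex (fun y => eval y (HesseCubic.form k)) x :=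
      flex_transport hc0 hA0 hFG x (by rw [hAx]; exact hflex)
    obtain ⟨γ, c, hγ, hcases⟩ := (Groth.Agent.S18404.result k hk x hx0 hHx).mp hfl
    obtain ⟨B, hB, hBH, hxB⟩ := hesse_aut k γ c hγ x hcases
    refine ⟨B, c, hB, hBH, ?_, hxB⟩
    rintro rfl
    apply hx0
    rw [hxB, zero_smul]
  obtain ⟨B, c, hB, hBH, hc, hxB⟩ := key v hv hfv hflex
  obtain ⟨B', c', hB', hBH', hc', hxB'⟩ := key v' hv' hfv' hflex'
  have e : ∀ y, (A0 * B' * B⁻¹ * A0⁻¹).mulVec y
      = A0.mulVec (B'.mulVec (B⁻¹.mulVec (A0⁻¹.mulVec y))) := by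
    intro y
    simp only [Matrix.mulVec_mulVec, Matrix.mul_assoc]
  refine ⟨A0 * B' * B⁻¹ * A0⁻¹, 1, c / c', ?_, ?_, ?_⟩
  · rw [Matrix.det_mul, Matrix.det_mul, Matrix.det_mul]
    exact ((hA0.mul hB').mul (Matrix.isUnit_nonsing_inv_det _ hB)).mul
      (Matrix.isUnit_nonsing_inv_det _ hA0)
  · apply MvPolynomial.funext
    intro y
    rw [eval_subst, map_mul, eval_C, one_mul, e, hFG, eval_form, hBH']
    have h1 : H k (B⁻¹.mulVec (A0⁻¹.mulVec y)) = H k (A0⁻¹.mulVec y) := by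
      rw [← hBH (B⁻¹.mulVec _), mulVec_inv_cancel hB]
    rw [h1, ← eval_form, ← hFG, mulVec_inv_cancel hA0]
  · have h1 : v' = c' • A0.mulVec (B'.mulVec ![0, 1, -1]) := by
      rw [← Matrix.mulVec_smul, ← hxB', mulVec_inv_cancel hA0]
    rw [e, hxB, Matrix.mulVec_smul, inv_mulVec_cancel hB, Matrix.mulVec_smul, Matrix.mulVec_smul]
    conv_rhs => rw [h1]
    rw [smul_smul, div_mul_cancel₀ _ hc']

end Groth.Agent.Helper2.Cubic
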