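import Mathlib
import Groth.Prelude.Def_W4c5monodromycubicsHesse
import Groth.Agent.Lib.Helper2.CubicPoly
import Groth.Agent.Lib.Helper2.HesseFlex
import Groth.Agent.Lib.Helper2.HesseNormalForm
import Groth.Agent.Lib.Helper2.HesseAut
import Groth.Agent.S18404

/-! Faithfulness of the action of automorphisms of a smooth plane cubic on its flexes. -/

namespace Groth.Agent.Helper2.Cubic

open MvPolynomial Module

theorem vdm3 (ω p0 p1 p2 : ℂ) (hω : ω ^ 2 + ω + 1 = 0) (e1 : p0 + p1 + p2 = 0)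
    (eω : p0 + ω * p1 + ω ^ 2 * p2 = 0) (eω2 : p0 + ω ^ 2 * p1 + ω ^ 4 * p2 = 0) :
    p0 = 0 ∧ p1 = 0 ∧ p2 = 0 := by
  have hω0 : ω ≠ 0 := by
    intro h; rw [h] at hω; norm_num at hω
  have hω1 : 1 - ω ≠ 0 := by
    intro h
    have : ω = 1 := by linear_combination -h
    rw [this] at hω; norm_num at hω
  have h0 : p0 = 0 := by
    linear_combination (1 / 3 : ℂ) * (e1 + eω + eω2)
      - (1 / 3 : ℂ) * (p1 + (ω ^ 2 - ω + 1) * p2) * hω
  have h2 : p2 = 0 := by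
    have : ω * ((1 - ω) * p2) = 0 := by
      rw [h0] at e1 eω
      linear_combination ω * e1 - eω
    exact (mul_eq_zero.mp ((mul_eq_zero.mp this).resolve_left hω0)).resolve_left hω1
  refine ⟨h0, ?_, h2⟩
  rw [h0, h2] at e1
  linear_combination e1

theorem scalar_of_fix_nine (B : Matrix (Fin 3) (Fin 3) ℂ)
    (h1 : ∀ γ : ℂ, γ ^ 3 = 1 → ∃ d : ℂ, B.mulVec ![0, 1, -γ] = d • ![0, 1, -γ])
    (h2 : ∀ γ : ℂ, γ ^ 3 = 1 → ∃ d : ℂ, B.mulVec ![-γ, 0, 1] = d • ![-γ, 0, 1])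
    (h3 : ∀ γ : ℂ, γ ^ 3 = 1 → ∃ d : ℂ, B.mulVec ![1, -γ, 0] = d • ![1, -γ, 0]) :
    ∃ c : ℂ, B = c • (1 : Matrix (Fin 3) (Fin 3) ℂ) := by
  obtain ⟨s, hs3⟩ := IsAlgClosed.exists_pow_nat_eq (-3 : ℂ) (n := 2) (by norm_num)
  obtain ⟨ω, hωdef⟩ : ∃ ω : ℂ, ω = (-1 + s) / 2 := ⟨_, rfl⟩
  have hω : ω ^ 2 + ω + 1 = 0 := by
    rw [hωdef]
    linear_combination (1 / 4 : ℂ) * hs3
  have hω3 : ω ^ 3 = 1 := by linear_combination (ω - 1) * hω
  have hω6 : (ω ^ 2) ^ 3 = 1 := by linear_combination (ω ^ 3 + 1) * hω3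
  have fam1 : ∀ γ : ℂ, γ ^ 3 = 1 → B 0 1 - γ * B 0 2 = 0 ∧
      B 2 1 + γ * (B 1 1 - B 2 2) + γ ^ 2 * (-B 1 2) = 0 := by
    intro γ hγ
    obtain ⟨d, hd⟩ := h1 γ hγ
    have e0 := congrFun hd 0
    have e1 := congrFun hd 1
    have e2 := congrFun hd 2
    simp [Matrix.mulVec, dotProduct, Fin.sum_univ_three] at e0 e1 e2
    constructor
    · linear_combination e0
    · linear_combination e2 + γ * e1
  have fam2 : ∀ γ : ℂ, γ ^ 3 = 1 → B 1 2 - γ * B 1 0 = 0 ∧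
      B 0 2 + γ * (B 2 2 - B 0 0) + γ ^ 2 * (-B 2 0) = 0 := by
    intro γ hγ
    obtain ⟨d, hd⟩ := h2 γ hγ
    have e0 := congrFun hd 0
    have e1 := congrFun hd 1
    have e2 := congrFun hd 2
    simp [Matrix.mulVec, dotProduct, Fin.sum_univ_three] at e0 e1 e2
    constructor
    · linear_combination e1
    · linear_combination e0 + γ * e2
  have fam3 : ∀ γ : ℂ, γ ^ 3 = 1 → B 2 0 - γ * B 2 1 = 0 ∧
      B 1 0 + γ * (B 0 0 - B 1 1) + γ ^ 2 * (-B 0 1) = 0 := by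
    intro γ hγ
    obtain ⟨d, hd⟩ := h3 γ hγ
    have e0 := congrFun hd 0
    have e1 := congrFun hd 1
    have e2 := congrFun hd 2
    simp [Matrix.mulVec, dotProduct, Fin.sum_univ_three] at e0 e1 e2
    constructor
    · linear_combination e2
    · linear_combination e1 + γ * e0
  have one3 : (1 : ℂ) ^ 3 = 1 := one_pow 3
  obtain ⟨a1, a2, a3⟩ := vdm3 ω _ _ _ hω (by have := (fam1 1 one3).2; linear_combination this)
    (fam1 ω hω3).2 (by have := (fam1 (ω ^ 2) hω6).2; linear_combination this)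
  obtain ⟨b1, b2, b3⟩ := vdm3 ω _ _ _ hω (by have := (fam2 1 one3).2; linear_combination this)
    (fam2 ω hω3).2 (by have := (fam2 (ω ^ 2) hω6).2; linear_combination this)
  obtain ⟨c1, c2, c3⟩ := vdm3 ω _ _ _ hω (by have := (fam3 1 one3).2; linear_combination this)
    (fam3 ω hω3).2 (by have := (fam3 (ω ^ 2) hω6).2; linear_combination this)
  refine ⟨B 0 0, ?_⟩
  have e01 : B 0 1 = 0 := by linear_combination -c3
  have e02 : B 0 2 = 0 := b1
  have e10 : B 1 0 = 0 := c1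
  have e12 : B 1 2 = 0 := by linear_combination -a3
  have e20 : B 2 0 = 0 := by linear_combination -b3
  have e21 : B 2 1 = 0 := a1
  have e11 : B 1 1 = B 0 0 := by linear_combination -c2
  have e22 : B 2 2 = B 0 0 := by linear_combination b2
  ext i j
  fin_cases i <;> fin_cases j <;> simp [e01, e02, e10, e12, e20, e21, e11, e22]

theorem flex_transport' {F G : (Fin 3 → ℂ) → ℂ} {A : Matrix (Fin 3) (Fin 3) ℂ} {c : ℂ}
    (hA : IsUnit A.det) (hFG : ∀ z, F (A.mulVec z) = c * G z) (x : Fin 3 → ℂ)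
    (h : IsFlex G x) : IsFlex F (A.mulVec x) := by
  obtain ⟨w, hind, hw⟩ := h
  refine ⟨A.mulVec w, ?_, ?_⟩
  · have e : ![A.mulVec x, A.mulVec w] = A.mulVecLin ∘ ![x, w] := by
      funext j
      fin_cases j <;> rfl
    rw [e]
    refine hind.map' A.mulVecLin ?_
    rw [LinearMap.ker_eq_bot]
    exact Matrix.mulVec_injective_iff_isUnit.mpr ((Matrix.isUnit_iff_isUnit_det A).mpr hA)
  · intro t
    rw [← Matrix.mulVec_smul, ← Matrix.mulVec_add, hFG, hFG, hw t]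
    ring

open Hesse in
theorem faithful_on_flexes (f : MvPolynomial (Fin 3) ℂ) (hf : f.IsHomogeneous 3)
    (hsm : ∀ v : Fin 3 → ℂ, v ≠ 0 → eval v f = 0 → ∃ i : Fin 3, eval v (pderiv i f) ≠ 0)
    (A : Matrix (Fin 3) (Fin 3) ℂ)
    (hfix : ∀ v : Fin 3 → ℂ, v ≠ 0 → eval v f = 0 → IsFlex (fun y => eval y f) v →
      ∃ d : ℂ, A.mulVec v = d • v) :
    ∃ c : ℂ, A = c • (1 : Matrix (Fin 3) (Fin 3) ℂ) := by
  obtain ⟨A0, k, c0, hA0, hk, hc0, hform⟩ := exists_hesse_form f hf hsm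
  have hFG : ∀ z, eval (A0.mulVec z) f = c0 * eval z (HesseCubic.form k) := by
    intro z
    rw [← eval_subst, hform, map_mul, eval_C]
  have key : ∀ x : Fin 3 → ℂ, x ≠ 0 →
      (∃ γ c : ℂ, γ ^ 3 = 1 ∧
        (x = c • ![0, 1, -γ] ∨ x = c • ![-γ, 0, 1] ∨ x = c • ![1, -γ, 0])) →
      ∃ d : ℂ, (A0⁻¹ * A * A0).mulVec x = d • x := by
    intro x hx0 hx
    have hHx : eval x (HesseCubic.form k) = 0 := by
      rw [eval_form]
      obtain ⟨γ, c, hγ, hx | hx | hx⟩ := hx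
      · rw [hx]
        simp [H]
        linear_combination (-c ^ 3) * hγ
      · rw [hx]
        simp [H]
        linear_combination (-c ^ 3) * hγ
      · rw [hx]
        simp [H]
        linear_combination (-c ^ 3) * hγ
    have hfl : IsFlex (fun y => eval y (HesseCubic.form k)) x :=
      (Groth.Agent.S18404.result k hk x hx0 hHx).mpr hx
    have hfl' := flex_transport' (F := fun y => eval y f) hA0 hFG x hfl
    have hne : A0.mulVec x ≠ 0 := by
      intro h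
      apply hx0
      rw [← inv_mulVec_cancel hA0 x, h, Matrix.mulVec_zero]
    have hz : eval (A0.mulVec x) f = 0 := by rw [hFG, hHx, mul_zero]
    obtain ⟨d, hd⟩ := hfix _ hne hz hfl'
    refine ⟨d, ?_⟩
    have e : (A0⁻¹ * A * A0).mulVec x = A0⁻¹.mulVec (A.mulVec (A0.mulVec x)) := by
      simp only [Matrix.mulVec_mulVec, Matrix.mul_assoc]
    rw [e, hd, Matrix.mulVec_smul, inv_mulVec_cancel hA0]
  have ne1 : ∀ γ : ℂ, (![0, 1, -γ] : Fin 3 → ℂ) ≠ 0 := by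
    intro γ h
    have := congrFun h 1
    simp at this
  have ne2 : ∀ γ : ℂ, (![-γ, 0, 1] : Fin 3 → ℂ) ≠ 0 := by
    intro γ h
    have := congrFun h 2
    simp at this
  have ne3 : ∀ γ : ℂ, (![1, -γ, 0] : Fin 3 → ℂ) ≠ 0 := by
    intro γ h
    have := congrFun h 0
    simp at this
  obtain ⟨c, hc⟩ := scalar_of_fix_nine (A0⁻¹ * A * A0)
    (fun γ hγ => key _ (ne1 γ) ⟨γ, 1, hγ, Or.inl (one_smul _ _).symm⟩)
    (fun γ hγ => key _ (ne2 γ) ⟨γ, 1, hγ, Or.inr (Or.inl (one_smul _ _).symm)⟩)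
    (fun γ hγ => key _ (ne3 γ) ⟨γ, 1, hγ, Or.inr (Or.inr (one_smul _ _).symm)⟩)
  refine ⟨c, ?_⟩
  have e : A = A0 * (A0⁻¹ * A * A0) * A0⁻¹ := by
    rw [Matrix.mul_assoc A0⁻¹ A A0, ← Matrix.mul_assoc A0 A0⁻¹, Matrix.mul_nonsing_inv _ hA0,
      Matrix.one_mul, Matrix.mul_assoc, Matrix.mul_nonsing_inv _ hA0, Matrix.mul_one]
  rw [e, hc, Matrix.mul_smul, Matrix.mul_one, Matrix.smul_mul, Matrix.mul_nonsing_inv _ hA0]

end Groth.Agent.Helper2.Cubic
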