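import Mathlib

/-! Stabiliser of the flex at infinity of a Weierstrass cubic with `a b ≠ 0`. -/

namespace Groth.Agent.Helper2.Cubic

theorem stab_weier (p c30 c12 c03 c : ℂ) (hp : p ≠ 0) (h30 : c30 ≠ 0) (h12 : c12 ≠ 0)
    (h03 : c03 ≠ 0) (hc : c ≠ 0) (b00 b02 b10 b11 b12 b20 b22 : ℂ)
    (h : ∀ x y z : ℂ,
      p * (b10 * x + b11 * y + b12 * z) ^ 2 * (b20 * x + b22 * z) + c30 * (b00 * x + b02 * z) ^ 3
        + c12 * (b00 * x + b02 * z) * (b20 * x + b22 * z) ^ 2 + c03 * (b20 * x + b22 * z) ^ 3
      = c * (p * y ^ 2 * z + c30 * x ^ 3 + c12 * x * z ^ 2 + c03 * z ^ 3)) :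
    b20 = 0 ∧ b10 = 0 ∧ b12 = 0 ∧ b02 = 0 ∧ b00 = b22 ∧ (b11 = b22 ∨ b11 = -b22) := by
  have hα : ∀ x z : ℂ, b11 ^ 2 * (b20 * x + b22 * z) = c * z := by
    intro x z
    have h1 := h x 1 z
    have h2 := h x (-1) z
    have h3 := h x 0 z
    have : p * (b11 ^ 2 * (b20 * x + b22 * z)) = p * (c * z) := by
      linear_combination (1 / 2 : ℂ) * h1 + (1 / 2 : ℂ) * h2 - h3
    exact mul_left_cancel₀ hp this
  have e1 : b11 ^ 2 * b20 = 0 := by
    have := hα 1 0
    linear_combination this
  have e2 : b11 ^ 2 * b22 = c := by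
    have := hα 0 1
    linear_combination this
  have hb11 : b11 ≠ 0 := by
    intro h0
    apply hc
    rw [← e2, h0]; ring
  have hb22 : b22 ≠ 0 := by
    intro h0
    apply hc
    rw [← e2, h0]; ring
  have hb20 : b20 = 0 := (mul_eq_zero.mp e1).resolve_left (pow_ne_zero 2 hb11)
  subst hb20
  have hβ : ∀ x : ℂ, b10 * x + b12 = 0 := by
    intro x
    have h1 := h x 1 1
    have h2 := h x (-1) 1
    have : (4 * p * b11 * b22) * (b10 * x + b12) = 0 := by
      linear_combination h1 - h2
    exact (mul_eq_zero.mp this).resolve_left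
      (mul_ne_zero (mul_ne_zero (mul_ne_zero (by norm_num) hp) hb11) hb22)
  have hb12 : b12 = 0 := by
    have := hβ 0
    linear_combination this
  have hb10 : b10 = 0 := by
    have := hβ 1
    rw [hb12] at this
    linear_combination this
  subst hb12 hb10
  have e3 : b00 ^ 3 = c := by
    have := h 1 0 0
    have h' : c30 * (b00 ^ 3) = c30 * c := by linear_combination this
    exact mul_left_cancel₀ h30 h'
  have hb00 : b00 ≠ 0 := by
    intro h0
    apply hc
    rw [← e3, h0]; ring
  have hb02 : b02 = 0 := by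
    have h1 := h 1 0 1
    have h2 := h (-1) 0 1
    have h3 := h 0 0 1
    have : (6 * c30 * b00 ^ 2) * b02 = 0 := by
      linear_combination h1 + h2 - 2 * h3
    exact (mul_eq_zero.mp this).resolve_left
      (mul_ne_zero (mul_ne_zero (by norm_num) h30) (pow_ne_zero 2 hb00))
  subst hb02
  have e4 : b22 ^ 3 = c := by
    have := h 0 0 1
    have h' : c03 * (b22 ^ 3) = c03 * c := by linear_combination this
    exact mul_left_cancel₀ h03 h'
  have e5 : b00 * b22 ^ 2 = c := by
    have h1 := h 1 0 1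
    have h' : c12 * (b00 * b22 ^ 2) = c12 * c := by
      linear_combination h1 - c30 * e3 - c03 * e4
    exact mul_left_cancel₀ h12 h'
  have hb00' : b00 = b22 := by
    have : b22 ^ 2 * (b00 - b22) = 0 := by linear_combination e5 - e4
    have := (mul_eq_zero.mp this).resolve_left (pow_ne_zero 2 hb22)
    linear_combination this
  refine ⟨rfl, rfl, rfl, rfl, hb00', ?_⟩
  have : (b11 - b22) * (b11 + b22) = 0 := by
    have : b22 * ((b11 - b22) * (b11 + b22)) = 0 := by linear_combination e2 - e4
    exact (mul_eq_zero.mp this).resolve_left hb22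
  rcases mul_eq_zero.mp this with h1 | h1
  · left; linear_combination h1
  · right; linear_combination h1

end Groth.Agent.Helper2.Cubic
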