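import Mathlib
import Groth.Agent.Lib.Helper2.HesseFlex
import Groth.Agent.Lib.Helper2.HesseWeier
import Groth.Agent.Lib.Helper2.HesseStab0

/-! Stabiliser of the flex `(0,1,-1)` of a generic Hesse cubic. -/

namespace Groth.Agent.Helper2.Cubic

open Module Hesse

/-- the swap of the last two coordinates -/
def Sw : Matrix (Fin 3) (Fin 3) ℂ := !![1, 0, 0; 0, 0, 1; 0, 1, 0]

theorem indep_of_det_cols (e0 e1 e2 : Fin 3 → ℂ)
    (h : (Matrix.of fun i j => (![e0, e1, e2] : Fin 3 → Fin 3 → ℂ) j i).det ≠ 0) :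
    LinearIndependent ℂ ![e0, e1, e2] := by
  have h1 : IsUnit (Matrix.of fun i j => (![e0, e1, e2] : Fin 3 → Fin 3 → ℂ) j i) := by
    rw [Matrix.isUnit_iff_isUnit_det]
    exact isUnit_iff_ne_zero.mpr h
  rw [← Matrix.linearIndependent_cols_iff_isUnit] at h1
  have e : (Matrix.of fun i j => (![e0, e1, e2] : Fin 3 → Fin 3 → ℂ) j i).col = ![e0, e1, e2] := by
    funext j i
    rfl
  rw [e] at h1
  exact h1

theorem hesse_frame (k : ℂ) (hk1 : k ^ 3 ≠ 1) (x y z : ℂ) :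
    H k (x • ![2, -k, -k] + y • ![0, 1, -1]
      + z • ![1 - 2 * ((4 - k ^ 3) / (8 * (1 - k ^ 3))), (4 - k ^ 3) / (8 * (1 - k ^ 3)) * k,
          (4 - k ^ 3) / (8 * (1 - k ^ 3)) * k])
    = 3 * k * y ^ 2 * z + 8 * (1 - k ^ 3) * x ^ 3
      + (-3 * k ^ 3 * (8 + k ^ 3) / (8 * (1 - k ^ 3))) * x * z ^ 2
      + (-k ^ 3 * (k ^ 6 - 20 * k ^ 3 - 8) / (32 * (1 - k ^ 3) ^ 2)) * z ^ 3 := by
  have h1 : (1 : ℂ) - k ^ 3 ≠ 0 := by
    intro h
    apply hk1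
    linear_combination -h
  simp only [H, Pi.add_apply, Pi.smul_apply, smul_eq_mul, Matrix.cons_val_zero,
    Matrix.cons_val_one, Matrix.cons_val_two, Matrix.head_cons, Matrix.tail_cons]
  field_simp
  ring

theorem hesse_stab (k : ℂ) (hk0 : k ≠ 0) (hk1 : k ^ 3 ≠ 1) (hk8 : k ^ 3 + 8 ≠ 0)
    (hk6 : k ^ 6 - 20 * k ^ 3 - 8 ≠ 0) (B : Matrix (Fin 3) (Fin 3) ℂ) (c : ℂ) (hc : c ≠ 0)
    (hB : ∀ v, H k (B.mulVec v) = c * H k v) (c' : ℂ)
    (hP : B.mulVec ![0, 1, -1] = c' • ![0, 1, -1]) :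
    ∃ b : ℂ, B = b • (1 : Matrix (Fin 3) (Fin 3) ℂ) ∨ B = b • Sw := by
  have h1 : (1 : ℂ) - k ^ 3 ≠ 0 := by
    intro h
    apply hk1
    linear_combination -h
  obtain ⟨s, hs⟩ : ∃ s : ℂ, s = (4 - k ^ 3) / (8 * (1 - k ^ 3)) := ⟨_, rfl⟩
  obtain ⟨Ex, hEx⟩ : ∃ Ex : Fin 3 → ℂ, Ex = ![2, -k, -k] := ⟨_, rfl⟩
  obtain ⟨Ey, hEy⟩ : ∃ Ey : Fin 3 → ℂ, Ey = ![0, 1, -1] := ⟨_, rfl⟩
  obtain ⟨Ez, hEz⟩ : ∃ Ez : Fin 3 → ℂ, Ez = ![1 - 2 * s, s * k, s * k] := ⟨_, rfl⟩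
  have hind : LinearIndependent ℂ ![Ex, Ey, Ez] := by
    apply indep_of_det_cols
    have : (Matrix.of fun i j => (![Ex, Ey, Ez] : Fin 3 → Fin 3 → ℂ) j i).det = 2 * k := by
      rw [Matrix.det_fin_three, hEx, hEy, hEz]
      simp
      ring
    rw [this]
    exact mul_ne_zero two_ne_zero hk0
  have hV : finrank ℂ (Fin 3 → ℂ) = 3 := by simp
  obtain ⟨bx, hbx⟩ := SymTri.span3 hV _ hind (B.mulVec Ex)
  obtain ⟨bz, hbz⟩ := SymTri.span3 hV _ hind (B.mulVec Ez)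
  simp only [Fin.sum_univ_three, Matrix.cons_val_zero, Matrix.cons_val_one, Matrix.cons_val_two,
    Matrix.head_cons, Matrix.tail_cons] at hbx hbz
  have hBy : B.mulVec Ey = c' • Ey := by rw [hEy]; exact hP
  have hBv : ∀ x y z : ℂ, B.mulVec (x • Ex + y • Ey + z • Ez) =
      (bx 0 * x + bz 0 * z) • Ex + (bx 1 * x + c' * y + bz 1 * z) • Ey
        + (bx 2 * x + bz 2 * z) • Ez := by
    intro x y z
    rw [Matrix.mulVec_add, Matrix.mulVec_add, Matrix.mulVec_smul, Matrix.mulVec_smul,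
      Matrix.mulVec_smul, hbx, hbz, hBy]
    module
  have hW : ∀ x y z : ℂ, H k (x • Ex + y • Ey + z • Ez) =
      3 * k * y ^ 2 * z + 8 * (1 - k ^ 3) * x ^ 3
      + (-3 * k ^ 3 * (8 + k ^ 3) / (8 * (1 - k ^ 3))) * x * z ^ 2
      + (-k ^ 3 * (k ^ 6 - 20 * k ^ 3 - 8) / (32 * (1 - k ^ 3) ^ 2)) * z ^ 3 := by
    intro x y z
    rw [hEx, hEy, hEz, hs]
    exact hesse_frame k hk1 x y z
  have hk3 : k ^ 3 ≠ 0 := pow_ne_zero 3 hk0
  have key := stab_weier (3 * k) (8 * (1 - k ^ 3))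
    (-3 * k ^ 3 * (8 + k ^ 3) / (8 * (1 - k ^ 3)))
    (-k ^ 3 * (k ^ 6 - 20 * k ^ 3 - 8) / (32 * (1 - k ^ 3) ^ 2)) c
    (mul_ne_zero (by norm_num) hk0) (mul_ne_zero (by norm_num) h1)
    (div_ne_zero (mul_ne_zero (mul_ne_zero (by norm_num) hk3)
      (by intro h; apply hk8; linear_combination h)) (mul_ne_zero (by norm_num) h1))
    (div_ne_zero (mul_ne_zero (neg_ne_zero.mpr hk3) hk6)
      (mul_ne_zero (by norm_num) (pow_ne_zero 2 h1))) hc
    (bx 0) (bz 0) (bx 1) c' (bz 1) (bx 2) (bz 2) (by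
      intro x y z
      have e1 := hB (x • Ex + y • Ey + z • Ez)
      rw [hBv, hW, hW] at e1
      linear_combination e1)
  obtain ⟨k20, k10, k12, k02, k00, kc⟩ := key
  rw [k20, k10, k00] at hbx
  rw [k02, k12] at hbz
  have hbx' : B.mulVec Ex = bz 2 • Ex := by rw [hbx]; module
  have hbz' : B.mulVec Ez = bz 2 • Ez := by rw [hbz]; module
  refine ⟨bz 2, ?_⟩
  rcases kc with kc | kc
  · left
    rw [Matrix.ext_iff_mulVec]
    intro v
    obtain ⟨t, rfl⟩ := SymTri.span3 hV _ hind v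
    simp only [Fin.sum_univ_three, Matrix.cons_val_zero, Matrix.cons_val_one, Matrix.cons_val_two,
      Matrix.head_cons, Matrix.tail_cons]
    rw [Matrix.mulVec_add, Matrix.mulVec_add, Matrix.mulVec_smul, Matrix.mulVec_smul,
      Matrix.mulVec_smul, hbx', hbz', hBy, kc, Matrix.smul_mulVec, Matrix.one_mulVec]
    module
  · right
    have s1 : Sw.mulVec Ex = Ex := by
      rw [hEx]
      funext i
      fin_cases i <;> simp [Sw, Matrix.mulVec, dotProduct, Fin.sum_univ_three]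
    have s2 : Sw.mulVec Ey = -Ey := by
      rw [hEy]
      funext i
      fin_cases i <;> simp [Sw, Matrix.mulVec, dotProduct, Fin.sum_univ_three]
    have s3 : Sw.mulVec Ez = Ez := by
      rw [hEz]
      funext i
      fin_cases i <;> simp [Sw, Matrix.mulVec, dotProduct, Fin.sum_univ_three]
    rw [Matrix.ext_iff_mulVec]
    intro v
    obtain ⟨t, rfl⟩ := SymTri.span3 hV _ hind v
    simp only [Fin.sum_univ_three, Matrix.cons_val_zero, Matrix.cons_val_one, Matrix.cons_val_two,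
      Matrix.head_cons, Matrix.tail_cons]
    rw [Matrix.smul_mulVec]
    rw [Matrix.mulVec_add, Matrix.mulVec_add, Matrix.mulVec_smul, Matrix.mulVec_smul,
      Matrix.mulVec_smul, hbx', hbz', hBy, kc]
    rw [Matrix.mulVec_add, Matrix.mulVec_add, Matrix.mulVec_smul, Matrix.mulVec_smul,
      Matrix.mulVec_smul, s1, s2, s3]
    module

end Groth.Agent.Helper2.Cubic
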