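import Mathlib
import Groth.Agent.Lib.Helper2.HesseFlex
import Groth.Agent.Lib.Helper2.HesseStab

/-! The 54 linear automorphisms of determinant one of a generic Hesse cubic. -/

namespace Groth.Agent.Helper2.Cubic

open Module Hesse

/-- translations by 3-torsion points -/
def Mj (j : Fin 3) (γ : ℂ) : Matrix (Fin 3) (Fin 3) ℂ :=
  match j with
  | 0 => !![γ ^ 2, 0, 0; 0, 1, 0; 0, 0, γ]
  | 1 => !![0, 0, γ; γ ^ 2, 0, 0; 0, 1, 0]
  | 2 => !![0, 1, 0; 0, 0, γ; γ ^ 2, 0, 0]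

/-- identity or the (determinant one lift of the) inversion -/
def Ee (e : Fin 2) : Matrix (Fin 3) (Fin 3) ℂ :=
  match e with
  | 0 => 1
  | 1 => -Sw

/-- the nine flexes -/
def Qj (j : Fin 3) (γ : ℂ) : Fin 3 → ℂ :=
  match j with
  | 0 => ![0, 1, -γ]
  | 1 => ![-γ, 0, 1]
  | 2 => ![1, -γ, 0]

theorem det_Mj (j : Fin 3) (γ : ℂ) (hγ : γ ^ 3 = 1) : (Mj j γ).det = 1 := by
  fin_cases j
  · show (!![γ ^ 2, 0, 0; 0, 1, 0; 0, 0, γ] : Matrix (Fin 3) (Fin 3) ℂ).det = 1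
    rw [Matrix.det_fin_three]
    simp
    linear_combination hγ
  · show (!![0, 0, γ; γ ^ 2, 0, 0; 0, 1, 0] : Matrix (Fin 3) (Fin 3) ℂ).det = 1
    rw [Matrix.det_fin_three]
    simp
    linear_combination hγ
  · show (!![0, 1, 0; 0, 0, γ; γ ^ 2, 0, 0] : Matrix (Fin 3) (Fin 3) ℂ).det = 1
    rw [Matrix.det_fin_three]
    simp
    linear_combination hγ

theorem H_Mj (k : ℂ) (j : Fin 3) (γ : ℂ) (hγ : γ ^ 3 = 1) (y : Fin 3 → ℂ) :
    H k ((Mj j γ).mulVec y) = H k y := by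
  fin_cases j
  · show H k ((!![γ ^ 2, 0, 0; 0, 1, 0; 0, 0, γ] : Matrix (Fin 3) (Fin 3) ℂ).mulVec y) = H k y
    simp only [H, Matrix.mulVec, dotProduct, Fin.sum_univ_three]
    simp
    linear_combination ((γ ^ 3 + 1) * y 0 ^ 3 + y 2 ^ 3 - 3 * k * (y 0 * y 1 * y 2)) * hγ
  · show H k ((!![0, 0, γ; γ ^ 2, 0, 0; 0, 1, 0] : Matrix (Fin 3) (Fin 3) ℂ).mulVec y) = H k y
    simp only [H, Matrix.mulVec, dotProduct, Fin.sum_univ_three]
    simp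
    linear_combination ((γ ^ 3 + 1) * y 0 ^ 3 + y 2 ^ 3 - 3 * k * (y 0 * y 1 * y 2)) * hγ
  · show H k ((!![0, 1, 0; 0, 0, γ; γ ^ 2, 0, 0] : Matrix (Fin 3) (Fin 3) ℂ).mulVec y) = H k y
    simp only [H, Matrix.mulVec, dotProduct, Fin.sum_univ_three]
    simp
    linear_combination ((γ ^ 3 + 1) * y 0 ^ 3 + y 2 ^ 3 - 3 * k * (y 0 * y 1 * y 2)) * hγ

theorem Mj_P0 (j : Fin 3) (γ : ℂ) : (Mj j γ).mulVec ![0, 1, -1] = Qj j γ := by
  fin_cases j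
  · show (!![γ ^ 2, 0, 0; 0, 1, 0; 0, 0, γ] : Matrix (Fin 3) (Fin 3) ℂ).mulVec ![0, 1, -1]
      = ![0, 1, -γ]
    funext i
    fin_cases i <;> simp [Matrix.mulVec, dotProduct, Fin.sum_univ_three]
  · show (!![0, 0, γ; γ ^ 2, 0, 0; 0, 1, 0] : Matrix (Fin 3) (Fin 3) ℂ).mulVec ![0, 1, -1]
      = ![-γ, 0, 1]
    funext i
    fin_cases i <;> simp [Matrix.mulVec, dotProduct, Fin.sum_univ_three]
  · show (!![0, 1, 0; 0, 0, γ; γ ^ 2, 0, 0] : Matrix (Fin 3) (Fin 3) ℂ).mulVec ![0, 1, -1]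
      = ![1, -γ, 0]
    funext i
    fin_cases i <;> simp [Matrix.mulVec, dotProduct, Fin.sum_univ_three]

theorem det_Ee (e : Fin 2) : (Ee e).det = 1 := by
  fin_cases e
  · show (1 : Matrix (Fin 3) (Fin 3) ℂ).det = 1
    exact Matrix.det_one
  · show (-Sw).det = 1
    rw [Matrix.det_fin_three]
    simp [Sw]

theorem H_Ee (k : ℂ) (e : Fin 2) (y : Fin 3 → ℂ) :
    H k ((Ee e).mulVec y) = (-1) ^ (e : ℕ) * H k y := by
  fin_cases e
  · show H k ((1 : Matrix (Fin 3) (Fin 3) ℂ).mulVec y) = (-1) ^ 0 * H k y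
    rw [Matrix.one_mulVec]; ring
  · show H k ((-Sw).mulVec y) = (-1) ^ 1 * H k y
    simp only [H, Sw, Matrix.mulVec, dotProduct, Fin.sum_univ_three]
    simp
    ring

theorem Ee_P0 (e : Fin 2) : (Ee e).mulVec ![0, 1, -1] = ![0, 1, -1] := by
  fin_cases e
  · show (1 : Matrix (Fin 3) (Fin 3) ℂ).mulVec _ = _
    rw [Matrix.one_mulVec]
  · show (-Sw).mulVec _ = _
    funext i
    fin_cases i <;> simp [Sw, Matrix.mulVec, dotProduct, Fin.sum_univ_three]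

theorem H_smul (k ν : ℂ) (y : Fin 3 → ℂ) : H k (ν • y) = ν ^ 3 * H k y := by
  simp only [H, Pi.smul_apply, smul_eq_mul]
  ring

/-- the nine flexes, again -/
theorem flex_eq_Qj (γ c : ℂ) (x : Fin 3 → ℂ)
    (hx : x = c • ![0, 1, -γ] ∨ x = c • ![-γ, 0, 1] ∨ x = c • ![1, -γ, 0]) :
    ∃ j : Fin 3, x = c • Qj j γ := by
  rcases hx with hx | hx | hx
  · exact ⟨0, hx⟩
  · exact ⟨1, hx⟩
  · exact ⟨2, hx⟩

end Groth.Agent.Helper2.Cubic
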