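import Mathlib
import Groth.Prelude.Def_W4c5monodromycubicsHesse
import Groth.Agent.Lib.Helper2.CubicPoly
import Groth.Agent.Lib.Helper2.HesseFlex
import Groth.Agent.Lib.Helper2.HesseAut
import Groth.Agent.Lib.Helper2.HesseFaithful
import Groth.Agent.Lib.Helper2.HesseStab
import Groth.Agent.Lib.Helper2.HesseGroup
import Groth.Agent.S18404

/-! Counting the linear automorphisms of determinant one of a generic Hesse cubic. -/

namespace Groth.Agent.Helper2.Cubic

open Module Hesse MvPolynomial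

/-- cube roots of unity -/
abbrev Mu3 : Type := ↥(Polynomial.nthRootsFinset 3 (1 : ℂ))

theorem Mu3.pow (γ : Mu3) : (γ : ℂ) ^ 3 = 1 :=
  (Polynomial.mem_nthRootsFinset (by norm_num) 1).mp γ.2

theorem Mu3.ne_zero (γ : Mu3) : (γ : ℂ) ≠ 0 := by
  intro h
  have := γ.pow
  rw [h] at this
  norm_num at this

theorem card_Mu3 : Fintype.card Mu3 = 3 := by
  rw [Fintype.card_coe]
  exact (Complex.isPrimitiveRoot_exp 3 (by norm_num)).card_nthRootsFinset

/-- the 54 matrices -/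
def Phi (d : Fin 3 × Mu3 × Mu3 × Fin 2) : Matrix (Fin 3) (Fin 3) ℂ :=
  (d.2.2.1 : ℂ) • (Mj d.1 d.2.1 * Ee d.2.2.2)

/-- determinant one linear automorphisms of the Hesse cubic -/
def AutSet (k : ℂ) : Set (Matrix (Fin 3) (Fin 3) ℂ) :=
  {A | A.det = 1 ∧ ∃ c : ℂ, ∀ v, H k (A.mulVec v) = c * H k v}

theorem Phi_mem (k : ℂ) (d : Fin 3 × Mu3 × Mu3 × Fin 2) : Phi d ∈ AutSet k := by
  obtain ⟨j, γ, ν, e⟩ := d
  refine ⟨?_, (-1) ^ (e : ℕ), ?_⟩
  · show ((ν : ℂ) • (Mj j γ * Ee e)).det = 1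
    rw [Matrix.det_smul, Matrix.det_mul, det_Mj j γ γ.pow, det_Ee, Fintype.card_fin, ν.pow]
    ring
  · intro v
    show H k (((ν : ℂ) • (Mj j γ * Ee e)).mulVec v) = _
    rw [Matrix.smul_mulVec, H_smul, ν.pow, one_mul, ← Matrix.mulVec_mulVec, H_Mj k j γ γ.pow, H_Ee]

theorem Qj_inj (j j' : Fin 3) (γ γ' ν ν' : ℂ) (hν : ν ≠ 0) (hν' : ν' ≠ 0)
    (h : ν • Qj j γ = ν' • Qj j' γ') : j = j' ∧ ν = ν' ∧ γ = γ' := by
  have h0 := congrFun h 0
  have h1 := congrFun h 1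
  have h2 := congrFun h 2
  fin_cases j <;> fin_cases j' <;> simp [Qj] at h0 h1 h2 ⊢
  · subst h1
    exact ⟨rfl, mul_left_cancel₀ hν h2⟩
  · exact hν h1
  · exact hν' h0.symm
  · exact hν' h1.symm
  · subst h2
    exact ⟨rfl, mul_left_cancel₀ hν h0⟩
  · exact hν h2
  · exact hν h0
  · exact hν' h2.symm
  · subst h0
    exact ⟨rfl, mul_left_cancel₀ hν h1⟩

theorem Phi_injective : Function.Injective Phi := by
  rintro ⟨j, γ, ν, e⟩ ⟨j', γ', ν', e'⟩ h
  have h' : (ν : ℂ) • (Mj j γ * Ee e) = (ν' : ℂ) • (Mj j' γ' * Ee e') := h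
  have hP := congrArg (fun M => M.mulVec ![0, 1, -1]) h'
  simp only [Matrix.smul_mulVec, ← Matrix.mulVec_mulVec, Ee_P0, Mj_P0] at hP
  obtain ⟨rfl, hνν, hγγ⟩ := Qj_inj j j' γ γ' ν ν' ν.ne_zero ν'.ne_zero hP
  have hν : ν = ν' := Subtype.ext hνν
  have hγ : γ = γ' := Subtype.ext hγγ
  subst hν hγ
  have h2 : Mj j γ * Ee e = Mj j γ * Ee e' := smul_right_injective _ ν.ne_zero h'
  have hdet : IsUnit (Mj j (γ : ℂ)).det := by rw [det_Mj j γ γ.pow]; exact isUnit_one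
  have h3 : Ee e = Ee e' := by
    have := congrArg (fun M => (Mj j (γ : ℂ))⁻¹ * M) h2
    simpa [← Matrix.mul_assoc, Matrix.nonsing_inv_mul _ hdet] using this
  have he : e = e' := by
    have h00 := congrFun (congrFun h3 0) 0
    fin_cases e <;> fin_cases e' <;> simp [Ee, Sw] at h00 ⊢
    · norm_num at h00
    · norm_num at h00
  rw [he]

theorem P0_flex (k : ℂ) (hk : k ^ 3 ≠ 1) : IsFlex (H k) ![0, 1, -1] := by
  have hne : (![0, 1, -1] : Fin 3 → ℂ) ≠ 0 := by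
    intro h
    have := congrFun h 1
    simp at this
  have hH : eval ![0, 1, -1] (HesseCubic.form k) = 0 := by
    rw [eval_form]
    simp [H]
    norm_num
  have := (Groth.Agent.S18404.result k hk ![0, 1, -1] hne hH).mpr
    ⟨1, 1, one_pow 3, Or.inl (one_smul _ _).symm⟩
  obtain ⟨w, hw, hw'⟩ := this
  refine ⟨w, hw, ?_⟩
  intro t
  rw [← eval_form, ← eval_form]
  exact hw' t

theorem mem_range_Phi (k : ℂ) (hk0 : k ≠ 0) (hk1 : k ^ 3 ≠ 1) (hk8 : k ^ 3 + 8 ≠ 0)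
    (hk6 : k ^ 6 - 20 * k ^ 3 - 8 ≠ 0) (A : Matrix (Fin 3) (Fin 3) ℂ) (hA : A ∈ AutSet k) :
    A ∈ Set.range Phi := by
  obtain ⟨hdet, c, hc⟩ := hA
  have hAu : IsUnit A.det := by rw [hdet]; exact isUnit_one
  have hc0 : c ≠ 0 := by
    rintro rfl
    have := hc (A⁻¹.mulVec ![1, 0, 0])
    rw [mulVec_inv_cancel hAu, zero_mul] at this
    simp [H] at this
  have hP0ne : (![0, 1, -1] : Fin 3 → ℂ) ≠ 0 := by
    intro h
    have := congrFun h 1
    simp at this
  have hfl : IsFlex (H k) (A.mulVec ![0, 1, -1]) :=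
    flex_transport' (F := H k) (G := H k) hAu hc _ (P0_flex k hk1)
  have hne : A.mulVec ![0, 1, -1] ≠ 0 := by
    intro h
    apply hP0ne
    rw [← inv_mulVec_cancel hAu ![0, 1, -1], h, Matrix.mulVec_zero]
  have hH0 : H k ![0, 1, -1] = 0 := by
    simp [H]
    norm_num
  have hHA : eval (A.mulVec ![0, 1, -1]) (HesseCubic.form k) = 0 := by
    rw [eval_form, hc, hH0, mul_zero]
  have hfl' : ∃ w : Fin 3 → ℂ, LinearIndependent ℂ ![A.mulVec ![0, 1, -1], w] ∧
      ∀ t : ℂ, eval (A.mulVec ![0, 1, -1] + t • w) (HesseCubic.form k)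
        = t ^ 3 * eval w (HesseCubic.form k) := by
    obtain ⟨w, hw, hw'⟩ := hfl
    refine ⟨w, hw, ?_⟩
    intro t
    rw [eval_form, eval_form]
    exact hw' t
  obtain ⟨γ, c', hγ, hcases⟩ := (Groth.Agent.S18404.result k hk1 _ hne hHA).mp hfl'
  obtain ⟨j, hj⟩ := flex_eq_Qj γ c' _ hcases
  have hMu : IsUnit (Mj j γ).det := by rw [det_Mj j γ hγ]; exact isUnit_one
  -- the element of the stabiliser
  have hBP : ((Mj j γ)⁻¹ * A).mulVec ![0, 1, -1] = c' • ![0, 1, -1] := by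
    rw [← Matrix.mulVec_mulVec, hj, ← Mj_P0, Matrix.mulVec_smul, inv_mulVec_cancel hMu]
  have hBH : ∀ v, H k (((Mj j γ)⁻¹ * A).mulVec v) = c * H k v := by
    intro v
    rw [← Matrix.mulVec_mulVec, ← H_Mj k j γ hγ ((Mj j γ)⁻¹.mulVec (A.mulVec v)),
      mulVec_inv_cancel hMu, hc]
  obtain ⟨b, hb⟩ := hesse_stab k hk0 hk1 hk8 hk6 _ c hc0 hBH c' hBP
  have hAeq : A = Mj j γ * ((Mj j γ)⁻¹ * A) := by
    rw [← Matrix.mul_assoc, Matrix.mul_nonsing_inv _ hMu, Matrix.one_mul]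
  have hγm : γ ∈ Polynomial.nthRootsFinset 3 (1 : ℂ) :=
    (Polynomial.mem_nthRootsFinset (by norm_num) 1).mpr hγ
  rcases hb with hb | hb
  · have hb3 : b ^ 3 = 1 := by
      have := hdet
      rw [hAeq, hb, Matrix.det_mul, det_Mj j γ hγ, Matrix.det_smul, Matrix.det_one,
        Fintype.card_fin] at this
      linear_combination this
    have hbm : b ∈ Polynomial.nthRootsFinset 3 (1 : ℂ) :=
      (Polynomial.mem_nthRootsFinset (by norm_num) 1).mpr hb3
    refine ⟨(j, ⟨γ, hγm⟩, ⟨b, hbm⟩, 0), ?_⟩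
    show b • (Mj j γ * 1) = A
    rw [hAeq, hb, Matrix.mul_smul]
  · have hdSw : Sw.det = -1 := by
      rw [Matrix.det_fin_three]
      simp [Sw]
    have hb3 : (-b) ^ 3 = 1 := by
      have := hdet
      rw [hAeq, hb, Matrix.det_mul, det_Mj j γ hγ, Matrix.det_smul, hdSw,
        Fintype.card_fin] at this
      linear_combination this
    have hbm : -b ∈ Polynomial.nthRootsFinset 3 (1 : ℂ) :=
      (Polynomial.mem_nthRootsFinset (by norm_num) 1).mpr hb3
    refine ⟨(j, ⟨γ, hγm⟩, ⟨-b, hbm⟩, 1), ?_⟩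
    show (-b) • (Mj j γ * (-Sw)) = A
    rw [hAeq, hb, Matrix.mul_smul, Matrix.mul_neg, smul_neg, neg_smul, neg_neg]

theorem card_AutSet (k : ℂ) (hk0 : k ≠ 0) (hk1 : k ^ 3 ≠ 1) (hk8 : k ^ 3 + 8 ≠ 0)
    (hk6 : k ^ 6 - 20 * k ^ 3 - 8 ≠ 0) : Nat.card ↥(AutSet k) = 54 := by
  have h : AutSet k = Set.range Phi :=
    Set.Subset.antisymm (fun A hA => mem_range_Phi k hk0 hk1 hk8 hk6 A hA)
      (by rintro _ ⟨d, rfl⟩; exact Phi_mem k d)
  rw [h, Nat.card_congr (Equiv.ofInjective Phi Phi_injective).symm, Nat.card_eq_fintype_card]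
  simp only [Fintype.card_prod, Fintype.card_fin, card_Mu3]

theorem aut_iff (k : ℂ) (A : Matrix (Fin 3) (Fin 3) ℂ) :
    (A.det = 1 ∧ ∃ c : ℂ, aeval (fun i : Fin 3 => ∑ j : Fin 3, C (A i j) * X j)
      (HesseCubic.form k) = C c * HesseCubic.form k) ↔ A ∈ AutSet k := by
  refine and_congr Iff.rfl (exists_congr fun c => ?_)
  constructor
  · intro h v
    have := congrArg (eval v) h
    rw [eval_subst, map_mul, eval_C, eval_form, eval_form] at this
    exact this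
  · intro h
    apply MvPolynomial.funext
    intro v
    rw [eval_subst, map_mul, eval_C, eval_form, eval_form]
    exact h v

/-- the exceptional parameters -/
noncomputable def excPoly : Polynomial ℂ :=
  Polynomial.X * (Polynomial.X ^ 3 - 1) * (Polynomial.X ^ 3 + 8)
    * (Polynomial.X ^ 6 - 20 * Polynomial.X ^ 3 - 8)

theorem card_projAut_generic :
    ∃ T : Finset ℂ, ∀ k : ℂ, k ∉ T →
      Nat.card {A : Matrix (Fin 3) (Fin 3) ℂ // A.det = 1 ∧
        ∃ c : ℂ, aeval (fun i : Fin 3 => ∑ j : Fin 3, C (A i j) * X j) (HesseCubic.form k) =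
          C c * HesseCubic.form k} = 54 := by
  classical
  refine ⟨excPoly.roots.toFinset, ?_⟩
  intro k hk
  have hne : excPoly ≠ 0 := by
    intro h
    have := congrArg (Polynomial.eval 2) h
    simp [excPoly] at this
    norm_num at this
  have hev : Polynomial.eval k excPoly ≠ 0 := by
    intro h
    apply hk
    rw [Multiset.mem_toFinset, Polynomial.mem_roots hne]
    exact h
  simp only [excPoly, Polynomial.eval_mul, Polynomial.eval_sub, Polynomial.eval_add,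
    Polynomial.eval_pow, Polynomial.eval_X, Polynomial.eval_one, Polynomial.eval_ofNat] at hev
  have hk0 : k ≠ 0 := by
    rintro rfl
    apply hev
    ring
  have hk1 : k ^ 3 ≠ 1 := by
    intro h
    apply hev
    rw [h]
    ring
  have hk8 : k ^ 3 + 8 ≠ 0 := by
    intro h
    apply hev
    rw [h]
    ring
  have hk6 : k ^ 6 - 20 * k ^ 3 - 8 ≠ 0 := by
    intro h
    apply hev
    rw [h]
    ring
  rw [← card_AutSet k hk0 hk1 hk8 hk6]
  exact Nat.card_congr (Equiv.subtypeEquivRight (fun A => aut_iff k A))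

end Groth.Agent.Helper2.Cubic
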