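import Mathlib

/-!
# The largest open of the source on which a morphism has a property local on the source (helper2)
-/

set_option autoImplicit false
open CategoryTheory CategoryTheory.Limits AlgebraicGeometry MorphismProperty

namespace Groth.Agent.Helper2.LargestOpenSrc
universe u

variable (Q P : MorphismProperty Scheme.{u}) [P.IsLocalAtSource (Scheme.precoverage Q)]

/-- Precomposition with a `Q`-morphism preserves `P`, when identities are in `Q`. -/
theorem comp_of_Q (hOI : ∀ {A B : Scheme.{u}} (j : A ⟶ B), IsOpenImmersion j → Q j)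
    {A B C : Scheme.{u}} (g : A ⟶ B) (f : B ⟶ C) (hg : Q g) (hf : P f) : P (g ≫ f) := by
  let Xs : Bool → Scheme.{u} := fun b => if b then A else B
  let fs : ∀ b, Xs b ⟶ B := fun b => match b with
    | true => g
    | false => 𝟙 B
  have hR : Presieve.ofArrows Xs fs ∈ Scheme.precoverage Q B := by
    rw [Scheme.ofArrows_mem_precoverage_iff]
    refine ⟨fun x => ⟨false, x, rfl⟩, fun b => ?_⟩
    match b with
    | true => exact hg
    | false => exact hOI (𝟙 B) inferInstance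
  exact IsLocalAtSource.comp hR g (Presieve.ofArrows.mk (ι := Bool) (Y := Xs) (f := fs) true) hf

theorem main (hOI : ∀ {A B : Scheme.{u}} (j : A ⟶ B), IsOpenImmersion j → Q j)
    (hopen : ∀ {A B : Scheme.{u}} (g : A ⟶ B), Q g → IsOpenMap g)
    (hcomp : ∀ {A B C : Scheme.{u}} (g : A ⟶ B) (h : B ⟶ C), Q g → Q h → Q (g ≫ h))
    (hpost : ∀ {A B C : Scheme.{u}} (g : A ⟶ B) (j : B ⟶ C), IsOpenImmersion j → Q (g ≫ j) → Q g)
    {X Y : Scheme.{u}} (f : X ⟶ Y) :
    ∃ W : X.Opens, (P (W.ι ≫ f) ∧ ∀ W' : X.Opens, P (W'.ι ≫ f) → W' ≤ W) ∧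
      ∀ (X' : Scheme.{u}) (g : X' ⟶ X), Q g → ∀ V : X'.Opens,
        (P (V.ι ≫ g ≫ f) ∧ ∀ V' : X'.Opens, P (V'.ι ≫ g ≫ f) → V' ≤ V) → V = g ⁻¹ᵁ W := by
  let W : X.Opens := sSup {W' | P (W'.ι ≫ f)}
  have hle : ∀ W' : X.Opens, P (W'.ι ≫ f) → W' ≤ W := fun W' h => le_sSup h
  have hPW : P (W.ι ≫ f) := by
    let I := {W' : X.Opens // P (W'.ι ≫ f)}
    have hR : Presieve.ofArrows (fun i : I => (i.1 : Scheme.{u}))
        (fun i : I => X.homOfLE (hle i.1 i.2)) ∈ Scheme.precoverage Q W := by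
      rw [Scheme.ofArrows_mem_precoverage_iff]
      refine ⟨fun x => ?_, fun i => hOI _ inferInstance⟩
      obtain ⟨W', hW', hx⟩ := TopologicalSpace.Opens.mem_sSup.mp x.2
      refine ⟨⟨W', hW'⟩, ⟨x.1, hx⟩, ?_⟩
      apply W.ι.injective
      rw [← Scheme.Hom.comp_apply, Scheme.homOfLE_ι]
      rfl
    refine IsLocalAtSource.of_forall_comp hR ?_
    rintro U g ⟨i⟩
    rw [← Category.assoc, Scheme.homOfLE_ι]
    exact i.2
  refine ⟨W, ⟨hPW, hle⟩, ?_⟩
  intro X' g hg V hV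
  apply le_antisymm
  · -- `g(V) ⊆ W`
    let W'' : X.Opens := ⟨g '' (V : Set X'), hopen g hg _ V.isOpen⟩
    have hsub : Set.range (V.ι ≫ g) ⊆ Set.range W''.ι := by
      rintro _ ⟨x, rfl⟩
      rw [Scheme.Opens.range_ι]
      exact ⟨x.1, x.2, rfl⟩
    let v : (V : Scheme.{u}) ⟶ W'' := IsOpenImmersion.lift W''.ι (V.ι ≫ g) hsub
    have hv : v ≫ W''.ι = V.ι ≫ g := IsOpenImmersion.lift_fac _ _ _
    have hQv : Q v := hpost v W''.ι inferInstance (by
      rw [hv]; exact hcomp _ _ (hOI _ inferInstance) hg)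
    have hvs : Function.Surjective v.base := by
      rintro ⟨y, x, hx, rfl⟩
      refine ⟨⟨x, hx⟩, ?_⟩
      apply W''.ι.injective
      change (v ≫ W''.ι) _ = _
      rw [hv]
      rfl
    have hR : Presieve.singleton v ∈ Scheme.precoverage Q W'' :=
      (Scheme.singleton_mem_precoverage_iff (P := Q) (f := v)).mpr ⟨hvs, hQv⟩
    have hPW'' : P (W''.ι ≫ f) := by
      refine IsLocalAtSource.of_forall_comp hR ?_
      rintro U g' ⟨⟩
      rw [← Category.assoc, hv, Category.assoc]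
      exact hV.1
    intro x hx
    exact hle W'' hPW'' ⟨x, hx, rfl⟩
  · apply hV.2
    have e : (g ⁻¹ᵁ W).ι ≫ g = (g ∣_ W) ≫ W.ι := (morphismRestrict_ι g W).symm
    have hQr : Q (g ∣_ W) := hpost _ W.ι inferInstance (by
      rw [← e]; exact hcomp _ _ (hOI _ inferInstance) hg)
    rw [← Category.assoc, e, Category.assoc]
    exact comp_of_Q Q P hOI _ _ hQr hPW

end Groth.Agent.Helper2.LargestOpenSrc
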