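import Mathlib

/-!
# Left invertibility of `u : M → N`, `M` finite, `N` projective (EGA 0_IV 19.1)

The intrinsic notion used throughout: `LIS S u` says that there are `f ∈ S` and `w : N → M`
with `w ∘ u = f • id`.
-/

namespace Groth.Agent.Helper2.LeftInv

open TensorProduct

universe u v

section basic

variable {A : Type*} [CommRing A] {M : Type*} {N : Type*} [AddCommGroup M] [Module A M]
  [AddCommGroup N] [Module A N]

/-- The ideal of `f` with `w ∘ u = f • id` for some `w`. -/
def ideal (u : M →ₗ[A] N) : Ideal A where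
  carrier := {f | ∃ w : N →ₗ[A] M, w ∘ₗ u = f • LinearMap.id}
  add_mem' := by
    rintro a b ⟨w, hw⟩ ⟨w', hw'⟩
    exact ⟨w + w', by rw [LinearMap.add_comp, hw, hw', add_smul]⟩
  zero_mem' := ⟨0, by simp⟩
  smul_mem' := by
    rintro c a ⟨w, hw⟩
    exact ⟨c • w, by rw [LinearMap.smul_comp, hw, smul_eq_mul, mul_smul]⟩

theorem mem_ideal {u : M →ₗ[A] N} {f : A} :
    f ∈ ideal u ↔ ∃ w : N →ₗ[A] M, w ∘ₗ u = f • LinearMap.id := Iff.rfl

/-- `u` is left invertible up to an element of `S`. -/
def LIS (S : Submonoid A) (u : M →ₗ[A] N) : Prop := ∃ f ∈ S, f ∈ ideal u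

theorem one_mem_ideal {u : M →ₗ[A] N} :
    (1 : A) ∈ ideal u ↔ ∃ w : N →ₗ[A] M, w ∘ₗ u = LinearMap.id := by
  rw [mem_ideal]; simp only [one_smul]

theorem LIS.mono {S T : Submonoid A} (h : S ≤ T) {u : M →ₗ[A] N} (hu : LIS S u) : LIS T u := by
  obtain ⟨f, hf, hfu⟩ := hu
  exact ⟨f, h hf, hfu⟩

/-- `u` is left invertible iff it is so at every maximal ideal (intrinsic form). -/
theorem leftInv_iff_forall_maximal {u : M →ₗ[A] N} :
    (∃ w : N →ₗ[A] M, w ∘ₗ u = LinearMap.id) ↔
      ∀ (m : Ideal A) [m.IsMaximal], LIS m.primeCompl u := by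
  rw [← one_mem_ideal]
  constructor
  · intro h m _
    exact ⟨1, Submonoid.one_mem _, h⟩
  · intro h
    by_contra h1
    have hne : ideal u ≠ ⊤ := fun htop => h1 (htop ▸ Submodule.mem_top)
    obtain ⟨m, hm, hle⟩ := Ideal.exists_le_maximal _ hne
    obtain ⟨f, hf, hfu⟩ := h m
    exact hf (hle hfu)

/-- The locus where `u` is left invertible is open (intrinsic form). -/
theorem isOpen_LIS (u : M →ₗ[A] N) :
    IsOpen {p : PrimeSpectrum A | LIS p.asIdeal.primeCompl u} := by
  have : {p : PrimeSpectrum A | LIS p.asIdeal.primeCompl u} =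
      (PrimeSpectrum.zeroLocus (ideal u : Set A))ᶜ := by
    ext p
    simp only [Set.mem_setOf_eq, Set.mem_compl_iff, PrimeSpectrum.mem_zeroLocus, LIS,
      Set.not_subset, SetLike.mem_coe, Ideal.mem_primeCompl_iff]
    constructor
    · rintro ⟨f, hf, hfu⟩; exact ⟨f, hfu, hf⟩
    · rintro ⟨f, hfu, hf⟩; exact ⟨f, hf, hfu⟩
  rw [this]
  exact (PrimeSpectrum.isClosed_zeroLocus _).isOpen_compl

/-- `LIS (powers f)` versus `LIS p.primeCompl`. -/
theorem LIS_primeCompl_iff_exists_powers (p : Ideal A) [p.IsPrime] {u : M →ₗ[A] N} :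
    LIS p.primeCompl u ↔ ∃ f : A, f ∉ p ∧ LIS (Submonoid.powers f) u := by
  constructor
  · rintro ⟨f, hf, hfu⟩
    exact ⟨f, hf, f, Submonoid.mem_powers f, hfu⟩
  · rintro ⟨f, hf, g, ⟨n, rfl⟩, hgu⟩
    exact ⟨f ^ n, fun h => hf (Ideal.IsPrime.mem_of_pow_mem ‹_› n h), hgu⟩

/-- Mutual factorisation transports the ideal. -/
theorem ideal_eq_of_factor {N₀ : Type*} [AddCommGroup N₀] [Module A N₀] {u : M →ₗ[A] N}
    {u₀ : M →ₗ[A] N₀} (i : N₀ →ₗ[A] N) (r : N →ₗ[A] N₀) (hi : i ∘ₗ u₀ = u) (hr : r ∘ₗ u = u₀) :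
    ideal u = ideal u₀ := by
  ext f
  constructor
  · rintro ⟨w, hw⟩
    exact ⟨w ∘ₗ i, by rw [LinearMap.comp_assoc, hi, hw]⟩
  · rintro ⟨w, hw⟩
    exact ⟨w ∘ₗ r, by rw [LinearMap.comp_assoc, hr, hw]⟩

end basic

section factor
variable {A : Type*} [CommRing A] {M : Type*} {N : Type*} [AddCommGroup M] [Module A M]
  [AddCommGroup N] [Module A N]

/-- A map from a finite module to a projective module factors mutually through a finite free
module. -/
theorem exists_factor [Module.Finite A M] [Module.Projective A N] (u : M →ₗ[A] N) :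
    ∃ (T : Finset N) (u₀ : M →ₗ[A] (T → A)) (i : (T → A) →ₗ[A] N) (r : N →ₗ[A] (T → A)),
      i ∘ₗ u₀ = u ∧ r ∘ₗ u = u₀ := by
  classical
  obtain ⟨s, hs⟩ := Module.projective_def'.mp (inferInstance : Module.Projective A N)
  obtain ⟨G, hG⟩ := (Module.Finite.fg_top : (⊤ : Submodule A M).FG)
  let T : Finset N := G.biUnion fun g => (s (u g)).support
  have hsupp : ∀ x : M, s (u x) ∈ Finsupp.supported A A (T : Set N) := by
    have : (⊤ : Submodule A M) ≤ (Finsupp.supported A A (T : Set N)).comap (s ∘ₗ u) := by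
      rw [← hG, Submodule.span_le]
      intro g hg
      simp only [Submodule.comap_coe, Set.mem_preimage, LinearMap.coe_comp, Function.comp_apply,
        SetLike.mem_coe, Finsupp.mem_supported]
      intro t ht
      exact Finset.mem_biUnion.mpr ⟨g, hg, ht⟩
    intro x
    exact this (Submodule.mem_top (x := x))
  let r : N →ₗ[A] (T → A) := LinearMap.pi fun t => Finsupp.lapply (t : N) ∘ₗ s
  let i : (T → A) →ₗ[A] N := Fintype.linearCombination A (fun t : T => (t : N))
  refine ⟨T, r ∘ₗ u, i, r, ?_, rfl⟩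
  ext x
  have h1 : Finsupp.linearCombination A id (s (u x)) = u x := LinearMap.congr_fun hs (u x)
  simp only [LinearMap.coe_comp, Function.comp_apply]
  have h2 : (s (u x)).support ⊆ T := by
    have := hsupp x
    rwa [Finsupp.mem_supported] at this
  have h3 : i (r (u x)) = ∑ t : T, (s (u x)) (t : N) • (t : N) := by
    rw [Fintype.linearCombination_apply]
    rfl
  rw [h3]
  conv_rhs => rw [← h1]
  rw [Finsupp.linearCombination_apply, Finsupp.sum]
  rw [Finset.sum_subset h2 (by
    intro t _ ht
    rw [Finsupp.notMem_support_iff] at ht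
    simp [ht])]
  rw [← Finset.sum_coe_sort T]
  rfl

end factor
section loc
variable {A : Type*} [CommRing A] (S : Submonoid A) {M : Type*} {N : Type*} [AddCommGroup M]
  [Module A M] [AddCommGroup N] [Module A N] {M' : Type*} [AddCommGroup M'] [Module A M']
  (fM : M →ₗ[A] M') [IsLocalizedModule S fM]

include S in
/-- intrinsic → local -/
theorem exists_of_LIS {u : M →ₗ[A] N} (h : LIS S u) : ∃ g : N →ₗ[A] M', g ∘ₗ u = fM := by
  obtain ⟨f, hf, w, hw⟩ := h
  have hu := IsLocalizedModule.map_units fM ⟨f, hf⟩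
  refine ⟨((hu.unit⁻¹ : (Module.End A M')ˣ) : Module.End A M') ∘ₗ fM ∘ₗ w, ?_⟩
  ext x
  have h1 : w (u x) = f • x := LinearMap.congr_fun hw x
  simp only [LinearMap.coe_comp, Function.comp_apply, h1, map_smul]
  have h3 : (hu.unit : Module.End A M') (((hu.unit⁻¹ : (Module.End A M')ˣ) : Module.End A M') (fM x)) = fM x := by
    rw [← Module.End.mul_apply, Units.mul_inv]; rfl
  exact h3

theorem LIS_of_exists_fp [Module.Finite A M] [Module.FinitePresentation A N] {u : M →ₗ[A] N}
    (g : N →ₗ[A] M') (hg : g ∘ₗ u = fM) : LIS S u := by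
  obtain ⟨h, s, hs⟩ := Module.FinitePresentation.exists_lift_of_isLocalizedModule S fM g
  have : fM ∘ₗ (h ∘ₗ u) = fM ∘ₗ ((s : A) • LinearMap.id) := by
    rw [← LinearMap.comp_assoc, hs, LinearMap.smul_comp, hg]
    ext x
    simp [Submonoid.smul_def]
  obtain ⟨t, ht⟩ := Module.Finite.exists_smul_of_comp_eq_of_isLocalizedModule S fM _ _ this
  refine ⟨t * s, (t * s).2, (t : A) • h, ?_⟩
  rw [LinearMap.smul_comp, mul_smul]
  exact ht

theorem LIS_of_exists [Module.Finite A M] [Module.Projective A N] {u : M →ₗ[A] N}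
    (g : N →ₗ[A] M') (hg : g ∘ₗ u = fM) : LIS S u := by
  obtain ⟨T, u₀, i, r, hi, hr⟩ := exists_factor u
  have h0 : LIS S u₀ := LIS_of_exists_fp S fM (g ∘ₗ i) (by rw [LinearMap.comp_assoc, hi, hg])
  obtain ⟨f, hf, hfu⟩ := h0
  exact ⟨f, hf, by rwa [ideal_eq_of_factor i r hi hr]⟩

theorem LIS_iff_exists [Module.Finite A M] [Module.Projective A N] {u : M →ₗ[A] N} :
    LIS S u ↔ ∃ g : N →ₗ[A] M', g ∘ₗ u = fM :=
  ⟨exists_of_LIS S fM, fun ⟨g, hg⟩ => LIS_of_exists S fM g hg⟩

theorem map_comp_mk (u : M →ₗ[A] N) :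
    (LocalizedModule.map S u).restrictScalars A ∘ₗ LocalizedModule.mkLinearMap S M =
      LocalizedModule.mkLinearMap S N ∘ₗ u := by
  ext x
  simp [LocalizedModule.mkLinearMap_apply, LocalizedModule.map_mk]

/-- The statement form with `LocalizedModule` is equivalent to the intrinsic one. -/
theorem LIloc_iff_LIS [Module.Finite A M] [Module.Projective A N] (u : M →ₗ[A] N) :
    (∃ w : LocalizedModule S N →ₗ[A] LocalizedModule S M,
        w ∘ₗ (LocalizedModule.map S u).restrictScalars A = LinearMap.id) ↔ LIS S u := by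
  rw [LIS_iff_exists S (LocalizedModule.mkLinearMap S M)]
  constructor
  · rintro ⟨w, hw⟩
    refine ⟨w ∘ₗ LocalizedModule.mkLinearMap S N, ?_⟩
    rw [LinearMap.comp_assoc, ← map_comp_mk, ← LinearMap.comp_assoc, hw, LinearMap.id_comp]
  · rintro ⟨g, hg⟩
    refine ⟨IsLocalizedModule.lift S (LocalizedModule.mkLinearMap S N) g
      (IsLocalizedModule.map_units (LocalizedModule.mkLinearMap S M)), ?_⟩
    apply IsLocalizedModule.linearMap_ext S (LocalizedModule.mkLinearMap S M)
      (LocalizedModule.mkLinearMap S M)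
    rw [LinearMap.comp_assoc, map_comp_mk, ← LinearMap.comp_assoc, IsLocalizedModule.lift_comp, hg,
      LinearMap.id_comp]

/-- The base change form (to a localization) is equivalent to the intrinsic one. -/
theorem LIbc_iff_LIS (A' : Type*) [CommRing A'] [Algebra A A'] [IsLocalization S A']
    [Module.Finite A M] [Module.Projective A N] (u : M →ₗ[A] N) :
    (∃ w : A' ⊗[A] N →ₗ[A'] A' ⊗[A] M, w ∘ₗ u.baseChange A' = LinearMap.id) ↔ LIS S u := by
  constructor
  · rintro ⟨w, hw⟩
    rw [LIS_iff_exists S (TensorProduct.mk A A' M 1)]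
    refine ⟨w.restrictScalars A ∘ₗ TensorProduct.mk A A' N 1, ?_⟩
    ext x
    have := LinearMap.congr_fun hw (1 ⊗ₜ x)
    simpa using this
  · rintro ⟨f, hf, w, hw⟩
    refine ⟨(IsLocalization.mk' A' (1 : A) ⟨f, hf⟩) • w.baseChange A', ?_⟩
    rw [LinearMap.smul_comp, ← LinearMap.baseChange_comp, hw, LinearMap.baseChange_smul,
      LinearMap.baseChange_id]
    ext x
    simp only [LinearMap.smul_apply, LinearMap.id_coe, id_eq, AlgebraTensorModule.curry_apply,
      curry_apply, LinearMap.coe_restrictScalars]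
    rw [← algebraMap_smul A' f, smul_smul]
    have : IsLocalization.mk' A' (1 : A) ⟨f, hf⟩ * (algebraMap A A') f = 1 := by
      have := IsLocalization.mk'_spec A' (1 : A) ⟨f, hf⟩
      simpa using this
    rw [this, one_smul]

end loc
section fibre
variable {A : Type*} [CommRing A] {M : Type*} {N : Type*} [AddCommGroup M]
  [Module A M] [AddCommGroup N] [Module A N]

theorem injective_lTensor_of_LIS (p : Ideal A) [p.IsPrime] {u : M →ₗ[A] N}
    (h : LIS p.primeCompl u) : Function.Injective (u.lTensor p.ResidueField) := by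
  obtain ⟨f, hf, w, hw⟩ := h
  rw [injective_iff_map_eq_zero]
  intro y hy
  have h1 : (w.lTensor p.ResidueField) ((u.lTensor p.ResidueField) y) = f • y := by
    rw [← LinearMap.comp_apply, ← LinearMap.lTensor_comp, hw, LinearMap.lTensor_smul,
      LinearMap.lTensor_id]
    rfl
  rw [hy, map_zero] at h1
  have h2 : algebraMap A p.ResidueField f ≠ 0 := by
    rw [Ne, Ideal.algebraMap_residueField_eq_zero]
    exact hf
  have h3 : (algebraMap A p.ResidueField f) • y = 0 := by
    rw [algebraMap_smul]; exact h1.symm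
  exact (smul_eq_zero.mp h3).resolve_left h2

theorem lTensor_cancel (A' K : Type*) [CommRing A'] [Algebra A A'] [CommRing K] [Algebra A K]
    [Algebra A' K] [IsScalarTower A A' K] (u : M →ₗ[A] N) (y : K ⊗[A'] (A' ⊗[A] M)) :
    AlgebraTensorModule.cancelBaseChange A A' K K N ((u.baseChange A').lTensor K y) =
      u.lTensor K (AlgebraTensorModule.cancelBaseChange A A' K K M y) := by
  induction y using TensorProduct.induction_on with
  | zero => simp
  | add a b ha hb => simp only [map_add, ha, hb]
  | tmul c z =>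
    induction z using TensorProduct.induction_on with
    | zero => simp
    | add a b ha hb => simp only [tmul_add, map_add, ha, hb]
    | tmul a m => simp

theorem LIS_of_injective_lTensor [Module.Finite A M] [Module.Projective A N]
    (p : Ideal A) [p.IsPrime] {u : M →ₗ[A] N}
    (h : Function.Injective (u.lTensor p.ResidueField)) : LIS p.primeCompl u := by
  obtain ⟨T, u₀, i, r, hi, hr⟩ := exists_factor u
  have h0 : Function.Injective (u₀.lTensor p.ResidueField) := by
    have : u.lTensor p.ResidueField = i.lTensor p.ResidueField ∘ₗ u₀.lTensor p.ResidueField := by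
      rw [← LinearMap.lTensor_comp, hi]
    rw [this, LinearMap.coe_comp] at h
    exact Function.Injective.of_comp h
  suffices LIS p.primeCompl u₀ by
    obtain ⟨f, hf, hfu⟩ := this
    exact ⟨f, hf, by rwa [ideal_eq_of_factor i r hi hr]⟩
  rw [← LIbc_iff_LIS p.primeCompl (Localization.AtPrime p) u₀]
  rw [IsLocalRing.split_injective_iff_lTensor_residueField_injective]
  intro y y' hyy'
  have h1 := lTensor_cancel (A := A) (Localization.AtPrime p) p.ResidueField u₀ y
  have h2 := lTensor_cancel (A := A) (Localization.AtPrime p) p.ResidueField u₀ y'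
  have h3 : u₀.lTensor p.ResidueField (AlgebraTensorModule.cancelBaseChange A
      (Localization.AtPrime p) p.ResidueField p.ResidueField M y) =
      u₀.lTensor p.ResidueField (AlgebraTensorModule.cancelBaseChange A
      (Localization.AtPrime p) p.ResidueField p.ResidueField M y') := by
    rw [← h1, ← h2]
    exact congrArg _ hyy'
  exact (AlgebraTensorModule.cancelBaseChange A
      (Localization.AtPrime p) p.ResidueField p.ResidueField M).injective (h0 h3)

end fibre
section ff
variable {A : Type*} [CommRing A] {M : Type*} {N : Type*} [AddCommGroup M]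
  [Module A M] [AddCommGroup N] [Module A N]

theorem leftComm_lTensor (A' K : Type*) [CommRing A'] [Algebra A A'] [AddCommGroup K] [Module A K]
    (u : M →ₗ[A] N) (y : A' ⊗[A] (K ⊗[A] M)) :
    TensorProduct.leftComm A A' K N ((u.lTensor K).lTensor A' y) =
      ((u.baseChange A').restrictScalars A).lTensor K (TensorProduct.leftComm A A' K M y) := by
  induction y using TensorProduct.induction_on with
  | zero => simp
  | add a b ha hb => simp only [map_add, ha, hb]
  | tmul c z =>
    induction z using TensorProduct.induction_on with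
    | zero => simp
    | add a b ha hb => simp only [tmul_add, map_add, ha, hb]
    | tmul a m => simp

theorem injective_lTensor_of_LIbc (A' : Type*) [CommRing A'] [Algebra A A']
    [Module.FaithfullyFlat A A'] (K : Type*) [AddCommGroup K] [Module A K] {u : M →ₗ[A] N}
    (h : ∃ w : A' ⊗[A] N →ₗ[A'] A' ⊗[A] M, w ∘ₗ u.baseChange A' = LinearMap.id) :
    Function.Injective (u.lTensor K) := by
  obtain ⟨w, hw⟩ := h
  rw [← Module.FaithfullyFlat.lTensor_injective_iff_injective A A']
  have hinj : Function.Injective (((u.baseChange A').restrictScalars A).lTensor K) := by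
    have : ((w.restrictScalars A).lTensor K) ∘ₗ (((u.baseChange A').restrictScalars A).lTensor K)
        = LinearMap.id := by
      rw [← LinearMap.lTensor_comp, ← LinearMap.restrictScalars_comp, hw]
      ext; simp
    exact Function.HasLeftInverse.injective ⟨_, LinearMap.congr_fun this⟩
  intro y y' hyy'
  apply (TensorProduct.leftComm A A' K M).injective
  apply hinj
  rw [← leftComm_lTensor, ← leftComm_lTensor, hyy']


/-- Faithfully flat descent of left invertibility. -/
theorem leftInv_of_LIbc [Module.Finite A M] [Module.Projective A N] (A' : Type*) [CommRing A']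
    [Algebra A A'] [Module.FaithfullyFlat A A'] {u : M →ₗ[A] N}
    (h : ∃ w : A' ⊗[A] N →ₗ[A'] A' ⊗[A] M, w ∘ₗ u.baseChange A' = LinearMap.id) :
    ∃ w : N →ₗ[A] M, w ∘ₗ u = LinearMap.id := by
  rw [leftInv_iff_forall_maximal]
  intro m _
  exact LIS_of_injective_lTensor m (injective_lTensor_of_LIbc A' _ h)

end ff

section localring
variable {A : Type*} [CommRing A] {M : Type*} {N : Type*} [AddCommGroup M]
  [Module A M] [AddCommGroup N] [Module A N]

theorem injective_lTensor_iff_of_factor (K : Type*) [AddCommGroup K] [Module A K]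
    {N₀ : Type*} [AddCommGroup N₀] [Module A N₀] {u : M →ₗ[A] N}
    {u₀ : M →ₗ[A] N₀} (i : N₀ →ₗ[A] N) (r : N →ₗ[A] N₀) (hi : i ∘ₗ u₀ = u) (hr : r ∘ₗ u = u₀) :
    Function.Injective (u.lTensor K) ↔ Function.Injective (u₀.lTensor K) := by
  constructor
  · intro h
    have : u.lTensor K = i.lTensor K ∘ₗ u₀.lTensor K := by rw [← LinearMap.lTensor_comp, hi]
    rw [this, LinearMap.coe_comp] at h
    exact Function.Injective.of_comp h
  · intro h
    have : u₀.lTensor K = r.lTensor K ∘ₗ u.lTensor K := by rw [← LinearMap.lTensor_comp, hr]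
    rw [this, LinearMap.coe_comp] at h
    exact Function.Injective.of_comp h

theorem leftInv_iff_injective_lTensor_of_isLocalRing [IsLocalRing A] [Module.Finite A M]
    [Module.Projective A N] (u : M →ₗ[A] N) :
    (∃ w : N →ₗ[A] M, w ∘ₗ u = LinearMap.id) ↔
      Function.Injective (u.lTensor (IsLocalRing.ResidueField A)) := by
  obtain ⟨T, u₀, i, r, hi, hr⟩ := exists_factor u
  rw [injective_lTensor_iff_of_factor _ i r hi hr,
    ← IsLocalRing.split_injective_iff_lTensor_residueField_injective,
    ← one_mem_ideal, ← one_mem_ideal, ideal_eq_of_factor i r hi hr]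

end localring
end Groth.Agent.Helper2.LeftInv
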