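import Mathlib
import Groth.Agent.Lib.Helper2.LeftInv

/-! Local ring case of left invertibility (EGA 0_IV 19.1.7-ish), used for S4547. -/

namespace Groth.Agent.Helper2.LeftInvLocal

open IsLocalRing TensorProduct
open Groth.Agent.Helper2.LeftInv
universe u
variable {A : Type u} [CommRing A] [IsLocalRing A] {M N : Type u}
    [AddCommGroup M] [Module A M] [Module.Finite A M] [AddCommGroup N] [Module A N] [Module.Projective A N]
    (u : M →ₗ[A] N)

theorem inj_of_indep (m : ℕ) (x : Fin m → M) (hx : Submodule.span A (Set.range x) = ⊤)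
    (hli : LinearIndependent (ResidueField A) (fun i => (1 : ResidueField A) ⊗ₜ[A] u (x i))) :
    Function.Injective (u.lTensor (ResidueField A)) := by
  have hspan : Submodule.span (ResidueField A)
      (Set.range fun i => (1 : ResidueField A) ⊗ₜ[A] x i) = ⊤ := by
    have := Submodule.baseChange_span (R := A) (ResidueField A) (Set.range x)
    rw [hx, Submodule.baseChange_top, ← Set.range_comp] at this
    exact this.symm
  rw [injective_iff_map_eq_zero]
  intro y hy
  have hy' : y ∈ Submodule.span (ResidueField A)
      (Set.range fun i => (1 : ResidueField A) ⊗ₜ[A] x i) := hspan ▸ Submodule.mem_top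
  obtain ⟨c, rfl⟩ := (Submodule.mem_span_range_iff_exists_fun _).mp hy'
  have h1 : (u.lTensor (ResidueField A)) (∑ i, c i • (1 : ResidueField A) ⊗ₜ[A] x i) =
      ∑ i, c i • (1 : ResidueField A) ⊗ₜ[A] u (x i) := by
    rw [map_sum]
    refine Finset.sum_congr rfl fun i _ => ?_
    have : (u.lTensor (ResidueField A)) = (u.baseChange (ResidueField A) : _ → _) := rfl
    rw [this, map_smul, LinearMap.baseChange_tmul]
  rw [h1] at hy
  have hc := Fintype.linearIndependent_iff.mp hli c hy
  simp [hc]

theorem indep_of_indep (m : ℕ) (x : Fin m → M)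
    (hli : LinearIndependent (ResidueField A) (fun i => (1 : ResidueField A) ⊗ₜ[A] u (x i))) :
    LinearIndependent (ResidueField A) (fun i => (1 : ResidueField A) ⊗ₜ[A] x i) := by
  apply LinearIndependent.of_comp (u.baseChange (ResidueField A))
  convert hli using 1
  funext i
  simp

theorem basis_of_indep (m : ℕ) (x : Fin m → M) (hx : Submodule.span A (Set.range x) = ⊤)
    (hli : LinearIndependent (ResidueField A) (fun i => (1 : ResidueField A) ⊗ₜ[A] u (x i))) :
    ∃ b : Module.Basis (Fin m) A M, ∀ i, b i = x i := by
  obtain ⟨w, hw⟩ := (leftInv_iff_injective_lTensor_of_isLocalRing u).mpr (inj_of_indep u m x hx hli)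
  have hproj : Module.Projective A M := Module.Projective.of_split u w hw
  have hli' : LinearIndependent A (x ∘ (ULift.down : ULift.{u} (Fin m) → Fin m)) := by
    apply Module.IsLocalRing.linearIndependent_of_flat
    exact (indep_of_indep u m x hli).comp _ ULift.down_injective
  have hli'' : LinearIndependent A x := by
    have := hli'.comp (ULift.up : Fin m → ULift.{u} (Fin m)) ULift.up_injective
    exact this
  exact ⟨Module.Basis.mk hli'' hx.ge, fun i => Module.Basis.mk_apply _ _ i⟩

theorem exists_indep_of_leftInv (h : ∃ w : N →ₗ[A] M, w ∘ₗ u = LinearMap.id) :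
    ∃ (m : ℕ) (x : Fin m → M), Submodule.span A (Set.range x) = ⊤ ∧
        LinearIndependent (ResidueField A) (fun i => (1 : ResidueField A) ⊗ₜ[A] u (x i)) := by
  obtain ⟨w, hw⟩ := h
  have hproj : Module.Projective A M := Module.Projective.of_split u w hw
  have hfree : Module.Free A M := Module.free_of_flat_of_isLocalRing
  let b := Module.finBasis A M
  refine ⟨_, b, b.span_eq, ?_⟩
  have hb := (b.baseChange (ResidueField A)).linearIndependent
  have hker : LinearMap.ker (u.baseChange (ResidueField A)) = ⊥ := by
    rw [LinearMap.ker_eq_bot]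
    have : (w.baseChange (ResidueField A)) ∘ₗ (u.baseChange (ResidueField A)) = LinearMap.id := by
      rw [← LinearMap.baseChange_comp, hw, LinearMap.baseChange_id]
    exact Function.HasLeftInverse.injective ⟨_, LinearMap.congr_fun this⟩
  have := hb.map' (u.baseChange (ResidueField A)) hker
  have heq : (fun i => (1 : ResidueField A) ⊗ₜ[A] u (b i)) =
      ⇑(u.baseChange (ResidueField A)) ∘ ⇑(b.baseChange (ResidueField A)) := by
    funext i
    simp
  rw [heq]
  exact this

end Groth.Agent.Helper2.LeftInvLocal
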