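import Mathlib
import Groth.Agent.Lib.Helper2.LeftInv

/-!
# Formal smoothness of localizations of a quotient of a formally smooth algebra
(EGA 0_IV 22.6-ish / 19.1 applications).  `C = B/J`, `B` formally smooth over `A`, `J/J²` finite:
`C_S` formally smooth over `A` iff the cotangent complex map is left invertible up to `S`.
-/

namespace Groth.Agent.Helper2.LeftInvSmooth
open TensorProduct Groth.Agent.Helper2.LeftInv KaehlerDifferential

section generic
variable {C : Type*} [CommRing C] (C' : Type*) [CommRing C'] [Algebra C C'] [Module.Flat C C']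
  {K M N Q : Type*} [AddCommGroup K] [AddCommGroup M] [AddCommGroup N] [AddCommGroup Q]
  [Module C K] [Module C M] [Module C N] [Module C Q] [Module.Projective C N]

theorem LIbc_iff_of_exact (ι : K →ₗ[C] M) (u : M →ₗ[C] N) (q : N →ₗ[C] Q)
    (hι : Function.Injective ι) (h1 : Function.Exact ι u) (h2 : Function.Exact u q)
    (hq : Function.Surjective q) :
    (∃ w : C' ⊗[C] N →ₗ[C'] C' ⊗[C] M, w ∘ₗ u.baseChange C' = LinearMap.id) ↔
      Module.Projective C' (C' ⊗[C] Q) ∧ Subsingleton (C' ⊗[C] K) := by
  have hι' : Function.Injective (ι.baseChange C') :=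
    Module.Flat.lTensor_preserves_injective_linearMap ι hι
  have h1' : Function.Exact (ι.baseChange C') (u.baseChange C') :=
    Module.Flat.lTensor_exact C' h1
  have h2' : Function.Exact (u.baseChange C') (q.baseChange C') :=
    lTensor_exact C' h2 hq
  have hq' : Function.Surjective (q.baseChange C') := LinearMap.lTensor_surjective C' hq
  have key := (h2'.split_tfae').out 0 1
  constructor
  · rintro ⟨w, hw⟩
    have hinj : Function.Injective (u.baseChange C') :=
      Function.HasLeftInverse.injective ⟨_, LinearMap.congr_fun hw⟩
    obtain ⟨-, l, hl⟩ := key.mpr ⟨hq', w, hw⟩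
    refine ⟨Module.Projective.of_split l (q.baseChange C') hl, ?_⟩
    refine ⟨fun x y => hι' (hinj ?_)⟩
    rw [h1'.apply_apply_eq_zero, h1'.apply_apply_eq_zero]
  · rintro ⟨hproj, hsub⟩
    have hinj : Function.Injective (u.baseChange C') := by
      rw [injective_iff_map_eq_zero]
      intro x hx
      obtain ⟨y, rfl⟩ := (h1' x).mp hx
      rw [Subsingleton.elim y 0, map_zero]
    obtain ⟨l, hl⟩ := Module.projective_lifting_property (q.baseChange C') LinearMap.id hq'
    exact (key.mp ⟨hinj, l, hl⟩).2

end generic
section smooth
universe u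
variable {A C : Type u} [CommRing A] [CommRing C] [Algebra A C] (P : Algebra.Extension.{u} A C)
  [Algebra.FormallySmooth A P.Ring]
  (S : Submonoid C) (C' : Type u) [CommRing C'] [Algebra C C'] [Algebra A C'] [IsScalarTower A C C']
  [IsLocalization S C'] [Module.Finite C P.Cotangent]

instance : Module.Projective C P.CotangentSpace := by
  unfold Algebra.Extension.CotangentSpace
  infer_instance

theorem formallySmooth_iff_LIS :
    Algebra.FormallySmooth A C' ↔ LIS S P.cotangentComplex := by
  have hflat : Module.Flat C C' := IsLocalization.flat C' S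
  rw [← LIbc_iff_LIS S C' P.cotangentComplex,
    LIbc_iff_of_exact C' (P.h1Cotangentι ∘ₗ P.equivH1CotangentOfFormallySmooth.symm.toLinearMap)
      P.cotangentComplex P.toKaehler
      (P.h1Cotangentι_injective.comp P.equivH1CotangentOfFormallySmooth.symm.injective)
      ?_ P.exact_cotangentComplex_toKaehler P.toKaehler_surjective,
    Algebra.formallySmooth_iff]
  · have := Algebra.FormallyEtale.of_isLocalization (Rₘ := C') S
    have e1 := tensorKaehlerEquivOfFormallyEtale A C C'
    have e2 := Algebra.tensorH1CotangentOfIsLocalization A C' S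
    rw [e2.subsingleton_congr]
    exact and_congr_left fun _ => ⟨fun _ => Module.Projective.of_equiv e1.symm,
      fun _ => Module.Projective.of_equiv e1⟩
  · intro x
    rw [P.exact_hCotangentι_cotangentComplex x]
    constructor
    · rintro ⟨y, rfl⟩
      exact ⟨P.equivH1CotangentOfFormallySmooth y, by simp⟩
    · rintro ⟨y, rfl⟩
      exact ⟨_, rfl⟩

end smooth
section compare
variable {B C : Type*} [CommRing B] [CommRing C] [Algebra B C]
  {κ X Y : Type*} [AddCommGroup κ] [AddCommGroup X] [AddCommGroup Y]
  [Module B κ] [Module C κ] [IsScalarTower B C κ] [Module B X] [Module C X] [IsScalarTower B C X]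
  [Module B Y] [Module C Y] [IsScalarTower B C Y]

theorem compatibleSMul_of_surjective (hsurj : Function.Surjective (algebraMap B C)) :
    CompatibleSMul B C κ X :=
  ⟨fun c m n => by
    obtain ⟨b, rfl⟩ := hsurj c
    rw [algebraMap_smul, algebraMap_smul, smul_tmul]⟩

theorem injective_lTensor_restrictScalars_iff (hsurj : Function.Surjective (algebraMap B C))
    (g : X →ₗ[C] Y) :
    Function.Injective ((g.restrictScalars B).lTensor κ) ↔ Function.Injective (g.lTensor κ) := by
  have : CompatibleSMul B C κ X := compatibleSMul_of_surjective hsurj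
  have : CompatibleSMul B C κ Y := compatibleSMul_of_surjective hsurj
  let eX := equivOfCompatibleSMul C B B κ X
  let eY := equivOfCompatibleSMul C B B κ Y
  have hcomm : ∀ z, eY ((g.restrictScalars B).lTensor κ z) = g.lTensor κ (eX z) := by
    intro z
    induction z using TensorProduct.induction_on with
    | zero => simp
    | add a b ha hb => simp only [map_add, ha, hb]
    | tmul c x => rfl
  constructor
  · intro h y y' hyy'
    obtain ⟨z, rfl⟩ := eX.surjective y
    obtain ⟨z', rfl⟩ := eX.surjective y'
    rw [← hcomm, ← hcomm] at hyy'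
    rw [h (eY.injective hyy')]
  · intro h z z' hzz'
    apply eX.injective
    apply h
    rw [← hcomm, ← hcomm, hzz']

end compare
section stmt
universe u
variable {A B C : Type u} [CommRing A] [CommRing B] [CommRing C] [Algebra A B] [Algebra B C]
  [Algebra A C] [IsScalarTower A B C]

/-- The extension of `C` given by a surjection `B → C`. -/
noncomputable abbrev ext (hsurj : Function.Surjective (algebraMap B C)) : Algebra.Extension.{u} A C :=
  { Ring := B, σ := Function.surjInv hsurj, algebraMap_σ := Function.surjInv_eq hsurj }

variable (hsurj : Function.Surjective (algebraMap B C))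

theorem finite_cotangent [Module.Finite B (RingHom.ker (algebraMap B C)).Cotangent] :
    Module.Finite C (ext (A := A) hsurj).Cotangent := by
  let P := ext (A := A) hsurj
  let f : P.Cotangent ≃ₗ[P.Ring] P.ker.Cotangent :=
    { __ := AddEquiv.refl _, map_smul' := Algebra.Extension.Cotangent.val_smul' }
  let e : P.ker.Cotangent ≃ₗ[P.Ring] P.Cotangent := f.symm
  have h1 : Module.Finite P.Ring P.ker.Cotangent := ‹_›
  have h2 : Module.Finite P.Ring P.Cotangent := Module.Finite.equiv e
  exact Module.Finite.of_restrictScalars_finite P.Ring _ _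

theorem injective_kerCotangentToTensor_lTensor_iff (κ : Type*) [AddCommGroup κ] [Module B κ]
    [Module C κ] [IsScalarTower B C κ] :
    Function.Injective ((kerCotangentToTensor A B C).lTensor κ) ↔
      Function.Injective ((ext (A := A) hsurj).cotangentComplex.lTensor κ) := by
  let P := ext (A := A) hsurj
  let f : P.Cotangent ≃ₗ[P.Ring] P.ker.Cotangent :=
    { __ := AddEquiv.refl _, map_smul' := Algebra.Extension.Cotangent.val_smul' }
  let e : P.ker.Cotangent ≃ₗ[P.Ring] P.Cotangent := f.symm
  rw [← injective_lTensor_restrictScalars_iff (B := B) hsurj]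
  have h : kerCotangentToTensor A B C = P.cotangentComplex.restrictScalars B ∘ₗ e.toLinearMap := by
    ext x
    rfl
  rw [h, LinearMap.lTensor_comp, LinearMap.coe_comp]
  exact Function.Injective.of_comp_iff' _ (e.lTensor κ).bijective


variable [Algebra.FormallySmooth A B] [Module.Finite B (RingHom.ker (algebraMap B C)).Cotangent]

theorem formallySmooth_localization_iff (S : Submonoid C) (C' : Type u) [CommRing C']
    [Algebra C C'] [Algebra A C'] [IsScalarTower A C C'] [IsLocalization S C'] :
    Algebra.FormallySmooth A C' ↔ LIS S (ext (A := A) hsurj).cotangentComplex := by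
  have := finite_cotangent (A := A) hsurj
  have : Algebra.FormallySmooth A (ext (A := A) hsurj).Ring := ‹_›
  exact formallySmooth_iff_LIS _ S C'

theorem formallySmooth_iff_leftInv :
    Algebra.FormallySmooth A C ↔
      ∃ w, w ∘ₗ (ext (A := A) hsurj).cotangentComplex = LinearMap.id := by
  have : Algebra.FormallySmooth A (ext (A := A) hsurj).Ring := ‹_›
  exact (ext (A := A) hsurj).formallySmooth_iff_split_injection

include hsurj in
theorem tfae (p : Ideal C) [p.IsPrime] :
    [Algebra.FormallySmooth A (Localization.AtPrime p),
     Function.Injective ((kerCotangentToTensor A B C).lTensor p.ResidueField),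
     ∃ f : C, f ∉ p ∧ Algebra.FormallySmooth A (Localization.Away f)].TFAE := by
  have := finite_cotangent (A := A) hsurj
  rw [formallySmooth_localization_iff hsurj p.primeCompl,
    injective_kerCotangentToTensor_lTensor_iff hsurj]
  tfae_have 1 ↔ 2 :=
    ⟨injective_lTensor_of_LIS p, LIS_of_injective_lTensor p⟩
  tfae_have 1 ↔ 3 := by
    rw [LIS_primeCompl_iff_exists_powers]
    refine exists_congr fun f => and_congr_right fun _ => ?_
    rw [formallySmooth_localization_iff hsurj (Submonoid.powers f)]
  tfae_finish

include hsurj in
theorem isOpen_locus :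
    IsOpen {p : PrimeSpectrum C | Algebra.FormallySmooth A (Localization.AtPrime p.asIdeal)} := by
  have h : {p : PrimeSpectrum C | Algebra.FormallySmooth A (Localization.AtPrime p.asIdeal)} =
      {p : PrimeSpectrum C | LIS p.asIdeal.primeCompl (ext (A := A) hsurj).cotangentComplex} := by
    ext p
    exact formallySmooth_localization_iff hsurj p.asIdeal.primeCompl _
  rw [h]
  exact isOpen_LIS _

include hsurj in
theorem iff_forall_maximal :
    Algebra.FormallySmooth A C ↔
      ∀ (m : Ideal C) [m.IsMaximal], Algebra.FormallySmooth A (Localization.AtPrime m) := by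
  rw [formallySmooth_iff_leftInv hsurj, leftInv_iff_forall_maximal]
  refine forall_congr' fun m => forall_congr' fun _ => ?_
  rw [formallySmooth_localization_iff hsurj m.primeCompl]

end stmt
end Groth.Agent.Helper2.LeftInvSmooth
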