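import Mathlib
namespace Groth.Agent.Helper2.Minor

variable {K : Type*} [Field K] {Λ : Type*}

/-- Linearly independent functions are separated by as many points. -/
theorem exists_points_indep : ∀ (m : ℕ) (w : Fin m → (Λ → K)), LinearIndependent K w →
    ∃ pt : Fin m → Λ, ∀ c : Fin m → K, (∀ j, ∑ i, c i * w i (pt j) = 0) → c = 0 := by
  intro m
  induction m with
  | zero =>
    intro w _
    exact ⟨Fin.elim0, fun c _ => Subsingleton.elim _ _⟩
  | succ m ih =>
    intro w hw
    have hw' : LinearIndependent K (fun i : Fin m => w i.castSucc) :=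
      hw.comp _ (Fin.castSucc_injective m)
    obtain ⟨pt', hpt'⟩ := ih _ hw'
    -- the evaluation endomorphism of `K^m`
    let R' : (Fin m → K) →ₗ[K] (Fin m → K) :=
      { toFun := fun c j => ∑ i, c i * w i.castSucc (pt' j)
        map_add' := by
          intro c c'
          funext j
          simp [add_mul, Finset.sum_add_distrib]
        map_smul' := by
          intro a c
          funext j
          simp [Finset.mul_sum, mul_assoc] }
    have hR'inj : Function.Injective R' := by
      rw [injective_iff_map_eq_zero]
      intro c hc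
      exact hpt' c fun j => congrFun hc j
    have hR'surj : Function.Surjective R' := LinearMap.injective_iff_surjective.mp hR'inj
    obtain ⟨a, ha⟩ := hR'surj fun j => w (Fin.last m) (pt' j)
    have ha' : ∀ j, ∑ i, a i * w i.castSucc (pt' j) = w (Fin.last m) (pt' j) :=
      fun j => congrFun ha j
    -- the new function
    have hne : w (Fin.last m) - ∑ i, a i • w i.castSucc ≠ 0 := by
      intro h0
      have hrel : ∑ i : Fin (m + 1), (Fin.snoc (fun i => -a i) 1 : Fin (m + 1) → K) i • w i = 0 := by
        rw [Fin.sum_univ_castSucc]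
        simp only [Fin.snoc_castSucc, Fin.snoc_last, one_smul, neg_smul, Finset.sum_neg_distrib]
        rw [neg_add_eq_sub]
        exact h0
      have := Fintype.linearIndependent_iff.mp hw _ hrel (Fin.last m)
      simp at this
    obtain ⟨l0, hl0⟩ : ∃ l0, (w (Fin.last m) - ∑ i, a i • w i.castSucc) l0 ≠ 0 := by
      by_contra hcon
      push Not at hcon
      exact hne (funext hcon)
    refine ⟨Fin.snoc pt' l0, fun c hc => ?_⟩
    have h1 : ∀ j' : Fin m, ∑ i : Fin m, (c i.castSucc + c (Fin.last m) * a i) *
        w i.castSucc (pt' j') = 0 := by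
      intro j'
      have := hc j'.castSucc
      rw [Fin.sum_univ_castSucc] at this
      simp only [Fin.snoc_castSucc] at this
      rw [← ha' j', Finset.mul_sum, ← Finset.sum_add_distrib] at this
      rw [← this]
      refine Finset.sum_congr rfl fun i _ => ?_
      ring
    have h2 := hpt' (fun i => c i.castSucc + c (Fin.last m) * a i) h1
    have h2' : ∀ i : Fin m, c i.castSucc = - (c (Fin.last m) * a i) := fun i =>
      eq_neg_of_add_eq_zero_left (congrFun h2 i)
    have h3 := hc (Fin.last m)
    rw [Fin.sum_univ_castSucc] at h3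
    simp only [Fin.snoc_last] at h3
    have h4 : c (Fin.last m) * (w (Fin.last m) - ∑ i, a i • w i.castSucc) l0 = 0 := by
      rw [← h3]
      simp only [Pi.sub_apply, Finset.sum_apply, Pi.smul_apply, smul_eq_mul, mul_sub,
        Finset.mul_sum]
      rw [sub_eq_neg_add]
      congr 1
      rw [← Finset.sum_neg_distrib]
      refine Finset.sum_congr rfl fun i _ => ?_
      rw [h2' i]
      ring
    have h5 : c (Fin.last m) = 0 := (mul_eq_zero.mp h4).resolve_right hl0
    funext i
    refine Fin.lastCases ?_ (fun i => ?_) i
    · exact h5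
    · rw [h2' i, h5]; simp

/-- Linearly independent functions have a nonvanishing "minor". -/
theorem exists_det_ne_zero (m : ℕ) (w : Fin m → (Λ → K)) (hw : LinearIndependent K w) :
    ∃ pt : Fin m → Λ, (Matrix.of fun i j => w i (pt j)).det ≠ 0 := by
  obtain ⟨pt, hpt⟩ := exists_points_indep m w hw
  refine ⟨pt, fun hdet => ?_⟩
  obtain ⟨v, hv, hv0⟩ := Matrix.exists_vecMul_eq_zero_iff.mpr hdet
  apply hv
  apply hpt
  intro j
  have := congrFun hv0 j
  simpa [Matrix.vecMul, dotProduct] using this

end Groth.Agent.Helper2.Minor
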