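import Mathlib
set_option autoImplicit false
universe u
open TensorProduct KaehlerDifferential

namespace Groth.Agent.Helper2.ModP

/-- the key step: an element of the kernel whose differential dies in `C ⊗ Ω` lies in `J² + (p)` -/
theorem mem_sq_sup_span_of_tmul_D_eq_zero {Λ A C : Type u} [CommRing Λ] [CommRing A]
    [CommRing C] [Algebra Λ A] [Algebra A C] [Algebra Λ C] [IsScalarTower Λ A C]
    (hsurj : Function.Surjective (algebraMap A C)) (p : ℕ)
    [Algebra (Λ ⧸ Ideal.span {(p : Λ)}) C] [IsScalarTower Λ (Λ ⧸ Ideal.span {(p : Λ)}) C]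
    [Algebra.FormallySmooth (Λ ⧸ Ideal.span {(p : Λ)}) C]
    (hp : (p : A) ∈ RingHom.ker (algebraMap A C)) (x : A) (hx : x ∈ RingHom.ker (algebraMap A C))
    (h0 : (1 : C) ⊗ₜ[A] KaehlerDifferential.D Λ A x = 0) :
    x ∈ RingHom.ker (algebraMap A C) ^ 2 ⊔ Ideal.span {(p : A)} := by
  set J := RingHom.ker (algebraMap A C) with hJ
  set I₂ : Ideal A := J ^ 2 ⊔ Ideal.span {(p : A)} with hI₂
  have hI₂J : I₂ ≤ J :=
    sup_le (Ideal.pow_le_self two_ne_zero) ((Ideal.span_singleton_le_iff_mem _).mpr hp)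
  have hpI₂ : (p : A) ∈ I₂ := Ideal.mem_sup_right (Ideal.mem_span_singleton_self _)
  -- the `Λ/p`-algebra structure on `E = A/I₂`
  have hkill : ∀ a ∈ Ideal.span {(p : Λ)}, algebraMap Λ (A ⧸ I₂) a = 0 := by
    intro a ha
    obtain ⟨b, rfl⟩ := Ideal.mem_span_singleton'.mp ha
    rw [map_mul, map_natCast]
    have : ((p : ℕ) : A ⧸ I₂) = Ideal.Quotient.mk I₂ (p : A) := by simp
    rw [this, Ideal.Quotient.eq_zero_iff_mem.mpr hpI₂, mul_zero]
  letI algE : Algebra (Λ ⧸ Ideal.span {(p : Λ)}) (A ⧸ I₂) :=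
    (Ideal.Quotient.lift (Ideal.span {(p : Λ)}) (algebraMap Λ (A ⧸ I₂)) hkill).toAlgebra
  haveI towE : IsScalarTower Λ (Λ ⧸ Ideal.span {(p : Λ)}) (A ⧸ I₂) :=
    IsScalarTower.of_algebraMap_eq' (by ext a; rfl)
  let g₀ : (A ⧸ I₂) →+* C := Ideal.Quotient.lift I₂ (algebraMap A C) (fun a ha => hI₂J ha)
  have hg₀ : ∀ a : A, g₀ (Ideal.Quotient.mk I₂ a) = algebraMap A C a := fun a => rfl
  let g : (A ⧸ I₂) →ₐ[Λ ⧸ Ideal.span {(p : Λ)}] C :=
    { g₀ with
      commutes' := by
        intro r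
        obtain ⟨l, rfl⟩ := Ideal.Quotient.mk_surjective r
        change g₀ (algebraMap Λ (A ⧸ I₂) l) = algebraMap (Λ ⧸ Ideal.span {(p : Λ)}) C
          (algebraMap Λ (Λ ⧸ Ideal.span {(p : Λ)}) l)
        rw [← IsScalarTower.algebraMap_apply, IsScalarTower.algebraMap_apply Λ A (A ⧸ I₂),
          IsScalarTower.algebraMap_apply Λ A C]
        rfl }
  have hg : ∀ e, g e = g₀ e := fun e => rfl
  have hgsurj : Function.Surjective g := by
    intro c
    obtain ⟨a, rfl⟩ := hsurj c
    exact ⟨Ideal.Quotient.mk I₂ a, rfl⟩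
  -- the kernel of `g` is of square zero
  have hsq : ∀ u v : A ⧸ I₂, g₀ u = 0 → g₀ v = 0 → u * v = 0 := by
    intro u v hu hv
    obtain ⟨a, rfl⟩ := Ideal.Quotient.mk_surjective u
    obtain ⟨b, rfl⟩ := Ideal.Quotient.mk_surjective v
    rw [hg₀] at hu hv
    rw [← map_mul, Ideal.Quotient.eq_zero_iff_mem]
    apply Ideal.mem_sup_left
    rw [pow_two]
    exact Ideal.mul_mem_mul hu hv
  have hnil : IsNilpotent (RingHom.ker g) := by
    refine ⟨2, ?_⟩
    rw [Ideal.zero_eq_bot, eq_bot_iff, pow_two, Ideal.mul_le]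
    intro u hu v hv
    rw [Ideal.mem_bot]
    exact hsq u v hu hv
  let s : C →ₐ[Λ ⧸ Ideal.span {(p : Λ)}] (A ⧸ I₂) :=
    Algebra.FormallySmooth.liftOfSurjective (AlgHom.id _ C) g hgsurj hnil
  have hs : ∀ c, g₀ (s c) = c := fun c =>
    Algebra.FormallySmooth.liftOfSurjective_apply (AlgHom.id _ C) g hgsurj hnil c
  let sΛ : C →ₐ[Λ] (A ⧸ I₂) := s.restrictScalars Λ
  have hsΛ : ∀ c, sΛ c = s c := fun c => rfl
  -- the derivation
  have hDker : ∀ a : A, g₀ (Ideal.Quotient.mk I₂ a - sΛ (algebraMap A C a)) = 0 := by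
    intro a
    rw [map_sub, hg₀, hsΛ, hs, sub_self]
  let Dv : Derivation Λ A (A ⧸ I₂) :=
    { toFun := fun a => Ideal.Quotient.mk I₂ a - sΛ (algebraMap A C a)
      map_add' := by intro a b; simp only [map_add]; ring
      map_smul' := by
        intro l a
        simp only [RingHom.id_apply]
        have h1 : Ideal.Quotient.mk I₂ (l • a) = l • Ideal.Quotient.mk I₂ a := rfl
        have h2 : algebraMap A C (l • a) = l • algebraMap A C a := by
          rw [Algebra.smul_def, map_mul, ← IsScalarTower.algebraMap_apply, Algebra.smul_def]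
        rw [h1, h2, map_smul, smul_sub]
      map_one_eq_zero' := by
        change Ideal.Quotient.mk I₂ 1 - sΛ (algebraMap A C 1) = 0
        rw [map_one, map_one, map_one, sub_self]
      leibniz' := by
        intro a b
        change Ideal.Quotient.mk I₂ (a * b) - sΛ (algebraMap A C (a * b)) =
          a • (Ideal.Quotient.mk I₂ b - sΛ (algebraMap A C b)) +
          b • (Ideal.Quotient.mk I₂ a - sΛ (algebraMap A C a))
        have h1 := hsq _ _ (hDker a) (hDker b)
        rw [Algebra.smul_def, Algebra.smul_def, map_mul, map_mul, map_mul]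
        change _ = Ideal.Quotient.mk I₂ a * _ + Ideal.Quotient.mk I₂ b * _
        linear_combination (-1 : A ⧸ I₂) * h1 }
  have hDv : ∀ a, Dv a = Ideal.Quotient.mk I₂ a - sΛ (algebraMap A C a) := fun a => rfl
  let L : Ω[A⁄Λ] →ₗ[A] (A ⧸ I₂) := Dv.liftKaehlerDifferential
  have hL : ∀ a, L (KaehlerDifferential.D Λ A a) = Dv a := fun a =>
    Derivation.liftKaehlerDifferential_comp_D Dv a
  have hLker : ∀ ω, g₀ (L ω) = 0 := by
    intro ω
    have hω : ω ∈ Submodule.span A (Set.range (KaehlerDifferential.D Λ A)) := by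
      rw [KaehlerDifferential.span_range_derivation]; trivial
    induction hω using Submodule.span_induction with
    | mem w hw => obtain ⟨a, rfl⟩ := hw; rw [hL, hDv]; exact hDker a
    | zero => simp
    | add u v _ _ hu hv => rw [map_add, map_add, hu, hv, add_zero]
    | smul a u _ hu => rw [map_smul, Algebra.smul_def, map_mul, hu, mul_zero]
  have hLJ : ∀ ω ∈ (J • ⊤ : Submodule A (Ω[A⁄Λ])), L ω = 0 := by
    intro ω hω
    refine Submodule.smul_induction_on hω ?_ ?_
    · intro j hj w _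
      rw [map_smul, Algebra.smul_def]
      exact hsq _ _ (by change g₀ (Ideal.Quotient.mk I₂ j) = 0; rw [hg₀]; exact hj) (hLker w)
    · intro u v hu hv
      rw [map_add, hu, hv, add_zero]
  -- `d x ∈ J Ω`
  have hmem : KaehlerDifferential.D Λ A x ∈ (J • ⊤ : Submodule A (Ω[A⁄Λ])) := by
    rw [← LinearMap.ker_tensorProductMk, LinearMap.mem_ker]
    let e := Ideal.quotientKerAlgEquivOfSurjective (f := Algebra.ofId A C) hsurj
    have h1 := congrArg (LinearMap.rTensor (Ω[A⁄Λ]) e.symm.toLinearMap) h0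
    rw [LinearMap.rTensor_tmul, map_zero] at h1
    have h2 : e.symm.toLinearMap (1 : C) = 1 := map_one e.symm
    rw [h2] at h1
    exact h1
  have h3 := hLJ _ hmem
  rw [hL, hDv, RingHom.mem_ker.mp hx, map_zero, sub_zero] at h3
  exact Ideal.Quotient.eq_zero_iff_mem.mp h3

end Groth.Agent.Helper2.ModP
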