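import Mathlib
import Groth.Agent.Lib.Helper2.GenericDet

/-!
Multiplicative polynomial functions on matrices are powers of the determinant.
-/

universe u

open MvPolynomial Matrix

namespace Groth.Agent.Helper2.MultPoly

variable {F : Type u} [Field F] [Infinite F]

/-- a multiplicative polynomial function in one variable is a power -/
theorem eval_eq_pow_of_mul (ψ : Polynomial F)
    (hmul : ∀ c d : F, ψ.eval (c * d) = ψ.eval c * ψ.eval d) (h1 : ψ.eval 1 = 1) (d : F) :
    ψ.eval d = d ^ ψ.natDegree := by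
  have hψ : ψ ≠ 0 := by
    rintro rfl
    simp at h1
  have heq : ψ.comp (Polynomial.C d * Polynomial.X) = Polynomial.C (ψ.eval d) * ψ := by
    apply Polynomial.funext
    intro c
    rw [Polynomial.eval_comp, Polynomial.eval_mul, Polynomial.eval_mul, Polynomial.eval_C,
      Polynomial.eval_C, Polynomial.eval_X, hmul]
  have h2 := congrArg (fun q => Polynomial.coeff q ψ.natDegree) heq
  simp only [Polynomial.comp_C_mul_X_coeff, Polynomial.coeff_C_mul] at h2
  have hlc : ψ.coeff ψ.natDegree ≠ 0 := by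
    rw [Polynomial.coeff_natDegree]
    exact Polynomial.leadingCoeff_ne_zero.mpr hψ
  rw [mul_comm] at h2
  exact (mul_right_cancel₀ hlc h2).symm

section Main
variable (n : ℕ) (N : MvPolynomial (Fin n × Fin n) F)

/-- evaluation at a matrix -/
noncomputable def ev (x : Matrix (Fin n) (Fin n) F) : F :=
  MvPolynomial.eval (fun ij : Fin n × Fin n => x ij.1 ij.2) N

theorem ev_one (hN : N ≠ 0) (hmul : ∀ x y, ev n N (x * y) = ev n N x * ev n N y) :
    ev n N 1 = 1 := by
  have h11 := hmul 1 1
  rw [one_mul] at h11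
  by_contra hne
  have h0 : ev n N 1 = 0 := by
    have : ev n N 1 * (ev n N 1 - 1) = 0 := by rw [mul_sub, ← h11, mul_one, sub_self]
    rcases mul_eq_zero.mp this with h | h
    · exact h
    · exact absurd (sub_eq_zero.mp h) hne
  apply hN
  apply MvPolynomial.funext
  intro s
  have h1 := hmul (Matrix.of fun i j => s (i, j)) 1
  rw [mul_one, h0, mul_zero] at h1
  rw [map_zero]
  exact h1

theorem ev_smul_one (hN : N ≠ 0) (hmul : ∀ x y, ev n N (x * y) = ev n N x * ev n N y) :
    ∃ M : ℕ, ∀ c : F, ev n N (c • (1 : Matrix (Fin n) (Fin n) F)) = c ^ M := by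
  let ψ : Polynomial F :=
    aeval (fun ij : Fin n × Fin n => if ij.1 = ij.2 then (Polynomial.X : Polynomial F) else 0) N
  have hψ : ∀ c : F, ψ.eval c = ev n N (c • (1 : Matrix (Fin n) (Fin n) F)) := by
    intro c
    rw [← Polynomial.coe_aeval_eq_eval]
    change (Polynomial.aeval c) (aeval _ N) = _
    rw [comp_aeval_apply]
    unfold ev
    rw [← aeval_eq_eval]
    congr 1
    ext ij
    by_cases h : ij.1 = ij.2
    · simp [h, Matrix.one_apply]
    · simp [h, Matrix.one_apply_ne h]
  refine ⟨ψ.natDegree, fun c => ?_⟩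
  rw [← hψ]
  apply eval_eq_pow_of_mul
  · intro c d
    rw [hψ, hψ, hψ, ← hmul]
    congr 1
    rw [smul_mul_smul_comm, mul_one]
  · rw [hψ, one_smul]
    exact ev_one n N hN hmul

theorem ev_eq_det_pow (hN : N ≠ 0) (hmul : ∀ x y, ev n N (x * y) = ev n N x * ev n N y) :
    ∃ m : ℕ, ∀ x : Matrix (Fin n) (Fin n) F, ev n N x = x.det ^ m := by
  have h1 := ev_one n N hN hmul
  rcases Nat.eq_zero_or_pos n with hn | hn
  · subst hn
    refine ⟨0, fun x => ?_⟩
    rw [pow_zero, Subsingleton.elim x 1]
    exact h1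
  obtain ⟨M, hM⟩ := ev_smul_one n N hN hmul
  let X := mvPolynomialX (Fin n) (Fin n) F
  let D := X.det
  let N' : MvPolynomial (Fin n × Fin n) F :=
    aeval (fun ij : Fin n × Fin n => X.adjugate ij.1 ij.2) N
  have hN' : ∀ x : Matrix (Fin n) (Fin n) F,
      MvPolynomial.eval (fun ij : Fin n × Fin n => x ij.1 ij.2) N' = ev n N x.adjugate := by
    intro x
    rw [← aeval_eq_eval]
    change (aeval _) (aeval _ N) = _
    rw [comp_aeval_apply]
    have hfun : (fun i : Fin n × Fin n =>
        (aeval fun ij : Fin n × Fin n => x ij.1 ij.2) (X.adjugate i.1 i.2)) =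
        fun ij : Fin n × Fin n => x.adjugate ij.1 ij.2 := by
      funext ij
      have h2 := RingHom.map_adjugate (MvPolynomial.eval fun p : Fin n × Fin n => x p.1 p.2) X
      rw [mvPolynomialX_mapMatrix_eval] at h2
      have h3 := congrFun (congrFun h2 ij.1) ij.2
      rw [← h3]
      rfl
    rw [hfun]
    rfl
  have hprod : N * N' = D ^ M := by
    apply MvPolynomial.funext
    intro s
    let x : Matrix (Fin n) (Fin n) F := Matrix.of fun i j => s (i, j)
    have hs : s = fun ij : Fin n × Fin n => x ij.1 ij.2 := by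
      ext ij
      rfl
    rw [map_mul, map_pow, hs, hN', eval_det_mvPolynomialX]
    change ev n N x * ev n N x.adjugate = x.det ^ M
    rw [← hmul, Matrix.mul_adjugate, hM]
  have hDprime : Prime D := (GenericDet.irreducible_det F n hn).prime
  obtain ⟨m, _, hassoc⟩ := (dvd_prime_pow hDprime M).mp (Dvd.intro N' hprod)
  obtain ⟨u, hu⟩ := hassoc
  obtain ⟨r, _, hr⟩ := (isUnit_iff_eq_C_of_isReduced (P := (u : MvPolynomial (Fin n × Fin n) F))).mp
    u.isUnit
  have hev : ∀ x : Matrix (Fin n) (Fin n) F, ev n N x * r = x.det ^ m := by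
    intro x
    have h2 := congrArg (MvPolynomial.eval fun ij : Fin n × Fin n => x ij.1 ij.2) hu
    rw [map_mul, map_pow, hr, eval_C, eval_det_mvPolynomialX] at h2
    exact h2
  have hr1 : r = 1 := by
    have := hev 1
    rwa [h1, one_mul, det_one, one_pow] at this
  refine ⟨m, fun x => ?_⟩
  rw [← hev x, hr1, mul_one]

end Main


end Groth.Agent.Helper2.MultPoly
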