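import Mathlib

/-!
# Norm in `k[T]/(charpoly u)` versus `det P(u)`

`norm_mk_charpoly_eq_det`: for a square matrix `A` over a commutative ring `R` and `P : R[X]`,
the norm of the class of `P` in `R[X]/(charpoly A)` equals `det P(A)`.
Proved with Mathlib's reduction principle
`Polynomial.induction_of_Splits_of_injective_of_surjective`.
-/

open Polynomial Matrix

namespace Groth.Agent.Helper2.NormDet
universe u

section BC
variable {R S : Type*} [CommRing R] [CommRing S] (φ : R →+* S)

theorem norm_mk_eq_det {g : R[X]} (hg : g.Monic) (P : R[X]) :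
    Algebra.norm R (AdjoinRoot.mk g P) =
      Matrix.det (Matrix.of fun (i j : Fin g.natDegree) => ((P * X ^ (j : ℕ)) %ₘ g).coeff i) := by
  rw [Algebra.norm_eq_matrix_det (AdjoinRoot.powerBasis' hg).basis]
  congr 1
  ext i j
  rw [Algebra.leftMulMatrix_eq_repr_mul, PowerBasis.basis_eq_pow, AdjoinRoot.powerBasis'_gen]
  show _ = ((P * X ^ (j : ℕ)) %ₘ g).coeff i
  have h1 : AdjoinRoot.mk g P * AdjoinRoot.root g ^ (j : ℕ) = AdjoinRoot.mk g (P * X ^ (j : ℕ)) := by
    rw [map_mul, map_pow, AdjoinRoot.mk_X]
  rw [h1]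
  exact (AdjoinRoot.powerBasisAux'_repr_apply_to_fun hg _ i).trans
    (by rw [AdjoinRoot.modByMonicHom_mk])

theorem map_norm_mk {g : R[X]} (hg : g.Monic) (P : R[X]) :
    φ (Algebra.norm R (AdjoinRoot.mk g P)) =
      Algebra.norm S (AdjoinRoot.mk (g.map φ) (P.map φ)) := by
  cases subsingleton_or_nontrivial S
  · exact Subsingleton.elim _ _
  rw [norm_mk_eq_det hg, norm_mk_eq_det (hg.map φ), RingHom.map_det]
  have hd : g.natDegree = (g.map φ).natDegree := (hg.natDegree_map φ).symm
  rw [← Matrix.det_reindex_self (finCongr hd)]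
  congr 1
  ext i j
  simp only [RingHom.mapMatrix_apply, Matrix.map_apply, Matrix.of_apply, Matrix.reindex_apply,
    Matrix.submatrix_apply, finCongr_symm, finCongr_apply, Fin.val_cast]
  rw [← Polynomial.coeff_map, Polynomial.map_modByMonic _ hg, Polynomial.map_mul,
    Polynomial.map_pow, Polynomial.map_X]

theorem map_det_aeval {n : Type*} [Fintype n] [DecidableEq n] (A : Matrix n n R) (P : R[X]) :
    φ (Matrix.det (aeval A P)) = Matrix.det (aeval (A.map φ) (P.map φ)) := by
  rw [RingHom.map_det]
  congr 1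
  rw [aeval_def, aeval_def, Polynomial.hom_eval₂, Polynomial.eval₂_map]
  congr 1
  ext r i j
  simp [Matrix.algebraMap_matrix_apply]
  split_ifs <;> simp

end BC

section Split

variable {K : Type*} [CommRing K]

theorem det_aeval_X_sub_C {n : Type*} [Fintype n] [DecidableEq n] (A : Matrix n n K) (r : K) :
    Matrix.det (aeval A (X - C r)) = (-1) ^ Fintype.card n * A.charpoly.eval r := by
  rw [Matrix.eval_charpoly]
  have : aeval A (X - C r) = - (Matrix.scalar n r - A) := by
    simp [Algebra.algebraMap_eq_smul_one, Matrix.smul_one_eq_diagonal]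
  rw [this, Matrix.det_neg]

theorem det_aeval_C {n : Type*} [Fintype n] [DecidableEq n] (A : Matrix n n K) (c : K) :
    Matrix.det (aeval A (C c)) = c ^ Fintype.card n := by
  rw [aeval_C, Algebra.algebraMap_eq_smul_one, Matrix.det_smul, Matrix.det_one, mul_one]

theorem det_aeval_eq_of_charpoly_eq {n m : Type*} [Fintype n] [DecidableEq n] [Fintype m] [DecidableEq m]
    (A : Matrix n n K) (B : Matrix m m K) (h : A.charpoly = B.charpoly)
    (hc : Fintype.card n = Fintype.card m) (c : K) (s : Multiset K) :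
    Matrix.det (aeval A (C c * (s.map (X - C ·)).prod)) =
      Matrix.det (aeval B (C c * (s.map (X - C ·)).prod)) := by
  rw [map_mul, map_mul, Matrix.det_mul, Matrix.det_mul, det_aeval_C, det_aeval_C, hc]
  congr 1
  induction s using Multiset.induction_on with
  | empty => simp
  | cons r s ih =>
    rw [Multiset.map_cons, Multiset.prod_cons, map_mul, map_mul, Matrix.det_mul, Matrix.det_mul, ih,
      det_aeval_X_sub_C, det_aeval_X_sub_C, h, hc]

end Split

theorem split_case {K : Type*} [Field K] (P : K[X]) (hP : P.Splits) (n : ℕ)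
    (A : Matrix (Fin n) (Fin n) K) :
    Algebra.norm K (AdjoinRoot.mk A.charpoly P) = Matrix.det (aeval A P) := by
  have hχ : A.charpoly.Monic := Matrix.charpoly_monic A
  let pb := AdjoinRoot.powerBasis' hχ
  have h1 : Algebra.norm K (AdjoinRoot.mk A.charpoly P) =
      Matrix.det (aeval (Algebra.leftMulMatrix pb.basis pb.gen) P) := by
    rw [Algebra.norm_eq_matrix_det pb.basis, ← AdjoinRoot.aeval_eq, Polynomial.aeval_algHom_apply]
    rfl
  rw [h1, hP.eq_prod_roots]
  symm
  apply det_aeval_eq_of_charpoly_eq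
  · rw [charpoly_leftMulMatrix pb]
    show _ = minpoly K (AdjoinRoot.root A.charpoly)
    rw [AdjoinRoot.minpoly_root hχ.ne_zero, hχ.leadingCoeff, inv_one, C_1, mul_one]
  · rw [Fintype.card_fin, Fintype.card_fin]
    show n = A.charpoly.natDegree
    rw [Matrix.charpoly_natDegree_eq_dim, Fintype.card_fin]

theorem norm_mk_charpoly_eq_det {R : Type u} [CommRing R] (P : R[X]) :
    ∀ (n : ℕ) (A : Matrix (Fin n) (Fin n) R),
      Algebra.norm R (AdjoinRoot.mk A.charpoly P) = Matrix.det (aeval A P) := by
  refine Polynomial.induction_of_Splits_of_injective_of_surjective P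
    (P := fun {R} [CommRing R] P => ∀ (n : ℕ) (A : Matrix (Fin n) (Fin n) R),
      Algebra.norm R (AdjoinRoot.mk A.charpoly P) = Matrix.det (aeval A P)) ?_ ?_ ?_
  · intro K _ P hP n A
    exact split_case P hP n A
  · intro R S _ _ φ hφ P IH n A
    apply hφ
    rw [map_norm_mk φ (Matrix.charpoly_monic A), map_det_aeval, ← Matrix.charpoly_map]
    exact IH n (A.map φ)
  · intro R S _ _ φ hφ P IH n A
    obtain ⟨Q, rfl⟩ := Polynomial.map_surjective φ hφ P
    obtain ⟨A', rfl⟩ : ∃ A' : Matrix (Fin n) (Fin n) R, A'.map φ = A := by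
      choose f hf using hφ
      exact ⟨A.map f, by ext i j; simp [hf]⟩
    rw [Matrix.charpoly_map, ← map_norm_mk φ (Matrix.charpoly_monic A'), ← map_det_aeval,
      IH Q n A']


theorem norm_mk_charpoly_eq_det_linearMap (k : Type u) [CommRing k] (M : Type*) [AddCommGroup M]
    [Module k M] [Module.Free k M] [Module.Finite k M] (u : M →ₗ[k] M) (P : Polynomial k) :
    Algebra.norm k (AdjoinRoot.mk u.charpoly P) = LinearMap.det (Polynomial.aeval u P) := by
  cases subsingleton_or_nontrivial k
  · exact Subsingleton.elim _ _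
  let b := Module.finBasis k M
  have h1 : (LinearMap.toMatrix b b u).charpoly = u.charpoly := LinearMap.charpoly_toMatrix u b
  have h2 : LinearMap.det (Polynomial.aeval u P) =
      Matrix.det (aeval (LinearMap.toMatrix b b u) P) := by
    rw [← LinearMap.det_toMatrix b]
    congr 1
    exact (Polynomial.aeval_algHom_apply (LinearMap.toMatrixAlgEquiv b) u P).symm
  rw [h2, ← h1]
  exact norm_mk_charpoly_eq_det P _ _

end Groth.Agent.Helper2.NormDet
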