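import Mathlib

universe u v
open scoped TensorProduct

namespace Groth.Agent.Helper2.OortTate2

section Coord
variable {R : Type u} [CommRing R] {A : Type v} [CommRing A] [HopfAlgebra R A]
variable (x : A) (hx : Bialgebra.counitAlgHom R A x = 0)
  (hgen : ∀ f : A, Bialgebra.counitAlgHom R A f = 0 → ∃ r : R, f = r • x)
  (hfree : ∀ r : R, r • x = 0 → r = 0)

include hx hfree in
theorem coord_unique (c c' r r' : R)
    (h : algebraMap R A c + r • x = algebraMap R A c' + r' • x) : c = c' ∧ r = r' := by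
  have h1 := congrArg (Bialgebra.counitAlgHom R A) h
  simp only [map_add, AlgHom.commutes, map_smul, hx, smul_zero, add_zero,
    Algebra.algebraMap_self_apply] at h1
  refine ⟨h1, ?_⟩
  subst h1
  have h2 : (r - r') • x = 0 := by
    rw [sub_smul, sub_eq_zero]
    exact add_left_cancel h
  exact sub_eq_zero.mp (hfree _ h2)

include hx hgen hfree in
/-- the coordinate functional of `x` -/
theorem exists_coord : ∃ lam : A →ₗ[R] R,
    ∀ f : A, f = algebraMap R A (Bialgebra.counitAlgHom R A f) + lam f • x := by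
  have h0 : ∀ f : A, Bialgebra.counitAlgHom R A
      (f - algebraMap R A (Bialgebra.counitAlgHom R A f)) = 0 := by
    intro f
    rw [map_sub, AlgHom.commutes, Algebra.algebraMap_self_apply, sub_self]
  choose lam₀ hlam₀ using fun f => hgen _ (h0 f)
  have hdec : ∀ f : A, f = algebraMap R A (Bialgebra.counitAlgHom R A f) + lam₀ f • x := by
    intro f
    rw [← hlam₀ f]
    ring
  refine ⟨{ toFun := lam₀, map_add' := ?_, map_smul' := ?_ }, hdec⟩
  · intro f g
    refine (coord_unique x hx hfree (Bialgebra.counitAlgHom R A (f + g))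
      (Bialgebra.counitAlgHom R A f + Bialgebra.counitAlgHom R A g) _ _ ?_).2
    rw [← hdec (f + g), map_add, add_smul]
    nth_rw 1 [hdec f, hdec g]
    ring
  · intro r f
    simp only [RingHom.id_apply]
    refine (coord_unique x hx hfree (Bialgebra.counitAlgHom R A (r • f))
      (r * Bialgebra.counitAlgHom R A f) _ _ ?_).2
    rw [← hdec (r • f), map_mul, smul_assoc]
    nth_rw 1 [hdec f]
    rw [smul_add, Algebra.smul_def r (algebraMap R A _)]

variable (lam : A →ₗ[R] R)
  (hdec : ∀ f : A, f = algebraMap R A (Bialgebra.counitAlgHom R A f) + lam f • x)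

include hx hfree hdec in
theorem lam_x : lam x = 1 := by
  refine (coord_unique x hx hfree 0 0 _ _ ?_).2.symm
  have := hdec x
  rw [hx] at this
  rw [one_smul, map_zero, zero_add, zero_add]
  rw [map_zero, zero_add] at this
  exact this

include hx hfree hdec in
theorem lam_algebraMap (r : R) : lam (algebraMap R A r) = 0 := by
  refine (coord_unique x hx hfree r (Bialgebra.counitAlgHom R A (algebraMap R A r)) _ _ ?_).2.symm
  rw [zero_smul, add_zero]
  exact hdec _

include hx hfree hdec in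
theorem lam_mul (a : R) (hxa : x * x = a • x) (f g : A) :
    lam (f * g) = Bialgebra.counitAlgHom R A f * lam g + lam f * Bialgebra.counitAlgHom R A g +
      a * lam f * lam g := by
  refine (coord_unique x hx hfree (Bialgebra.counitAlgHom R A (f * g))
    (Bialgebra.counitAlgHom R A f * Bialgebra.counitAlgHom R A g) _ _ ?_).2
  rw [← hdec (f * g)]
  nth_rw 1 [hdec f, hdec g]
  have e1 : ∀ (r : R) (z : A), r • z = algebraMap R A r * z := fun r z => Algebra.smul_def r z
  simp only [e1, map_add, map_mul] at hxa ⊢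
  linear_combination (algebraMap R A (lam f) * algebraMap R A (lam g)) * hxa

include hdec in
theorem algHom_ext {C : Type*} [Semiring C] [Algebra R C] (g₁ g₂ : A →ₐ[R] C)
    (h : g₁ x = g₂ x) : g₁ = g₂ := by
  ext f
  rw [hdec f, map_add, map_add, AlgHom.commutes, AlgHom.commutes, map_smul, map_smul, h]

include hx hfree hdec in
/-- the universal property of `A` -/
theorem exists_lift (a : R) (hxa : x * x = a • x) {C : Type*} [CommRing C] [Algebra R C]
    (y : C) (hy : y * y = a • y) : ∃ φ : A →ₐ[R] C, φ x = y := by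
  let φ₀ : A →ₗ[R] C :=
    (Algebra.linearMap R C).comp (Bialgebra.counitAlgHom R A).toLinearMap + lam.smulRight y
  have hφ₀ : ∀ f, φ₀ f = algebraMap R C (Bialgebra.counitAlgHom R A f) + lam f • y := fun f => rfl
  have h1 : φ₀ 1 = 1 := by
    rw [hφ₀, map_one, map_one]
    have : lam (1 : A) = 0 := by
      have := lam_algebraMap x hx hfree lam hdec 1
      rwa [map_one] at this
    rw [this, zero_smul, add_zero]
  have hmul : ∀ f g, φ₀ (f * g) = φ₀ f * φ₀ g := by
    intro f g
    rw [hφ₀, hφ₀, hφ₀, lam_mul x hx hfree lam hdec a hxa f g]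
    have e1 : ∀ (r : R) (z : C), r • z = algebraMap R C r * z := fun r z => Algebra.smul_def r z
    simp only [e1, map_add, map_mul] at hy ⊢
    linear_combination (-(algebraMap R C (lam f) * algebraMap R C (lam g))) * hy
  refine ⟨AlgHom.ofLinearMap φ₀ h1 hmul, ?_⟩
  change φ₀ x = y
  rw [hφ₀, hx, map_zero, zero_add, lam_x x hx hfree lam hdec, one_smul]

end Coord

section Main
variable (R : Type u) [CommRing R] (A : Type v) [CommRing A] [HopfAlgebra R A]
    (x : A) (hx : Bialgebra.counitAlgHom R A x = 0)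
    (hgen : ∀ f : A, Bialgebra.counitAlgHom R A f = 0 → ∃ r : R, f = r • x)
    (hfree : ∀ r : R, r • x = 0 → r = 0)
    (a b : R) (hxa : x * x = a • x)
    (hxb : Bialgebra.comulAlgHom R A x = x ⊗ₜ[R] 1 + 1 ⊗ₜ[R] x + b • (x ⊗ₜ[R] x))
    (A' : Type v) [CommRing A'] [HopfAlgebra R A']
    (x' : A') (hx' : Bialgebra.counitAlgHom R A' x' = 0)
    (hgen' : ∀ f : A', Bialgebra.counitAlgHom R A' f = 0 → ∃ r : R, f = r • x')
    (hfree' : ∀ r : R, r • x' = 0 → r = 0)
    (a' b' : R) (hxa' : x' * x' = a' • x')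
    (hxb' : Bialgebra.comulAlgHom R A' x' = x' ⊗ₜ[R] 1 + 1 ⊗ₜ[R] x' + b' • (x' ⊗ₜ[R] x'))

include hx hgen hfree hxa hxb hx' hgen' hfree' hxa' hxb' in
theorem backward (s : Rˣ) (ha : a = a' * (s : R)) (hb : b' = b * (s : R)) :
    Nonempty (A ≃ₐc[R] A') := by
  obtain ⟨lam, hdec⟩ := exists_coord x hx hgen hfree
  obtain ⟨lam', hdec'⟩ := exists_coord x' hx' hgen' hfree'
  have hy : ((s : R) • x') * ((s : R) • x') = a • ((s : R) • x') := by
    rw [smul_mul_smul_comm, hxa', smul_smul, smul_smul, ha]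
    congr 1
    ring
  obtain ⟨φ, hφ⟩ := exists_lift x hx hfree lam hdec a hxa ((s : R) • x') hy
  have hy' : ((↑s⁻¹ : R) • x) * ((↑s⁻¹ : R) • x) = a' • ((↑s⁻¹ : R) • x) := by
    rw [smul_mul_smul_comm, hxa, smul_smul, smul_smul, ha]
    congr 1
    have : (s : R) * (↑s⁻¹ : R) = 1 := Units.mul_inv s
    linear_combination ((↑s⁻¹ : R) * a') * this
  obtain ⟨ψ, hψ⟩ := exists_lift x' hx' hfree' lam' hdec' a' hxa' ((↑s⁻¹ : R) • x) hy'
  have h₁ : φ.comp ψ = AlgHom.id R A' := by
    apply algHom_ext x' lam' hdec'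
    rw [AlgHom.comp_apply, hψ, map_smul, hφ, smul_smul, Units.inv_mul, one_smul]
    rfl
  have h₂ : ψ.comp φ = AlgHom.id R A := by
    apply algHom_ext x lam hdec
    rw [AlgHom.comp_apply, hφ, map_smul, hψ, smul_smul, Units.mul_inv, one_smul]
    rfl
  let e₀ : A ≃ₐ[R] A' := AlgEquiv.ofAlgHom φ ψ h₁ h₂
  have he₀ : e₀ x = (s : R) • x' := hφ
  refine ⟨BialgEquiv.ofAlgEquiv e₀ ?_ ?_⟩
  · apply algHom_ext x lam hdec
    rw [AlgHom.comp_apply]
    change Bialgebra.counitAlgHom R A' (e₀ x) = _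
    rw [he₀, map_smul, hx', hx, smul_zero]
  · apply algHom_ext x lam hdec
    rw [AlgHom.comp_apply, AlgHom.comp_apply, hxb]
    change Algebra.TensorProduct.map (e₀ : A →ₐ[R] A') (e₀ : A →ₐ[R] A') _ =
      Bialgebra.comulAlgHom R A' (e₀ x)
    rw [he₀, map_smul, hxb', map_add, map_add, map_smul, Algebra.TensorProduct.map_tmul,
      Algebra.TensorProduct.map_tmul, Algebra.TensorProduct.map_tmul]
    change (e₀ x) ⊗ₜ[R] (e₀ 1) + (e₀ 1) ⊗ₜ[R] (e₀ x) + b • ((e₀ x) ⊗ₜ[R] (e₀ x)) = _
    have t1 : ((s : R) • x') ⊗ₜ[R] (1 : A') = (s : R) • (x' ⊗ₜ[R] (1 : A')) :=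
      (TensorProduct.smul_tmul' _ _ _).symm
    have t2 : (1 : A') ⊗ₜ[R] ((s : R) • x') = (s : R) • ((1 : A') ⊗ₜ[R] x') :=
      TensorProduct.tmul_smul _ _ _
    have t3 : ((s : R) • x') ⊗ₜ[R] ((s : R) • x') = ((s : R) * (s : R)) • (x' ⊗ₜ[R] x') := by
      rw [← TensorProduct.smul_tmul', TensorProduct.tmul_smul, smul_smul]
    rw [he₀, map_one, t1, t2, t3, smul_add, smul_add, smul_smul, smul_smul, hb]
    congr 2
    ring

include hx hgen hfree hxa hxb hx' hgen' hfree' hxa' hxb' in
theorem forward (e : A ≃ₐc[R] A') : ∃ s : Rˣ, a = a' * (s : R) ∧ b' = b * (s : R) := by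
  obtain ⟨lam', hdec'⟩ := exists_coord x' hx' hgen' hfree'
  have hc : ∀ f : A, Bialgebra.counitAlgHom R A' (e f) = Bialgebra.counitAlgHom R A f :=
    fun f => CoalgHomClass.counit_comp_apply e f
  have hc' : ∀ f : A', Bialgebra.counitAlgHom R A (e.symm f) = Bialgebra.counitAlgHom R A' f :=
    fun f => CoalgHomClass.counit_comp_apply e.symm f
  obtain ⟨s, hs⟩ := hgen' (e x) (by rw [hc, hx])
  obtain ⟨t, ht⟩ := hgen (e.symm x') (by rw [hc', hx'])
  have hst : s * t = 1 := by
    have h1 : x' = (s * t) • x' := by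
      calc x' = e (e.symm x') := (e.apply_symm_apply x').symm
        _ = e (t • x) := by rw [ht]
        _ = t • e x := map_smul e t x
        _ = (s * t) • x' := by rw [hs, smul_smul, mul_comm]
    have h2 : (1 - s * t) • x' = 0 := by
      rw [sub_smul, one_smul, ← h1, sub_self]
    have := hfree' _ h2
    exact (sub_eq_zero.mp this).symm
  let su : Rˣ := ⟨s, t, hst, by rw [mul_comm]; exact hst⟩
  refine ⟨su, ?_, ?_⟩
  · -- multiplication
    have h1 : e (x * x) = e x * e x := map_mul e x x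
    rw [hxa, map_smul, hs, smul_mul_smul_comm, hxa', smul_smul, smul_smul] at h1
    have h2 : (a * s - s * s * a') • x' = 0 := by
      rw [sub_smul, h1, sub_self]
    have h3 := sub_eq_zero.mp (hfree' _ h2)
    change a = a' * s
    have : a * (s * t) = a' * s * (s * t) := by
      linear_combination t * h3
    rwa [hst, mul_one, mul_one] at this
  · -- comultiplication
    have h1 : TensorProduct.map (e : A →ₗ[R] A') (e : A →ₗ[R] A') (Bialgebra.comulAlgHom R A x) =
        Bialgebra.comulAlgHom R A' (e x) := CoalgHomClass.map_comp_comul_apply e x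
    rw [hxb, hs, map_smul, hxb', map_add, map_add, map_smul, TensorProduct.map_tmul,
      TensorProduct.map_tmul, TensorProduct.map_tmul] at h1
    change (e x) ⊗ₜ[R] (e 1) + (e 1) ⊗ₜ[R] (e x) + b • ((e x) ⊗ₜ[R] (e x)) = _ at h1
    have t1 : (s • x') ⊗ₜ[R] (1 : A') = s • (x' ⊗ₜ[R] (1 : A')) :=
      (TensorProduct.smul_tmul' _ _ _).symm
    have t2 : (1 : A') ⊗ₜ[R] (s • x') = s • ((1 : A') ⊗ₜ[R] x') :=
      TensorProduct.tmul_smul _ _ _
    have t3 : (s • x') ⊗ₜ[R] (s • x') = (s * s) • (x' ⊗ₜ[R] x') := by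
      rw [← TensorProduct.smul_tmul', TensorProduct.tmul_smul, smul_smul]
    rw [hs, map_one, t1, t2, t3, smul_add, smul_add, smul_smul, smul_smul] at h1
    have h2 : (b * (s * s)) • (x' ⊗ₜ[R] x') = (s * b') • (x' ⊗ₜ[R] x') := by
      have := h1
      rw [add_right_inj] at this
      exact this
    let Λ : A' ⊗[R] A' →ₗ[R] R := (TensorProduct.lid R R).toLinearMap ∘ₗ TensorProduct.map lam' lam'
    have hΛ : Λ (x' ⊗ₜ[R] x') = 1 := by
      change TensorProduct.lid R R (TensorProduct.map lam' lam' (x' ⊗ₜ[R] x')) = 1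
      rw [TensorProduct.map_tmul, TensorProduct.lid_tmul, lam_x x' hx' hfree' lam' hdec', smul_eq_mul,
        mul_one]
    have h3 := congrArg Λ h2
    rw [map_smul, map_smul, hΛ, smul_eq_mul, smul_eq_mul, mul_one, mul_one] at h3
    change b' = b * s
    have : b' * (s * t) = b * s * (s * t) := by
      linear_combination (-t) * h3
    rwa [hst, mul_one, mul_one] at this

include hx hgen hfree hxa hxb hx' hgen' hfree' hxa' hxb' in
theorem main : Nonempty (A ≃ₐc[R] A') ↔ ∃ s : Rˣ, a = a' * (s : R) ∧ b' = b * (s : R) :=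
  ⟨fun ⟨e⟩ => forward R A x hx hgen hfree a b hxa hxb A' x' hx' hgen' hfree' a' b' hxa' hxb' e,
    fun ⟨s, ha, hb⟩ =>
      backward R A x hx hgen hfree a b hxa hxb A' x' hx' hgen' hfree' a' b' hxa' hxb' s ha hb⟩

end Main

end Groth.Agent.Helper2.OortTate2
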