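import Groth.Agent.Lib.Helper2.OortTate2

universe u v
open scoped TensorProduct

namespace Groth.Agent.Helper2.OortTate2

section NormalForm
variable (R : Type u) [CommRing R] (A : Type v) [CommRing A] [HopfAlgebra R A]
    (x : A) (hx : Bialgebra.counitAlgHom R A x = 0)
    (hgen : ∀ f : A, Bialgebra.counitAlgHom R A f = 0 → ∃ r : R, f = r • x)
    (hfree : ∀ r : R, r • x = 0 → r = 0)

/-- product of two functionals on the tensor square -/
noncomputable def pairing (φ ψ : A →ₗ[R] R) : A ⊗[R] A →ₗ[R] R :=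
  (LinearMap.mul' R R).comp (TensorProduct.map φ ψ)

@[simp] theorem pairing_tmul (φ ψ : A →ₗ[R] R) (f g : A) :
    pairing R A φ ψ (f ⊗ₜ[R] g) = φ f * ψ g := by
  simp [pairing]

theorem pairing_rTensor (φ ψ : A →ₗ[R] R) (w : A ⊗[R] A) :
    pairing R A φ ψ w = (LinearMap.mul' R R) ((TensorProduct.map LinearMap.id ψ)
      (LinearMap.rTensor A φ w)) := by
  induction w using TensorProduct.induction_on with
  | zero => simp
  | tmul f g => simp
  | add w₁ w₂ h₁ h₂ => simp only [map_add, h₁, h₂]

theorem pairing_lTensor (φ ψ : A →ₗ[R] R) (w : A ⊗[R] A) :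
    pairing R A φ ψ w = (LinearMap.mul' R R) ((TensorProduct.map φ LinearMap.id)
      (LinearMap.lTensor A ψ w)) := by
  induction w using TensorProduct.induction_on with
  | zero => simp
  | tmul f g => simp
  | add w₁ w₂ h₁ h₂ => simp only [map_add, h₁, h₂]

/-- `(ε ⊗ φ)(Δ f) = φ f` -/
theorem pairing_counit_left (φ : A →ₗ[R] R) (f : A) :
    pairing R A Coalgebra.counit φ (Coalgebra.comul f) = φ f := by
  rw [pairing_rTensor, Coalgebra.rTensor_counit_comul]
  simp

theorem pairing_counit_right (φ : A →ₗ[R] R) (f : A) :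
    pairing R A φ Coalgebra.counit (Coalgebra.comul f) = φ f := by
  rw [pairing_lTensor, Coalgebra.lTensor_counit_comul]
  simp

variable (lam : A →ₗ[R] R)
  (hdec : ∀ f : A, f = algebraMap R A (Bialgebra.counitAlgHom R A f) + lam f • x)

include hdec in
theorem decomp2 (w : A ⊗[R] A) :
    w = pairing R A (Coalgebra.counit) (Coalgebra.counit) w • ((1 : A) ⊗ₜ[R] (1 : A))
      + pairing R A (Coalgebra.counit) lam w • ((1 : A) ⊗ₜ[R] x)
      + pairing R A lam (Coalgebra.counit) w • (x ⊗ₜ[R] (1 : A))
      + pairing R A lam lam w • (x ⊗ₜ[R] x) := by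
  induction w using TensorProduct.induction_on with
  | zero => simp
  | tmul f g =>
    have hf := hdec f
    have hg := hdec g
    simp only [Bialgebra.counitAlgHom_apply] at hf hg
    simp only [pairing_tmul]
    nth_rw 1 [hf, hg]
    simp only [Algebra.algebraMap_eq_smul_one, TensorProduct.add_tmul, TensorProduct.tmul_add,
      TensorProduct.smul_tmul_smul]
    abel
  | add w₁ w₂ h₁ h₂ =>
    nth_rw 1 [h₁, h₂]
    simp only [map_add, add_smul]
    abel

include hx hgen hfree in
theorem normal_form : ∃ a b : R, x * x = a • x ∧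
    Bialgebra.comulAlgHom R A x = x ⊗ₜ[R] 1 + 1 ⊗ₜ[R] x + b • (x ⊗ₜ[R] x) ∧ a * b = -2 := by
  obtain ⟨lam, hdec⟩ := exists_coord x hx hgen hfree
  have hlx := lam_x x hx hfree lam hdec
  have hl1 : lam (1 : A) = 0 := by
    have := lam_algebraMap x hx hfree lam hdec 1
    rwa [map_one] at this
  have hx' : Coalgebra.counit (R := R) x = 0 := hx
  have he1 : Coalgebra.counit (R := R) (1 : A) = 1 := Bialgebra.counit_one
  obtain ⟨a, ha⟩ := hgen (x * x) (by rw [map_mul, hx, mul_zero])
  set b : R := pairing R A lam lam (Coalgebra.comul x) with hb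
  have hΔ : Coalgebra.comul (R := R) x = x ⊗ₜ[R] 1 + 1 ⊗ₜ[R] x + b • (x ⊗ₜ[R] x) := by
    have h := decomp2 R A x lam hdec (Coalgebra.comul x)
    simp only [pairing_counit_left, pairing_counit_right, hlx, hx', ← hb, one_smul,
      zero_smul, zero_add] at h
    rw [h]
    abel
  -- the antipode
  obtain ⟨c, hc⟩ := hgen (HopfAlgebra.antipode R x) (by
    rw [Bialgebra.counitAlgHom_apply, HopfAlgebra.counit_antipode]; exact hx')
  have hS1 : HopfAlgebra.antipode R (1 : A) = 1 := HopfAlgebra.antipode_one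
  have hanti := HopfAlgebra.mul_antipode_rTensor_comul_apply (R := R) x
  rw [hΔ, hx', map_zero] at hanti
  simp only [map_add, map_smul, LinearMap.rTensor_tmul, LinearMap.mul'_apply, hc, hS1, mul_one,
    one_mul, smul_mul_assoc, ha] at hanti
  have hc1 : c + 1 + b * c * a = 0 := by
    apply hfree
    rw [← hanti]
    simp only [add_smul, one_smul, mul_smul]
  -- multiplicativity
  have hmul : Coalgebra.comul (R := R) (x * x) = Coalgebra.comul x * Coalgebra.comul x :=
    Bialgebra.comul_mul x x
  rw [ha, map_smul, hΔ] at hmul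
  have h2 := congrArg (pairing R A lam lam) hmul
  simp only [mul_add, add_mul, Algebra.TensorProduct.tmul_mul_tmul, mul_one, one_mul,
    smul_mul_assoc, mul_smul_comm, ha, TensorProduct.smul_tmul',
    TensorProduct.tmul_smul, map_add, map_smul, pairing_tmul, hlx, hl1, smul_eq_mul] at h2
  refine ⟨a, b, ha, hΔ, ?_⟩
  linear_combination (a * b + 2) * hc1 + c * h2

end NormalForm

end Groth.Agent.Helper2.OortTate2
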