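import Mathlib

/-! A ring of characteristic `p` with a `p`-basis is faithfully flat under its perfect closure. -/

universe u

namespace Groth.Agent.Helper2.PerfFlat

open Function

/-- `R` viewed as an algebra over itself through the `n`-fold Frobenius. -/
def Lv (R : Type u) (_p _n : ℕ) : Type u := R

section

variable (R : Type u) [CommRing R] (p : ℕ) [hp : Fact p.Prime] [CharP R p]

instance (n : ℕ) : CommRing (Lv R p n) := inferInstanceAs (CommRing R)

noncomputable instance (n : ℕ) : Algebra R (Lv R p n) :=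
  RingHom.toAlgebra (iterateFrobenius R p n : R →+* R)

theorem smul_def' (n : ℕ) (a : R) (r : Lv R p n) :
    a • r = (show Lv R p n from (a ^ p ^ n * (show R from r) : R)) := by
  rw [Algebra.smul_def]
  rfl

theorem flat_of_ringHom_flat (n : ℕ) (h : (iterateFrobenius R p n).Flat) :
    Module.Flat R (Lv R p n) := h

theorem ringHom_flat_of_flat (n : ℕ) (h : Module.Flat R (Lv R p n)) :
    (iterateFrobenius R p n).Flat := h

end

section PB

variable {R : Type u} [CommRing R] (p : ℕ) [hp : Fact p.Prime] [CharP R p] {ι : Type u}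
  (x : ι → R)

/-- the `p`-basis map -/
noncomputable def Phi (c : {e : ι →₀ ℕ // ∀ i, e i < p} →₀ R) : R :=
  c.sum (fun e r => r ^ p * e.1.prod (fun i n => x i ^ n))

theorem Phi_add (c d : {e : ι →₀ ℕ // ∀ i, e i < p} →₀ R) :
    Phi p x (c + d) = Phi p x c + Phi p x d := by
  unfold Phi
  rw [Finsupp.sum_add_index']
  · intro e
    rw [zero_pow hp.out.ne_zero, zero_mul]
  · intro e r s
    rw [add_pow_char r s, add_mul]

theorem Phi_smul (a : R) (c : {e : ι →₀ ℕ // ∀ i, e i < p} →₀ R) :
    Phi p x (a • c) = a ^ p * Phi p x c := by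
  unfold Phi
  rw [Finsupp.sum_smul_index', Finsupp.mul_sum]
  · refine Finsupp.sum_congr fun e _ => ?_
    rw [smul_eq_mul, mul_pow, mul_assoc]
  · intro e
    rw [zero_pow hp.out.ne_zero, zero_mul]

/-- Frobenius is flat when there is a `p`-basis. -/
theorem flat_one (hx : Bijective (Phi p x)) : Module.Flat R (Lv R p 1) := by
  let f : ({e : ι →₀ ℕ // ∀ i, e i < p} →₀ R) →ₗ[R] Lv R p 1 :=
    { toFun := fun c => (show Lv R p 1 from Phi p x c)
      map_add' := fun c d => Phi_add p x c d
      map_smul' := fun a c => by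
        rw [RingHom.id_apply, smul_def', pow_one]
        exact Phi_smul p x a c }
  have hf : Bijective f := hx
  exact Module.Flat.of_linearEquiv (LinearEquiv.ofBijective f hf).symm

theorem frobenius_flat (hx : Bijective (Phi p x)) : (frobenius R p).Flat := by
  have h := ringHom_flat_of_flat R p 1 (flat_one p x hx)
  rwa [iterateFrobenius_one] at h

theorem iterateFrobenius_flat (hx : Bijective (Phi p x)) (n : ℕ) :
    (iterateFrobenius R p n).Flat := by
  induction n with
  | zero => rw [iterateFrobenius_zero]; exact RingHom.Flat.id R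
  | succ n ih =>
    rw [iterateFrobenius_add, iterateFrobenius_one]
    exact RingHom.Flat.comp (frobenius_flat p x hx) ih

theorem frobenius_injective (hx : Bijective (Phi p x)) : Injective (frobenius R p) := by
  classical
  intro r s hrs
  have h0 : ∀ i : ι, (0 : ι →₀ ℕ) i < p := fun i => hp.out.pos
  have hΦ : ∀ t : R, Phi p x (Finsupp.single ⟨0, h0⟩ t) = t ^ p := by
    intro t
    unfold Phi
    rw [Finsupp.sum_single_index]
    · simp
    · rw [zero_pow hp.out.ne_zero, zero_mul]
  have h1 : Phi p x (Finsupp.single ⟨0, h0⟩ r) = Phi p x (Finsupp.single ⟨0, h0⟩ s) := by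
    rw [hΦ, hΦ]; exact hrs
  have h2 := hx.1 h1
  have := congrArg (fun c => c ⟨0, h0⟩) h2
  simpa using this

end PB

section Main

variable {R : Type u} [CommRing R] (p : ℕ) [hp : Fact p.Prime] [CharP R p]

/-- the algebra structure of the perfect closure -/
noncomputable local instance : Algebra R (PerfectClosure R p) := (PerfectClosure.of R p).toAlgebra

theorem smul_mk (a : R) (n : ℕ) (r : R) :
    a • PerfectClosure.mk R p (n, r) = PerfectClosure.mk R p (n, a ^ p ^ n * r) := by
  rw [Algebra.smul_def]
  show PerfectClosure.of R p a * _ = _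
  rw [PerfectClosure.of_apply, PerfectClosure.mk_mul_mk]
  simp only [zero_add, iterate_zero_apply, iterate_frobenius]

theorem mk_raise (n k : ℕ) (r : R) :
    PerfectClosure.mk R p (n, r) = PerfectClosure.mk R p (k + n, r ^ p ^ k) := by
  rw [PerfectClosure.R.sound R p k n r _ rfl, iterate_frobenius]

theorem mk_add (n : ℕ) (a b : R) :
    PerfectClosure.mk R p (n, a) + PerfectClosure.mk R p (n, b) =
      PerfectClosure.mk R p (n, a + b) := by
  rw [PerfectClosure.mk_add_mk, mk_raise p n n (a + b)]
  simp only [iterate_frobenius]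
  rw [add_pow_char_pow]

theorem mk_sum (n : ℕ) {κ : Type*} (s : Finset κ) (g : κ → R) :
    ∑ j ∈ s, PerfectClosure.mk R p (n, g j) = PerfectClosure.mk R p (n, ∑ j ∈ s, g j) := by
  classical
  induction s using Finset.induction_on with
  | empty => simp [PerfectClosure.mk_zero_right]
  | insert a s ha ih => rw [Finset.sum_insert ha, Finset.sum_insert ha, ih, mk_add]

theorem exists_level {l : ℕ} (z : Fin l → PerfectClosure R p) :
    ∃ (n : ℕ) (r : Fin l → R), ∀ i, z i = PerfectClosure.mk R p (n, r i) := by
  choose w hw using fun i => PerfectClosure.mk_surjective R p (z i)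
  refine ⟨Finset.univ.sup fun i => (w i).1,
    fun i => (w i).2 ^ p ^ (Finset.univ.sup (fun i => (w i).1) - (w i).1), fun i => ?_⟩
  have hle : (w i).1 ≤ Finset.univ.sup fun i => (w i).1 := Finset.le_sup (f := fun i => (w i).1)
    (Finset.mem_univ i)
  rw [← hw i]
  conv_lhs => rw [show w i = ((w i).1, (w i).2) from rfl,
    mk_raise p (w i).1 (Finset.univ.sup (fun i => (w i).1) - (w i).1) (w i).2]
  rw [Nat.sub_add_cancel hle]

theorem mk_eq_zero_iff (hF : Injective (frobenius R p)) (n : ℕ) (s : R) :
    PerfectClosure.mk R p (n, s) = 0 ↔ s = 0 := by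
  constructor
  · intro h
    rw [← PerfectClosure.mk_zero_right R p n, PerfectClosure.mk_eq_iff] at h
    obtain ⟨z, hz⟩ := h
    simp only [iterate_map_zero] at hz
    exact (hF.iterate (n + z)) (by rw [hz, iterate_map_zero])
  · rintro rfl
    exact PerfectClosure.mk_zero_right R p n

theorem flat_perfectClosure (hfl : ∀ n, Module.Flat R (Lv R p n))
    (hF : Injective (frobenius R p)) : Module.Flat R (PerfectClosure R p) := by
  apply Module.Flat.of_forall_isTrivialRelation
  intro l f z hz
  obtain ⟨n, r, hr⟩ := exists_level p z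
  have h1 : ∑ i, f i ^ p ^ n * r i = 0 := by
    rw [← mk_eq_zero_iff p hF n, ← mk_sum, ← hz]
    refine Finset.sum_congr rfl fun i _ => ?_
    rw [hr i, smul_mk]
  haveI := hfl n
  have h2 : ∑ i, f i • (show Lv R p n from r i) = 0 := by
    simp only [smul_def']
    exact h1
  obtain ⟨k, a, y, hy1, hy2⟩ := Module.Flat.isTrivialRelation_of_sum_smul_eq_zero
    (R := R) (M := Lv R p n) (f := f) (x := fun i => (show Lv R p n from r i)) h2
  refine ⟨k, a, fun j => PerfectClosure.mk R p (n, (show R from y j)), fun i => ?_, hy2⟩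
  rw [hr i]
  simp only [smul_mk]
  rw [mk_sum]
  congr 2
  have := hy1 i
  simp only [smul_def'] at this
  exact this

theorem faithfullyFlat_perfectClosure (hfl : ∀ n, Module.Flat R (Lv R p n))
    (hF : Injective (frobenius R p)) : Module.FaithfullyFlat R (PerfectClosure R p) := by
  haveI := flat_perfectClosure p hfl hF
  refine ⟨fun m hm htop => ?_⟩
  -- the proper submodule of roots of elements of `m`
  let Q : Submodule R (PerfectClosure R p) :=
    { carrier := {z | ∃ n, ∃ s ∈ m, z = PerfectClosure.mk R p (n, s)}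
      zero_mem' := ⟨0, 0, m.zero_mem, (PerfectClosure.mk_zero_right R p 0).symm⟩
      add_mem' := by
        rintro _ _ ⟨n, s, hs, rfl⟩ ⟨n', s', hs', rfl⟩
        refine ⟨n' + n, s ^ p ^ n' + s' ^ p ^ n, ?_, ?_⟩
        · exact m.add_mem (m.pow_mem_of_mem hs _ (pow_pos hp.out.pos _))
            (m.pow_mem_of_mem hs' _ (pow_pos hp.out.pos _))
        · rw [← mk_add, ← mk_raise, add_comm n' n, ← mk_raise]
      smul_mem' := by
        rintro a _ ⟨n, s, hs, rfl⟩
        exact ⟨n, a ^ p ^ n * s, m.mul_mem_left _ hs, smul_mk p a n s⟩ }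
  have hle : m • (⊤ : Submodule R (PerfectClosure R p)) ≤ Q := by
    rw [Submodule.smul_le]
    intro a ha z _
    obtain ⟨⟨n, r⟩, rfl⟩ := PerfectClosure.mk_surjective R p z
    exact ⟨n, a ^ p ^ n * r, m.mul_mem_right _ (m.pow_mem_of_mem ha _ (pow_pos hp.out.pos _)),
      smul_mk p a n r⟩
  have h1 : (1 : PerfectClosure R p) ∈ Q := hle (by rw [htop]; exact Submodule.mem_top)
  obtain ⟨n, s, hs, h1s⟩ := h1
  rw [PerfectClosure.one_def, PerfectClosure.mk_eq_iff] at h1s
  obtain ⟨z, hz⟩ := h1s
  simp only [iterate_frobenius, one_pow, zero_add] at hz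
  exact hm.ne_top ((Ideal.eq_top_iff_one m).mpr (hz ▸ m.pow_mem_of_mem hs _ (pow_pos hp.out.pos _)))

theorem main {ι : Type u} (x : ι → R) (hx : Bijective (Phi p x)) :
    (PerfectClosure.of R p).FaithfullyFlat := by
  have hfl : ∀ n, Module.Flat R (Lv R p n) := fun n =>
    flat_of_ringHom_flat R p n (iterateFrobenius_flat p x hx n)
  exact faithfullyFlat_perfectClosure p hfl (frobenius_injective p x hx)

end Main

end Groth.Agent.Helper2.PerfFlat
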