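import Mathlib

universe u
open MvPolynomial

namespace Groth.Agent.Helper2.PlaneForms

variable {k : Type u} [Field k]

theorem finrank_homogeneousSubmodule (d : ℕ) :
    Module.finrank k (homogeneousSubmodule (Fin 3) k d) = (d + 2).choose 2 := by
  classical
  rw [homogeneousSubmodule_eq_finsupp_supported]
  rw [(AddMonoidAlgebra.supportedEquivFinsupp (R := k) (S := k)
    {e : Fin 3 →₀ ℕ | e.degree = d}).finrank_eq]
  have hset : {e : Fin 3 →₀ ℕ | e.degree = d} = ↑((Finset.univ : Finset (Fin 3)).finsuppAntidiag d) := by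
    ext e
    simp [Finsupp.degree_eq_sum]
  haveI : Fintype ↥{e : Fin 3 →₀ ℕ | e.degree = d} := by
    rw [hset]
    infer_instance
  rw [Module.finrank_finsupp_self]
  rw [← Set.toFinset_card]
  have : Set.toFinset {e : Fin 3 →₀ ℕ | e.degree = d} =
      (Finset.univ : Finset (Fin 3)).finsuppAntidiag d := by
    ext e
    simp [Finsupp.degree_eq_sum]
  rw [this, Finset.card_finsuppAntidiag_nat_eq_choose]
  simp only [Finset.card_univ, Fintype.card_fin]
  have h : 3 + d - 1 = d + 2 := by omega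
  rw [h, ← Nat.choose_symm_add]

/-- the linear form attached to a functional -/
noncomputable def lin (φ : (Fin 3 → k) →ₗ[k] k) : MvPolynomial (Fin 3) k :=
  ∑ i, C (φ (Pi.single i 1)) * X i

theorem lin_isHomogeneous (φ : (Fin 3 → k) →ₗ[k] k) : (lin φ).IsHomogeneous 1 := by
  refine IsHomogeneous.sum _ _ _ fun i _ => ?_
  have := (isHomogeneous_C (Fin 3) (φ (Pi.single i 1))).mul (isHomogeneous_X k i)
  simpa using this

theorem eval_lin (φ : (Fin 3 → k) →ₗ[k] k) (u : Fin 3 → k) : eval u (lin φ) = φ u := by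
  simp only [lin, map_sum, map_mul, eval_C, eval_X]
  rw [LinearMap.pi_apply_eq_sum_univ φ u]
  refine Finset.sum_congr rfl fun i _ => ?_
  rw [smul_eq_mul, mul_comm]
  congr 2
  ext j
  simp [Pi.single_apply, eq_comm]

/-- a functional vanishing at `w` and not at `v` -/
theorem exists_sep (v w : Fin 3 → k) (h : LinearIndependent k ![v, w]) :
    ∃ φ : (Fin 3 → k) →ₗ[k] k, φ v ≠ 0 ∧ φ w = 0 := by
  have hv : v ∉ Submodule.span k {w} := by
    intro hmem
    obtain ⟨c, hc⟩ := Submodule.mem_span_singleton.mp hmem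
    have := LinearIndependent.pair_iff.mp h 1 (-c) (by simp [hc])
    exact one_ne_zero this.1
  obtain ⟨φ, hφ, hle⟩ := Submodule.exists_le_ker_of_notMem hv
  exact ⟨φ, hφ, hle (Submodule.mem_span_singleton_self w)⟩

section Points
variable (Λ : Finset (Fin 3 → k))
  (hdist : ∀ v ∈ Λ, ∀ w ∈ Λ, v ≠ w → LinearIndependent k ![v, w])

include hdist in
/-- a form of degree `#Λ - 1` vanishing on `Λ` except at `v` -/
theorem exists_form (v : Fin 3 → k) (hv : v ∈ Λ) :
    ∃ f : MvPolynomial (Fin 3) k, f.IsHomogeneous (Λ.card - 1) ∧ eval v f ≠ 0 ∧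
      ∀ w ∈ Λ, w ≠ v → eval w f = 0 := by
  classical
  choose! φ hφ using fun w (hw : w ∈ Λ.erase v) =>
    exists_sep v w (hdist v hv w (Finset.mem_of_mem_erase hw) (Finset.ne_of_mem_erase hw).symm)
  refine ⟨∏ w ∈ Λ.erase v, lin (φ w), ?_, ?_, ?_⟩
  · have := IsHomogeneous.prod (Λ.erase v) (fun w => lin (φ w)) (fun _ => 1)
      (fun w _ => lin_isHomogeneous _)
    simpa [Finset.card_erase_of_mem hv] using this
  · rw [map_prod]
    exact Finset.prod_ne_zero_iff.mpr fun w hw => by rw [eval_lin]; exact (hφ w hw).1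
  · intro w hw hne
    rw [map_prod]
    exact Finset.prod_eq_zero (Finset.mem_erase.mpr ⟨hne, hw⟩)
      (by rw [eval_lin]; exact (hφ w (Finset.mem_erase.mpr ⟨hne, hw⟩)).2)

/-- evaluation at the points of `Λ` -/
noncomputable def ev : MvPolynomial (Fin 3) k →ₗ[k] (Λ → k) :=
  LinearMap.pi fun v => (aeval (v : Fin 3 → k)).toLinearMap

theorem ev_apply (f : MvPolynomial (Fin 3) k) (v : Λ) : ev Λ f v = eval (v : Fin 3 → k) f := by
  simp [ev, aeval_eq_eval]

theorem ker_ev : LinearMap.ker (ev Λ) = ⨅ v ∈ Λ, LinearMap.ker (aeval v).toLinearMap := by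
  rw [ev, LinearMap.ker_pi, iInf_subtype']

include hdist in
theorem ev_surjective :
    Function.Surjective ((ev Λ).domRestrict (homogeneousSubmodule (Fin 3) k (Λ.card - 1))) := by
  classical
  intro g
  choose! f hf using fun v (hv : v ∈ Λ) => exists_form Λ hdist v hv
  refine ⟨∑ v : Λ, (g v / eval (v : Fin 3 → k) (f v)) •
    (⟨f v, (mem_homogeneousSubmodule _ _).mpr (hf v v.2).1⟩ :
      homogeneousSubmodule (Fin 3) k (Λ.card - 1)), ?_⟩
  ext w
  simp only [map_sum, map_smul, LinearMap.domRestrict_apply, Finset.sum_apply, Pi.smul_apply,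
    ev_apply, smul_eq_mul]
  rw [Finset.sum_eq_single w]
  · exact div_mul_cancel₀ _ (hf w w.2).2.1
  · intro v _ hvw
    rw [(hf v v.2).2.2 w w.2 (fun h => hvw (Subtype.ext h.symm)), mul_zero]
  · intro h
    exact absurd (Finset.mem_univ w) h

include hdist in
theorem finrank_forms (n : ℕ) (hcard : Λ.card = n) :
    Module.finrank k ↥(homogeneousSubmodule (Fin 3) k (n - 1) ⊓
      ⨅ v ∈ Λ, LinearMap.ker (aeval v).toLinearMap) + n = (n - 1 + 2).choose 2 := by
  subst hcard
  set H := homogeneousSubmodule (Fin 3) k (Λ.card - 1) with hH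
  haveI : Module.Finite k H := Module.Finite.iff_fg.mpr (homogeneousSubmodule_fg (Fin 3) k _)
  set E := (ev Λ).domRestrict H with hE
  have h1 := LinearMap.finrank_range_add_finrank_ker E
  rw [LinearMap.range_eq_top.mpr (ev_surjective Λ hdist), finrank_top,
    finrank_homogeneousSubmodule, Module.finrank_fintype_fun_eq_card, Fintype.card_coe] at h1
  rw [← h1, add_comm, ← ker_ev]
  congr 1
  have hk : LinearMap.ker E = Submodule.comap H.subtype (H ⊓ LinearMap.ker (ev Λ)) := by
    ext x
    simp [hE, LinearMap.domRestrict_apply]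
  rw [hk]
  exact (Submodule.comapSubtypeEquivOfLe (inf_le_left : H ⊓ LinearMap.ker (ev Λ) ≤ H)).finrank_eq.symm

end Points

end Groth.Agent.Helper2.PlaneForms
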