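import Groth.Agent.Lib.Helper2.PlaneForms

universe u
open MvPolynomial

namespace Groth.Agent.Helper2.PlaneForms

variable {k : Type u} [Field k]

theorem exists_sep' (v : Fin 3 → k) (P : Submodule k (Fin 3 → k)) (hv : v ∉ P) :
    ∃ φ : (Fin 3 → k) →ₗ[k] k, φ v ≠ 0 ∧ ∀ w ∈ P, φ w = 0 := by
  obtain ⟨φ, hφ, hle⟩ := Submodule.exists_le_ker_of_notMem hv
  exact ⟨φ, hφ, fun w hw => hle hw⟩

/-- if `v` is not proportional to any point of a non-collinear set `Λ'` of at least two points,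
some line through two points of `Λ'` misses `v` -/
theorem exists_pair (Λ' : Finset (Fin 3 → k)) (v : Fin 3 → k)
    (hne : Λ'.Nonempty)
    (hline' : ¬ ∃ ℓ : (Fin 3 → k) →ₗ[k] k, ℓ ≠ 0 ∧ ∀ w ∈ Λ', ℓ w = 0)
    (hv : ∀ w ∈ Λ', v ∉ Submodule.span k {w}) :
    ∃ w₁ ∈ Λ', ∃ w₂ ∈ Λ', w₁ ≠ w₂ ∧ v ∉ Submodule.span k {w₁, w₂} := by
  by_contra hcon
  push Not at hcon
  obtain ⟨w₁, hw₁⟩ := hne
  set P := Submodule.span k ({v, w₁} : Set (Fin 3 → k)) with hP
  have hsub : ∀ w ∈ Λ', w ∈ P := by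
    intro w₂ hw₂
    by_cases h12 : w₁ = w₂
    · rw [← h12]
      exact Submodule.subset_span (by simp)
    · have hmem := hcon w₁ hw₁ w₂ hw₂ h12
      obtain ⟨a, b, hab⟩ := Submodule.mem_span_pair.mp hmem
      have hb : b ≠ 0 := by
        rintro rfl
        apply hv w₁ hw₁
        rw [Submodule.mem_span_singleton]
        exact ⟨a, by simpa using hab⟩
      have : w₂ = b⁻¹ • v - (b⁻¹ * a) • w₁ := by
        rw [← hab, smul_add, smul_smul, smul_smul, inv_mul_cancel₀ hb, one_smul]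
        abel
      rw [this]
      exact Submodule.sub_mem _ (Submodule.smul_mem _ _ (Submodule.subset_span (by simp)))
        (Submodule.smul_mem _ _ (Submodule.subset_span (by simp)))
  have hlt : P < ⊤ := by
    rw [lt_top_iff_ne_top]
    intro htop
    have h1 : Module.finrank k P ≤ 2 := by
      classical
      have := finrank_span_finset_le_card (R := k) ({v, w₁} : Finset (Fin 3 → k))
      rw [Finset.coe_pair] at this
      exact this.trans Finset.card_le_two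
    rw [htop, finrank_top, Module.finrank_fintype_fun_eq_card, Fintype.card_fin] at h1
    omega
  obtain ⟨f, hf, hle⟩ := Submodule.exists_le_ker_of_lt_top P hlt
  exact hline' ⟨f, hf, fun w hw => hle (hsub w hw)⟩

/-- a form of degree `#Λ' - 1` vanishing on `Λ'` and not at `v` -/
theorem exists_form' (Λ' : Finset (Fin 3 → k)) (v : Fin 3 → k) (hne : Λ'.Nonempty)
    (hline' : ¬ ∃ ℓ : (Fin 3 → k) →ₗ[k] k, ℓ ≠ 0 ∧ ∀ w ∈ Λ', ℓ w = 0)
    (hv : ∀ w ∈ Λ', v ∉ Submodule.span k {w}) :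
    ∃ f : MvPolynomial (Fin 3) k, f.IsHomogeneous (Λ'.card - 1) ∧ eval v f ≠ 0 ∧
      ∀ w ∈ Λ', eval w f = 0 := by
  classical
  obtain ⟨w₁, hw₁, w₂, hw₂, h12, hvP⟩ := exists_pair Λ' v hne hline' hv
  obtain ⟨φ₀, hφ₀, hφ₀'⟩ := exists_sep' v _ hvP
  choose! φ hφ using fun w (hw : w ∈ Λ') => exists_sep' v _ (hv w hw)
  set R := (Λ'.erase w₁).erase w₂ with hR
  have hRcard : R.card = Λ'.card - 2 := by
    rw [hR, Finset.card_erase_of_mem (Finset.mem_erase.mpr ⟨Ne.symm h12, hw₂⟩),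
      Finset.card_erase_of_mem hw₁]
    omega
  have hcard2 : 2 ≤ Λ'.card := by
    have : ({w₁, w₂} : Finset (Fin 3 → k)) ⊆ Λ' := by
      intro x hx
      simp only [Finset.mem_insert, Finset.mem_singleton] at hx
      rcases hx with rfl | rfl <;> assumption
    have h2 := Finset.card_le_card this
    rwa [Finset.card_pair h12] at h2
  refine ⟨lin φ₀ * ∏ w ∈ R, lin (φ w), ?_, ?_, ?_⟩
  · have h1 := IsHomogeneous.prod R (fun w => lin (φ w)) (fun _ => 1)
      (fun w _ => lin_isHomogeneous _)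
    have h2 := (lin_isHomogeneous φ₀).mul h1
    have : 1 + ∑ i ∈ R, 1 = Λ'.card - 1 := by
      simp only [Finset.sum_const, smul_eq_mul, mul_one, hRcard]
      omega
    rwa [this] at h2
  · rw [map_mul, map_prod, eval_lin]
    refine mul_ne_zero hφ₀ (Finset.prod_ne_zero_iff.mpr fun w hw => ?_)
    rw [eval_lin]
    exact (hφ w (Finset.mem_of_mem_erase (Finset.mem_of_mem_erase hw))).1
  · intro w hw
    rw [map_mul, map_prod, eval_lin]
    by_cases h1 : w = w₁
    · rw [hφ₀' w (h1 ▸ Submodule.subset_span (by simp)), zero_mul]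
    by_cases h2 : w = w₂
    · rw [hφ₀' w (h2 ▸ Submodule.subset_span (by simp)), zero_mul]
    have hwR : w ∈ R := Finset.mem_erase.mpr ⟨h2, Finset.mem_erase.mpr ⟨h1, hw⟩⟩
    rw [Finset.prod_eq_zero hwR, mul_zero]
    rw [eval_lin]
    exact (hφ w hw).2 w (Submodule.mem_span_singleton_self w)

/-- one direction of the comparison -/
theorem exists_proportional (n : ℕ) (Λ Λ' : Finset (Fin 3 → k)) (hcard' : Λ'.card = n)
    (hne : Λ'.Nonempty)
    (hline' : ¬ ∃ ℓ : (Fin 3 → k) →ₗ[k] k, ℓ ≠ 0 ∧ ∀ v ∈ Λ', ℓ v = 0)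
    (hle : (homogeneousSubmodule (Fin 3) k (n - 1) ⊓
        ⨅ v ∈ Λ', LinearMap.ker (aeval v).toLinearMap) ≤
      (homogeneousSubmodule (Fin 3) k (n - 1) ⊓
        ⨅ v ∈ Λ, LinearMap.ker (aeval v).toLinearMap)) :
    ∀ v ∈ Λ, ∃ w ∈ Λ', ∃ c : k, v = c • w := by
  intro v hv
  by_contra hcon
  push Not at hcon
  have hv' : ∀ w ∈ Λ', v ∉ Submodule.span k {w} := by
    intro w hw hmem
    obtain ⟨c, hc⟩ := Submodule.mem_span_singleton.mp hmem
    exact hcon w hw c hc.symm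
  obtain ⟨f, hf, hfv, hfw⟩ := exists_form' Λ' v hne hline' hv'
  rw [hcard'] at hf
  have hmem : f ∈ homogeneousSubmodule (Fin 3) k (n - 1) ⊓
      ⨅ v ∈ Λ', LinearMap.ker (aeval v).toLinearMap := by
    refine Submodule.mem_inf.mpr ⟨(mem_homogeneousSubmodule _ _).mpr hf, ?_⟩
    rw [Submodule.mem_iInf]
    intro w
    rw [Submodule.mem_iInf]
    intro hw
    rw [LinearMap.mem_ker, AlgHom.toLinearMap_apply]
    exact hfw w hw
  have h2 := (Submodule.mem_inf.mp (hle hmem)).2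
  rw [Submodule.mem_iInf] at h2
  have h3 := h2 v
  rw [Submodule.mem_iInf] at h3
  have h4 := h3 hv
  rw [LinearMap.mem_ker, AlgHom.toLinearMap_apply] at h4
  exact hfv h4

end Groth.Agent.Helper2.PlaneForms
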