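import Mathlib

/-!
For a weakly regular sequence generating `J`, the classes of the elements form a basis of `J/J²`.
-/

universe u

open RingTheory.Sequence

namespace Groth.Agent.Helper2.RegSeqCotangent

variable {A : Type u} [CommRing A]

theorem ofList_ofFn {p : ℕ} (x : Fin p → A) :
    Ideal.ofList (List.ofFn x) = Ideal.span (Set.range x) := by
  unfold Ideal.ofList
  congr 1
  ext r
  simp [List.mem_ofFn]

/-- relations among a weakly regular sequence have coefficients in the ideal -/
theorem coeff_mem_of_sum_eq_zero : ∀ (p : ℕ) (x : Fin p → A),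
    IsWeaklyRegular A (List.ofFn x) → ∀ a : Fin p → A, ∑ i, a i * x i = 0 →
      ∀ i, a i ∈ Ideal.span (Set.range x)
  | 0, _, _, _, _ => fun i => i.elim0
  | p + 1, x, hreg, a, hsum => by
    let x' : Fin p → A := fun i => x i.castSucc
    let xl : A := x (Fin.last p)
    rw [List.ofFn_succ', List.concat_eq_append, isWeaklyRegular_append_iff,
      isWeaklyRegular_singleton_iff, ofList_ofFn] at hreg
    obtain ⟨hreg', hlast⟩ := hreg
    have hJ' : Ideal.span (Set.range x') ≤ Ideal.span (Set.range x) := by
      apply Ideal.span_mono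
      rintro _ ⟨i, rfl⟩
      exact ⟨i.castSucc, rfl⟩
    have hxl : xl ∈ Ideal.span (Set.range x) := Ideal.subset_span ⟨Fin.last p, rfl⟩
    rw [Fin.sum_univ_castSucc] at hsum
    -- the last coefficient lies in J'
    have h1 : a (Fin.last p) * xl ∈ Ideal.span (Set.range x') := by
      have : a (Fin.last p) * xl = -∑ i : Fin p, a i.castSucc * x' i := by
        rw [eq_neg_iff_add_eq_zero, add_comm]
        exact hsum
      rw [this]
      refine Ideal.neg_mem_iff _ |>.mpr (Ideal.sum_mem _ fun i _ => ?_)
      exact Ideal.mul_mem_left _ _ (Ideal.subset_span ⟨i, rfl⟩)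
    have h2 : a (Fin.last p) ∈ Ideal.span (Set.range x') := by
      have h3 : xl • (Submodule.Quotient.mk (a (Fin.last p)) :
          A ⧸ (Ideal.span (Set.range x') • ⊤ : Submodule A A)) = xl • 0 := by
        rw [smul_zero, ← Submodule.Quotient.mk_smul, Submodule.Quotient.mk_eq_zero,
          smul_eq_mul, Ideal.mul_top, smul_eq_mul, mul_comm]
        exact h1
      have h4 := hlast h3
      rwa [Submodule.Quotient.mk_eq_zero, smul_eq_mul, Ideal.mul_top] at h4
    obtain ⟨c, hc⟩ := (Ideal.mem_span_range_iff_exists_fun).mp h2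
    have h5 : ∑ i : Fin p, (a i.castSucc + c i * xl) * x' i = 0 := by
      have : ∑ i : Fin p, (a i.castSucc + c i * xl) * x' i =
          ∑ i : Fin p, a i.castSucc * x' i + (∑ i : Fin p, c i * x' i) * xl := by
        rw [Finset.sum_mul, ← Finset.sum_add_distrib]
        refine Finset.sum_congr rfl fun i _ => ?_
        ring
      rw [this, hc]
      exact hsum
    have ih := coeff_mem_of_sum_eq_zero p x' hreg' _ h5
    intro i
    refine Fin.lastCases ?_ (fun j => ?_) i
    · exact hJ' h2
    · have h6 := hJ' (ih j)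
      have h7 : a j.castSucc = (a j.castSucc + c j * xl) - c j * xl := by ring
      rw [h7]
      exact Ideal.sub_mem _ h6 (Ideal.mul_mem_left _ _ hxl)

theorem exists_basis (p : ℕ) (x : Fin p → A)
    (hreg : IsWeaklyRegular A (List.ofFn x)) :
    ∃ b : Module.Basis (Fin p) (A ⧸ Ideal.span (Set.range x)) (Ideal.span (Set.range x)).Cotangent,
      ∀ i, b i = (Ideal.span (Set.range x)).toCotangent
        ⟨x i, Ideal.subset_span (Set.mem_range_self i)⟩ := by
  set J := Ideal.span (Set.range x) with hJ
  let xs : Fin p → J := fun i => ⟨x i, Ideal.subset_span (Set.mem_range_self i)⟩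
  let v : Fin p → J.Cotangent := fun i => J.toCotangent (xs i)
  have hsmul : ∀ (a : A) (w : J.Cotangent), (Ideal.Quotient.mk J a) • w = a • w := by
    intro a w
    exact algebraMap_smul (A ⧸ J) a w
  have hli : LinearIndependent (A ⧸ J) v := by
    rw [Fintype.linearIndependent_iff]
    intro g hg
    choose a ha using fun i => Ideal.Quotient.mk_surjective (g i)
    have h1 : J.toCotangent (∑ i, a i • xs i) = 0 := by
      rw [map_sum, ← hg]
      refine Finset.sum_congr rfl fun i _ => ?_
      rw [map_smul, ← ha i, hsmul]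
    rw [Ideal.toCotangent_eq_zero, pow_two] at h1
    have h2 : ((∑ i, a i • xs i : J) : A) = ∑ i, a i * x i := by
      rw [Submodule.coe_sum]
      rfl
    rw [h2] at h1
    have h3 : J * J = J • Submodule.span A (Set.range x) := rfl
    rw [h3, Submodule.mem_ideal_smul_span_iff_exists_sum] at h1
    obtain ⟨b, hb, hbs⟩ := h1
    rw [Finsupp.sum_fintype _ _ (by intro i; simp)] at hbs
    have h4 : ∑ i, (a i - b i) * x i = 0 := by
      simp only [sub_mul, Finset.sum_sub_distrib]
      rw [sub_eq_zero]
      exact hbs.symm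
    have h5 := coeff_mem_of_sum_eq_zero p x hreg _ h4
    intro i
    rw [← ha i, Ideal.Quotient.eq_zero_iff_mem]
    have : a i = (a i - b i) + b i := by ring
    rw [this]
    exact Ideal.add_mem _ (h5 i) (hb i)
  have hsp : ⊤ ≤ Submodule.span (A ⧸ J) (Set.range v) := by
    intro w _
    obtain ⟨y, rfl⟩ := J.toCotangent_surjective w
    obtain ⟨c, hc⟩ := (Ideal.mem_span_range_iff_exists_fun).mp y.2
    have h1 : y = ∑ i, c i • xs i := by
      apply Subtype.ext
      rw [Submodule.coe_sum, ← hc]
      rfl
    rw [h1, map_sum]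
    refine Submodule.sum_mem _ fun i _ => ?_
    rw [map_smul, ← hsmul]
    exact Submodule.smul_mem _ _ (Submodule.subset_span ⟨i, rfl⟩)
  refine ⟨Module.Basis.mk hli hsp, fun i => ?_⟩
  rw [Module.Basis.mk_apply]


end Groth.Agent.Helper2.RegSeqCotangent
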