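import Mathlib
import Groth.Prelude.Def_HopfRep
import Groth.Prelude.Def_Hoch
import Groth.Agent.Lib.Helper4.Comod
import Groth.Agent.Lib.Helper4.ComodLR
import Groth.Prelude.Def_GLin

/-!
Reynolds operators for linearly reductive groups in comodule form: the key vanishing lemma
(a comodule map into the invariants kills every subcomodule without invariants), existence and
uniqueness of the Reynolds operator.
-/

universe u v w w'

open TensorProduct HopfRep Groth.Agent.Helper4.Comod

namespace Groth.Agent.Helper2.Reynolds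

attribute [local instance] dualModule

section
variable {k : Type u} [Field k] {A : Type v} [CommRing A] [Bialgebra k A]
variable {V : Type w} [AddCommGroup V] [Module k V] [Comod k A V]
variable {W : Type w'} [AddCommGroup W] [Module k W] [Comod k A W]

theorem mem_fixedPts_iff (v : V) :
    v ∈ fixedPts k A V ↔ ∀ l : A →ₗ[k] k, act V l v = l 1 • v := by
  constructor
  · intro h l
    have h' : Comod.coact (k := k) (A := A) v = v ⊗ₜ[k] (1 : A) := h
    rw [act_apply, h', sl_tmul]
  · intro h
    change Comod.coact (k := k) (A := A) v = v ⊗ₜ[k] (1 : A)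
    apply eq_of_sl_eq
    intro l
    rw [sl_tmul, ← act_apply, h]

variable (k A V) in
/-- The invariants as a submodule over the dual algebra. -/
def fixedSub : Submodule (Dual k A) V where
  carrier := fixedPts k A V
  add_mem' := (fixedPts k A V).add_mem
  zero_mem' := (fixedPts k A V).zero_mem
  smul_mem' l v hv := by
    have h := (mem_fixedPts_iff v).mp hv l.ofConv
    change act V l.ofConv v ∈ fixedPts k A V
    rw [h]
    exact (fixedPts k A V).smul_mem _ hv

theorem mem_fixedSub_iff (v : V) : v ∈ fixedSub k A V ↔ v ∈ fixedPts k A V := Iff.rfl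

/-- A map of comodules into the invariants kills every subcomodule without invariants
(semisimple case). -/
theorem map_eq_zero_of_disjoint_fixed [IsSemisimpleModule (Dual k A) V]
    (K : Submodule (Dual k A) V) (hK : ∀ v ∈ K, v ∈ fixedPts k A V → v = 0)
    (φ : V →ₗ[Dual k A] W) (hφ : ∀ v ∈ K, φ v ∈ fixedPts k A W) : ∀ v ∈ K, φ v = 0 := by
  obtain ⟨C', hC'⟩ := exists_isCompl (K ⊓ LinearMap.ker φ)
  have hC : ∀ c ∈ C', c ∈ K → c = 0 := by
    intro c hc hcK
    apply hK c hcK
    rw [mem_fixedPts_iff]
    intro l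
    have hd1 : (WithConv.toConv l : Dual k A) • c - (l 1) • c ∈ C' :=
      C'.sub_mem (C'.smul_mem _ hc) (C'.smul_of_tower_mem _ hc)
    have hd2 : (WithConv.toConv l : Dual k A) • c - (l 1) • c ∈ K :=
      K.sub_mem (K.smul_mem _ hcK) (K.smul_of_tower_mem _ hcK)
    have hd3 : φ ((WithConv.toConv l : Dual k A) • c - (l 1) • c) = 0 := by
      have h1 := (mem_fixedPts_iff (φ c)).mp (hφ c hcK) l
      have h2 : φ ((l 1) • c) = (l 1) • φ c := by
        rw [← algebraMap_smul (Dual k A) (l 1) c, map_smul, algebraMap_smul]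
      rw [map_sub, map_smul, h2, dual_smul_def]
      exact sub_eq_zero.mpr h1
    have hd : (WithConv.toConv l : Dual k A) • c - (l 1) • c ∈ (K ⊓ LinearMap.ker φ) ⊓ C' :=
      ⟨⟨hd2, hd3⟩, hd1⟩
    rw [hC'.inf_eq_bot] at hd
    have := sub_eq_zero.mp ((Submodule.mem_bot _).mp hd)
    rw [← this]
    rfl
  intro v hv
  have hv' : v ∈ (K ⊓ LinearMap.ker φ) ⊔ C' := by rw [hC'.sup_eq_top]; trivial
  obtain ⟨a, ha, b, hb, rfl⟩ := Submodule.mem_sup.mp hv'
  have hbK : b ∈ K := by
    have : b = (a + b) - a := by abel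
    rw [this]
    exact K.sub_mem hv ha.1
  rw [hC b hb hbK, add_zero]
  exact ha.2

end

section
variable {k : Type u} [Field k] {A : Type v} [CommRing A] [Bialgebra k A]
variable {V : Type v} [AddCommGroup V] [Module k V] [Comod k A V]

/-- Existence and uniqueness of the Reynolds operator for a linearly reductive group. -/
theorem existsUnique_reynolds (hG : IsLinearlyReductive k A) :
    ∃! E : V →ₗ[k] V, Hoch.IsComodHom A E ∧ E ∘ₗ E = E ∧
      ∀ x : V, E x = x ↔ x ∈ fixedPts k A V := by
  haveI hss : IsSemisimpleModule (Dual k A) V :=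
    isSemisimpleComod_iff.mp (isSemisimpleComod_of_isLinearlyReductive hG V)
  obtain ⟨K, hK⟩ := exists_isCompl (fixedSub k A V)
  let P : V →ₗ[Dual k A] V :=
    (fixedSub k A V).subtype ∘ₗ Submodule.projectionOnto (fixedSub k A V) K hK
  have hPfix : ∀ x ∈ fixedSub k A V, P x = x := by
    intro x hx
    change ((Submodule.projectionOnto (fixedSub k A V) K hK x : fixedSub k A V) : V) = x
    rw [Submodule.projectionOnto_apply_left hK ⟨x, hx⟩]
  have hPmem : ∀ x, P x ∈ fixedSub k A V := fun x =>
    (Submodule.projectionOnto (fixedSub k A V) K hK x).2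
  have hPK : ∀ x ∈ K, P x = 0 := by
    intro x hx
    change ((Submodule.projectionOnto (fixedSub k A V) K hK x : fixedSub k A V) : V) = 0
    rw [(Submodule.projectionOnto_apply_eq_zero_iff hK).mpr hx]
    rfl
  have hdecomp : ∀ x : V, ∃ f ∈ fixedSub k A V, ∃ c ∈ K, x = f + c := by
    intro x
    have hx : x ∈ fixedSub k A V ⊔ K := by rw [hK.sup_eq_top]; trivial
    obtain ⟨f, hf, c, hc, rfl⟩ := Submodule.mem_sup.mp hx
    exact ⟨f, hf, c, hc, rfl⟩
  refine ⟨P.restrictScalars k, ⟨isComodHom_restrictScalars P, ?_, ?_⟩, ?_⟩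
  · ext x
    exact hPfix _ (hPmem x)
  · intro x
    constructor
    · intro h
      have := hPmem x
      rw [show P x = x from h] at this
      exact this
    · intro h
      exact hPfix x h
  · rintro E' ⟨h1, h2, h3⟩
    have hKfix : ∀ v ∈ K, v ∈ fixedPts k A V → v = 0 := by
      intro v hv hv'
      have : v ∈ fixedSub k A V ⊓ K := ⟨hv', hv⟩
      rw [hK.inf_eq_bot] at this
      exact (Submodule.mem_bot _).mp this
    have hE'K := map_eq_zero_of_disjoint_fixed K hKfix (toDualLinear E' h1) (fun v _ => by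
      rw [toDualLinear_apply]
      exact (h3 _).mp (LinearMap.congr_fun h2 v))
    ext x
    obtain ⟨f, hf, c, hc, rfl⟩ := hdecomp x
    have e1 : E' c = 0 := hE'K c hc
    have e2 : E' f = f := (h3 f).mpr hf
    change E' (f + c) = P (f + c)
    rw [map_add, map_add, e1, e2, hPK c hc, hPfix f hf]

end

section
variable {k : Type u} [Field k] {A : Type v} [CommRing A] [Bialgebra k A]
variable {R : Type v} [CommRing R] [Algebra k R] [Comod k A R] [GLin.IsCoactAlg k A R]

theorem rTensor_mulRight (y : R) (t : R ⊗[k] A) :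
    (LinearMap.mulRight k y).rTensor A t = t * (y ⊗ₜ[k] (1 : A)) := by
  induction t using TensorProduct.induction_on with
  | zero => simp
  | tmul r a => simp
  | add t t' ht ht' => simp only [map_add, ht, ht', add_mul]

theorem isComodHom_mulRight (y : R) (hy : y ∈ GLin.invariants k A R) :
    Hoch.IsComodHom A (LinearMap.mulRight k y) := by
  have hy' : Comod.coact (k := k) (A := A) y = y ⊗ₜ[k] (1 : A) := hy
  apply LinearMap.ext
  intro x
  simp only [LinearMap.comp_apply, LinearMap.mulRight_apply]
  rw [GLin.IsCoactAlg.coact_mul (k := k) (A := A), hy', rTensor_mulRight]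

/-- The Reynolds operator is linear over the invariants. -/
theorem reynolds_mul_invariant (hG : IsLinearlyReductive k A)
    (E : R →ₗ[k] R) (h₁ : Hoch.IsComodHom A E) (h₂ : E ∘ₗ E = E)
    (h₃ : ∀ x : R, E x = x ↔ x ∈ GLin.invariants k A R)
    (x y : R) (hy : y ∈ GLin.invariants k A R) : E (x * y) = E x * y := by
  haveI hss : IsSemisimpleModule (Dual k A) R :=
    isSemisimpleComod_iff.mp (isSemisimpleComod_of_isLinearlyReductive hG R)
  have hEE : ∀ z, E (E z) = E z := fun z => LinearMap.congr_fun h₂ z
  have hEmem : ∀ z, E z ∈ fixedPts k A R := fun z => (h₃ _).mp (hEE z)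
  let φ : R →ₗ[Dual k A] R :=
    (toDualLinear E h₁) ∘ₗ (toDualLinear (LinearMap.mulRight k y) (isComodHom_mulRight y hy))
  have hK : ∀ v ∈ LinearMap.ker (toDualLinear E h₁), v ∈ fixedPts k A R → v = 0 := by
    intro v hv hv'
    have h0 : E v = 0 := hv
    rw [← (h₃ v).mpr hv', h0]
  have key := map_eq_zero_of_disjoint_fixed (LinearMap.ker (toDualLinear E h₁)) hK φ
    (fun v _ => hEmem _)
  have hxk : x - E x ∈ LinearMap.ker (toDualLinear E h₁) := by
    change E (x - E x) = 0
    rw [map_sub, hEE, sub_self]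
  have h1 : E ((x - E x) * y) = 0 := key _ hxk
  have h2 : E (E x * y) = E x * y :=
    (h₃ _).mpr ((GLin.invariants k A R).mul_mem ((h₃ _).mp (hEE x)) hy)
  have : x * y = (x - E x) * y + E x * y := by ring
  rw [this, map_add, h1, h2, zero_add]

end

end Groth.Agent.Helper2.Reynolds
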