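import Mathlib

/-! Segre cone: a linear space of matrices of codimension `≤ m+n-2` contains a rank one matrix. -/

open MvPolynomial

namespace Groth.Agent.Helper2.Segre

variable (k : Type*) [Field k] (m n : ℕ)

/-- the Segre map `k[z_ij] → k[x,y]`, `z_ij ↦ x_i y_j` -/
noncomputable def segre : MvPolynomial (Fin m × Fin n) k →ₐ[k] MvPolynomial (Fin m ⊕ Fin n) k :=
  aeval (fun p => X (Sum.inl p.1) * X (Sum.inr p.2))

/-- coordinate ring of the Segre cone -/
abbrev R : Type _ := MvPolynomial (Fin m × Fin n) k ⧸ RingHom.ker (segre k m n).toRingHom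

/-- the embedding of the Segre cone ring in `k[x,y]` -/
noncomputable def rho : R k m n →+* MvPolynomial (Fin m ⊕ Fin n) k :=
  RingHom.kerLift (segre k m n).toRingHom

theorem rho_mk (f : MvPolynomial (Fin m × Fin n) k) :
    rho k m n (Ideal.Quotient.mk _ f) = segre k m n f := rfl

open Classical in
/-- substitution killing the variables in `Z` -/
noncomputable def sub (Z : Set (Fin m ⊕ Fin n)) :
    MvPolynomial (Fin m ⊕ Fin n) k →ₐ[k] MvPolynomial (Fin m ⊕ Fin n) k :=
  aeval (fun v => if v ∈ Z then 0 else X v)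

theorem sub_X_of_mem {Z : Set (Fin m ⊕ Fin n)} {v} (h : v ∈ Z) : sub k m n Z (X v) = 0 := by
  simp [sub, h]

theorem sub_X_of_not_mem {Z : Set (Fin m ⊕ Fin n)} {v} (h : v ∉ Z) : sub k m n Z (X v) = X v := by
  simp [sub, h]

theorem sub_comp {Z Z' : Set (Fin m ⊕ Fin n)} (h : Z ⊆ Z') :
    (sub k m n Z').comp (sub k m n Z) = sub k m n Z' := by
  apply MvPolynomial.algHom_ext
  intro v
  by_cases hv : v ∈ Z
  · rw [AlgHom.comp_apply, sub_X_of_mem k m n hv, sub_X_of_mem k m n (h hv), map_zero]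
  · rw [AlgHom.comp_apply, sub_X_of_not_mem k m n hv]

/-- the prime of the Segre ring cut out by the vanishing of the variables in `Z` -/
noncomputable def P (Z : Set (Fin m ⊕ Fin n)) : Ideal (R k m n) :=
  RingHom.ker ((sub k m n Z).toRingHom.comp (rho k m n))

instance (Z : Set (Fin m ⊕ Fin n)) : (P k m n Z).IsPrime := by
  unfold P
  exact RingHom.ker_isPrime _

theorem mem_P {Z : Set (Fin m ⊕ Fin n)} (r : R k m n) :
    r ∈ P k m n Z ↔ sub k m n Z (rho k m n r) = 0 := by
  unfold P
  rw [RingHom.mem_ker]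
  rfl

theorem P_mono {Z Z' : Set (Fin m ⊕ Fin n)} (h : Z ⊆ Z') : P k m n Z ≤ P k m n Z' := by
  intro r hr
  rw [mem_P] at hr ⊢
  rw [← sub_comp k m n h, AlgHom.comp_apply, hr, map_zero]

theorem P_lt {Z Z' : Set (Fin m ⊕ Fin n)} (h : Z ⊆ Z') (a : Fin m) (b : Fin n)
    (ha : Sum.inl a ∉ Z) (hb : Sum.inr b ∉ Z) (hab : Sum.inl a ∈ Z' ∨ Sum.inr b ∈ Z') :
    P k m n Z < P k m n Z' := by
  refine lt_of_le_of_ne (P_mono k m n h) ?_
  intro heq
  have h1 : (Ideal.Quotient.mk _ (X (a, b)) : R k m n) ∈ P k m n Z' := by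
    rw [mem_P, rho_mk, segre, aeval_X, map_mul]
    rcases hab with h2 | h2
    · rw [sub_X_of_mem k m n h2, zero_mul]
    · rw [sub_X_of_mem k m n h2, mul_zero]
  rw [← heq, mem_P, rho_mk, segre, aeval_X, map_mul, sub_X_of_not_mem k m n ha,
    sub_X_of_not_mem k m n hb] at h1
  exact mul_ne_zero (X_ne_zero _) (X_ne_zero _) h1

/-- the chain of subsets of variables -/
def Zc (i : ℕ) : Set (Fin m ⊕ Fin n) :=
  {v | (∃ a : Fin m, v = Sum.inl a ∧ a.val < i ∧ a.val + 1 < m) ∨
       (∃ b : Fin n, v = Sum.inr b ∧ m - 1 + b.val < i ∧ b.val + 1 < n)}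

theorem Zc_mono (i : ℕ) : Zc m n i ⊆ Zc m n (i + 1) := by
  rintro v (⟨a, rfl, h1, h2⟩ | ⟨b, rfl, h1, h2⟩)
  · exact Or.inl ⟨a, rfl, by omega, h2⟩
  · exact Or.inr ⟨b, rfl, by omega, h2⟩

theorem height_chain (hm : 0 < m) (hn : 0 < n) (i : ℕ) (hi : i + 2 ≤ m + n) :
    (i : ℕ∞) ≤ (P k m n (Zc m n i)).height := by
  induction i with
  | zero => simp
  | succ i ih =>
    have ih' := ih (by omega)
    have hlt : P k m n (Zc m n i) < P k m n (Zc m n (i + 1)) := by
      by_cases hc : i + 1 < m
      · refine P_lt k m n (Zc_mono m n i) ⟨i, by omega⟩ ⟨n - 1, by omega⟩ ?_ ?_ (Or.inl ?_)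
        · rintro (⟨a, h0, h1, h2⟩ | ⟨b, h0, h1, h2⟩)
          · have := Sum.inl.inj h0
            subst this
            simp at h1
          · simp at h0
        · rintro (⟨a, h0, h1, h2⟩ | ⟨b, h0, h1, h2⟩)
          · simp at h0
          · have := Sum.inr.inj h0
            subst this
            simp at h2
            omega
        · exact Or.inl ⟨_, rfl, by simp, by simpa using hc⟩
      · refine P_lt k m n (Zc_mono m n i) ⟨m - 1, by omega⟩ ⟨i - (m - 1), by omega⟩ ?_ ?_ (Or.inr ?_)
        · rintro (⟨a, h0, h1, h2⟩ | ⟨b, h0, h1, h2⟩)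
          · have := Sum.inl.inj h0
            subst this
            simp at h2
            omega
          · simp at h0
        · rintro (⟨a, h0, h1, h2⟩ | ⟨b, h0, h1, h2⟩)
          · simp at h0
          · have := Sum.inr.inj h0
            subst this
            simp at h1
            omega
        · exact Or.inr ⟨_, rfl, by simp; omega, by simp; omega⟩
    have := Ideal.height_add_one_le_of_lt_of_isPrime hlt
    calc ((i + 1 : ℕ) : ℕ∞) = (i : ℕ∞) + 1 := by push_cast; rfl
      _ ≤ (P k m n (Zc m n i)).height + 1 := by gcongr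
      _ ≤ _ := this

theorem height_top (hm : 0 < m) (hn : 0 < n) :
    ((m + n - 1 : ℕ) : ℕ∞) ≤ (P k m n Set.univ).height := by
  have h1 := height_chain k m n hm hn (m + n - 2) (by omega)
  have hlt : P k m n (Zc m n (m + n - 2)) < P k m n Set.univ := by
    refine P_lt k m n (Set.subset_univ _) ⟨m - 1, by omega⟩ ⟨n - 1, by omega⟩ ?_ ?_
      (Or.inl (Set.mem_univ _))
    · rintro (⟨a, h0, h1, h2⟩ | ⟨b, h0, h1, h2⟩)
      · have := Sum.inl.inj h0
        subst this
        simp at h2
        omega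
      · simp at h0
    · rintro (⟨a, h0, h1, h2⟩ | ⟨b, h0, h1, h2⟩)
      · simp at h0
      · have := Sum.inr.inj h0
        subst this
        simp at h2
        omega
  have := Ideal.height_add_one_le_of_lt_of_isPrime hlt
  calc ((m + n - 1 : ℕ) : ℕ∞) = ((m + n - 2 : ℕ) : ℕ∞) + 1 := by
        have : m + n - 1 = (m + n - 2) + 1 := by omega
        rw [this]; push_cast; rfl
    _ ≤ (P k m n (Zc m n (m + n - 2))).height + 1 := by gcongr
    _ ≤ _ := this

/-- `sub univ ∘ segre` is evaluation at the origin -/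
theorem sub_univ_segre (f : MvPolynomial (Fin m × Fin n) k) :
    sub k m n Set.univ (segre k m n f) = C (eval 0 f) := by
  have : ((sub k m n Set.univ).comp (segre k m n)) =
      (Algebra.ofId k _).comp (aeval (0 : Fin m × Fin n → k)) := by
    apply MvPolynomial.algHom_ext
    intro p
    rw [AlgHom.comp_apply, AlgHom.comp_apply, segre, aeval_X, aeval_X, map_mul,
      sub_X_of_mem k m n (Set.mem_univ _), zero_mul]
    simp
  have h2 := DFunLike.congr_fun this f
  rw [AlgHom.comp_apply, AlgHom.comp_apply] at h2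
  rw [h2]
  rfl

variable [IsAlgClosed k]

/-- Main theorem in coordinates: `w ≤ m + n - 2` bilinear forms have a common nontrivial
rank one zero. -/
theorem exists_rank_one_zero (hm : 0 < m) (hn : 0 < n) (w : ℕ) (hw : w + 2 ≤ m + n)
    (c : Fin w → Fin m → Fin n → k) :
    ∃ (a : Fin m → k) (b : Fin n → k), a ≠ 0 ∧ b ≠ 0 ∧
      ∀ t, ∑ i, ∑ j, c t i j * (a i * b j) = 0 := by
  classical
  -- the linear forms
  let L : Fin w → MvPolynomial (Fin m × Fin n) k := fun t => ∑ i, ∑ j, C (c t i j) * X (i, j)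
  let mk : MvPolynomial (Fin m × Fin n) k →+* R k m n := Ideal.Quotient.mk _
  let s : Finset (R k m n) := Finset.univ.image (fun t => mk (L t))
  let I : Ideal (R k m n) := Ideal.span s
  let M : Ideal (R k m n) := P k m n Set.univ
  have hIM : I ≤ M := by
    rw [Ideal.span_le]
    intro r hr
    obtain ⟨t, -, rfl⟩ := Finset.mem_image.mp hr
    show mk (L t) ∈ P k m n Set.univ
    rw [mem_P, rho_mk, sub_univ_segre]
    simp [L]
  -- existence of a maximal ideal different from `M`
  have hex : ∃ N : Ideal (R k m n), N.IsMaximal ∧ I ≤ N ∧ N ≠ M := by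
    by_contra hcon
    push Not at hcon
    have hmin : M ∈ I.minimalPrimes := by
      refine ⟨⟨inferInstance, hIM⟩, ?_⟩
      rintro q ⟨hq, hIq⟩ -
      have : q = q.jacobson := by rw [← Ideal.radical_eq_jacobson, hq.radical]
      rw [this]
      refine le_sInf ?_
      rintro J ⟨hqJ, hJ⟩
      rw [hcon J hJ (hIq.trans hqJ)]
    have h1 := Ideal.height_le_card_of_mem_minimalPrimes_span_finset hmin
    have h2 := height_top k m n hm hn
    have h3 : (s.card : ℕ∞) ≤ w := by
      have := Finset.card_image_le (s := (Finset.univ : Finset (Fin w))) (f := fun t => mk (L t))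
      rw [Finset.card_univ, Fintype.card_fin] at this
      exact_mod_cast this
    have h4 : ((m + n - 1 : ℕ) : ℕ∞) ≤ (w : ℕ∞) := h2.trans (h1.trans h3)
    have h5 : m + n - 1 ≤ w := by exact_mod_cast h4
    omega
  obtain ⟨N, hNmax, hIN, hNM⟩ := hex
  have hN' : (N.comap mk).IsMaximal :=
    Ideal.comap_isMaximal_of_surjective mk Ideal.Quotient.mk_surjective
  obtain ⟨c0, hc0⟩ := MvPolynomial.eq_vanishingIdeal_singleton_of_isMaximal k hN'
  have hmem : ∀ f : MvPolynomial (Fin m × Fin n) k, mk f ∈ N ↔ eval c0 f = 0 := by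
    intro f
    rw [← Ideal.mem_comap, hc0, mem_vanishingIdeal_singleton_iff]
    rfl
  -- the point is nonzero
  have hc0ne : c0 ≠ 0 := by
    intro h0
    apply hNM
    have hle : N.comap mk ≤ M.comap mk := by
      intro f hf
      rw [Ideal.mem_comap, hmem, h0] at hf
      rw [Ideal.mem_comap]
      show mk f ∈ P k m n Set.univ
      rw [mem_P, rho_mk, sub_univ_segre, hf, map_zero]
    have hMtop : M.comap mk ≠ ⊤ := Ideal.comap_ne_top _ (Ideal.IsPrime.ne_top inferInstance)
    have := hN'.eq_of_le hMtop hle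
    exact Ideal.comap_injective_of_surjective mk Ideal.Quotient.mk_surjective this
  -- rank one relations
  have hrel : ∀ i j i' j', c0 (i, j) * c0 (i', j') = c0 (i, j') * c0 (i', j) := by
    intro i j i' j'
    have h1 : mk (X (i, j) * X (i', j') - X (i, j') * X (i', j)) = 0 := by
      rw [Ideal.Quotient.eq_zero_iff_mem, RingHom.mem_ker]
      show segre k m n _ = 0
      simp only [segre, map_sub, map_mul, aeval_X]
      ring
    have h2 : mk (X (i, j) * X (i', j') - X (i, j') * X (i', j)) ∈ N := by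
      rw [h1]; exact N.zero_mem
    rw [hmem] at h2
    simpa [sub_eq_zero] using h2
  have hL : ∀ t, ∑ i, ∑ j, c t i j * c0 (i, j) = 0 := by
    intro t
    have h1 : mk (L t) ∈ N := hIN (Ideal.subset_span (Finset.mem_image_of_mem _ (Finset.mem_univ t)))
    rw [hmem] at h1
    simpa [L] using h1
  obtain ⟨⟨i0, j0⟩, h00⟩ : ∃ p, c0 p ≠ 0 := by
    by_contra hcon
    push Not at hcon
    exact hc0ne (funext hcon)
  refine ⟨fun i => c0 (i, j0), fun j => c0 (i0, j), ?_, ?_, ?_⟩
  · intro h
    exact h00 (congrFun h i0)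
  · intro h
    exact h00 (congrFun h j0)
  · intro t
    have : ∀ i j, c t i j * (c0 (i, j0) * c0 (i0, j)) = c0 (i0, j0) * (c t i j * c0 (i, j)) := by
      intro i j
      rw [hrel i j0 i0 j]
      ring
    simp_rw [this, ← Finset.mul_sum]
    rw [hL t, mul_zero]

end Groth.Agent.Helper2.Segre
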