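import Mathlib
import Groth.Agent.Lib.Helper2.SepMain
import Groth.Prelude.Def_CAlgX
set_option autoImplicit false
universe u
open TensorProduct KaehlerDifferential

namespace Groth.Agent.Helper2.Sep

/-- if every derivation of `k` extends to a derivation `K → L`, then `K ⊗ Ω[k] → Ω[K]` is injective -/
theorem injective_mapBaseChange_int_of_extend {k K L : Type*} [Field k] [Field K] [Algebra k K]
    [CommRing L] (j : K →+* L) (hj : Function.Injective j)
    (hext : ∀ D₀ : Derivation ℤ k k, ∃ δ : K →+ L,
      (∀ x y, δ (x * y) = j x * δ y + j y * δ x) ∧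
      ∀ c, δ (algebraMap k K c) = j (algebraMap k K (D₀ c))) :
    Function.Injective (mapBaseChange ℤ k K) := by
  rw [injective_iff_map_eq_zero]
  intro ω hω
  by_contra hne
  let b := Module.Free.chooseBasis k (Ω[k⁄ℤ])
  let B := Algebra.TensorProduct.basis K b
  obtain ⟨i₀, hi₀⟩ : ∃ i₀, B.repr ω i₀ ≠ 0 := by
    by_contra hcon
    simp only [not_exists, not_not] at hcon
    apply hne
    apply B.repr.injective
    ext i
    rw [hcon i, map_zero, Finsupp.zero_apply]
  let D₀ : Derivation ℤ k k := (b.coord i₀).compDer (KaehlerDifferential.D ℤ k)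
  obtain ⟨δ, hδ, hδk⟩ := hext D₀
  letI algL : Algebra K L := j.toAlgebra
  letI algkL : Algebra k L := (j.comp (algebraMap k K)).toAlgebra
  haveI towL : IsScalarTower k K L := IsScalarTower.of_algebraMap_eq (fun _ => rfl)
  let D'' : Derivation ℤ K L :=
    Derivation.mk' δ.toIntLinearMap (fun x y => by
      change δ (x * y) = x • δ y + y • δ x
      rw [hδ, Algebra.smul_def, Algebra.smul_def]
      rfl)
  have hD'' : ∀ x, D'' x = δ x := fun x => rfl
  let Φ : K ⊗[k] Ω[k⁄ℤ] →ₗ[K] L := D''.liftKaehlerDifferential ∘ₗ mapBaseChange ℤ k K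
  let Ψ : K ⊗[k] Ω[k⁄ℤ] →ₗ[K] L := (Algebra.linearMap K L) ∘ₗ (B.coord i₀)
  have hΦΨ : Φ = Ψ := by
    apply TensorProduct.AlgebraTensorModule.curry_injective
    ext c
    change D''.liftKaehlerDifferential (mapBaseChange ℤ k K ((1 : K) ⊗ₜ KaehlerDifferential.D ℤ k c)) =
      algebraMap K L (B.repr ((1 : K) ⊗ₜ KaehlerDifferential.D ℤ k c) i₀)
    rw [mapBaseChange_tmul, one_smul, KaehlerDifferential.map_D,
      Derivation.liftKaehlerDifferential_comp_D, hD'', hδk,
      Algebra.TensorProduct.basis_repr_tmul, one_smul]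
    rfl
  have h1 : Φ ω = 0 := by
    change D''.liftKaehlerDifferential (mapBaseChange ℤ k K ω) = 0
    rw [hω, map_zero]
  rw [hΦΨ] at h1
  change j (B.repr ω i₀) = 0 at h1
  exact hi₀ ((map_eq_zero_iff j hj).mp h1)

open TrivSqZeroExt IsLocalRing in
/-- derivations of the base field extend to derivations into the residue field -/
theorem exists_derivation_ext_of_isAdicFormallySmooth {k A : Type u} [Field k] [CommRing A]
    [IsLocalRing A] [Algebra k A] (h : CAlgX.IsAdicFormallySmooth k A (maximalIdeal A))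
    (D₀ : Derivation ℤ k k) :
    ∃ δ : A →+ ResidueField A,
      (∀ x y, δ (x * y) = residue A x * δ y + residue A y * δ x) ∧
      ∀ c, δ (algebraMap k A c) = residue A (algebraMap k A (D₀ c)) := by
  let ι : k →+* ResidueField A := (residue A).comp (algebraMap k A)
  let φ : k →+* TrivSqZeroExt (ResidueField A) (ResidueField A) :=
    { toFun := fun c => inl (ι c) + inr (ι (D₀ c))
      map_one' := by
        rw [map_one, Derivation.map_one_eq_zero, map_zero, inr_zero, add_zero]; rfl
      map_mul' := by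
        intro c c'
        apply TrivSqZeroExt.ext
        · simp
        · simp only [snd_add, snd_inl, snd_inr, zero_add, snd_mul, fst_add, fst_inl, fst_inr,
            add_zero, Derivation.leibniz, map_add, smul_eq_mul, map_mul, MulOpposite.smul_eq_mul_unop,
            MulOpposite.unop_op]
          ring
      map_zero' := by rw [map_zero, map_zero, map_zero, inl_zero, inr_zero, add_zero]
      map_add' := by
        intro c c'
        rw [map_add, map_add, map_add, inl_add, inr_add]
        abel }
  have hφ : ∀ c, φ c = inl (ι c) + inr (ι (D₀ c)) := fun c => rfl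
  letI algE : Algebra k (TrivSqZeroExt (ResidueField A) (ResidueField A)) := φ.toAlgebra
  let J : Ideal (TrivSqZeroExt (ResidueField A) (ResidueField A)) :=
    RingHom.ker (fstHom (ResidueField A) (ResidueField A) (ResidueField A)).toRingHom
  have hJmem : ∀ x, x ∈ J ↔ x.fst = 0 := fun x => Iff.rfl
  have hJsq : J ^ 2 = ⊥ := by
    rw [eq_bot_iff, pow_two, Ideal.mul_le]
    intro x hx y hy
    rw [hJmem] at hx hy
    rw [Ideal.mem_bot]
    apply TrivSqZeroExt.ext
    · rw [fst_mul, hx, zero_mul]; rfl
    · rw [snd_mul, hx, hy, zero_smul, MulOpposite.op_zero, zero_smul, add_zero]; rfl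
  let ψ : A →ₐ[k] TrivSqZeroExt (ResidueField A) (ResidueField A) ⧸ J :=
    { ((Ideal.Quotient.mk J).comp (inlHom (ResidueField A) (ResidueField A))).comp (residue A) with
      commutes' := fun c => by
        change Ideal.Quotient.mk J (inl (ι c)) = Ideal.Quotient.mk J (φ c)
        rw [Ideal.Quotient.eq, hφ, hJmem]
        simp }
  have hψ : ∀ a, ψ a = Ideal.Quotient.mk J (inl (residue A a)) := fun a => rfl
  have hψc : ∃ m : ℕ, ∀ x ∈ maximalIdeal A ^ m, ψ x = 0 := by
    refine ⟨1, fun x hx => ?_⟩
    rw [pow_one] at hx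
    rw [hψ, (residue_eq_zero_iff x).mpr hx, inl_zero, map_zero]
  obtain ⟨χ, hχ⟩ := h _ J hJsq ψ hψc
  have hfst : ∀ a, (χ a).fst = residue A a := by
    intro a
    have h1 := AlgHom.congr_fun hχ a
    change Ideal.Quotient.mk J (χ a) = _ at h1
    rw [hψ, Ideal.Quotient.eq, hJmem] at h1
    simpa [sub_eq_zero] using h1
  refine ⟨⟨⟨fun a => (χ a).snd, by rw [map_zero]; rfl⟩, fun a b => by
    change (χ (a + b)).snd = (χ a).snd + (χ b).snd
    rw [map_add, snd_add]⟩, ?_, ?_⟩
  · intro x y
    change (χ (x * y)).snd = residue A x * (χ y).snd + residue A y * (χ x).snd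
    rw [map_mul, snd_mul, hfst, hfst, smul_eq_mul, MulOpposite.smul_eq_mul_unop,
      MulOpposite.unop_op, mul_comm (χ x).snd]
  · intro c
    change (χ (algebraMap k A c)).snd = _
    rw [AlgHom.commutes]
    change (φ c).snd = _
    rw [hφ]
    simp [ι]

end Groth.Agent.Helper2.Sep
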