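import Mathlib
import Groth.Agent.Lib.Helper2.SepMacLane

/-! Linear independence of functions is preserved by extension of the coefficient field; MacLane's
condition for power series rings. -/

namespace Groth.Agent.Helper2.Sep

/-- `k`-linearly independent functions stay independent after applying a field homomorphism
coefficientwise (finite family, arbitrary index set) -/
theorem eq_zero_of_sum_mul_map_eq_zero {k k' : Type*} [Field k] [Field k'] (σ : k →+* k')
    {Γ : Type*} : ∀ (n : ℕ) (f : Fin n → Γ → k), LinearIndependent k f →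
      ∀ d : Fin n → k', (∀ γ, ∑ j, d j * σ (f j γ) = 0) → ∀ j, d j = 0 := by
  intro n
  induction n with
  | zero => intro f _ d _ j; exact Fin.elim0 j
  | succ n ih =>
    intro f hf d h
    have hf0 : f 0 ≠ 0 := hf.ne_zero 0
    obtain ⟨γ₀, hγ₀⟩ := Function.ne_iff.mp hf0
    set a := f 0 γ₀ with ha
    have ha0 : a ≠ 0 := hγ₀
    have hσa : σ a ≠ 0 := (map_ne_zero σ).mpr ha0
    let g : Fin n → Γ → k := fun j => f j.succ - (f j.succ γ₀ / a) • f 0
    have hg : LinearIndependent k g := by
      rw [Fintype.linearIndependent_iff] at hf ⊢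
      intro c hc j
      let c' : Fin (n + 1) → k := Fin.cons (-(∑ j, c j * (f j.succ γ₀ / a))) c
      have hc' : ∑ i, c' i • f i = 0 := by
        rw [Fin.sum_univ_succ]
        simp only [c', Fin.cons_zero, Fin.cons_succ]
        rw [← hc]
        simp only [g, smul_sub, Finset.sum_sub_distrib, neg_smul, Finset.sum_smul, smul_smul]
        abel
      have := hf c' hc' j.succ
      simpa [c'] using this
    have hrel : ∀ γ, ∑ j : Fin n, d j.succ * σ (g j γ) = 0 := by
      intro γ
      have h1 := h γ
      have h2 := h γ₀
      rw [Fin.sum_univ_succ] at h1 h2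
      have e1 : ∑ j : Fin n, d j.succ * σ (f j.succ γ) = -(d 0 * σ (f 0 γ)) := by
        linear_combination h1
      have e2 : ∑ j : Fin n, d j.succ * σ (f j.succ γ₀) = -(d 0 * σ a) := by
        linear_combination h2
      have e3 : ∀ j : Fin n, d j.succ * σ (g j γ) =
          d j.succ * σ (f j.succ γ) - (d j.succ * σ (f j.succ γ₀)) * (σ (f 0 γ) / σ a) := by
        intro j
        simp only [g, Pi.sub_apply, Pi.smul_apply, smul_eq_mul, map_sub, map_mul, map_div₀]
        ring
      simp_rw [e3]
      rw [Finset.sum_sub_distrib, ← Finset.sum_mul, e1, e2]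
      field_simp
      ring
    have hd := ih g hg (fun j => d j.succ) hrel
    intro j
    refine Fin.cases ?_ (fun j => hd j) j
    have h2 := h γ₀
    rw [Fin.sum_univ_succ] at h2
    simp only [hd, zero_mul, Finset.sum_const_zero, add_zero] at h2
    exact (mul_eq_zero.mp h2).resolve_right hσa

end Groth.Agent.Helper2.Sep
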