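import Mathlib
import Groth.Agent.Lib.Helper2.SepMain
import Groth.Agent.Lib.Helper2.PBasisTower2

/-! Universe-free form: a separable field extension is formally smooth. -/

namespace Groth.Agent.Helper2.Sep

open Groth.Agent.Helper2.PBasis

universe v w

/-- separable ⇒ formally smooth, with the two fields in arbitrary universes -/
theorem formallySmooth_of_isGeometricallyReduced' (k : Type v) (L : Type w) [Field k] [Field L]
    [Algebra k L] [Algebra.IsGeometricallyReduced k L] : Algebra.FormallySmooth k L := by
  obtain h0 | ⟨p, hp, hpk⟩ := CharP.exists' k
  · exact formallySmooth_of_charZero k L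
  · have hM : MacLane k L p := macLane_of_isGeometricallyReduced p
    -- the image of `k` in `L`
    let k' : Subfield L := (algebraMap k L).fieldRange
    letI : Algebra k k' := ((algebraMap k L).rangeRestrictField).toAlgebra
    haveI : IsScalarTower k k' L := IsScalarTower.of_algebraMap_eq (fun _ => rfl)
    have hsurj : Function.Surjective (algebraMap k k') := by
      rintro ⟨_, a, rfl⟩
      exact ⟨a, rfl⟩
    have hbij : Function.Bijective (Algebra.ofId k k') :=
      ⟨(algebraMap k k').injective, hsurj⟩
    haveI : CharP k' p := charP_of_injective_algebraMap (algebraMap k k').injective p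
    have hM' : MacLane k' L p := by
      intro n s hs
      have e : ∀ {ι : Type} (v : ι → L), LinearIndependent k v ↔ LinearIndependent k' v := by
        intro ι v
        refine linearIndependent_transfer (algebraMap k k') hsurj ?_ ?_ v
        · intro r hr
          exact (algebraMap k k').injective (by rw [hr, map_zero])
        · intro r m
          rw [← algebraMap_smul k' r m]
      exact (e _).mp (hM n s ((e _).mpr hs))
    haveI : Algebra.IsGeometricallyReduced k' L := isGeometricallyReduced_of_macLane p hM'
    haveI : Algebra.FormallySmooth k' L :=
      (formallySmooth_iff_isGeometricallyReduced k' L).mpr inferInstance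
    haveI : Algebra.FormallySmooth k k' :=
      Algebra.FormallySmooth.of_equiv (AlgEquiv.ofBijective (Algebra.ofId k k') hbij)
    exact Algebra.FormallySmooth.comp k k' L

/-- separable ⇒ `L ⊗ Ω[k/R] → Ω[L/R]` injective, universe-free -/
theorem injective_mapBaseChange_of_isGeometricallyReduced' (R : Type*) (k : Type v) (L : Type w)
    [CommRing R] [Field k] [Field L] [Algebra R k] [Algebra R L]
    [Algebra k L] [IsScalarTower R k L] [Algebra.IsGeometricallyReduced k L] :
    Function.Injective (KaehlerDifferential.mapBaseChange R k L) := by
  haveI := formallySmooth_of_isGeometricallyReduced' k L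
  exact injective_mapBaseChange_of_subsingleton R k L

end Groth.Agent.Helper2.Sep
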