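import Mathlib

universe u
open IsLocalRing TensorProduct

namespace Groth.Agent.Helper2.TangentFibre

section
variable (k : Type u) [Field k] (B : Type u) [CommRing B] [IsLocalRing B] [Algebra k B]
  (hB : Function.Bijective (algebraMap k (ResidueField B)))

/-- the residue map to `k` -/
noncomputable def sig : B →ₐ[k] k :=
  ((AlgEquiv.ofBijective (Algebra.ofId k (ResidueField B)) hB).symm :
    ResidueField B →ₐ[k] k).comp (IsScalarTower.toAlgHom k B (ResidueField B))

theorem algebraMap_sig (b : B) : algebraMap k (ResidueField B) (sig k B hB b) = residue B b := by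
  have := (AlgEquiv.ofBijective (Algebra.ofId k (ResidueField B)) hB).apply_symm_apply
    (residue B b)
  exact this

theorem sub_sig_mem (b : B) : b - algebraMap k B (sig k B hB b) ∈ maximalIdeal B := by
  rw [← residue_eq_zero_iff, map_sub, sub_eq_zero]
  rw [← algebraMap_sig k B hB b]
  exact (IsScalarTower.algebraMap_apply k B (ResidueField B) _)

theorem sig_eq_zero (b : B) (hb : b ∈ maximalIdeal B) : sig k B hB b = 0 := by
  apply hB.1
  rw [algebraMap_sig, map_zero]
  exact (residue_eq_zero_iff b).mpr hb

/-- `b ↦ class of b - σ b` -/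
noncomputable def L : B →ₗ[k] CotangentSpace B where
  toFun b := (maximalIdeal B).toCotangent ⟨b - algebraMap k B (sig k B hB b), sub_sig_mem k B hB b⟩
  map_add' b b' := by
    rw [← map_add]
    congr 1
    ext
    simp only [map_add, Submodule.coe_add]
    ring
  map_smul' c b := by
    simp only [RingHom.id_apply]
    rw [← LinearMap.map_smul_of_tower]
    congr 1
    ext
    simp only [Submodule.coe_smul_of_tower, Algebra.smul_def, map_mul, AlgHom.commutes,
      Algebra.algebraMap_self_apply]
    ring

theorem L_of_mem (y : B) (hy : y ∈ maximalIdeal B) :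
    L k B hB y = (maximalIdeal B).toCotangent ⟨y, hy⟩ := by
  simp only [L, LinearMap.coe_mk, AddHom.coe_mk]
  congr 1
  ext
  simp [sig_eq_zero k B hB y hy]

theorem L_mul (b b' : B) :
    L k B hB (b * b') = sig k B hB b • L k B hB b' + sig k B hB b' • L k B hB b := by
  simp only [L, LinearMap.coe_mk, AddHom.coe_mk]
  rw [← LinearMap.map_smul_of_tower, ← LinearMap.map_smul_of_tower, ← map_add,
    Ideal.toCotangent_eq]
  have h : ((⟨b * b' - algebraMap k B (sig k B hB (b * b')), sub_sig_mem k B hB (b * b')⟩ :
      maximalIdeal B) : B) -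
      ((sig k B hB b • (⟨b' - algebraMap k B (sig k B hB b'), sub_sig_mem k B hB b'⟩ :
        maximalIdeal B) +
      sig k B hB b' • (⟨b - algebraMap k B (sig k B hB b), sub_sig_mem k B hB b⟩ :
        maximalIdeal B) : maximalIdeal B) : B) =
      (b - algebraMap k B (sig k B hB b)) * (b' - algebraMap k B (sig k B hB b')) := by
    simp only [map_mul, Submodule.coe_add, Submodule.coe_smul_of_tower, Algebra.smul_def]
    ring
  rw [h, pow_two]
  exact Ideal.mul_mem_mul (sub_sig_mem k B hB b) (sub_sig_mem k B hB b')

end

section Deriv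
variable (k : Type u) [Field k] (A B : Type u) [CommRing A] [CommRing B] [IsLocalRing A]
  [IsLocalRing B] [Algebra k A] [Algebra k B] [Algebra A B] [IsScalarTower k A B]
  (hle : maximalIdeal A ≤ Ideal.comap (IsScalarTower.toAlgHom k A B) (maximalIdeal B))
  (hB : Function.Bijective (algebraMap k (ResidueField B)))

theorem L_algebraMap_mem (a : A) : L k B hB (algebraMap A B a) ∈
    LinearMap.range (Ideal.mapCotangent (maximalIdeal A) (maximalIdeal B)
      (IsScalarTower.toAlgHom k A B) hle) := by
  set c := sig k B hB (algebraMap A B a) with hc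
  have h1 : a - algebraMap k A c ∈ maximalIdeal A := by
    by_contra h
    have hu : IsUnit (a - algebraMap k A c) := by
      rwa [mem_maximalIdeal, mem_nonunits_iff, not_not] at h
    have hu' := hu.map (algebraMap A B)
    have hm := sub_sig_mem k B hB (algebraMap A B a)
    rw [map_sub, ← IsScalarTower.algebraMap_apply] at hu'
    exact (mem_maximalIdeal _).mp hm hu'
  refine ⟨(maximalIdeal A).toCotangent ⟨a - algebraMap k A c, h1⟩, ?_⟩
  rw [Ideal.mapCotangent_toCotangent]
  simp only [L, LinearMap.coe_mk, AddHom.coe_mk]
  congr 1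
  ext
  simp only [IsScalarTower.coe_toAlgHom', map_sub, ← IsScalarTower.algebraMap_apply, hc]

variable (δ : CotangentSpace B →ₗ[k] k)
  (hδ : LinearMap.range (Ideal.mapCotangent (maximalIdeal A) (maximalIdeal B)
      (IsScalarTower.toAlgHom k A B) hle) ≤ LinearMap.ker δ)

include hδ in
theorem delta_L_algebraMap (a : A) : δ (L k B hB (algebraMap A B a)) = 0 :=
  hδ (L_algebraMap_mem k A B hle hB a)

/-- the derivation attached to a functional on the cotangent space killing the image of `A` -/
noncomputable def der : Derivation A B (ResidueField B) :=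
  Derivation.mk'
    { toFun := fun b => algebraMap k (ResidueField B) (δ (L k B hB b))
      map_add' := fun b b' => by simp only [map_add]
      map_smul' := fun a b => by
        simp only [RingHom.id_apply, Algebra.smul_def, L_mul, map_add, map_smul, smul_eq_mul,
          delta_L_algebraMap k A B hle hB δ hδ, mul_zero, add_zero, map_mul, algebraMap_sig]
        rw [IsScalarTower.algebraMap_apply A B (ResidueField B), Algebra.algebraMap_self_apply,
          algebraMap_sig]
        rfl }
    (fun b b' => by
      simp only [LinearMap.coe_mk, AddHom.coe_mk, L_mul, map_add, map_smul, smul_eq_mul, map_mul,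
        algebraMap_sig, Algebra.smul_def]
      rfl)

theorem der_apply (b : B) :
    der k A B hle hB δ hδ b = algebraMap k (ResidueField B) (δ (L k B hB b)) := rfl

end Deriv

section Main
variable (k : Type u) [Field k] (A B : Type u) [CommRing A] [CommRing B] [IsLocalRing A]
  [IsLocalRing B] [Algebra k A] [Algebra k B] [Algebra A B] [IsScalarTower k A B]
  (hle : maximalIdeal A ≤ Ideal.comap (IsScalarTower.toAlgHom k A B) (maximalIdeal B))
  (hB : Function.Bijective (algebraMap k (ResidueField B)))

theorem ker_eq : RingHom.ker (algebraMap B (ResidueField B)) = maximalIdeal B :=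
  IsLocalRing.ker_residue

/-- the map `m/m² → κ ⊗ Ω` -/
noncomputable def F : CotangentSpace B →ₗ[B] ResidueField B ⊗[B] Ω[B⁄A] :=
  KaehlerDifferential.kerCotangentToTensor A B (ResidueField B) ∘ₗ
    Ideal.mapCotangent (maximalIdeal B) (RingHom.ker (algebraMap B (ResidueField B)))
      (AlgHom.id B B) (by rw [ker_eq]; exact fun x hx => hx)

theorem F_toCotangent (y : B) (hy : y ∈ maximalIdeal B) :
    F A B ((maximalIdeal B).toCotangent ⟨y, hy⟩) = 1 ⊗ₜ[B] KaehlerDifferential.D A B y := rfl

include hB in
theorem F_surjective : Function.Surjective (F A B) := by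
  have hsurj : Function.Surjective (algebraMap A (ResidueField B)) := by
    intro x
    obtain ⟨c, rfl⟩ := hB.2 x
    refine ⟨algebraMap k A c, ?_⟩
    rw [IsScalarTower.algebraMap_apply A B (ResidueField B), ← IsScalarTower.algebraMap_apply k A B,
      ← IsScalarTower.algebraMap_apply k B (ResidueField B)]
  haveI := KaehlerDifferential.subsingleton_of_surjective A (ResidueField B) hsurj
  have hex := KaehlerDifferential.exact_kerCotangentToTensor_mapBaseChange A B (ResidueField B)
    (IsLocalRing.residue_surjective)
  intro z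
  obtain ⟨t, rfl⟩ := (hex z).mp (Subsingleton.elim _ _)
  obtain ⟨⟨y, hy⟩, rfl⟩ := Ideal.toCotangent_surjective _ t
  have hy' : y ∈ maximalIdeal B := by rwa [ker_eq] at hy
  exact ⟨(maximalIdeal B).toCotangent ⟨y, hy'⟩, rfl⟩

theorem F_mapCotangent (t : (maximalIdeal A).Cotangent) :
    F A B (Ideal.mapCotangent (maximalIdeal A) (maximalIdeal B)
      (IsScalarTower.toAlgHom k A B) hle t) = 0 := by
  obtain ⟨⟨a, ha⟩, rfl⟩ := Ideal.toCotangent_surjective _ t
  rw [Ideal.mapCotangent_toCotangent]
  change (1 : ResidueField B) ⊗ₜ[B] KaehlerDifferential.D A B (algebraMap A B a) = 0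
  rw [Derivation.map_algebraMap, TensorProduct.tmul_zero]

include hB in
theorem mem_range_of_F_eq_zero (x : CotangentSpace B) (hx : F A B x = 0) :
    x ∈ LinearMap.range (Ideal.mapCotangent (maximalIdeal A) (maximalIdeal B)
      (IsScalarTower.toAlgHom k A B) hle) := by
  by_contra hmem
  obtain ⟨δ, hδx, hδ⟩ := Submodule.exists_le_ker_of_notMem hmem
  obtain ⟨⟨y, hy⟩, rfl⟩ := Ideal.toCotangent_surjective _ x
  let D := der k A B hle hB δ hδ
  let G : ResidueField B ⊗[B] Ω[B⁄A] →ₗ[ResidueField B] ResidueField B :=
    LinearMap.liftBaseChange (ResidueField B) D.liftKaehlerDifferential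
  have h1 : G (F A B ((maximalIdeal B).toCotangent ⟨y, hy⟩)) =
      algebraMap k (ResidueField B) (δ ((maximalIdeal B).toCotangent ⟨y, hy⟩)) := by
    rw [F_toCotangent]
    simp only [G, LinearMap.liftBaseChange_tmul, Derivation.liftKaehlerDifferential_comp_D,
      one_smul, D, der_apply, L_of_mem k B hB y hy]
  rw [hx, map_zero] at h1
  exact hδx (hB.1 (by rw [← h1, map_zero]))

include hB in
theorem main [IsNoetherianRing B] :
    Module.finrank (ResidueField B) (TensorProduct B (ResidueField B) (Ω[B⁄A])) +
      Module.finrank k ↥(LinearMap.range (Ideal.mapCotangent (maximalIdeal A) (maximalIdeal B)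
        (IsScalarTower.toAlgHom k A B) hle)) =
      Module.finrank k (CotangentSpace B) := by
  let eκ : k ≃ₗ[k] ResidueField B := LinearEquiv.ofBijective (Algebra.linearMap k (ResidueField B)) hB
  have hκ1 : Module.finrank k (ResidueField B) = 1 := by
    rw [← eκ.finrank_eq, Module.finrank_self]
  haveI : Module.Finite k (ResidueField B) := Module.Finite.equiv eκ
  haveI : IsScalarTower k (ResidueField B) (CotangentSpace B) := by
    refine IsScalarTower.of_algebraMap_smul fun c x => ?_
    rw [IsScalarTower.algebraMap_apply k B (ResidueField B), IsScalarTower.algebraMap_smul,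
      IsScalarTower.algebraMap_smul]
  haveI : Module.Finite k (CotangentSpace B) := Module.Finite.trans (ResidueField B) _
  let Fk : CotangentSpace B →ₗ[k] ResidueField B ⊗[B] Ω[B⁄A] := (F A B).restrictScalars k
  have hker : LinearMap.ker Fk = LinearMap.range (Ideal.mapCotangent (maximalIdeal A) (maximalIdeal B)
        (IsScalarTower.toAlgHom k A B) hle) := by
    ext x
    constructor
    · intro hx
      exact mem_range_of_F_eq_zero k A B hle hB x hx
    · rintro ⟨t, rfl⟩
      exact F_mapCotangent k A B hle t
  have hrange : LinearMap.range Fk = ⊤ := LinearMap.range_eq_top.mpr (F_surjective k A B hB)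
  have h1 := LinearMap.finrank_range_add_finrank_ker Fk
  rw [hrange, finrank_top, hker] at h1
  rw [← h1]
  congr 1
  have h2 := Module.finrank_mul_finrank k (ResidueField B) (ResidueField B ⊗[B] Ω[B⁄A])
  rw [hκ1, one_mul] at h2
  exact h2

end Main

end Groth.Agent.Helper2.TangentFibre
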