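import Mathlib

/-!
Universal injectivity of a map from a projective module to a flat module over a local ring,
detected on the residue field.
-/

open TensorProduct

namespace Groth.Agent.Helper2

universe u v

section

variable {R : Type u} [CommRing R]

theorem flat_prod (N : Type*) (F : Type*) [AddCommGroup N] [Module R N] [AddCommGroup F] [Module R F]
    [Module.Flat R N] [Module.Flat R F] : Module.Flat R (N × F) := by
  rw [Module.Flat.iff_rTensor_preserves_injective_linearMap]
  intro X Y _ _ _ _ f hf
  have hcomm : (TensorProduct.prodRight R R Y N F).toLinearMap ∘ₗ f.rTensor (N × F) =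
      (LinearMap.prodMap (f.rTensor N) (f.rTensor F)) ∘ₗ
        (TensorProduct.prodRight R R X N F).toLinearMap := by
    apply TensorProduct.ext'
    intro x p
    simp
  have h1 : Function.Injective ((LinearMap.prodMap (f.rTensor N) (f.rTensor F)) ∘ₗ
        (TensorProduct.prodRight R R X N F).toLinearMap) := by
    rw [LinearMap.coe_comp]
    refine Function.Injective.comp ?_ (TensorProduct.prodRight R R X N F).injective
    rw [LinearMap.coe_prodMap]
    exact Function.Injective.prodMap
      (Module.Flat.rTensor_preserves_injective_linearMap f hf)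
      (Module.Flat.rTensor_preserves_injective_linearMap f hf)
  rw [← hcomm, LinearMap.coe_comp] at h1
  exact Function.Injective.of_comp h1

end

section

variable {R : Type u} [CommRing R] [IsLocalRing R]

/-- Finite free case. -/
theorem rTensor_injective_of_pi {ι : Type*} [Fintype ι] [DecidableEq ι]
    {N : Type*} [AddCommGroup N] [Module R N] [Module.Flat R N]
    (u : (ι → R) →ₗ[R] N)
    (h : Function.Injective (LinearMap.lTensor (IsLocalRing.ResidueField R) u))
    (Q : Type*) [AddCommGroup Q] [Module R Q] : Function.Injective (LinearMap.rTensor Q u) := by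
  -- write x as a sum of e_i ⊗ q_i
  have hrep : ∀ x : (ι → R) ⊗[R] Q,
      ∃ q : ι → Q, x = ∑ i, (Pi.single i (1 : R) : ι → R) ⊗ₜ[R] q i := by
    intro x
    induction x using TensorProduct.induction_on with
    | zero => exact ⟨0, by simp⟩
    | tmul c q' =>
      refine ⟨fun i => c i • q', ?_⟩
      have hc : c = ∑ i, c i • (Pi.single i (1 : R) : ι → R) := by
        ext j
        simp [Finset.sum_apply, Pi.single_apply]
      conv_lhs => rw [hc]
      rw [TensorProduct.sum_tmul]
      apply Finset.sum_congr rfl
      intro i _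
      rw [TensorProduct.smul_tmul]
    | add x y hx hy =>
      obtain ⟨q₁, rfl⟩ := hx
      obtain ⟨q₂, rfl⟩ := hy
      refine ⟨q₁ + q₂, ?_⟩
      rw [← Finset.sum_add_distrib]
      apply Finset.sum_congr rfl
      intro i _
      rw [Pi.add_apply, TensorProduct.tmul_add]
  rw [injective_iff_map_eq_zero]
  intro x hx
  obtain ⟨q, rfl⟩ := hrep x
  -- the vanishing criterion
  have hx' : ∑ i, q i ⊗ₜ[R] u (Pi.single i (1 : R)) = (0 : Q ⊗[R] N) := by
    have := congrArg (TensorProduct.comm R N Q) hx
    simpa [map_sum] using this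
  obtain ⟨k, a, y, hay, haq⟩ :=
    TensorProduct.vanishesTrivially_of_sum_tmul_eq_zero_of_rTensor_injective R
      (m := q) (n := fun i => u (Pi.single i (1 : R)))
      (Module.Flat.rTensor_preserves_injective_linearMap _ (Submodule.injective_subtype _)) hx'
  let L : (ι → R) →ₗ[R] (Fin k → R) := (Pi.basisFun R ι).constr R a
  let Y : (Fin k → R) →ₗ[R] N := (Pi.basisFun R (Fin k)).constr R y
  have hL : ∀ i, L (Pi.single i 1) = a i := by
    intro i
    have := (Pi.basisFun R ι).constr_basis R a i
    simpa [L] using this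
  have hY : ∀ c : Fin k → R, Y c = ∑ j, c j • y j := by
    intro c
    simp [Y, Module.Basis.constr_apply_fintype]
  have huYL : u = Y ∘ₗ L := by
    apply (Pi.basisFun R ι).ext
    intro i
    rw [Pi.basisFun_apply, LinearMap.comp_apply, hL, hY]
    exact hay i
  have hLinj : Function.Injective (LinearMap.lTensor (IsLocalRing.ResidueField R) L) := by
    rw [huYL, LinearMap.lTensor_comp, LinearMap.coe_comp] at h
    exact Function.Injective.of_comp h
  obtain ⟨L', hL'⟩ :=
    (IsLocalRing.split_injective_iff_lTensor_residueField_injective L).mpr hLinj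
  have hLx : (L.rTensor Q) (∑ i, (Pi.single i (1 : R) : ι → R) ⊗ₜ[R] q i) = 0 := by
    rw [map_sum]
    have : ∀ i, (L.rTensor Q) ((Pi.single i (1 : R) : ι → R) ⊗ₜ[R] q i) =
        ∑ j, (Pi.single j (1 : R) : Fin k → R) ⊗ₜ[R] (a i j • q i) := by
      intro i
      rw [LinearMap.rTensor_tmul, hL]
      have hc : a i = ∑ j, a i j • (Pi.single j (1 : R) : Fin k → R) := by
        ext j'
        simp [Finset.sum_apply, Pi.single_apply]
      conv_lhs => rw [hc]
      rw [TensorProduct.sum_tmul]
      apply Finset.sum_congr rfl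
      intro j _
      rw [TensorProduct.smul_tmul]
    simp_rw [this]
    rw [Finset.sum_comm]
    apply Finset.sum_eq_zero
    intro j _
    rw [← TensorProduct.tmul_sum, haq j, TensorProduct.tmul_zero]
  have : (L'.rTensor Q) ((L.rTensor Q) (∑ i, (Pi.single i (1 : R) : ι → R) ⊗ₜ[R] q i)) =
      ∑ i, (Pi.single i (1 : R) : ι → R) ⊗ₜ[R] q i := by
    rw [← LinearMap.comp_apply, ← LinearMap.rTensor_comp, hL', LinearMap.rTensor_id,
      LinearMap.id_apply]
  rw [← this, hLx, map_zero]

/-- Free case. -/
theorem rTensor_injective_of_finsupp {ι : Type*}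
    {N : Type*} [AddCommGroup N] [Module R N] [Module.Flat R N]
    (u : (ι →₀ R) →ₗ[R] N)
    (h : Function.Injective (LinearMap.lTensor (IsLocalRing.ResidueField R) u))
    (Q : Type*) [AddCommGroup Q] [Module R Q] : Function.Injective (LinearMap.rTensor Q u) := by
  classical
  rw [injective_iff_map_eq_zero]
  intro x hx
  let e := TensorProduct.finsuppScalarLeft R Q ι
  let s := (e x).support
  let incl : (s → R) →ₗ[R] (ι →₀ R) :=
    (Pi.basisFun R s).constr R (fun i => Finsupp.single i.1 (1 : R))
  let ρ : (ι →₀ R) →ₗ[R] (s → R) :=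
    { toFun := fun l i => l i.1
      map_add' := fun _ _ => rfl
      map_smul' := fun _ _ => rfl }
  have hincl : ∀ i : s, incl (Pi.single i 1) = Finsupp.single i.1 (1 : R) := by
    intro i
    have := (Pi.basisFun R s).constr_basis R (fun i : s => Finsupp.single i.1 (1 : R)) i
    simpa [incl] using this
  have hρ : ρ ∘ₗ incl = LinearMap.id := by
    apply (Pi.basisFun R s).ext
    intro i
    rw [Pi.basisFun_apply, LinearMap.comp_apply, hincl, LinearMap.id_apply]
    ext j
    change (Finsupp.single i.1 (1 : R)) j.1 = _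
    rw [Finsupp.single_apply, Pi.single_apply]
    simp only [Subtype.ext_iff, eq_comm]
  let x' : (s → R) ⊗[R] Q := ∑ i : s, (Pi.single i (1 : R) : s → R) ⊗ₜ[R] (e x i.1)
  have hxx' : (incl.rTensor Q) x' = x := by
    have h2 : e x = ∑ k ∈ (e x).support, Finsupp.single k (e x k) :=
      (Finsupp.sum_single (e x)).symm
    have h3 : e.symm (e x) =
        ∑ k ∈ (e x).support, (Finsupp.single k (1 : R)) ⊗ₜ[R] (e x k) := by
      conv_lhs => rw [h2]
      rw [map_sum]
      apply Finset.sum_congr rfl
      intro k _
      exact TensorProduct.finsuppScalarLeft_symm_apply_single k (e x k)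
    rw [← e.symm_apply_apply x, h3, map_sum]
    refine Eq.trans ?_ (Finset.sum_coe_sort s
      (fun k => (Finsupp.single k (1 : R)) ⊗ₜ[R] (e x k)))
    apply Finset.sum_congr rfl
    intro i _
    rw [LinearMap.rTensor_tmul, hincl]
  have hinj' : Function.Injective
      (LinearMap.lTensor (IsLocalRing.ResidueField R) (u ∘ₗ incl)) := by
    rw [LinearMap.lTensor_comp, LinearMap.coe_comp]
    refine h.comp ?_
    have : (ρ.lTensor (IsLocalRing.ResidueField R)) ∘ₗ (incl.lTensor (IsLocalRing.ResidueField R))
        = LinearMap.id := by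
      rw [← LinearMap.lTensor_comp, hρ, LinearMap.lTensor_id]
    exact Function.HasLeftInverse.injective ⟨_, LinearMap.congr_fun this⟩
  have := rTensor_injective_of_pi (u ∘ₗ incl) hinj' Q
  have hx'0 : x' = 0 := by
    apply this
    rw [map_zero, LinearMap.rTensor_comp, LinearMap.comp_apply, hxx', hx]
  rw [← hxx', hx'0, map_zero]

/-- Projective case. -/
theorem rTensor_injective_of_projective
    {M : Type*} [AddCommGroup M] [Module R M] [Module.Projective R M]
    {N : Type*} [AddCommGroup N] [Module R N] [Module.Flat R N]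
    (u : M →ₗ[R] N)
    (h : Function.Injective (LinearMap.lTensor (IsLocalRing.ResidueField R) u))
    (Q : Type*) [AddCommGroup Q] [Module R Q] : Function.Injective (LinearMap.rTensor Q u) := by
  obtain ⟨s, hs⟩ := (Module.projective_def' (R := R) (P := M)).mp inferInstance
  let π : (M →₀ R) →ₗ[R] M := Finsupp.linearCombination R id
  haveI : Module.Flat R (N × (M →₀ R)) := flat_prod N (M →₀ R)
  let uF : (M →₀ R) →ₗ[R] N × (M →₀ R) :=
    LinearMap.prod (u ∘ₗ π) (LinearMap.id - s ∘ₗ π)
  have h1 : (LinearMap.fst R N (M →₀ R)) ∘ₗ uF = u ∘ₗ π := by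
    ext; simp [uF]
  have h2 : (LinearMap.snd R N (M →₀ R)) ∘ₗ uF = LinearMap.id - s ∘ₗ π := by
    ext; simp [uF]
  have hπs : π ∘ₗ s = LinearMap.id := hs
  have huF : Function.Injective (LinearMap.lTensor (IsLocalRing.ResidueField R) uF) := by
    rw [injective_iff_map_eq_zero]
    intro z hz
    have e1 := congrArg ((LinearMap.fst R N (M →₀ R)).lTensor (IsLocalRing.ResidueField R)) hz
    rw [← LinearMap.comp_apply, ← LinearMap.lTensor_comp, h1, map_zero, LinearMap.lTensor_comp,
      LinearMap.comp_apply] at e1
    have e1' : (π.lTensor (IsLocalRing.ResidueField R)) z = 0 := h (by rw [e1, map_zero])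
    have e2 := congrArg ((LinearMap.snd R N (M →₀ R)).lTensor (IsLocalRing.ResidueField R)) hz
    rw [← LinearMap.comp_apply, ← LinearMap.lTensor_comp, h2, map_zero, LinearMap.lTensor_sub,
      LinearMap.sub_apply, LinearMap.lTensor_id, LinearMap.id_apply, LinearMap.lTensor_comp,
      LinearMap.comp_apply, e1', map_zero, sub_zero] at e2
    exact e2
  have key := rTensor_injective_of_finsupp uF huF Q
  rw [injective_iff_map_eq_zero]
  intro y hy
  have h3 : uF ∘ₗ s = (LinearMap.inl R N (M →₀ R)) ∘ₗ u := by
    apply LinearMap.ext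
    intro m
    have : π (s m) = m := LinearMap.congr_fun hπs m
    simp [uF, this]
  have h4 : (s.rTensor Q) y = 0 := by
    apply key
    rw [map_zero, ← LinearMap.comp_apply, ← LinearMap.rTensor_comp, h3, LinearMap.rTensor_comp,
      LinearMap.comp_apply, hy, map_zero]
  have h5 : (π.rTensor Q) ((s.rTensor Q) y) = y := by
    rw [← LinearMap.comp_apply, ← LinearMap.rTensor_comp, hπs, LinearMap.rTensor_id,
      LinearMap.id_apply]
  rw [← h5, h4, map_zero]

end

end Groth.Agent.Helper2
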