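import Mathlib

/-!
# Valuation rings detecting the closure of the image of a morphism of affine schemes (helper2)
-/

set_option autoImplicit false
open CategoryTheory AlgebraicGeometry IsLocalRing

universe u

namespace Groth.Agent.Helper2.ValRingLift

/-- For a morphism of affine schemes, a point in the closure of the image is a specialization of
a point of the image. -/
theorem exists_specializes_of_mem_closure_range {W V : Scheme.{u}} [IsAffine W] [IsAffine V]
    (g : W ⟶ V) (v : V) (hv : v ∈ closure (Set.range g)) : ∃ w : W, g w ⤳ v := by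
  let φ : Γ(V, ⊤) ⟶ Γ(W, ⊤) := g.appTop
  have nat : W.isoSpec.hom ≫ Spec.map φ = g ≫ V.isoSpec.hom := Scheme.isoSpec_hom_naturality g
  have nat' : Spec.map φ ≫ V.isoSpec.inv = W.isoSpec.inv ≫ g := Scheme.isoSpec_inv_naturality g
  let v' : Spec Γ(V, ⊤) := V.isoSpec.hom v
  have h1 : v' ∈ closure (Set.range (Spec.map φ)) := by
    have h2 : v' ∈ V.isoSpec.hom '' closure (Set.range g) := ⟨v, hv, rfl⟩
    have h3 := image_closure_subset_closure_image V.isoSpec.hom.continuous h2
    refine closure_mono ?_ h3
    rintro _ ⟨_, ⟨w, rfl⟩, rfl⟩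
    refine ⟨W.isoSpec.hom w, ?_⟩
    rw [← Scheme.Hom.comp_apply, nat, Scheme.Hom.comp_apply]
  have h4 : RingHom.ker φ.hom ≤ v'.asIdeal := by
    have : v' ∈ closure (Set.range (PrimeSpectrum.comap φ.hom)) := h1
    rw [PrimeSpectrum.closure_range_comap] at this
    exact this
  obtain ⟨q, -, hq, hqle⟩ := Ideal.exists_ideal_comap_le_prime (f := φ.hom) v'.asIdeal ⊥
    (by rw [← RingHom.ker_eq_comap_bot]; exact h4)
  let w' : Spec Γ(W, ⊤) := (⟨q, hq⟩ : PrimeSpectrum Γ(W, ⊤))
  have h5 : Spec.map φ w' ⤳ v' :=
    (PrimeSpectrum.le_iff_specializes (⟨q.comap φ.hom, inferInstance⟩ : PrimeSpectrum _) v').mp hqle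
  refine ⟨W.isoSpec.inv w', ?_⟩
  have h6 : g (W.isoSpec.inv w') = V.isoSpec.inv (Spec.map φ w') := by
    rw [← Scheme.Hom.comp_apply, ← nat', Scheme.Hom.comp_apply]
  have h7 : V.isoSpec.inv v' = v := by
    change V.isoSpec.inv (V.isoSpec.hom v) = v
    rw [← Scheme.Hom.comp_apply, Iso.hom_inv_id]
    rfl
  rw [h6, ← h7]
  exact h5.map V.isoSpec.inv.continuous

/-- A specialization `g w ⤳ v` is witnessed by a valuation ring. -/
theorem exists_valuationRing_of_specializes {W V : Scheme.{u}} (g : W ⟶ V) (w : W) (v : V)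
    (h : g w ⤳ v) :
    ∃ (A : Type u) (_ : CommRing A) (_ : IsDomain A) (_ : ValuationRing A)
      (a : Spec (CommRingCat.of A) ⟶ V) (x : Spec (CommRingCat.of (FractionRing A)) ⟶ W),
      x ≫ g = Spec.map (CommRingCat.ofHom (algebraMap A (FractionRing A))) ≫ a ∧
        a (closedPoint A) = v := by
  let ρ : V.presheaf.stalk v ⟶ W.residueField w :=
    V.presheaf.stalkSpecializes h ≫ g.stalkMap w ≫ W.residue w
  obtain ⟨A, hA, hloc⟩ := exists_factor_valuationRing ρ.hom
  let β : V.presheaf.stalk v ⟶ CommRingCat.of A := CommRingCat.ofHom (ρ.hom.codRestrict _ hA)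
  let a : Spec (CommRingCat.of A) ⟶ V := Spec.map β ≫ V.fromSpecStalk v
  let e : FractionRing A ≃ₐ[A] W.residueField w := FractionRing.algEquiv A (W.residueField w)
  let ε : W.residueField w ⟶ CommRingCat.of (FractionRing A) :=
    CommRingCat.ofHom (e.symm : W.residueField w →+* FractionRing A)
  let x : Spec (CommRingCat.of (FractionRing A)) ⟶ W := Spec.map ε ≫ W.fromSpecResidueField w
  refine ⟨A, inferInstance, inferInstance, inferInstance, a, x, ?_, ?_⟩
  · have hw : W.fromSpecResidueField w ≫ g = Spec.map ρ ≫ V.fromSpecStalk v := by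
      rw [Scheme.fromSpecResidueField, Category.assoc, ← Scheme.SpecMap_stalkMap_fromSpecStalk,
        ← Scheme.SpecMap_stalkSpecializes_fromSpecStalk h]
      simp_rw [← Spec.map_comp_assoc]
      rfl
    have hρ : ρ ≫ ε = β ≫ CommRingCat.ofHom (algebraMap A (FractionRing A)) := by
      ext r
      exact e.symm.commutes ⟨ρ.hom r, hA r⟩
    simp only [x, a]
    rw [Category.assoc, hw, ← Category.assoc, ← Category.assoc, ← Spec.map_comp, ← Spec.map_comp,
      hρ]
  · simp only [a, Scheme.Hom.comp_apply]
    have : Spec.map β (closedPoint A) = closedPoint (V.presheaf.stalk v) :=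
      comap_closedPoint (S := A) (ρ.hom.codRestrict A.toSubring hA)
    rw [this, Scheme.fromSpecStalk_closedPoint]

/-- For a morphism of affine schemes, a point in the closure of the image is the image of the
closed point of a valuation ring whose generic point lifts. -/
theorem exists_valuationRing_of_mem_closure_range {W V : Scheme.{u}} [IsAffine W] [IsAffine V]
    (g : W ⟶ V) (v : V) (hv : v ∈ closure (Set.range g)) :
    ∃ (A : Type u) (_ : CommRing A) (_ : IsDomain A) (_ : ValuationRing A)
      (a : Spec (CommRingCat.of A) ⟶ V) (x : Spec (CommRingCat.of (FractionRing A)) ⟶ W),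
      x ≫ g = Spec.map (CommRingCat.ofHom (algebraMap A (FractionRing A))) ≫ a ∧
        a (closedPoint A) = v := by
  obtain ⟨w, hw⟩ := exists_specializes_of_mem_closure_range g v hv
  exact exists_valuationRing_of_specializes g w v hw

end Groth.Agent.Helper2.ValRingLift
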