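import Mathlib

/-!
# Lifting a local domain point along a flat morphism after extending to a valuation ring (helper2)
-/

set_option autoImplicit false
open CategoryTheory AlgebraicGeometry IsLocalRing

universe u

namespace Groth.Agent.Helper2.ValRingLift

/-- Let `k : T ⟶ Spec A` be a flat morphism of schemes, `A` a local domain, and `t` a point of `T`
over the closed point.  Then there are a valuation ring `A'`, an injective local homomorphism
`φ : A → A'` and a morphism `Spec A' ⟶ T` lifting `Spec φ`. -/
theorem exists_valuationRing_lift {A : Type u} [CommRing A] [IsDomain A] [IsLocalRing A]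
    {T : Scheme.{u}} (k : T ⟶ Spec (CommRingCat.of A)) [Flat k] (t : T)
    (ht : k t = closedPoint A) :
    ∃ (A' : Type u) (_ : CommRing A') (_ : IsDomain A') (_ : ValuationRing A') (φ : A →+* A')
      (ψ : Spec (CommRingCat.of A') ⟶ T),
      Function.Injective φ ∧ IsLocalHom φ ∧ ψ ≫ k = Spec.map (CommRingCat.ofHom φ) := by
  let η : Spec (CommRingCat.of A) := (⟨⊥, Ideal.isPrime_bot⟩ : PrimeSpectrum A)
  have hη : η ⤳ k t := by
    rw [ht]
    exact specializes_closedPoint (R := A) η
  obtain ⟨t', ht', hkt'⟩ := (Flat.generalizingMap (f := k)) hη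
  let χ : T.presheaf.stalk t ⟶ T.residueField t' :=
    T.presheaf.stalkSpecializes ht' ≫ T.residue t'
  obtain ⟨A', hA', hloc⟩ := exists_factor_valuationRing χ.hom
  let β : T.presheaf.stalk t ⟶ CommRingCat.of A' :=
    CommRingCat.ofHom (χ.hom.codRestrict _ hA')
  let ψ : Spec (CommRingCat.of A') ⟶ T := Spec.map β ≫ T.fromSpecStalk t
  let φ₀ : CommRingCat.of A ⟶ CommRingCat.of A' := Spec.preimage (ψ ≫ k)
  have hφ₀ : Spec.map φ₀ = ψ ≫ k := Spec.map_preimage _
  refine ⟨A', inferInstance, inferInstance, inferInstance, φ₀.hom, ψ, ?_, ?_, hφ₀.symm⟩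
  · -- injectivity: the generic point of `Spec A'` maps to the generic point of `Spec A`
    let ι : CommRingCat.of A' ⟶ T.residueField t' := CommRingCat.ofHom A'.subtype
    have hβι : β ≫ ι = χ := by
      ext x
      rfl
    have hcomp : Spec.map (φ₀ ≫ ι) = T.fromSpecResidueField t' ≫ k := by
      rw [Spec.map_comp, hφ₀]
      simp only [ψ]
      rw [← Category.assoc, ← Category.assoc, ← Spec.map_comp, hβι]
      simp only [χ]
      rw [Spec.map_comp, Category.assoc (Spec.map (T.residue t')),
        Scheme.SpecMap_stalkSpecializes_fromSpecStalk ht']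
      rfl
    have hpt : Spec.map (φ₀ ≫ ι) (closedPoint (T.residueField t')) = η := by
      rw [hcomp, Scheme.Hom.comp_apply, Scheme.fromSpecResidueField_apply, hkt']
    have hinj : Function.Injective (φ₀ ≫ ι).hom := by
      rw [RingHom.injective_iff_ker_eq_bot, RingHom.ker_eq_comap_bot,
        ← IsLocalRing.maximalIdeal_eq_bot (R := T.residueField t')]
      exact congrArg PrimeSpectrum.asIdeal hpt
    exact Function.Injective.of_comp (f := ι.hom) hinj
  · refine ((local_hom_TFAE φ₀.hom).out 0 4).2 ?_
    have h1 : Spec.map φ₀ (closedPoint A') = closedPoint A := by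
      rw [hφ₀]
      simp only [ψ, Scheme.Hom.comp_apply]
      have : Spec.map β (closedPoint A') = closedPoint (T.presheaf.stalk t) :=
        comap_closedPoint (S := A') (χ.hom.codRestrict A'.toSubring hA')
      rw [this, Scheme.fromSpecStalk_closedPoint, ht]
    exact congrArg PrimeSpectrum.asIdeal h1

end Groth.Agent.Helper2.ValRingLift
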