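import Mathlib

/-!
Weighted homogeneity of Witt structure polynomials.
-/

namespace Groth.Agent.Helper2

open MvPolynomial Finset

variable {p : ℕ} [hp : Fact p.Prime] {idx : Type*}

/-- If the "ghost side" of `Φ` is weighted homogeneous of weighted degree `p ^ n` for every `n`,
then so are the rational Witt structure polynomials. -/
theorem wittStructureRat_isWeightedHomogeneous (w : idx × ℕ → ℕ) (Φ : MvPolynomial idx ℚ)
    (H : ∀ n : ℕ, IsWeightedHomogeneous w
      (bind₁ (fun b => rename (fun i => (b, i)) (wittPolynomial p ℚ n)) Φ) (p ^ n)) (n : ℕ) :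
    IsWeightedHomogeneous w (wittStructureRat p Φ n) (p ^ n) := by
  induction n using Nat.strong_induction_on with
  | _ n IH =>
    rw [wittStructureRat_rec]
    apply IsWeightedHomogeneous.C_mul
    apply IsWeightedHomogeneous.sub (H n)
    apply IsWeightedHomogeneous.sum
    intro i hi
    rw [Finset.mem_range] at hi
    apply IsWeightedHomogeneous.C_mul
    have h := (IH i hi).pow (p ^ (n - i))
    have e : p ^ (n - i) • p ^ i = p ^ n := by
      rw [smul_eq_mul, ← pow_add]
      congr 1
      omega
    rw [e] at h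
    exact h

theorem isWeightedHomogeneous_of_map_intCast {σ : Type*} (w : σ → ℕ) (φ : MvPolynomial σ ℤ) (d : ℕ)
    (h : IsWeightedHomogeneous w (map (Int.castRingHom ℚ) φ) d) : IsWeightedHomogeneous w φ d := by
  intro m hm
  apply h
  rw [coeff_map]
  simpa using hm

theorem wittStructureInt_isWeightedHomogeneous (w : idx × ℕ → ℕ) (Φ : MvPolynomial idx ℤ)
    (H : ∀ n : ℕ, IsWeightedHomogeneous w
      (bind₁ (fun b => rename (fun i => (b, i)) (wittPolynomial p ℚ n))
        (map (Int.castRingHom ℚ) Φ)) (p ^ n)) (n : ℕ) :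
    IsWeightedHomogeneous w (wittStructureInt p Φ n) (p ^ n) := by
  apply isWeightedHomogeneous_of_map_intCast
  rw [map_wittStructureInt]
  exact wittStructureRat_isWeightedHomogeneous w _ H n

/-- The renamed Witt polynomial `W_n(x_{b,0}, x_{b,1}, …)` is weighted homogeneous of degree
`c * p ^ n` when `x_{b,i}` has weight `c * p ^ i`. -/
theorem rename_wittPolynomial_isWeightedHomogeneous (w : idx × ℕ → ℕ) (b : idx) (c : ℕ)
    (hw : ∀ i, w (b, i) = c * p ^ i) (n : ℕ) :
    IsWeightedHomogeneous w (rename (fun i => (b, i)) (wittPolynomial p ℚ n)) (c * p ^ n) := by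
  rw [wittPolynomial_eq_sum_C_mul_X_pow, map_sum]
  apply IsWeightedHomogeneous.sum
  intro i hi
  rw [Finset.mem_range] at hi
  rw [map_mul, rename_C, map_pow (rename _), rename_X]
  apply IsWeightedHomogeneous.C_mul
  have h := (isWeightedHomogeneous_X ℚ w (b, i)).pow (p ^ (n - i))
  have e : p ^ (n - i) • w (b, i) = c * p ^ n := by
    rw [hw, smul_eq_mul, mul_left_comm, ← pow_add]
    congr 2
    omega
  rw [e] at h
  exact h

theorem wittAdd_isWeightedHomogeneous (n : ℕ) :
    IsWeightedHomogeneous (fun i : Fin 2 × ℕ => p ^ i.2) (WittVector.wittAdd p n) (p ^ n) := by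
  apply wittStructureInt_isWeightedHomogeneous
  intro n
  rw [map_add, map_X, map_X, map_add, bind₁_X_right, bind₁_X_right]
  have h0 := rename_wittPolynomial_isWeightedHomogeneous (p := p)
    (fun i : Fin 2 × ℕ => p ^ i.2) 0 1 (fun i => by simp) n
  have h1 := rename_wittPolynomial_isWeightedHomogeneous (p := p)
    (fun i : Fin 2 × ℕ => p ^ i.2) 1 1 (fun i => by simp) n
  rw [one_mul] at h0 h1
  exact h0.add h1

/-- `wittMul p n` is weighted homogeneous of degree `p ^ n` if the variables of the first
Witt vector have weight `0` and the `i`-th variable of the second has weight `p ^ i`. -/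
theorem wittMul_isWeightedHomogeneous (n : ℕ) :
    IsWeightedHomogeneous (fun i : Fin 2 × ℕ => if i.1 = 0 then 0 else p ^ i.2)
      (WittVector.wittMul p n) (p ^ n) := by
  apply wittStructureInt_isWeightedHomogeneous
  intro n
  rw [map_mul, map_X, map_X, map_mul, bind₁_X_right, bind₁_X_right]
  have h0 := rename_wittPolynomial_isWeightedHomogeneous (p := p)
    (fun i : Fin 2 × ℕ => if i.1 = 0 then 0 else p ^ i.2) 0 0 (fun i => by simp) n
  have h1 := rename_wittPolynomial_isWeightedHomogeneous (p := p)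
    (fun i : Fin 2 × ℕ => if i.1 = 0 then 0 else p ^ i.2) 1 1 (fun i => by simp) n
  rw [one_mul] at h1
  rw [zero_mul] at h0
  have := h0.mul h1
  rwa [zero_add] at this

end Groth.Agent.Helper2

namespace Groth.Agent.Helper2

open MvPolynomial Finset

section Eval

variable {A K : Type*} [CommRing A] [CommRing K] [Algebra A K] (M : ℕ → Submodule A K)

/-- Auxiliary predicate: in weight `0` we ask for membership in the image of `A`,
in positive weight membership in `M k`. -/
def FiltPred (k : ℕ) (y : K) : Prop :=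
  (k = 0 ∧ y ∈ Set.range (algebraMap A K)) ∨ (0 < k ∧ y ∈ M k)

variable {M}

theorem FiltPred.one : FiltPred M 0 (1 : K) := Or.inl ⟨rfl, 1, map_one _⟩

theorem FiltPred.mul (hmul : ∀ (i j : ℕ) (a b : K), a ∈ M i → b ∈ M j → a * b ∈ M (i + j))
    {i j : ℕ} {a b : K} (ha : FiltPred M i a) (hb : FiltPred M j b) : FiltPred M (i + j) (a * b) := by
  rcases ha with ⟨rfl, a', rfl⟩ | ⟨hi, ha⟩
  · rcases hb with ⟨rfl, b', rfl⟩ | ⟨hj, hb⟩
    · exact Or.inl ⟨rfl, a' * b', map_mul _ _ _⟩
    · refine Or.inr ⟨by omega, ?_⟩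
      rw [zero_add, ← Algebra.smul_def]
      exact (M j).smul_mem a' hb
  · rcases hb with ⟨rfl, b', rfl⟩ | ⟨hj, hb⟩
    · refine Or.inr ⟨by omega, ?_⟩
      rw [add_zero, mul_comm, ← Algebra.smul_def]
      exact (M i).smul_mem b' ha
    · exact Or.inr ⟨by omega, hmul i j a b ha hb⟩

theorem FiltPred.pow (hmul : ∀ (i j : ℕ) (a b : K), a ∈ M i → b ∈ M j → a * b ∈ M (i + j))
    {i : ℕ} {a : K} (ha : FiltPred M i a) (n : ℕ) : FiltPred M (n * i) (a ^ n) := by
  induction n with
  | zero => simpa using FiltPred.one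
  | succ n ih =>
    rw [pow_succ, Nat.succ_mul]
    exact ih.mul hmul ha

theorem FiltPred.prod (hmul : ∀ (i j : ℕ) (a b : K), a ∈ M i → b ∈ M j → a * b ∈ M (i + j))
    {σ : Type*} (s : Finset σ) (k : σ → ℕ) (y : σ → K) (h : ∀ i ∈ s, FiltPred M (k i) (y i)) :
    FiltPred M (∑ i ∈ s, k i) (∏ i ∈ s, y i) := by
  classical
  induction s using Finset.induction_on with
  | empty => simpa using FiltPred.one
  | insert a s ha ih =>
    rw [Finset.sum_insert ha, Finset.prod_insert ha]
    exact (h a (Finset.mem_insert_self a s)).mul hmul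
      (ih fun i hi => h i (Finset.mem_insert_of_mem hi))

/-- Evaluation of an integral weighted homogeneous polynomial of positive weighted degree `d`
at a point whose coordinates lie in the pieces of a multiplicative family prescribed by
the weights lands in `M d`. -/
theorem aeval_mem_of_isWeightedHomogeneous
    (hmul : ∀ (i j : ℕ) (a b : K), a ∈ M i → b ∈ M j → a * b ∈ M (i + j))
    {σ : Type*} (w : σ → ℕ) (P : MvPolynomial σ ℤ) (d : ℕ) (hd : 0 < d)
    (hP : IsWeightedHomogeneous w P d) (v : σ → K) (hv : ∀ s, FiltPred M (w s) (v s)) :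
    aeval v P ∈ M d := by
  rw [aeval_def, eval₂_eq]
  apply Submodule.sum_mem
  intro m hm
  have hc : coeff m P ≠ 0 := by simpa using hm
  have hwm := hP hc
  have key : FiltPred M (∑ i ∈ m.support, m i * w i) (∏ i ∈ m.support, v i ^ m i) :=
    FiltPred.prod hmul _ _ _ fun i _ => (hv i).pow hmul (m i)
  have hsum : (∑ i ∈ m.support, m i * w i) = d := by
    rw [← hwm, Finsupp.weight_apply, Finsupp.sum]
    simp
  rw [hsum] at key
  rcases key with ⟨h0, -⟩ | ⟨-, hmem⟩
  · omega
  · have : (algebraMap ℤ K) (coeff m P) * ∏ i ∈ m.support, v i ^ m i =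
        (coeff m P) • ∏ i ∈ m.support, v i ^ m i := by
      rw [Algebra.smul_def]
    rw [this]
    exact zsmul_mem hmem _

end Eval

end Groth.Agent.Helper2
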