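import Mathlib
import Groth.Agent.Lib.Helper2.LeftInvSmooth
import Groth.Agent.Lib.Helper2.Minor

/-!
# Zariski's Jacobian criterion (EGA 0_IV 22.7.3 style), general form

`B` formally smooth over `A`, `J ≤ q` ideals of `B`, `J` finitely generated, `q` prime.
`(B/J)_{q/J}` is formally smooth over `A` iff there are `f_1..f_m ∈ J` generating `J B_q` and
`A`-derivations `D_1..D_m` of `B` with `det (D_j f_i) ∉ q`.
-/

namespace Groth.Agent.Helper2.ZariskiJac
open TensorProduct KaehlerDifferential
open Groth.Agent.Helper2.LeftInv Groth.Agent.Helper2.LeftInvSmooth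

section N1
variable {C : Type*} [CommRing C] (p : Ideal C) [p.IsPrime] {M : Type*} [AddCommGroup M] [Module C M]
  {ι : Type*} (x : ι → M)

/-- If the `1 ⊗ x i` span the fibre at `p` of a finite module, then `x` generates `M` up to
an element outside `p`. -/
theorem exists_smul_mem_span [Module.Finite C M]
    (hspan : Submodule.span p.ResidueField
      (Set.range fun i => (1 : p.ResidueField) ⊗ₜ[C] x i) = ⊤) :
    ∃ g : C, g ∉ p ∧ ∀ y : M, g • y ∈ Submodule.span C (Set.range x) := by
  set W := Submodule.span C (Set.range x) with hW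
  have hsub : Subsingleton (p.ResidueField ⊗[C] (M ⧸ W)) := by
    rw [subsingleton_iff_forall_eq 0]
    intro z
    obtain ⟨z', rfl⟩ := LinearMap.lTensor_surjective p.ResidueField W.mkQ_surjective z
    have hz' : z' ∈ Submodule.span p.ResidueField
        (Set.range fun i => (1 : p.ResidueField) ⊗ₜ[C] x i) := hspan ▸ Submodule.mem_top
    have : (W.mkQ.baseChange p.ResidueField) z' = 0 := by
      refine Submodule.span_induction ?_ ?_ ?_ ?_ hz'
      · rintro _ ⟨i, rfl⟩
        rw [LinearMap.baseChange_tmul]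
        have : W.mkQ (x i) = 0 := by
          rw [Submodule.mkQ_apply, Submodule.Quotient.mk_eq_zero]
          exact Submodule.subset_span ⟨i, rfl⟩
        rw [this, tmul_zero]
      · simp
      · intro a b _ _ ha hb; rw [map_add, ha, hb, add_zero]
      · intro a b _ hb; rw [map_smul, hb, smul_zero]
    exact this
  have hns : (⟨p, inferInstance⟩ : PrimeSpectrum C) ∉ Module.support C (M ⧸ W) := by
    rw [Module.mem_support_iff_nontrivial_residueField_tensorProduct]
    exact not_nontrivial _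
  rw [Module.mem_support_iff_of_finite] at hns
  obtain ⟨g, hg, hgp⟩ := SetLike.not_le_iff_exists.mp hns
  refine ⟨g, hgp, fun y => ?_⟩
  have := Module.mem_annihilator.mp hg (W.mkQ y)
  rwa [← map_smul, Submodule.mkQ_apply, Submodule.Quotient.mk_eq_zero] at this

/-- Converse. -/
theorem span_eq_top_of_forall_exists_smul_mem
    (h : ∀ y : M, ∃ g : C, g ∉ p ∧ g • y ∈ Submodule.span C (Set.range x)) :
    Submodule.span p.ResidueField
      (Set.range fun i => (1 : p.ResidueField) ⊗ₜ[C] x i) = ⊤ := by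
  set V := Submodule.span p.ResidueField
      (Set.range fun i => (1 : p.ResidueField) ⊗ₜ[C] x i) with hV
  have h1 : ∀ y ∈ Submodule.span C (Set.range x), (1 : p.ResidueField) ⊗ₜ[C] y ∈ V := by
    intro y hy
    refine Submodule.span_induction ?_ ?_ ?_ ?_ hy
    · rintro _ ⟨i, rfl⟩
      exact Submodule.subset_span ⟨i, rfl⟩
    · rw [tmul_zero]; exact V.zero_mem
    · intro a b _ _ ha hb; rw [tmul_add]; exact V.add_mem ha hb
    · intro c a _ ha
      have : (1 : p.ResidueField) ⊗ₜ[C] (c • a) =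
          (algebraMap C p.ResidueField c) • ((1 : p.ResidueField) ⊗ₜ[C] a) := by
        rw [algebraMap_smul, smul_tmul', tmul_smul, smul_tmul']
      rw [this]
      exact V.smul_mem _ ha
  rw [eq_top_iff]
  rintro z -
  induction z using TensorProduct.induction_on with
  | zero => exact V.zero_mem
  | add a b ha hb => exact V.add_mem ha hb
  | tmul a y =>
    obtain ⟨g, hg, hgy⟩ := h y
    have hg' : algebraMap C p.ResidueField g ≠ 0 := by
      rw [Ne, Ideal.algebraMap_residueField_eq_zero]; exact hg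
    have h2 := h1 _ hgy
    have h3 : a ⊗ₜ[C] y = (a * (algebraMap C p.ResidueField g)⁻¹) •
        ((1 : p.ResidueField) ⊗ₜ[C] (g • y)) := by
      rw [tmul_smul, ← algebraMap_smul p.ResidueField g, smul_smul, smul_tmul', smul_eq_mul,
        mul_one, mul_assoc, inv_mul_cancel₀ hg', mul_one]
    rw [h3]
    exact V.smul_mem _ h2

end N1
theorem exists_fibre_basis {C : Type*} [CommRing C] (p : Ideal C) [p.IsPrime] (M : Type*)
    [AddCommGroup M] [Module C M] [Module.Finite C M] :
    ∃ (m : ℕ) (x : Fin m → M),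
      LinearIndependent p.ResidueField (fun i => (1 : p.ResidueField) ⊗ₜ[C] x i) ∧
      Submodule.span p.ResidueField
        (Set.range fun i => (1 : p.ResidueField) ⊗ₜ[C] x i) = ⊤ := by
  let v : M → p.ResidueField ⊗[C] M := fun y => (1 : p.ResidueField) ⊗ₜ[C] y
  have hv : Submodule.span p.ResidueField (Set.range v) = ⊤ := by
    rw [eq_top_iff]
    rintro z -
    induction z using TensorProduct.induction_on with
    | zero => exact Submodule.zero_mem _
    | add a b ha hb => exact Submodule.add_mem _ ha hb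
    | tmul a y =>
      have : a ⊗ₜ[C] y = a • v y := by
        simp only [v, smul_tmul', smul_eq_mul, mul_one]
      rw [this]
      exact Submodule.smul_mem _ _ (Submodule.subset_span ⟨y, rfl⟩)
  obtain ⟨ι, a, -, hspan, hli⟩ := exists_linearIndependent' p.ResidueField v
  have hfin : Finite ι := hli.finite
  have := Fintype.ofFinite ι
  let e := Fintype.equivFin ι
  refine ⟨Fintype.card ι, a ∘ e.symm, ?_, ?_⟩
  · exact hli.comp _ e.symm.injective
  · rw [← hv, ← hspan]
    congr 1
    ext z
    constructor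
    · rintro ⟨i, rfl⟩; exact ⟨e.symm i, rfl⟩
    · rintro ⟨i, rfl⟩; exact ⟨e i, by simp [v]⟩

theorem exists_mul_mem_span {B : Type*} [CommRing B] (J q : Ideal B) [q.IsPrime] {ι : Type*}
    (f : ι → B)
    (hspan : J.map (algebraMap B (Localization.AtPrime q)) ≤
      Ideal.span (Set.range fun i => algebraMap B (Localization.AtPrime q) (f i)))
    {z : B} (hz : z ∈ J) : ∃ s : B, s ∉ q ∧ s * z ∈ Ideal.span (Set.range f) := by
  have h1 : algebraMap B (Localization.AtPrime q) z ∈
      (Ideal.span (Set.range f)).map (algebraMap B (Localization.AtPrime q)) := by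
    rw [Ideal.map_span, ← Set.range_comp]
    exact hspan (Ideal.mem_map_of_mem _ hz)
  rw [IsLocalization.mem_map_algebraMap_iff q.primeCompl] at h1
  obtain ⟨⟨⟨y, hy⟩, ⟨s, hs⟩⟩, h2⟩ := h1
  simp only at h2
  rw [← map_mul, IsLocalization.eq_iff_exists q.primeCompl] at h2
  obtain ⟨⟨c, hc⟩, h3⟩ := h2
  simp only at h3
  refine ⟨c * s, q.primeCompl.mul_mem hc hs, ?_⟩
  have : c * s * z = c * y := by rw [← h3]; ring
  rw [this]
  exact Ideal.mul_mem_left _ _ hy

section derivs
universe u
variable {A B : Type u} [CommRing A] [CommRing B] [Algebra A B] (K : Type u) [Field K] [Algebra B K]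

theorem exists_derivations [Algebra.FormallySmooth A B] (m : ℕ) (f : Fin m → B)
    (hli : LinearIndependent K (fun i => (1 : K) ⊗ₜ[B] KaehlerDifferential.D A B (f i))) :
    ∃ D : Fin m → Derivation A B B,
      algebraMap B K (Matrix.det (Matrix.of fun i j => D j (f i))) ≠ 0 := by
  classical
  obtain ⟨s, hs⟩ := Module.projective_def'.mp (inferInstance : Module.Projective B Ω[B⁄A])
  let Ψ : K ⊗[B] Ω[B⁄A] →ₗ[K] (Ω[B⁄A] →₀ K) :=
    (finsuppScalarRight B K K Ω[B⁄A]).toLinearMap ∘ₗ s.baseChange K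
  have hΨ : Function.Injective Ψ := by
    refine (finsuppScalarRight B K K Ω[B⁄A]).injective.comp ?_
    have : ((Finsupp.linearCombination B id).baseChange K) ∘ₗ (s.baseChange K) = LinearMap.id := by
      rw [← LinearMap.baseChange_comp, hs, LinearMap.baseChange_id]
    exact Function.HasLeftInverse.injective ⟨_, LinearMap.congr_fun this⟩
  let w : Fin m → (Ω[B⁄A] → K) := fun i => ⇑(Ψ ((1 : K) ⊗ₜ[B] KaehlerDifferential.D A B (f i)))
  have hw : LinearIndependent K w := by
    have h1 := hli.map' Ψ (LinearMap.ker_eq_bot.mpr hΨ)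
    have h2 := h1.map' (Finsupp.lcoeFun : (Ω[B⁄A] →₀ K) →ₗ[K] (Ω[B⁄A] → K))
      (LinearMap.ker_eq_bot.mpr DFunLike.coe_injective)
    exact h2
  obtain ⟨pt, hpt⟩ := Groth.Agent.Helper2.Minor.exists_det_ne_zero m w hw
  let D : Fin m → Derivation A B B := fun j =>
    ((Finsupp.lapply (pt j)) ∘ₗ s).compDer (KaehlerDifferential.D A B)
  refine ⟨D, ?_⟩
  have hwD : ∀ i j, w i (pt j) = algebraMap B K (D j (f i)) := by
    intro i j
    have h1 : D j (f i) = s (KaehlerDifferential.D A B (f i)) (pt j) := rfl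
    have h2 : w i (pt j) = (finsuppScalarRight B K K Ω[B⁄A])
        ((1 : K) ⊗ₜ[B] s (KaehlerDifferential.D A B (f i))) (pt j) := rfl
    rw [h1, h2, finsuppScalarRight_apply_tmul_apply, Algebra.smul_def, mul_one]
  rw [RingHom.map_det]
  convert hpt using 2
  ext i j
  simp [hwD]

end derivs
section main
universe u
variable {A B : Type u} [CommRing A] [CommRing B] [Algebra A B]
  (J q : Ideal B) [q.IsPrime] [(q.map (Ideal.Quotient.mk J)).IsPrime]

/-- The residue field of the image prime. -/
abbrev Kap : Type u := Ideal.ResidueField (q.map (Ideal.Quotient.mk J))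

theorem hsurj : Function.Surjective (algebraMap B (B ⧸ J)) := Ideal.Quotient.mk_surjective

/-- The extension. -/
noncomputable abbrev P : Algebra.Extension.{u} A (B ⧸ J) := ext (A := A) (hsurj J)

theorem mem_ker_iff {z : B} : z ∈ (P (A := A) J).ker ↔ z ∈ J := by
  change z ∈ RingHom.ker (algebraMap B (B ⧸ J)) ↔ _
  rw [RingHom.mem_ker, Ideal.Quotient.algebraMap_eq, Ideal.Quotient.eq_zero_iff_mem]

theorem ker_eq : (P (A := A) J).ker = J := Ideal.ext fun _ => mem_ker_iff J

variable {J q}
theorem algebraMap_eq_zero_iff (hJq : J ≤ q) {b : B} : algebraMap B (Kap J q) b = 0 ↔ b ∈ q := by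
  rw [IsScalarTower.algebraMap_apply B (B ⧸ J) (Kap J q), Ideal.algebraMap_residueField_eq_zero,
    Ideal.Quotient.algebraMap_eq, Ideal.mem_quotient_iff_mem hJq]

variable (J q)

/-- `κ ⊗_C (C ⊗_B Ω) ≃ κ ⊗_B Ω`. -/
noncomputable abbrev Θ : (Kap J q) ⊗[B ⧸ J] ((B ⧸ J) ⊗[B] Ω[B⁄A]) ≃ₗ[Kap J q] (Kap J q) ⊗[B] Ω[B⁄A] :=
  AlgebraTensorModule.cancelBaseChange B (B ⧸ J) (Kap J q) (Kap J q) Ω[B⁄A]

theorem Θ_cotangentComplex (a : Kap J q) (z : (P (A := A) J).ker) :
    Θ (A := A) J q (((P (A := A) J).cotangentComplex.lTensor (Kap J q))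
      (a ⊗ₜ[B ⧸ J] Algebra.Extension.Cotangent.mk z)) = a ⊗ₜ[B] D A B z.1 := by
  rw [LinearMap.lTensor_tmul, Algebra.Extension.cotangentComplex_mk]
  simp [Θ]

/-- The functional on `κ ⊗_B Ω` attached to a linear form on `Ω`. -/
noncomputable def Φ (l : Ω[B⁄A] →ₗ[B] B) : (Kap J q) ⊗[B] Ω[B⁄A] →ₗ[Kap J q] (Kap J q) :=
  LinearMap.liftBaseChange (Kap J q) (Algebra.linearMap B (Kap J q) ∘ₗ l)

theorem Φ_tmul (l : Ω[B⁄A] →ₗ[B] B) (a : Kap J q) (ω : Ω[B⁄A]) :
    Φ J q l (a ⊗ₜ[B] ω) = a * algebraMap B (Kap J q) (l ω) := by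
  simp [Φ]

/-- the class of an element of `J` in the cotangent module. -/
noncomputable def cl (z : B) (hz : z ∈ J) : (P (A := A) J).Cotangent :=
  Algebra.Extension.Cotangent.mk ⟨z, (mem_ker_iff J).mpr hz⟩

theorem cl_surjective (y : (P (A := A) J).Cotangent) : ∃ z hz, cl (A := A) J z hz = y := by
  obtain ⟨⟨z, hz⟩, rfl⟩ := Algebra.Extension.Cotangent.mk_surjective y
  exact ⟨z, (mem_ker_iff J).mp hz, rfl⟩

theorem smul_cl (s : B) (z : B) (hz : z ∈ J) :
    (Ideal.Quotient.mk J s) • cl (A := A) J z hz = cl (A := A) J (s * z) (J.mul_mem_left s hz) := by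
  have : (Ideal.Quotient.mk J s) • cl (A := A) J z hz = s • cl (A := A) J z hz := by
    rw [← Ideal.Quotient.algebraMap_eq, algebraMap_smul]
  rw [this]
  unfold cl
  rw [← map_smul]
  rfl

theorem cl_sum {ι : Type*} [Fintype ι] (b : ι → B) (f : ι → B) (hf : ∀ i, f i ∈ J) :
    cl (A := A) J (∑ i, b i * f i) (J.sum_mem fun i _ => J.mul_mem_left _ (hf i)) =
      ∑ i, (Ideal.Quotient.mk J (b i)) • cl (A := A) J (f i) (hf i) := by
  simp only [smul_cl]
  unfold cl
  rw [← map_sum]
  congr 1
  ext
  simp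


variable {J q} in
theorem injective_of_exists (hJq : J ≤ q) (m : ℕ) (f : Fin m → B) (D : Fin m → Derivation A B B)
    (hfJ : ∀ i, f i ∈ J)
    (hspan : J.map (algebraMap B (Localization.AtPrime q)) =
      Ideal.span (Set.range fun i => algebraMap B (Localization.AtPrime q) (f i)))
    (hdet : Matrix.det (Matrix.of fun i j => D j (f i)) ∉ q) :
    Function.Injective ((P (A := A) J).cotangentComplex.lTensor (Kap J q)) := by
  classical
  -- the classes of the `f i` span the fibre
  have hsp : Submodule.span (Kap J q)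
      (Set.range fun i => (1 : Kap J q) ⊗ₜ[B ⧸ J] cl (A := A) J (f i) (hfJ i)) = ⊤ := by
    apply span_eq_top_of_forall_exists_smul_mem
    intro y
    obtain ⟨z, hz, rfl⟩ := cl_surjective J y
    obtain ⟨s, hs, hsz⟩ := exists_mul_mem_span J q f hspan.le hz
    refine ⟨Ideal.Quotient.mk J s, fun h => hs ((Ideal.mem_quotient_iff_mem hJq).mp h), ?_⟩
    rw [smul_cl]
    obtain ⟨b, hb⟩ := Ideal.mem_span_range_iff_exists_fun.mp hsz
    have : cl (A := A) J (s * z) (J.mul_mem_left s hz) =
        cl (A := A) J (∑ i, b i * f i) (J.sum_mem fun i _ => J.mul_mem_left _ (hfJ i)) := by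
      congr 1
      exact hb.symm
    rw [this, cl_sum J b f hfJ]
    exact Submodule.sum_mem _ fun i _ => Submodule.smul_mem _ _ (Submodule.subset_span ⟨i, rfl⟩)
  rw [injective_iff_map_eq_zero]
  intro y hy
  have hy' : y ∈ Submodule.span (Kap J q)
      (Set.range fun i => (1 : Kap J q) ⊗ₜ[B ⧸ J] cl (A := A) J (f i) (hfJ i)) :=
    hsp ▸ Submodule.mem_top
  obtain ⟨c, rfl⟩ := (Submodule.mem_span_range_iff_exists_fun _).mp hy'
  -- apply Θ
  have h1 : ∑ i, c i • ((1 : Kap J q) ⊗ₜ[B] KaehlerDifferential.D A B (f i)) = 0 := by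
    have := congrArg (Θ (A := A) J q) hy
    rw [map_zero, map_sum, map_sum] at this
    rw [← this]
    refine Finset.sum_congr rfl fun i _ => ?_
    have h2 : ((P (A := A) J).cotangentComplex.lTensor (Kap J q))
        (c i • (1 : Kap J q) ⊗ₜ[B ⧸ J] cl (A := A) J (f i) (hfJ i)) =
        c i • ((P (A := A) J).cotangentComplex.lTensor (Kap J q))
        ((1 : Kap J q) ⊗ₜ[B ⧸ J] cl (A := A) J (f i) (hfJ i)) :=
      ((P (A := A) J).cotangentComplex.baseChange (Kap J q)).map_smul _ _
    rw [h2, map_smul]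
    unfold cl
    rw [Θ_cotangentComplex]
  -- apply the functionals
  have h3 : ∀ j, ∑ i, c i * algebraMap B (Kap J q) (D j (f i)) = 0 := by
    intro j
    have := congrArg (Φ J q (D j).liftKaehlerDifferential) h1
    rw [map_zero, map_sum] at this
    rw [← this]
    refine Finset.sum_congr rfl fun i _ => ?_
    rw [map_smul, Φ_tmul, Derivation.liftKaehlerDifferential_comp_D, one_mul, smul_eq_mul]
  have hdet' : ((algebraMap B (Kap J q)).mapMatrix (Matrix.of fun i j => D j (f i))).det ≠ 0 := by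
    rw [← RingHom.map_det, Ne, algebraMap_eq_zero_iff hJq]
    exact hdet
  have hc : c = 0 := by
    apply Matrix.eq_zero_of_vecMul_eq_zero hdet'
    funext j
    simpa [Matrix.vecMul, dotProduct] using h3 j
  subst hc
  simp

variable {J q} in
theorem map_eq_span_of_fibre_span (hJq : J ≤ q) (hJ : J.FG)
    [Module.Finite (B ⧸ J) (P (A := A) J).Cotangent] (m : ℕ) (f : Fin m → B)
    (hfJ : ∀ i, f i ∈ J)
    (hsp : Submodule.span (Kap J q)
      (Set.range fun i => (1 : Kap J q) ⊗ₜ[B ⧸ J] cl (A := A) J (f i) (hfJ i)) = ⊤) :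
    J.map (algebraMap B (Localization.AtPrime q)) =
      Ideal.span (Set.range fun i => algebraMap B (Localization.AtPrime q) (f i)) := by
  obtain ⟨g, hg, hgy⟩ := exists_smul_mem_span (q.map (Ideal.Quotient.mk J))
    (fun i => cl (A := A) J (f i) (hfJ i)) hsp
  obtain ⟨g', rfl⟩ := Ideal.Quotient.mk_surjective g
  have hg' : g' ∉ q := fun h => hg ((Ideal.mem_quotient_iff_mem hJq).mpr h)
  have key : ∀ z ∈ J, ∃ b : Fin m → B, g' * z - ∑ i, b i * f i ∈ J ^ 2 := by
    intro z hz
    have h1 := hgy (cl (A := A) J z hz)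
    obtain ⟨c, hc⟩ := (Submodule.mem_span_range_iff_exists_fun _).mp h1
    choose b hb using fun i => Ideal.Quotient.mk_surjective (c i)
    refine ⟨b, ?_⟩
    rw [smul_cl] at hc
    have h2 : cl (A := A) J (∑ i, b i * f i) (J.sum_mem fun i _ => J.mul_mem_left _ (hfJ i)) =
        cl (A := A) J (g' * z) (J.mul_mem_left g' hz) := by
      rw [cl_sum J b f hfJ, ← hc]
      simp only [hb]
    unfold cl at h2
    rw [Algebra.Extension.Cotangent.mk_eq_mk_iff_sub_mem] at h2
    have h2' : (∑ i, b i * f i) - g' * z ∈ J ^ 2 := by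
      have := ker_eq (A := A) J
      rw [← this]
      exact h2
    have h3 := (J ^ 2).neg_mem h2'
    simpa using h3
  set R := Localization.AtPrime q
  apply le_antisymm
  · apply Submodule.le_of_le_smul_of_le_jacobson_bot (I := IsLocalRing.maximalIdeal R)
      (hJ.map _) (IsLocalRing.maximalIdeal_le_jacobson _)
    rw [Ideal.map_le_iff_le_comap]
    intro z hz
    rw [Ideal.mem_comap]
    obtain ⟨b, hb⟩ := key z hz
    have hu : IsUnit (algebraMap B R g') := IsLocalization.map_units R (⟨g', hg'⟩ : q.primeCompl)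
    have h4 : algebraMap B R (g' * z) ∈
        Ideal.span (Set.range fun i => algebraMap B R (f i)) ⊔
          IsLocalRing.maximalIdeal R • J.map (algebraMap B R) := by
      have : g' * z = ∑ i, b i * f i + (g' * z - ∑ i, b i * f i) := by ring
      rw [this, map_add]
      refine Submodule.add_mem_sup ?_ ?_
      · rw [map_sum]
        refine Ideal.sum_mem _ fun i _ => ?_
        rw [map_mul]
        exact Ideal.mul_mem_left _ _ (Ideal.subset_span ⟨i, rfl⟩)
      · have h5 : algebraMap B R (g' * z - ∑ i, b i * f i) ∈ (J.map (algebraMap B R)) ^ 2 := by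
          rw [← Ideal.map_pow]
          exact Ideal.mem_map_of_mem _ hb
        have h6 : J.map (algebraMap B R) ≤ IsLocalRing.maximalIdeal R := by
          rw [← Localization.AtPrime.map_eq_maximalIdeal]
          exact Ideal.map_mono hJq
        rw [smul_eq_mul]
        rw [sq] at h5
        exact Ideal.mul_mono_left h6 h5
    rw [map_mul] at h4
    have h7 := Ideal.mul_mem_left _ (↑hu.unit⁻¹ : R) h4
    rwa [← mul_assoc, IsUnit.val_inv_mul, one_mul] at h7
  · rw [Ideal.span_le]
    rintro _ ⟨i, rfl⟩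
    exact Ideal.mem_map_of_mem _ (hfJ i)


theorem indep_D (m : ℕ) (f : Fin m → B) (hfJ : ∀ i, f i ∈ J)
    (hinj : Function.Injective ((P (A := A) J).cotangentComplex.lTensor (Kap J q)))
    (hli : LinearIndependent (Kap J q)
      (fun i => (1 : Kap J q) ⊗ₜ[B ⧸ J] cl (A := A) J (f i) (hfJ i))) :
    LinearIndependent (Kap J q)
        (fun i => (1 : Kap J q) ⊗ₜ[B] KaehlerDifferential.D A B (f i)) := by
  have h1 := hli.map' ((Θ (A := A) J q).toLinearMap ∘ₗ
    ((P (A := A) J).cotangentComplex.baseChange (Kap J q)))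
    (LinearMap.ker_eq_bot.mpr ((Θ (A := A) J q).injective.comp hinj))
  have h2 : (fun i => (1 : Kap J q) ⊗ₜ[B] KaehlerDifferential.D A B (f i)) =
      (⇑((Θ (A := A) J q).toLinearMap ∘ₗ
        ((P (A := A) J).cotangentComplex.baseChange (Kap J q))) ∘
        fun i => (1 : Kap J q) ⊗ₜ[B ⧸ J] cl (A := A) J (f i) (hfJ i)) := by
    funext i
    simp only [LinearMap.coe_comp, LinearEquiv.coe_coe, Function.comp_apply]
    rw [LinearMap.baseChange_tmul, cl, Algebra.Extension.cotangentComplex_mk]
    simp [Θ]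
  rw [h2]
  exact h1
variable {J q} in
theorem main [Algebra.FormallySmooth A B] (hJq : J ≤ q) (hJ : J.FG) :
    Algebra.FormallySmooth A (Localization.AtPrime (q.map (Ideal.Quotient.mk J))) ↔
      ∃ (m : ℕ) (f : Fin m → B) (D : Fin m → Derivation A B B), (∀ i, f i ∈ J) ∧
        J.map (algebraMap B (Localization.AtPrime q)) =
          Ideal.span (Set.range fun i => algebraMap B (Localization.AtPrime q) (f i)) ∧
        Matrix.det (Matrix.of fun i j => D j (f i)) ∉ q := by
  have hfin : Module.Finite B (RingHom.ker (algebraMap B (B ⧸ J))).Cotangent := by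
    have h1 : (RingHom.ker (algebraMap B (B ⧸ J))).FG := by
      have := ker_eq (A := A) J
      rw [show RingHom.ker (algebraMap B (B ⧸ J)) = J from this]
      exact hJ
    have h2 : Module.Finite B (RingHom.ker (algebraMap B (B ⧸ J))) := Module.Finite.of_fg h1
    exact Module.Finite.of_surjective _ (Ideal.toCotangent_surjective _)
  have hfinC := finite_cotangent (A := A) (hsurj J)
  rw [formallySmooth_localization_iff (hsurj J) (q.map (Ideal.Quotient.mk J)).primeCompl]
  have hiff : LIS (q.map (Ideal.Quotient.mk J)).primeCompl (P (A := A) J).cotangentComplex ↔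
      Function.Injective ((P (A := A) J).cotangentComplex.lTensor (Kap J q)) :=
    ⟨injective_lTensor_of_LIS _, LIS_of_injective_lTensor _⟩
  rw [hiff]
  constructor
  · intro hinj
    obtain ⟨m, x, hli, hsp⟩ := exists_fibre_basis (q.map (Ideal.Quotient.mk J))
      (P (A := A) J).Cotangent
    choose f hfJ hfx using fun i => cl_surjective (A := A) J (x i)
    have hx : x = fun i => cl (A := A) J (f i) (hfJ i) := funext fun i => (hfx i).symm
    rw [hx] at hli hsp
    have hli' := indep_D J q m f hfJ hinj hli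
    obtain ⟨D, hD⟩ := exists_derivations (Kap J q) m f hli'
    refine ⟨m, f, D, hfJ, map_eq_span_of_fibre_span hJq hJ m f hfJ hsp, ?_⟩
    rwa [Ne, algebraMap_eq_zero_iff hJq] at hD
  · rintro ⟨m, f, D, hfJ, hspan, hdet⟩
    exact injective_of_exists hJq m f D hfJ hspan hdet



end main
end Groth.Agent.Helper2.ZariskiJac
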